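import Cfsg.Agent.Lib.Small.TwoAvg

/-!
# The lattice of a block on the `p`-regular elements (basic sets)
-/

set_option autoImplicit false

namespace Cfsg.Lib.Small

open Subgroup Cfsg.Lib.Char Cfsg.Lib.Block Cfsg.Lib.Block2
open scoped ComplexConjugate

variable {G : Type*} [Group G] [Fintype G] {p : ℕ} [hp : Fact p.Prime] {M : Ideal AlgInt}
  [M.IsMaximal] {b : Set (IrrCharacter G)}

omit hp in
theorem linearIndependent_of_gram {ι : Type*} [Fintype ι] [DecidableEq ι] {φ : ι → G → ℂ}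
    (h : LinearIndependent ℤ φ) {N : ℂ} (hN : N ≠ 0) (A : Matrix ι ι ℤ)
    (hA : ∀ i j, (A i j : ℂ) = N * classInner (φ i) (φ j)) : LinearIndependent ℂ φ := by
  have h0 : A.det ≠ 0 := fun h0 => by
    obtain ⟨v, hv, h1⟩ := Matrix.exists_vecMul_eq_zero_iff.2 h0
    have h2 : ∀ j, classInner (∑ i, v i • φ i) (φ j) = 0 := fun j => by
      have := congrArg (Int.cast (R := ℂ)) (congrFun h1 j)
      simp only [Matrix.vecMul, dotProduct, Int.cast_sum, Int.cast_mul, hA, Pi.zero_apply,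
        Int.cast_zero] at this
      apply mul_left_cancel₀ hN
      rw [mul_zero, ← this]
      simp only [classInner_sum_left, classInner_zsmul_left, Finset.mul_sum]
      exact Finset.sum_congr rfl fun _ _ => by ring
    have h3 : ∑ i, v i • φ i = 0 := classInner_self_eq_zero.1 (by
      rw [classInner_sum_right]; simp only [classInner_zsmul_right, h2, mul_zero, Finset.sum_const_zero])
    exact hv (funext (Fintype.linearIndependent_iff.1 h v h3))
  refine Fintype.linearIndependent_iff.2 fun c hc => congrFun (Matrix.eq_zero_of_vecMul_eq_zero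
    (M := A.map (Int.castRingHom ℂ)) (v := c) ?_ ?_)
  · rw [← RingHom.mapMatrix_apply, ← RingHom.map_det]; simpa using h0
  · funext j
    have := congrArg (fun f => N * classInner f (φ j)) hc
    simp only [classInner_sum_left, classInner_smul_left, classInner_zero_left, mul_zero,
      Finset.mul_sum] at this
    simp only [Matrix.vecMul, dotProduct, Matrix.map_apply, eq_intCast, hA, Pi.zero_apply, ← this]
    exact Finset.sum_congr rfl fun _ _ => by ring

/-- the integral span of the members of `b` on the `p`-regular elements -/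
noncomputable def LB (p : ℕ) (b : Set (IrrCharacter G)) : Submodule ℤ (G → ℂ) :=
  Submodule.span ℤ ((fun χ : IrrCharacter G => reg p χ.1) '' b)

omit hp [Fintype G] in
theorem reg_mem_LB {χ : IrrCharacter G} (h : χ ∈ b) : reg p χ.1 ∈ LB p b :=
  Submodule.subset_span ⟨χ, h, rfl⟩

omit hp [Fintype G] in
theorem mem_VB_of_LB {η : G → ℂ} (h : η ∈ LB p b) : η ∈ VB p b :=
  Submodule.span_le (p := (VB p b).restrictScalars ℤ) |>.2 (by
    rintro _ ⟨χ, hχ, rfl⟩; exact reg_mem_VB hχ) h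

omit hp in
theorem exists_eq_sum_of_LB [DecidablePred (· ∈ b)] {η : G → ℂ} (h : η ∈ LB p b) :
    ∃ n : IrrCharacter G → ℤ, η = ∑ χ with χ ∈ b, (n χ : ℂ) • reg p χ.1 := by
  classical
  induction h using Submodule.span_induction with
  | mem x hx =>
    obtain ⟨χ, hχ, rfl⟩ := hx
    exact ⟨Pi.single χ 1, by
      rw [Finset.sum_eq_single χ (fun ψ _ h => by simp [h]) (by simp [hχ])]; simp⟩
  | zero => exact ⟨0, by simp⟩
  | add x y _ _ hx hy =>
    obtain ⟨n, rfl⟩ := hx
    obtain ⟨m, rfl⟩ := hy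
    exact ⟨n + m, by simp [add_smul, Finset.sum_add_distrib]⟩
  | smul c x _ hx =>
    obtain ⟨n, rfl⟩ := hx
    exact ⟨c • n, by simp [Finset.smul_sum, mul_smul, Int.cast_smul_eq_zsmul]⟩

/-- the integral form on the lattice; it has rank one modulo `p` -/
theorem exists_form (hM : IsPModular p M) (hb : IsPBlock M b) :
    ∃ (A : (G → ℂ) → (G → ℂ) → ℤ) (μ : (G → ℂ) → resField M) (κ : resField M),
      ∀ η ∈ LB p b, ∀ η' ∈ LB p b,
        (A η η' : ℂ) = (p : ℂ) ^ blockDefect p b * classInner η η' ∧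
          (A η η' : resField M) = κ * μ η * μ η' := by
  classical
  obtain ⟨a, ha, -⟩ := exists_contrib hM hb
  obtain ⟨ξ₁, h₁⟩ := hb.nonempty
  obtain ⟨κ, -, hκ⟩ := exists_red_contrib hM hb h₁
  choose! n hn using fun η (h : η ∈ LB p b) => exists_eq_sum_of_LB h
  refine ⟨fun η η' => ∑ χ with χ ∈ b, ∑ ψ with ψ ∈ b, n η χ * n η' ψ * a χ ψ,
    fun η => ∑ χ with χ ∈ b, n η χ * Block.lam M ξ₁.1 (redA M (zReg p χ.1)), κ,
    fun η h η' h' => ⟨?_, ?_⟩⟩
  · conv_rhs => rw [hn η h, hn η' h']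
    simp only [classInner_sum_left, classInner_sum_right, classInner_smul_left,
      classInner_smul_right, classInner_reg_reg, Finset.mul_sum]
    rw [Finset.sum_comm]
    push_cast
    refine Finset.sum_congr rfl fun ξ _ => Finset.sum_congr rfl fun ξ' hξ => ?_
    rw [ha ξ' (by simpa using hξ), map_intCast]
    ring
  · rw [mul_assoc, Finset.sum_mul_sum]
    push_cast
    simp only [Finset.mul_sum]
    refine Finset.sum_congr rfl fun ξ hξ => Finset.sum_congr rfl fun ξ' hξ' => ?_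
    rw [← red_intCast (a ξ ξ'), ha ξ (by simpa using hξ),
      hκ ξ (by simpa using hξ) ξ' (by simpa using hξ')]
    ring

/-- basic sets -/
theorem exists_basic (hM : IsPModular p M) (hb : IsPBlock M b) :
    ∃ φ : Fin (blockRank p b) → G → ℂ, (∀ i, φ i ∈ LB p b) ∧ LinearIndependent ℂ φ ∧
      ∀ η ∈ LB p b, ∃ c : Fin (blockRank p b) → ℤ, η = ∑ i, (c i : ℂ) • φ i := by
  classical
  obtain ⟨A, μ, κ, hA⟩ := exists_form hM hb
  haveI : Module.Finite ℤ (LB p b) := Module.Finite.span_of_finite ℤ (Set.toFinite _)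
  haveI : Module.Free ℤ (LB p b) := Module.free_of_finite_type_torsion_free'
  set β := Module.finBasis ℤ (LB p b)
  have h1 : ∀ η ∈ LB p b, ∃ c : _ → ℤ, η = ∑ i, (c i : ℂ) • (β i : G → ℂ) := fun η h =>
    ⟨β.repr ⟨η, h⟩, by
      simpa only [Int.cast_smul_eq_zsmul, Submodule.coe_sum, Submodule.coe_smul] using
        congrArg Subtype.val (β.sum_repr ⟨η, h⟩).symm⟩
  have h2 : LinearIndependent ℂ fun i => (β i : G → ℂ) :=
    linearIndependent_of_gram (β.linearIndependent.map' (LB p b).subtype (by simp))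
      (pow_ne_zero _ (Nat.cast_ne_zero.2 hp.out.ne_zero)) (Matrix.of fun i j => A (β i) (β j))
      fun i j => (hA _ (β i).2 _ (β j).2).1
  have h3 : Module.finrank ℤ (LB p b) = blockRank p b := by
    rw [blockRank_eq, show VB p b = Submodule.span ℂ (Set.range fun i => (β i : G → ℂ)) from ?_,
      finrank_span_eq_card h2, Fintype.card_fin]
    refine le_antisymm (Submodule.span_le.2 ?_) (Submodule.span_le.2 ?_)
    · rintro _ ⟨χ, hχ, rfl⟩
      obtain ⟨c, hc⟩ := h1 _ (reg_mem_LB hχ)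
      change reg p χ.1 ∈ _
      rw [hc]
      exact Submodule.sum_mem _ fun i _ => Submodule.smul_mem _ _ (Submodule.subset_span ⟨i, rfl⟩)
    · rintro _ ⟨i, rfl⟩
      exact mem_VB_of_LB (β i).2
  rw [← h3]
  exact ⟨_, fun i => (β i).2, h2, h1⟩

/-- coordinates of the generalized decomposition -/
theorem exists_fsub_coord {H : Subgroup G} [Fintype H] {x : G} (hH : H = centralizer {x})
    {e : Set (IrrCharacter H)} {ι : Type*} [Fintype ι] {φ : ι → H → ℂ}
    (h : ∀ η ∈ LB p e, ∃ c : ι → ℤ, η = ∑ i, (c i : ℂ) • φ i) (χ : IrrCharacter G) :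
    ∃ c : ι → ℂ, (∀ i, c i ∈ cyc) ∧ fsub p e x χ.1 = ∑ i, c i • φ i := by
  classical
  obtain ⟨l, n, h1, -, h3⟩ := exists_fsub_eq (e := e) hH
  choose! c hc using fun ξ (hξ : ξ ∈ e) => h _ (reg_mem_LB hξ)
  refine ⟨fun i => ∑ ξ with ξ ∈ e, n χ ξ * l ξ * c ξ i, fun i => sum_mem fun ξ _ => mul_mem (mul_mem
    (natCast_mem _ _) (mem_cyc_of_pow (orderOf_pos x).ne' (h1 ξ))) (intCast_mem _ _), ?_⟩
  rw [fsub, h3, reg_sum_smul, Finset.sum_congr rfl fun ξ hξ => by rw [hc ξ (by simpa using hξ)]]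
  simp only [Finset.smul_sum, Finset.sum_smul, smul_smul]
  exact Finset.sum_comm

/-- a reduced basis in rank two -/
theorem exists_reduced (hM : IsPModular p M) (hb : IsPBlock M b) (h2 : blockRank p b = 2) :
    ∃ (φ : Fin 2 → G → ℂ) (α β γ : ℕ),
      (∀ η ∈ LB p b, ∃ c : Fin 2 → ℤ, η = ∑ i, (c i : ℂ) • φ i) ∧
      (p : ℂ) ^ blockDefect p b * classInner (φ 0) (φ 0) = α ∧
      (p : ℂ) ^ blockDefect p b * classInner (φ 0) (φ 1) = β ∧
      (p : ℂ) ^ blockDefect p b * classInner (φ 1) (φ 0) = β ∧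
      (p : ℂ) ^ blockDefect p b * classInner (φ 1) (φ 1) = γ ∧
      0 < α ∧ 2 * β ≤ α ∧ α ≤ γ ∧ (α = 1 → p ≤ γ) := by
  classical
  obtain ⟨A, μ, κ, hA⟩ := exists_form hM hb
  have hN : (p : ℂ) ^ blockDefect p b ≠ 0 := pow_ne_zero _ (Nat.cast_ne_zero.2 hp.out.ne_zero)
  let S : (G → ℂ) → (G → ℂ) → Prop := fun u v => u ∈ LB p b ∧ v ∈ LB p b ∧
    (∀ s t : ℂ, s • u + t • v = 0 → s = 0 ∧ t = 0) ∧
      ∀ η ∈ LB p b, ∃ s t : ℤ, η = (s : ℂ) • u + (t : ℂ) • v
  have hpos : ∀ u ∈ LB p b, u ≠ 0 → 0 < A u u := fun u hu h0 => by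
    have h1 := congrArg Complex.re (hA u hu u hu).1
    rw [← Nat.cast_pow, ← Complex.ofReal_natCast, Complex.re_ofReal_mul, Complex.intCast_re] at h1
    refine lt_of_le_of_ne (by
      exact_mod_cast h1 ▸ mul_nonneg (Nat.cast_nonneg _) (classInner_self_re_nonneg u)) fun h => ?_
    have := (hA u hu u hu).1
    rw [← h, Int.cast_zero, eq_comm, mul_eq_zero, classInner_self_eq_zero] at this
    tauto
  have hsym : ∀ u ∈ LB p b, ∀ v ∈ LB p b, A v u = A u v := fun u hu v hv => by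
    apply Int.cast_injective (α := ℂ)
    rw [← map_intCast (starRingEnd ℂ), (hA v hv u hu).1, (hA u hu v hv).1, map_mul,
      conj_classInner]
    simp
  have hne : ∀ u v, S u v → u ≠ 0 ∧ v ≠ 0 := fun u v h =>
    ⟨fun h0 => one_ne_zero (h.2.2.1 1 0 (by simp [h0])).1,
      fun h0 => one_ne_zero (h.2.2.1 0 1 (by simp [h0])).2⟩
  have hswap : ∀ u v, S u v → S v u := fun u v h => ⟨h.2.1, h.1,
    fun s t e => (h.2.2.1 t s (by rwa [add_comm])).symm, fun η hη => by
      obtain ⟨s, t, e⟩ := h.2.2.2 η hη; exact ⟨t, s, by rwa [add_comm]⟩⟩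
  have hneg : ∀ u v, S u v → S u (-v) ∧ A u (-v) = - A u v ∧ A (-v) (-v) = A v v := fun u v h => by
    refine ⟨⟨h.1, neg_mem h.2.1, fun s t e => by
      simpa using h.2.2.1 s (-t) (by simpa using e), fun η hη => by
        obtain ⟨s, t, e⟩ := h.2.2.2 η hη; exact ⟨s, -t, by simpa using e⟩⟩, ?_, ?_⟩ <;>
    apply Int.cast_injective (α := ℂ)
    · rw [Int.cast_neg, (hA _ h.1 _ (neg_mem h.2.1)).1, (hA _ h.1 _ h.2.1).1, classInner_neg_right,
        mul_neg]
    · rw [(hA _ (neg_mem h.2.1) _ (neg_mem h.2.1)).1, (hA _ h.2.1 _ h.2.1).1, classInner_neg_right,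
        classInner_neg_left, neg_neg]
  have hsub : ∀ u v, S u v → S u (v - u) ∧ A (v - u) (v - u) = A v v - 2 * A u v + A u u :=
    fun u v h => by
    refine ⟨⟨h.1, sub_mem h.2.1 h.1, fun s t e => ?_, fun η hη => ?_⟩, ?_⟩
    · obtain ⟨h1, h2⟩ := h.2.2.1 (s - t) t (by rw [← e]; module)
      exact ⟨by simpa [h2] using h1, h2⟩
    · obtain ⟨s, t, e⟩ := h.2.2.2 η hη
      exact ⟨s + t, t, by rw [e]; push_cast; module⟩
    · apply Int.cast_injective (α := ℂ)
      have := (hA _ h.2.1 _ h.1).1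
      rw [hsym u h.1 v h.2.1] at this
      push_cast
      rw [(hA _ (sub_mem h.2.1 h.1) _ (sub_mem h.2.1 h.1)).1, (hA _ h.1 _ h.1).1,
        (hA _ h.2.1 _ h.2.1).1, classInner_sub_left, classInner_sub_right, classInner_sub_right]
      linear_combination this + (hA _ h.1 _ h.2.1).1
  have hex : ∃ n : ℕ, ∃ u v, S u v ∧ A u u + A v v = n := by
    obtain ⟨φ, h1, h3, h4⟩ := exists_basic hM hb
    generalize blockRank p b = r at *
    subst h2
    have hS : S (φ 0) (φ 1) := ⟨h1 0, h1 1, LinearIndependent.pair_iff.1 (by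
      rwa [show ![φ 0, φ 1] = φ by ext i : 1; fin_cases i <;> rfl]), fun η hη => by
        obtain ⟨c, e⟩ := h4 η hη; exact ⟨c 0, c 1, by rw [e, Fin.sum_univ_two]⟩⟩
    exact ⟨_, _, _, hS, (Int.toNat_of_nonneg (add_pos (hpos _ hS.1 (hne _ _ hS).1)
      (hpos _ hS.2.1 (hne _ _ hS).2)).le).symm⟩
  obtain ⟨u, v, hS, hn⟩ := Nat.find_spec hex
  have hmin : ∀ u' v', S u' v' → A u u + A v v ≤ A u' u' + A v' v' := fun u' v' h => by
    have h0 := Int.toNat_of_nonneg (add_pos (hpos _ h.1 (hne _ _ h).1)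
      (hpos _ h.2.1 (hne _ _ h).2)).le
    rw [hn, ← h0]
    exact_mod_cast Nat.find_min' hex ⟨u', v', h, h0.symm⟩
  clear hn
  wlog h1 : A u u ≤ A v v generalizing u v
  · exact this v u (hswap _ _ hS) (by rwa [add_comm]) (by omega)
  wlog h3 : 0 ≤ A u v generalizing v
  · obtain ⟨h4, h5, h6⟩ := hneg _ _ hS
    exact this (-v) h4 (by rwa [h6]) (by rwa [h6]) (by omega)
  have h4 := hmin _ _ (hsub _ _ hS).1
  rw [(hsub _ _ hS).2] at h4
  have h5 := hpos _ hS.1 (hne _ _ hS).1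
  have e0 := hA _ hS.1 _ hS.1
  have e1 := hA _ hS.1 _ hS.2.1
  have e2 := hA _ hS.2.1 _ hS.1
  have e3 := hA _ hS.2.1 _ hS.2.1
  rw [hsym u hS.1 v hS.2.1] at e2
  lift A u u to ℕ using h5.le with α
  lift A u v to ℕ using h3 with β
  lift A v v to ℕ using (by omega) with γ
  refine ⟨![u, v], α, β, γ, fun η hη => ?_, by simpa using e0.1.symm, by simpa using e1.1.symm,
    by simpa using e2.1.symm, by simpa using e3.1.symm, by omega, by omega, by omega, fun h => ?_⟩
  · obtain ⟨s, t, e⟩ := hS.2.2.2 η hη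
    exact ⟨![s, t], by simpa using e⟩
  · haveI := charP_resField hM
    have h6 : β = 0 := by omega
    subst h h6
    refine Nat.le_of_dvd (by omega) ((CharP.cast_eq_zero_iff (resField M) p γ).1 ?_)
    have f0 := e0.2
    have f1 := e1.2
    have f3 := e3.2
    push_cast at f0 f1 f3
    linear_combination f3 + κ * μ v * μ v * f0 - κ * μ u * μ v * f1

end Cfsg.Lib.Small
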