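import Cfsg.Agent.Lib.Known2.LE4
import Cfsg.Agent.Lib.PGrp.Extra
import Mathlib.LinearAlgebra.Matrix.GeneralLinearGroup.Defs

/-! The centraliser of an involution of `U` in the holomorph of an elementary abelian 2-group `U`. -/

set_option autoImplicit false

namespace Cfsg.Lib.Small

open Subgroup Cfsg.Lib.Core Cfsg.Lib.Amalg Cfsg.Lib.Known2
open scoped commutatorElement

theorem mulAut_equiv_GL' {V : Type*} [AddCommGroup V] [Finite V] {p n : ℕ} [hp : Fact p.Prime]
    [Module (ZMod p) V] (hn : Nat.card V = p ^ n) :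
    Nonempty (MulAut (Multiplicative V) ≃* Matrix.GeneralLinearGroup (Fin n) (ZMod p)) := by
  have hr : Module.finrank (ZMod p) V = n := by
    have h1 := Module.natCard_eq_pow_finrank (K := ZMod p) (V := V)
    rw [Nat.card_zmod, hn] at h1
    exact (Nat.pow_right_injective hp.out.two_le h1).symm
  let e : MulAut (Multiplicative V) ≃* (V ≃ₗ[ZMod p] V) :=
    { toFun := fun φ => { AddEquiv.toMultiplicative.symm φ with
        map_smul' := ZMod.map_smul (AddEquiv.toMultiplicative.symm φ) }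
      invFun := fun f => AddEquiv.toMultiplicative f.toAddEquiv
      left_inv := fun φ => rfl
      right_inv := fun f => rfl
      map_mul' := fun φ ψ => LinearEquiv.ext fun x => rfl }
  exact ⟨e.trans ((LinearMap.GeneralLinearGroup.generalLinearEquiv _ _).symm.trans
    (Matrix.GeneralLinearGroup.toLin' (Module.finBasisOfFinrankEq _ _ hr)).symm)⟩

theorem mulAut_equiv_GL {W : Type*} [Group W] [Finite W] {p n : ℕ} [hp : Fact p.Prime]
    (hc : ∀ x y : W, x * y = y * x) (h2 : ∀ x : W, x ^ p = 1) (hn : Nat.card W = p ^ n) :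
    Nonempty (MulAut W ≃* Matrix.GeneralLinearGroup (Fin n) (ZMod p)) := by
  letI : CommGroup W := { (inferInstance : Group W) with mul_comm := hc }
  letI : Module (ZMod p) (Additive W) := AddCommGroup.zmodModule fun x => by
    rw [← ofMul_toMul x, ← ofMul_pow, h2, ofMul_one]
  obtain ⟨e⟩ := mulAut_equiv_GL' (V := Additive W) (p := p) (n := n)
    ((Nat.card_congr Additive.toMul).trans hn)
  exact ⟨(MulAut.congr (MulEquiv.multiplicativeAdditive W).symm).trans e⟩

variable {G : Type*} [Group G]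

/-- `C(z) ≤ U M`, with `M` inducing the full automorphism group on `U ≅ 2^(n+1)` faithfully. -/
structure Hol (U M : Subgroup G) (z : G) (n : ℕ) : Prop where
  comm : ∀ x ∈ U, ∀ y ∈ U, x * y = y * x
  sq : ∀ x ∈ U, x * x = 1
  card : Nat.card U = 2 ^ (n + 1)
  pos : 1 ≤ n
  norm : ∀ m ∈ M, ∀ u ∈ U, m * u * m⁻¹ ∈ U
  faith : ∀ m ∈ M, (∀ u ∈ U, m * u * m⁻¹ = u) → m = 1
  full : ∀ φ : U ≃* U, ∃ m ∈ M, ∀ u : U, ((φ u : U) : G) = m * u * m⁻¹
  zU : z ∈ U
  ne : z ≠ 1
  cen : ∀ c, c * z = z * c → ∃ u ∈ U, ∃ m ∈ M, c = u * m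

/-- the elements of `C(z)` acting trivially on `U / ⟨z⟩` -/
def tvQ (U : Subgroup G) (z : G) (hz : z * z = 1) : Subgroup G where
  carrier := {c | c * z = z * c ∧ ∀ u ∈ U, c * u * c⁻¹ = u ∨ c * u * c⁻¹ = u * z}
  one_mem' := ⟨by simp, fun u _ => Or.inl (by simp)⟩
  mul_mem' := by
    rintro c d ⟨hc, hc'⟩ ⟨hd, hd'⟩
    refine ⟨(Commute.mul_left hc hd).eq, fun u hu => ?_⟩
    rw [show c * d * u * (c * d)⁻¹ = c * (d * u * d⁻¹) * c⁻¹ by group]
    rcases hd' u hu with e | e <;> rw [e]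
    · exact hc' u hu
    · rw [← conj_mul, conj_eq_of_comm hc]
      rcases hc' u hu with e | e <;> rw [e]
      · exact Or.inr rfl
      · exact Or.inl (by rw [mul_assoc, hz, mul_one])
  inv_mem' := by
    rintro c ⟨hc, hc'⟩
    refine ⟨(Commute.inv_left hc).eq, fun u hu => ?_⟩
    rcases hc' u hu with e | e
    · left; conv_lhs => rw [← e]
      group
    · right
      have : u = c * u * c⁻¹ * z := by rw [e, mul_assoc, hz, mul_one]
      conv_lhs => rw [this]
      calc _ = u * (c⁻¹ * (z * c)) := by group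
        _ = _ := by rw [← hc]; group

namespace Hol
variable [Finite G] {U M : Subgroup G} {z : G} {n : ℕ} (h : Hol U M z n)
include h

omit [Finite G] in
theorem zz : z * z = 1 := h.sq z h.zU

/-- the group `Q` -/
abbrev Q : Subgroup G := tvQ U z h.zz

omit [Finite G] in
theorem mem_Q {c : G} : c ∈ h.Q ↔
    c * z = z * c ∧ ∀ u ∈ U, c * u * c⁻¹ = u ∨ c * u * c⁻¹ = u * z := Iff.rfl

theorem hyp {A : Subgroup G} {x : G} (hx : x ∈ U) (hxA : x ∉ A) :
    ∃ H : Subgroup U, A.subgroupOf U ≤ H ∧ ⟨x, hx⟩ ∉ H ∧ H.index = 2 := by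
  haveI : Fact (Nat.Prime 2) := ⟨Nat.prime_two⟩
  refine PGrp.exists_index_eq_not_mem (p := 2) _ ?_ (fun y => ?_) hxA
  · rw [_root_.commutator_def, commutator_le]
    intro a _ b _
    rw [commutatorElement_eq_one_iff_mul_comm.2 (Subtype.ext (h.comm a a.2 b b.2))]
    exact one_mem _
  · rw [pow_two, show y * y = 1 from Subtype.ext (h.sq y y.2)]
    exact one_mem _

theorem tv {A : Subgroup G} (hA : A ≤ U) {x a : G} (hx : x ∈ U) (hxA : x ∉ A) (ha : a ∈ A) :
    ∃ m ∈ M, m * x * m⁻¹ = x * a ∧ (∀ u ∈ A, m * u * m⁻¹ = u) ∧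
      ∀ u ∈ U, m * u * m⁻¹ = u ∨ m * u * m⁻¹ = u * a := by
  classical
  obtain ⟨H, hAH, hxH, hi⟩ := h.hyp hx hxA
  set a' : U := ⟨a, hA ha⟩
  have haH : a' ∈ H := hAH ha
  have haa : a' * a' = 1 := Subtype.ext (h.sq a (hA ha))
  have hc : ∀ u v : U, u * v = v * u := fun u v => Subtype.ext (h.comm u u.2 v v.2)
  let f : U → U := fun u => if u ∈ H then u else u * a'
  have hff : ∀ u, f (f u) = u := by
    intro u
    by_cases hu : u ∈ H
    · simp [f, hu]
    · have : u * a' ∉ H := by rwa [mul_mem_cancel_right haH]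
      simp [f, hu, this, mul_assoc, haa]
  let φ : U ≃* U :=
    { toFun := f, invFun := f, left_inv := hff, right_inv := hff
      map_mul' := fun u v => by
        have := mul_mem_iff_of_index_two hi (a := u) (b := v)
        by_cases hu : u ∈ H <;> by_cases hv : v ∈ H <;>
          simp only [f, this, hu, hv, iff_true, iff_false, not_true, not_false_iff, if_true, if_false]
        · rw [mul_assoc]
        · rw [mul_assoc, mul_assoc, hc a']
        · rw [mul_assoc, ← mul_assoc a', hc a', mul_assoc v, haa, mul_one] }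
  obtain ⟨m, hm, hφ⟩ := h.full φ
  refine ⟨m, hm, ?_, fun u hu => ?_, fun u hu => ?_⟩
  · rw [← hφ ⟨x, hx⟩]
    change ((if _ then _ else _ : U) : G) = _
    rw [if_neg hxH]; rfl
  · rw [← hφ ⟨u, hA hu⟩]
    change ((if _ then _ else _ : U) : G) = _
    rw [if_pos (hAH hu)]
  · rw [← hφ ⟨u, hu⟩]
    change ((if _ then _ else _ : U) : G) = _ ∨ ((if _ then _ else _ : U) : G) = _
    split_ifs
    · exact Or.inl rfl
    · exact Or.inr rfl

omit [Finite G] in
theorem le_Q : U ≤ h.Q := fun x hx =>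
  ⟨h.comm x hx z h.zU, fun u hu => Or.inl (conj_eq_of_comm (h.comm x hx u hu))⟩

omit [Finite G] in
theorem conj_UM {u m v : G} (hu : u ∈ U) (hm : m ∈ M) (hv : v ∈ U) :
    u * m * v * (u * m)⁻¹ = m * v * m⁻¹ := by
  rw [show u * m * v * (u * m)⁻¹ = u * (m * v * m⁻¹) * u⁻¹ by group,
    conj_eq_of_comm (h.comm u hu _ (h.norm m hm v hv))]

omit [Finite G] in
theorem cnorm {c : G} (hc : c * z = z * c) : ∀ v ∈ U, c * v * c⁻¹ ∈ U := by
  obtain ⟨u, hu, m, hm, rfl⟩ := h.cen c hc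
  intro v hv
  rw [h.conj_UM hu hm hv]
  exact h.norm m hm v hv

omit [Finite G] in
theorem selfU {c : G} (hc : ∀ v ∈ U, c * v = v * c) : c ∈ U := by
  obtain ⟨u, hu, m, hm, rfl⟩ := h.cen c (hc z h.zU)
  rw [h.faith m hm fun v hv => by rw [← h.conj_UM hu hm hv, conj_eq_of_comm (hc v hv)], mul_one]
  exact hu

theorem exists_x : ∃ x ∈ U, x ∉ zpowers z := by
  by_contra hc
  push Not at hc
  have := card_le_of_le (show U ≤ zpowers z from hc)
  rw [card_zpowers_invol h.zz h.ne, h.card] at this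
  have h2 : 2 ^ 2 ≤ 2 ^ (n + 1) := Nat.pow_le_pow_right two_pos (by have := h.pos; omega)
  omega

theorem exists_tv {x : G} (hx : x ∈ U) (hxz : x ∉ zpowers z) :
    ∃ m ∈ h.Q, m * x ≠ x * m := by
  obtain ⟨m, -, e1, e2, e3⟩ := h.tv (zpowers_le.2 h.zU) hx hxz (mem_zpowers z)
  refine ⟨m, ⟨comm_of_conj_eq (e2 z (mem_zpowers z)), e3⟩, fun e => h.ne ?_⟩
  rw [conj_eq_of_comm e] at e1
  exact left_eq_mul.1 e1

omit [Finite G] in
theorem sq_mem {c : G} (hc : c ∈ h.Q) : c * c = 1 ∨ c * c = z := by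
  obtain ⟨u, hu, m, hm, rfl⟩ := h.cen c hc.1
  have hmQ : m ∈ h.Q := by simpa using mul_mem (inv_mem (h.le_Q hu)) hc
  have hmm : m * m = 1 := h.faith _ (mul_mem hm hm) fun v hv => by
    rw [show m * m * v * (m * m)⁻¹ = m * (m * v * m⁻¹) * m⁻¹ by group]
    rcases hmQ.2 v hv with e | e <;> rw [e]
    · exact e
    · rw [← conj_mul, conj_eq_of_comm hmQ.1, e, mul_assoc, h.zz, mul_one]
  rw [show u * m * (u * m) = u * (m * u * m⁻¹) * (m * m) by group, hmm, mul_one]
  rcases hmQ.2 u hu with e | e <;> rw [e]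
  · exact Or.inl (h.sq u hu)
  · exact Or.inr (by rw [← mul_assoc, h.sq u hu, one_mul])

theorem of_cen {x : G} (hc : ∀ y ∈ h.Q, x * y = y * x) : x = 1 ∨ x = z := by
  rw [← mem_zpowers_invol h.zz]
  by_contra hx
  obtain ⟨m, hm, e⟩ := h.exists_tv (h.selfU fun v hv => hc v (h.le_Q hv)) hx
  exact e (hc m hm).symm

theorem ls : LS h.Q z := by
  refine ⟨⟨h.le_Q h.zU, h.ne, h.zz, fun x hx => hx.1, fun x _ => h.of_cen, fun x hx y hy => ?_,
    fun x => h.sq_mem, ?_⟩, fun g => h.of_cen, fun g hg x hx => ⟨?_, fun v hv => ?_⟩⟩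
  · have hs : ∀ c ∈ h.Q, c * c ∈ zpowers z := fun c hc => (mem_zpowers_invol h.zz).2 (h.sq_mem hc)
    have := mul_mem (mul_mem (hs _ (inv_mem hx)) (hs _ (mul_mem hx (inv_mem hy)))) (hs _ hy)
    rw [show x⁻¹ * x⁻¹ * (x * y⁻¹ * (x * y⁻¹)) * (y * y) = (y * x)⁻¹ * (x * y) by group,
      mem_zpowers_invol h.zz] at this
    rcases this with e | e
    · exact Or.inl (inv_mul_eq_one.1 e).symm
    · exact Or.inr (inv_mul_eq_iff_eq_mul.1 e)
  · obtain ⟨x, hx, hxz⟩ := h.exists_x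
    obtain ⟨m, hm, e⟩ := h.exists_tv hx hxz
    exact ⟨m, hm, x, h.le_Q hx, e⟩
  · exact (((Commute.mul_left hg hx.1).mul_left (Commute.inv_left hg))).eq
  · have hv' : g⁻¹ * v * g⁻¹⁻¹ ∈ U := h.cnorm (Commute.inv_left hg).eq v hv
    rw [show g * x * g⁻¹ * v * (g * x * g⁻¹)⁻¹ = g * (x * (g⁻¹ * v * g⁻¹⁻¹) * x⁻¹) * g⁻¹ by group]
    rcases hx.2 _ hv' with e | e <;> rw [e]
    · left; group
    · right; rw [← conj_mul, conj_eq_of_comm hg]; group

theorem trans {x y : G} (hx : x ∈ U) (hxz : x ∉ zpowers z) (hy : y ∈ U) (hyz : y ∉ zpowers z) :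
    ∃ c, c * z = z * c ∧ (c * x * c⁻¹ = y ∨ c * x * c⁻¹ = y * z) := by
  by_cases e : x * y ∈ zpowers z
  · refine ⟨1, by simp, ?_⟩
    rcases (mem_zpowers_invol h.zz).1 e with e | e
    · left; rw [← mul_left_inj y, h.sq y hy, one_mul, inv_one, mul_one, e]
    · right; rw [← e, h.comm x hx y hy, ← mul_assoc, h.sq y hy]; group
  have hxy := mul_mem hx hy
  have hxA : x ∉ zpowers z ⊔ zpowers (x * y) := by
    intro hm
    have hn : zpowers (x * y) ≤ 𝐍 (zpowers z) := (zpowers_le.2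
      (mem_cent_zpowers.2 (h.comm _ hxy z h.zU))).trans (centralizer_le_normalizer _)
    rw [← SetLike.mem_coe, coe_mul_of_right_le_normalizer_left _ _ hn] at hm
    obtain ⟨a, ha, b, hb, e'⟩ := Set.mem_mul.1 hm
    rcases (mem_zpowers_invol (h.sq _ hxy)).1 hb with rfl | rfl
    · rw [mul_one] at e'; exact hxz (e' ▸ ha)
    · apply hyz
      have : y = a⁻¹ := by
        rw [h.comm x hx y hy, ← mul_assoc, mul_eq_right] at e'
        exact eq_inv_of_mul_eq_one_right e'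
      rw [this]; exact inv_mem ha
  obtain ⟨m, -, e1, e2, -⟩ := h.tv (sup_le (zpowers_le.2 h.zU) (zpowers_le.2 hxy)) hx hxA
    (mem_sup_right (mem_zpowers _))
  exact ⟨m, comm_of_conj_eq (e2 z (mem_sup_left (mem_zpowers z))),
    Or.inl (by rw [e1, ← mul_assoc, h.sq x hx, one_mul])⟩

theorem Q_eq : h.Q = pCoreOf 2 (centralizer ({z} : Set G)) := by
  haveI : Fact (Nat.Prime 2) := ⟨Nat.prime_two⟩
  have h1 : h.Q ≤ pCoreOf 2 (centralizer ({z} : Set G)) :=
    le_pCoreOf h.ls.toES.le_cent h.ls.cent_le_norm h.ls.toES.isPGroup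
  refine le_antisymm h1 ?_
  set R := pCoreOf 2 (centralizer ({z} : Set G)) with hR
  have hRC : ∀ r ∈ R, r * z = z * r := fun r hr => mem_cent_single.1 (op_le _ hr)
  haveI : (U.subgroupOf R).Normal := ⟨fun u hu r => h.cnorm (hRC r r.2) u hu⟩
  haveI : ((zpowers z).subgroupOf R).Normal := normal_subgroupOf_of_le_normalizer fun r hr =>
    centralizer_le_normalizer _ (mem_cent_zpowers.2 (hRC r hr))
  obtain ⟨x, hx, hxz, -, hc⟩ := PGrp.exists_mem_central_mod (op_isPGroup _)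
    ((zpowers z).subgroupOf R) (U.subgroupOf R) (fun e => by
      obtain ⟨x, hx, hxz⟩ := h.exists_x
      exact hxz (e (show (⟨x, h1 (h.le_Q hx)⟩ : R) ∈ U.subgroupOf R from hx)))
  have hx' : ∀ r ∈ R, r * x * r⁻¹ = x ∨ r * x * r⁻¹ = x * z := by
    intro r hr
    have := inv_mem (hc ⟨r, hr⟩)
    rw [commutatorElement_inv, mem_subgroupOf, mem_zpowers_invol h.zz] at this
    rcases this with e | e
    · exact Or.inl (mul_inv_eq_one.1 e)
    · exact Or.inr ((mul_inv_eq_iff_eq_mul.1 e).trans (h.comm z h.zU x hx))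
  intro r hr
  refine ⟨hRC r hr, fun y hy => ?_⟩
  by_cases hyz : y ∈ zpowers z
  · exact Or.inl (conj_eq_of_comm (mem_centralizer_comm.1 (mem_cent_zpowers.2 (hRC r hr)) y hyz).symm)
  obtain ⟨c, hc1, hc2⟩ := h.trans (x := (x : G)) hx hxz hy hyz
  have hr' : c⁻¹ * r * c⁻¹⁻¹ ∈ R :=
    (mem_normalizer_iff.1 (le_norm_op _ (inv_mem (mem_cent_single.2 hc1))) r).1 hr
  have key : r * (c * x * c⁻¹) * r⁻¹ = c * x * c⁻¹ ∨ r * (c * x * c⁻¹) * r⁻¹ = c * x * c⁻¹ * z := by
    rw [show r * (c * x * c⁻¹) * r⁻¹ = c * ((c⁻¹ * r * c⁻¹⁻¹) * x * (c⁻¹ * r * c⁻¹⁻¹)⁻¹) * c⁻¹ by group]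
    rcases hx' _ hr' with e | e <;> rw [e]
    · exact Or.inl rfl
    · right; rw [← conj_mul, conj_eq_of_comm hc1]
  rcases hc2 with e | e <;> rw [e] at key
  · exact key
  · rw [← conj_mul, conj_eq_of_comm (hRC r hr), mul_left_inj, mul_left_inj] at key
    exact key

theorem card_Q : Nat.card h.Q = 2 ^ (2 * n + 1) := by
  haveI : Fact (Nat.Prime 2) := ⟨Nat.prime_two⟩
  have hZ := card_zpowers_invol h.zz h.ne
  have e1 : U ⊓ centralizer (h.Q : Set G) = zpowers z := le_antisymm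
    (fun x hx => (mem_zpowers_invol h.zz).2 (h.of_cen fun y hy => (hx.2 y hy).symm))
    (zpowers_le.2 ⟨h.zU, fun y hy => hy.1⟩)
  have e2 : h.Q ⊓ centralizer (U : Set G) = U := le_antisymm
    (fun x hx => h.selfU fun y hy => (hx.2 y hy).symm)
    (fun x hx => ⟨h.le_Q hx, fun y hy => h.comm y hy x hx⟩)
  have h1 := PGrp.relIndex_centralizer_mul_le (A := h.Q) (B := U)
    (h.ls.toES.isPGroup.to_le h.le_Q) hZ.le fun a ha b hb => h.ls.toES.commutator_mem ha (h.le_Q hb)
  have h2 := PGrp.relIndex_centralizer_mul_le (A := U) (B := h.Q)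
    h.ls.toES.isPGroup hZ.le fun a ha b hb => h.ls.toES.commutator_mem (h.le_Q ha) hb
  rw [e1, hZ, ← inf_relIndex_left, e2, h.card] at h1
  rw [e2, ← inf_relIndex_left, e1, h.card] at h2
  have h3 : U.relIndex h.Q * Nat.card U = Nat.card h.Q := by
    rw [← (U.subgroupOf h.Q).index_mul_card, Nat.card_congr (subgroupOfEquivOfLe h.le_Q).toEquiv]; rfl
  have h4 : (zpowers z).relIndex U * Nat.card (zpowers z) = Nat.card U := by
    rw [← ((zpowers z).subgroupOf U).index_mul_card,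
      Nat.card_congr (subgroupOfEquivOfLe (zpowers_le.2 h.zU)).toEquiv]; rfl
  rw [hZ, h.card] at h4
  rw [h.card] at h3
  have h5 : (zpowers z).relIndex U = 2 ^ n := by rw [pow_succ] at h4; omega
  have h6 : U.relIndex h.Q ≤ 2 ^ n := by rw [pow_succ] at h1; omega
  rw [h5] at h2
  rw [show 2 * n + 1 = n + (n + 1) by ring, pow_add]
  exact le_antisymm (h3 ▸ Nat.mul_le_mul_right _ h6) h2

theorem large : IsLargeExtraspecial h.Q := by
  obtain ⟨b, hb, hbz⟩ := h.exists_x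
  have hb1 : b ≠ 1 := fun e => hbz (e ▸ one_mem _)
  have hb2 : b ≠ z := fun e => hbz (e ▸ mem_zpowers _)
  refine h.ls.large (h.ls.odd_eq_bot (h.le_Q hb) hb1 hb2 (h.sq b hb) fun k hk => ⟨1, ?_⟩)
  have hzb := mul_mem h.zU hb
  obtain ⟨m, hm, e, -⟩ := h.tv (zpowers_le.2 hzb) h.zU (by
    rw [mem_zpowers_invol (h.sq _ hzb)]
    rintro (e | e)
    · exact h.ne e
    · exact hb1 (left_eq_mul.1 e)) (mem_zpowers _)
  rw [← mul_assoc, h.zz, one_mul] at e
  have h1 := h.cnorm (c := m⁻¹ * k * m) (by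
    calc m⁻¹ * k * m * z = m⁻¹ * (k * (m * z * m⁻¹)) * m := by group
      _ = _ := by rw [e, hk, ← e]; group) _ (h.norm m⁻¹ (inv_mem hm) z h.zU)
  have h2 := h.norm m hm _ h1
  rw [show m * (m⁻¹ * k * m * (m⁻¹ * z * m⁻¹⁻¹) * (m⁻¹ * k * m)⁻¹) * m⁻¹ = k * z * k⁻¹ by group] at h2
  rw [pow_one, pow_two]
  exact h.sq _ (mul_mem h2 (inv_mem h.zU))

theorem exists_K : ∃ K : Subgroup G, K ≤ centralizer {z} ∧ h.Q ⊓ K = ⊥ ∧ h.Q ⊔ K = centralizer {z} ∧
    Nonempty (K ≃* Matrix.GeneralLinearGroup (Fin n) (ZMod 2)) := by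
  haveI : Fact (Nat.Prime 2) := ⟨Nat.prime_two⟩
  obtain ⟨H, -, hzH, hi⟩ := h.hyp (A := ⊥) h.zU h.ne
  set W := H.map U.subtype with hW
  have hWU : W ≤ U := map_subtype_le _
  have hzW : z ∉ W := by rintro ⟨x, hx, e⟩; exact hzH ((Subtype.ext e : x = ⟨z, h.zU⟩) ▸ hx)
  have hcW : Nat.card W = 2 ^ n := by
    have := H.index_mul_card
    rw [hi, h.card, pow_succ] at this
    rw [hW, card_map_of_injective U.subtype_injective]; omega
  have hex : ∀ u : U, ∃ w : W, (w : G) = u ∨ (w : G) = u * z := by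
    intro u
    by_cases hu : u ∈ H
    · exact ⟨⟨u, u, hu, rfl⟩, Or.inl rfl⟩
    · exact ⟨⟨u * z, u * ⟨z, h.zU⟩, (mul_mem_iff_of_index_two hi).2 (by tauto), rfl⟩, Or.inr rfl⟩
  have huniq : ∀ u : G, ∀ w w' : W, ((w : G) = u ∨ (w : G) = u * z) →
      ((w' : G) = u ∨ (w' : G) = u * z) → w = w' := by
    intro u w w' h1 h2
    have h3 := mul_mem (inv_mem w.2) w'.2
    have h4 := mul_mem (inv_mem w'.2) w.2
    rcases h1 with e | e <;> rcases h2 with e' | e'
    · exact Subtype.ext (e.trans e'.symm)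
    · rw [e, e', inv_mul_cancel_left] at h3; exact absurd h3 hzW
    · rw [e, e', inv_mul_cancel_left] at h4; exact absurd h4 hzW
    · exact Subtype.ext (e.trans e'.symm)
  choose p hp using hex
  let π : U →* W := MonoidHom.mk' p fun u v => huniq _ _ _ (hp _) (by
    simp only [coe_mul]
    rcases hp u with e | e <;> rcases hp v with e' | e' <;> rw [e, e']
    · exact Or.inl rfl
    · exact Or.inr (mul_assoc _ _ _).symm
    · right; rw [mul_assoc, h.comm z h.zU v v.2, mul_assoc]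
    · left; rw [mul_assoc, ← mul_assoc z, h.comm z h.zU v v.2, mul_assoc (v : G), h.zz, mul_one])
  have hπ : ∀ u, (π u : G) = u ∨ (π u : G) = u * z := hp
  have hπW : ∀ w : W, π ⟨w, hWU w.2⟩ = w := fun w => huniq _ _ _ (hπ _) (Or.inl rfl)
  have hπz : π ⟨z, h.zU⟩ = 1 := huniq z _ _ (hπ _) (Or.inr h.zz.symm)
  set K := M ⊓ centralizer {z} ⊓ 𝐍 W with hK
  set ρ : K →* MulAut W := (normalizerMonoidHom W).comp (inclusion inf_le_right) with hρ
  have hρa : ∀ (k : K) (w : W), (ρ k w : G) = k * w * (k : G)⁻¹ := fun _ _ => rfl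
  have hfix : ∀ m ∈ M, m * z = z * m → (∀ w ∈ W, m * w * m⁻¹ = w) → m = 1 := by
    intro m hm hz hw
    refine h.faith m hm fun u hu => ?_
    have := hw _ (π ⟨u, hu⟩).2
    rcases hπ ⟨u, hu⟩ with e | e <;> rw [e] at this
    · exact this
    · rwa [← conj_mul, conj_eq_of_comm hz, mul_left_inj] at this
  have hinj : Function.Injective ρ := (injective_iff_map_eq_one _).2 fun k hk =>
    Subtype.ext (hfix k k.2.1.1 (mem_cent_single.1 k.2.1.2) fun w hw => by
      rw [← hρa k ⟨w, hw⟩, hk]; rfl)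
  have hsurj : Function.Surjective ρ := by
    intro ψ
    have hc : ∀ u v : U, u * v = v * u := fun u v => Subtype.ext (h.comm u u.2 v v.2)
    letI : CommGroup U := { (inferInstance : Group U) with mul_comm := hc }
    let ι : W →* U := inclusion hWU
    let f : U →* U := (ι.comp ((ψ : W →* W).comp π)) * (ι.comp π)⁻¹ * MonoidHom.id U
    have hf : ∀ u, f u = ι (ψ (π u)) * (ι (π u))⁻¹ * u := fun u => rfl
    have hπι : ∀ w, π (ι w) = w := hπW
    have hfi : Function.Injective f := (injective_iff_map_eq_one _).2 fun u hu => by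
      have h1 := congrArg π hu
      rw [hf, map_mul, map_mul, map_inv, hπι, hπι, inv_mul_cancel_right, map_one,
        MulEquiv.map_eq_one_iff] at h1
      rw [hf, h1] at hu
      simpa using hu
    obtain ⟨m, hm, e⟩ := h.full (MulEquiv.ofBijective f (Finite.injective_iff_bijective.1 hfi))
    have e' : ∀ w : W, m * w * m⁻¹ = ψ w := fun w => by
      have := e (ι w)
      rw [MulEquiv.ofBijective_apply, hf, hπι, inv_mul_cancel_right] at this
      exact this.symm
    have hmz : m * z * m⁻¹ = z := by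
      have := e ⟨z, h.zU⟩
      rw [MulEquiv.ofBijective_apply, hf, hπz] at this
      simpa using this.symm
    refine ⟨⟨m, ⟨hm, mem_cent_single.2 (comm_of_conj_eq hmz)⟩, mem_normalizer_of_conj_mem
      fun w hw => ?_⟩, MulEquiv.ext fun w => Subtype.ext (e' w)⟩
    rw [e' ⟨w, hw⟩]; exact (ψ _).2
  obtain ⟨eG⟩ := mulAut_equiv_GL (W := W) (p := 2)
    (fun x y => Subtype.ext (h.comm x (hWU x.2) y (hWU y.2)))
    (fun x => by rw [pow_two]; exact Subtype.ext (h.sq x (hWU x.2))) hcW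
  refine ⟨K, inf_le_left.trans inf_le_right, eq_bot_iff.2 fun k hk => ?_, le_antisymm
    (sup_le h.ls.toES.le_cent (inf_le_left.trans inf_le_right)) fun c hc => ?_,
    ⟨(MulEquiv.ofBijective ρ ⟨hinj, hsurj⟩).trans eG⟩⟩
  · obtain ⟨hk1, hk2⟩ := mem_inf.1 hk
    refine hfix k hk2.1.1 hk1.1 fun w hw => (hk1.2 w (hWU hw)).resolve_right fun e => hzW ?_
    have := mul_mem (inv_mem hw) ((mem_normalizer_iff.1 hk2.2 w).1 hw)
    rwa [e, inv_mul_cancel_left] at this
  · have hcz := mem_cent_single.1 hc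
    let g : W →* U := MonoidHom.mk' (fun w => ⟨c * w * c⁻¹, h.cnorm hcz _ (hWU w.2)⟩)
      fun a b => Subtype.ext (by simp only [coe_mul]; group)
    have hgi : Function.Injective (π.comp g) := (injective_iff_map_eq_one _).2 fun w hw => by
      rcases hπ (g w) with e | e <;> rw [show π (g w) = 1 from hw] at e
      · exact Subtype.ext (by simpa [g] using e.symm)
      · exfalso
        apply hzW
        have e2 : c * w * c⁻¹ * z = 1 := e.symm
        rw [← conj_eq_of_comm hcz, conj_mul, conj_eq_one_iff] at e2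
        rw [eq_inv_of_mul_eq_one_right e2]
        exact inv_mem w.2
    obtain ⟨k, hk⟩ := hsurj (MulEquiv.ofBijective _ (Finite.injective_iff_bijective.1 hgi))
    have hkz : (k : G) * z = z * k := mem_cent_single.1 k.2.1.2
    have hQ : (k : G)⁻¹ * c ∈ h.Q := by
      refine ⟨((Commute.inv_left hkz).mul_left hcz).eq, fun u hu => ?_⟩
      have key : ∀ w : W, (k : G)⁻¹ * c * w * ((k : G)⁻¹ * c)⁻¹ = w ∨
          (k : G)⁻¹ * c * w * ((k : G)⁻¹ * c)⁻¹ = w * z := by
        intro w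
        have h1 := hρa k w
        rw [hk] at h1
        rcases hπ (g w) with e | e <;> rw [show (π (g w) : G) = _ from h1] at e
        · left
          calc _ = (k : G)⁻¹ * (c * w * c⁻¹) * k := by group
            _ = _ := by rw [show c * w * c⁻¹ = _ from e.symm]; group
        · right
          calc _ = (k : G)⁻¹ * (c * w * c⁻¹ * z) * (z * k) := by
                rw [mul_assoc _ _ (z * k), mul_assoc _ z, ← mul_assoc z, h.zz]; group
            _ = _ := by rw [show c * w * c⁻¹ * z = _ from e.symm, ← hkz]; group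
      have := key (π ⟨u, hu⟩)
      rcases hπ ⟨u, hu⟩ with e | e <;> rw [e] at this
      · exact this
      · rw [← conj_mul, conj_eq_of_comm ((Commute.inv_left hkz).mul_left hcz).eq, mul_left_inj,
          mul_left_inj] at this
        exact this
    have := mul_mem (mem_sup_right k.2 : (k : G) ∈ h.Q ⊔ K) (mem_sup_left hQ)
    rwa [mul_inv_cancel_left] at this

theorem main {Q : Subgroup G} (hQ : Q = (pCore 2 (centralizer ({z} : Set G))).map
    (centralizer ({z} : Set G)).subtype) : IsExtraspecial 2 Q ∧ Nat.card Q = 2 ^ (2 * n + 1) ∧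
    (∃ E : Subgroup G, E ≤ Q ∧ IsElementaryAbelian 2 E ∧ Nat.card E = 2 ^ (n + 1)) ∧
    IsLargeExtraspecial Q ∧ ∃ K : Subgroup G, K ≤ centralizer {z} ∧ Q ⊓ K = ⊥ ∧
      Q ⊔ K = centralizer {z} ∧ Nonempty (K ≃* Matrix.GeneralLinearGroup (Fin n) (ZMod 2)) := by
  obtain rfl : Q = h.Q := hQ.trans h.Q_eq.symm
  exact ⟨h.large.1, h.card_Q, ⟨U, h.le_Q, ⟨⟨⟨fun x y => Subtype.ext (h.comm x x.2 y y.2)⟩⟩,
    fun x hx => by rw [pow_two, h.sq x hx]⟩, h.card⟩, h.large, h.exists_K⟩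

end Hol

end Cfsg.Lib.Small
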