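import Cfsg.Agent.Lib.Small.Subsec

/-!
# Galois averages of contributions for `p = 2`
-/

set_option autoImplicit false

namespace Cfsg.Lib.Small

open Subgroup Cfsg.Lib.Char Cfsg.Lib.Block Cfsg.Lib.Block2
open scoped ComplexConjugate

theorem mem_adjoin_of_isIntegral {p k : ℕ} [hp : Fact p.Prime] {ζ : ℂ}
    (hζ : IsPrimitiveRoot ζ (p ^ k)) {β : ℂ} (hi : IsIntegral ℤ β) {n : ℕ} (hn : n ≠ 0)
    (h : n * β ∈ Algebra.adjoin ℤ {ζ}) : β ∈ Algebra.adjoin ℤ {ζ} := by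
  haveI : NeZero (p ^ k) := ⟨(pow_pos hp.out.pos k).ne'⟩
  set K := IntermediateField.adjoin ℚ {ζ}
  haveI : IsCyclotomicExtension {p ^ k} ℚ K := by
    change IsCyclotomicExtension {p ^ k} ℚ (IntermediateField.adjoin ℚ {ζ}).toSubalgebra
    rw [IntermediateField.adjoin_simple_toSubalgebra_of_isAlgebraic
      ((hζ.isIntegral (NeZero.pos _)).tower_top (A := ℚ)).isAlgebraic]
    exact hζ.adjoin_isCyclotomicExtension ℚ
  have hz : ζ ∈ K := IntermediateField.mem_adjoin_simple_self ℚ ζ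
  have hβ : β ∈ K := by
    have h1 : (n : ℂ) * β ∈ K := (Algebra.adjoin_le (S := K.toSubalgebra.restrictScalars ℤ)
      (Set.singleton_subset_iff.2 hz)) h
    have := K.mul_mem (K.inv_mem (natCast_mem K n)) h1
    rwa [inv_mul_cancel_left₀ (Nat.cast_ne_zero.2 hn)] at this
  have hζ' : IsPrimitiveRoot (⟨ζ, hz⟩ : K) (p ^ k) := IsPrimitiveRoot.coe_submonoidClass_iff.1 hζ
  obtain ⟨⟨y, hy⟩, e⟩ := (IsCyclotomicExtension.Rat.isIntegralClosure_adjoin_singleton_of_prime_pow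
    hζ').isIntegral_iff (x := ⟨β, hβ⟩) |>.1
    ((isIntegral_algHom_iff (K.val.restrictScalars ℤ) Subtype.val_injective).1 hi)
  rw [Algebra.adjoin_singleton_eq_range_aeval] at hy ⊢
  obtain ⟨f, rfl⟩ := hy
  refine ⟨f, ?_⟩
  have := congrArg (K.val.restrictScalars ℤ) e
  simpa [← Polynomial.aeval_algHom_apply] using this

theorem adjoin_induction_pow {ζ : ℂ} {P : ℂ → Prop} (h0 : P 0) (h1 : ∀ j, P (ζ ^ j))
    (hadd : ∀ a b, P a → P b → P (a + b)) (hsmul : ∀ (n : ℤ) a, P a → P (n * a)) {β : ℂ}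
    (h : β ∈ Algebra.adjoin ℤ {ζ}) : P β := by
  rw [← Subalgebra.mem_toSubmodule, Algebra.adjoin_eq_span] at h
  induction h using Submodule.span_induction with
  | mem x hx =>
    obtain ⟨j, rfl⟩ := Submonoid.mem_closure_singleton.1 hx
    exact h1 j
  | zero => exact h0
  | add x y _ _ hx hy => exact hadd x y hx hy
  | smul n x _ hx => simpa using hsmul n x hx

theorem geom_sum_root {z : ℂ} {N : ℕ} (h : z ^ N = 1) [Decidable (z = 1)] :
    ∑ i ∈ Finset.range N, z ^ i = if z = 1 then (N : ℂ) else 0 := by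
  split_ifs with h1
  · simp [h1]
  · rw [geom_sum_eq h1, h, sub_self, zero_div]

/-- a system of Galois automorphisms for the `2 ^ (k + 1)`-th roots of unity -/
theorem exists_avg (k : ℕ) : ∃ (ζ : ℂ) (σ : ℕ → ℂ ≃+* ℂ), IsPrimitiveRoot ζ (2 ^ (k + 1)) ∧
    ∀ β ∈ Algebra.adjoin ℤ {ζ}, conj β = β → ∃ a : ℤ,
      ∑ i ∈ Finset.range (2 ^ k), σ i β = 2 ^ k * a ∧
      ∀ (M : Ideal AlgInt) [M.IsMaximal], IsPModular 2 M → MemLocalIdeal M (β - a) := by
  classical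
  have hn : 2 ^ (k + 1) ≠ 0 := by positivity
  set ζ := Complex.exp (2 * Real.pi * Complex.I / (2 ^ (k + 1) : ℕ))
  have hζ : IsPrimitiveRoot ζ (2 ^ (k + 1)) := Complex.isPrimitiveRoot_exp _ hn
  choose σ hσ using fun i => exists_ringEquiv_pow (k := 2 * i + 1) hn
    (Nat.Coprime.pow_right _ (by simp))
  refine ⟨ζ, σ, hζ, fun β hβ hr => ?_⟩
  have hN : (2 : ℂ) ^ k ≠ 0 := pow_ne_zero _ two_ne_zero
  have hpow : ∀ j, (ζ ^ j) ^ 2 ^ (k + 1) = 1 := fun j => by
    rw [← pow_mul, mul_comm, pow_mul, hζ.pow_eq_one, one_pow]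
  set T : ℂ → ℂ := fun β => ∑ i ∈ Finset.range (2 ^ k), σ i β with hT
  have h1 : ∀ γ ∈ Algebra.adjoin ℤ {ζ}, ∃ a : ℤ, T γ = 2 ^ k * a := fun γ hγ => by
    refine adjoin_induction_pow (P := fun γ => ∃ a : ℤ, T γ = 2 ^ k * a) ⟨0, by simp [hT]⟩
      (fun j => ?_) (fun a b ⟨x, hx⟩ ⟨y, hy⟩ => ⟨x + y, ?_⟩) (fun n a ⟨x, hx⟩ => ⟨n * x, ?_⟩) hγ
    · have : T (ζ ^ j) = ζ ^ j * ∑ i ∈ Finset.range (2 ^ k), ((ζ ^ j) ^ 2) ^ i := by
        rw [Finset.mul_sum]
        exact Finset.sum_congr rfl fun i _ => by rw [hσ i _ (hpow j)]; ring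
      rw [this, geom_sum_root (by rw [← pow_mul, ← pow_succ', hpow])]
      split_ifs with h
      · rcases mul_self_eq_one_iff.1 ((sq _).symm.trans h) with h | h
        · exact ⟨1, by simp [h]⟩
        · exact ⟨-1, by simp [h]⟩
      · exact ⟨0, by simp⟩
    · simp only [hT, map_add, Finset.sum_add_distrib] at hx hy ⊢
      rw [hx, hy]; push_cast; ring
    · simp only [hT, map_mul, map_intCast, ← Finset.mul_sum] at hx ⊢
      rw [hx]; push_cast; ring
  have hz : ζ ∈ Algebra.adjoin ℤ {ζ} := Algebra.self_mem_adjoin_singleton ℤ ζ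
  choose a ha using fun j => h1 (β * ζ ^ j) (mul_mem hβ (pow_mem hz j))
  have hcyc : ∀ γ ∈ Algebra.adjoin ℤ {ζ}, γ ∈ cyc := fun γ hγ =>
    adjoin_induction_pow (P := (· ∈ cyc)) cyc.zero_mem (fun j => mem_cyc_of_pow hn (hpow j))
      (fun _ _ => cyc.add_mem) (fun n _ => cyc.mul_mem (intCast_mem _ n)) hγ
  have h0 : σ 0 β = β :=
    adjoin_induction_pow (P := fun γ => σ 0 γ = γ) (map_zero _)
      (fun j => by simpa using hσ 0 _ (hpow j)) (fun a b ha hb => by rw [map_add, ha, hb])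
      (fun n a ha => by rw [map_mul, ha, map_intCast]) hβ
  have hz0 : ζ ≠ 0 := hζ.ne_zero hn
  have hhalf : ζ ^ 2 ^ k = -1 :=
    (hζ.pow (Nat.pos_of_ne_zero hn) (pow_succ 2 k)).eq_neg_one_of_two_right
  have h2 : β = ∑ j ∈ Finset.range (2 ^ k), a j * (ζ ^ j)⁻¹ := by
    apply mul_left_cancel₀ hN
    simp only [Finset.mul_sum, ← mul_assoc, ← ha, hT, Finset.sum_mul]
    rw [Finset.sum_comm, Finset.sum_eq_single 0]
    · rw [Finset.sum_congr rfl fun j _ => show σ 0 (β * ζ ^ j) * (ζ ^ j)⁻¹ = β by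
        rw [map_mul, h0, hσ 0 _ (hpow j)]; field_simp; ring]
      simp
    · intro i hi hi0
      rw [Finset.sum_congr rfl fun j _ => show σ i (β * ζ ^ j) * (ζ ^ j)⁻¹ =
        σ i β * (ζ ^ (2 * i)) ^ j by rw [map_mul, hσ i _ (hpow j)]; field_simp; ring,
        ← Finset.mul_sum, geom_sum_root (by rw [← pow_mul, mul_right_comm, ← pow_succ', pow_mul,
          hζ.pow_eq_one, one_pow]), if_neg, mul_zero]
      exact hζ.pow_ne_one_of_pos_of_lt (by omega) (by have := Finset.mem_range.1 hi; omega)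
    · simp
  have h3 : ∀ j ≤ 2 ^ k, a j = - a (2 ^ k - j) := fun j hj => by
    apply Int.cast_injective (α := ℂ)
    apply mul_left_cancel₀ hN
    have e : β * ζ ^ (2 ^ k - j) = - conj (β * ζ ^ j) := by
      rw [map_mul, hr, conj_eq_inv_of_pow hn (hpow j), pow_sub₀ _ hz0 hj, hhalf]; ring
    have := congrArg conj (ha j)
    rw [map_mul, map_intCast, map_pow, map_ofNat] at this
    rw [Int.cast_neg, mul_neg, ← ha (2 ^ k - j), e, ← this]
    simp only [hT, map_neg, Finset.sum_neg_distrib, neg_neg, map_sum]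
    exact Finset.sum_congr rfl fun i _ =>
      (map_conj_of_mem_cyc (σ i).toRingHom (hcyc _ (mul_mem hβ (pow_mem hz j)))).symm
  have h4 : ∑ j ∈ Finset.range (2 ^ k), a j = a 0 := by
    obtain ⟨m, hm⟩ : ∃ m, 2 ^ k = m + 1 := ⟨2 ^ k - 1, by have := Nat.one_le_two_pow (n := k); omega⟩
    rw [hm, Finset.sum_range_succ', add_eq_right]
    have : ∑ j ∈ Finset.range m, a (j + 1) = - ∑ j ∈ Finset.range m, a (j + 1) := by
      nth_rewrite 2 [← Finset.sum_range_reflect]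
      rw [← Finset.sum_neg_distrib]
      refine Finset.sum_congr rfl fun j hj => ?_
      have := Finset.mem_range.1 hj
      rw [h3 (j + 1) (by omega)]
      congr 2; omega
    omega
  refine ⟨a 0, by simpa using ha 0, fun M _ hM => ?_⟩
  rw [← h4, h2, Int.cast_sum, ← Finset.sum_sub_distrib]
  refine memLocalIdeal_sum fun j _ => ?_
  rw [← mul_sub_one]
  exact (memLocalIdeal_sub_one_of_pow_prime_pow hM (k := k + 1)
    (by rw [inv_pow, hpow, inv_one])).mul_left (memLocalRing_intCast _)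

theorem sum_le_of_avg {ι : Type*} (s t : Finset ι) (hts : t ⊆ s) (N : ℕ) (hN : N ≠ 0)
    (σ : ℕ → ℂ ≃+* ℂ) (m : ι → ℂ) (hm : ∀ i ∈ s, m i ∈ cyc) (w : ι → ℕ)
    (hw : ∀ i ∈ t, IsIntegral ℤ (m i / w i) ∧ m i ≠ 0 ∧ w i ≠ 0) {y : ℤ}
    (h : ∑ j ∈ Finset.range N, σ j (∑ i ∈ s, m i * conj (m i)) = N * y) :
    ((∑ i ∈ t, w i ^ 2 : ℕ) : ℤ) ≤ y := by
  classical
  set w' : ι → ℕ := fun i => if i ∈ t then w i else 1 with hw'
  have h0 : ∀ i, (w' i : ℂ) ≠ 0 := fun i => by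
    simp only [hw']; split_ifs with hi
    · exact Nat.cast_ne_zero.2 (hw i hi).2.2
    · simp
  have h1 : ∑ i ∈ Finset.range N ×ˢ s, ((w' i.2 ^ 2 : ℕ) : ℂ) *
      (σ i.1 (m i.2) / w' i.2 * conj (σ i.1 (m i.2) / w' i.2)) = N * y := by
    rw [← h, Finset.sum_product]
    refine Finset.sum_congr rfl fun j _ => ?_
    rw [map_sum]
    refine Finset.sum_congr rfl fun i hi => ?_
    have := h0 i
    rw [map_mul, map_div₀, map_natCast,
      show σ j (conj (m i)) = conj (σ j (m i)) from map_conj_of_mem_cyc (σ j).toRingHom (hm i hi)]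
    push_cast
    field_simp
  have hy : 0 ≤ y := by
    have := congrArg Complex.re h1
    simp only [Complex.mul_conj, ← Complex.ofReal_natCast, ← Complex.ofReal_mul,
      ← Complex.ofReal_sum, ← Complex.ofReal_intCast, Complex.ofReal_re] at this
    have h2 : (0 : ℝ) ≤ N * y := this ▸ Finset.sum_nonneg fun i _ =>
      mul_nonneg (Nat.cast_nonneg _) (Complex.normSq_nonneg _)
    exact_mod_cast nonneg_of_mul_nonneg_right h2 (Nat.cast_pos.2 (Nat.pos_of_ne_zero hN))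
  lift y to ℕ using hy
  have := sum_le_of_sum_mul_conj (Finset.range N ×ˢ s) (Finset.range N ×ˢ t)
    (Finset.product_subset_product_right hts) (fun i => w' i.2 ^ 2)
    (fun i => σ i.1 (m i.2) / w' i.2) (fun i hi => by
      have hi' := (Finset.mem_product.1 hi).2
      have := (hw _ hi').1.map_of_comp_eq (RingHom.id ℤ) (σ i.1).toRingHom (RingHom.ext_int _ _)
      simpa [hw', hi'] using this)
    (fun i hi => div_ne_zero ((map_ne_zero _).2 (hw _ (Finset.mem_product.1 hi).2).2.1) (h0 _))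
    (fun τ i hi => by
      simp only [map_div₀, map_natCast]
      exact congrArg (· / _) (map_conj_of_mem_cyc τ.toRingHom
        (map_mem_cyc (σ i.1).toRingHom (hm _ (Finset.mem_product.1 hi).2))))
    (N := N * y) (by rw [h1]; simp)
  rw [Finset.sum_product] at this
  dsimp only at this
  rw [Finset.sum_const, Finset.card_range, smul_eq_mul,
    Finset.sum_congr rfl fun i hi => show w' i ^ 2 = w i ^ 2 by simp [hw', hi]] at this
  exact_mod_cast Nat.le_of_mul_le_mul_left this (Nat.pos_of_ne_zero hN)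

variable {G : Type*} [Group G] [Fintype G] {M : Ideal AlgInt} [M.IsMaximal] {H : Subgroup G}
  [Fintype H] {x : G} {B : Set (IrrCharacter G)} {e : Set (IrrCharacter H)}

theorem ctr_mem_adjoin {p : ℕ} [Fact p.Prime] (hM : IsPModular p M) (hH : H = centralizer {x})
    (h : IsInducedBlock M H e B) {ζ : ℂ} {n : ℕ} (hζ : IsPrimitiveRoot ζ n) (hn : n ≠ 0)
    (hd : orderOf x ∣ n) (χ ψ : IrrCharacter G) : ctr p e x χ ψ ∈ Algebra.adjoin ℤ {ζ} := by
  classical
  haveI : NeZero n := ⟨hn⟩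
  obtain ⟨l, n, a, h1, -, h2, -⟩ := exists_ctr_eq hM hH h
  rw [h2]
  refine sum_mem fun ξ _ => sum_mem fun ξ' _ => mul_mem (intCast_mem _ _) ?_
  obtain ⟨c, rfl⟩ := hd
  obtain ⟨i, -, hi⟩ := hζ.eq_pow_of_pow_eq_one (ξ := l ξ * conj (l ξ'))
    (by rw [pow_mul, mul_pow, ← map_pow, h1, h1]; simp)
  exact hi ▸ pow_mem (Algebra.self_mem_adjoin_singleton ℤ ζ) i

theorem exists_two_avg [DecidablePred (· ∈ B)] (hM : IsPModular 2 M) (hH : H = centralizer {x})
    (hx : ∃ k, orderOf x = 2 ^ k) (h : IsInducedBlock M H e B) : ∃ y : IrrCharacter G → ℤ,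
    ∑ χ with χ ∈ B, y χ = 2 ^ blockDefect 2 e * blockRank 2 e ∧
    (∀ χ ∈ B, blockHeight 2 B χ.1 = 0 → Odd (y χ)) ∧
    (∀ χ, ∀ t ⊆ Finset.univ.filter (· ∈ B), ∀ w : IrrCharacter G → ℕ,
      (∀ ψ ∈ t, IsIntegral ℤ (ctr 2 e x χ ψ / w ψ) ∧ ctr 2 e x χ ψ ≠ 0 ∧ w ψ ≠ 0) →
      ((∑ ψ ∈ t, w ψ ^ 2 : ℕ) : ℤ) ≤ 2 ^ blockDefect 2 e * y χ) ∧
    (∀ χ ∈ B, ∀ t ⊆ Finset.univ.filter (· ∈ B), (∀ ψ ∈ t, ψ ≠ χ → ctr 2 e x χ ψ ≠ 0) →
      (χ ∈ t → ctr 2 e x χ χ ≠ 2 ^ blockDefect 2 e) →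
      (t.card : ℤ) ≤ 2 ^ blockDefect 2 e * (2 ^ blockDefect 2 e - y χ)) ∧
    (blockDefect 2 e = blockDefect 2 B → ∀ χ ∈ B, blockHeight 2 B χ.1 ≠ 0 →
      2 ^ (blockHeight 2 B χ.1 + 1) ∣ y χ) := by
  classical
  obtain ⟨k, hk⟩ := hx
  obtain ⟨ζ, σ, hζ, H1⟩ := exists_avg k
  have hN : (2 : ℂ) ^ k ≠ 0 := pow_ne_zero _ two_ne_zero
  have hm := ctr_mem_adjoin hM hH h hζ (by positivity) (hk ▸ pow_dvd_pow 2 k.le_succ)
  have hc := ctr_mem_cyc hM hH h
  choose y hy hy' using fun χ => H1 _ (hm χ χ) (conj_ctr χ χ)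
  refine ⟨y, ?_, fun χ hχ h0 => ?_, fun χ t ht w hw => ?_, fun χ hχ t ht h1 h2 => ?_,
    fun hd χ hχ h0 => ?_⟩
  · apply Int.cast_injective (α := ℂ)
    apply mul_left_cancel₀ hN
    push_cast
    rw [Finset.mul_sum, ← Finset.sum_congr rfl fun χ _ => hy χ, Finset.sum_comm]
    simp only [← map_sum, sum_ctr_self hM hH ⟨k, hk⟩ h]
    simp [map_ofNat]
  · rw [← Int.not_even_iff_odd, even_iff_two_dvd]
    intro h2
    refine ctr_notMem hM hH ⟨k, hk⟩ h hχ hχ h0 h0 ?_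
    simpa using (hy' χ M hM).add ((memLocalIdeal_intCast_iff hM _).2 h2)
  · refine sum_le_of_avg _ t ht (2 ^ k) (by positivity) σ _ (fun ψ _ => hc χ ψ) w hw ?_
    simp only [conj_ctr, sum_ctr_mul hM hH ⟨k, hk⟩ h, map_mul, map_pow, map_natCast,
      ← Finset.mul_sum, hy]
    push_cast; ring
  · have := sum_le_of_avg _ t ht (2 ^ k) (by positivity) σ
      (fun ψ => ctr 2 e x χ ψ - if ψ = χ then 2 ^ blockDefect 2 e else 0)
      (fun ψ _ => sub_mem (hc χ ψ) (by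
        split_ifs
        · exact pow_mem (ofNat_mem _ 2) _
        · exact zero_mem _)) (fun _ => 1) (fun ψ hψ => ⟨?_, ?_, one_ne_zero⟩)
      (y := 2 ^ blockDefect 2 e * (2 ^ blockDefect 2 e - y χ)) ?_
    · simpa using this
    · rw [Nat.cast_one, div_one]
      refine (isIntegral_of_mem_cyc (hc χ ψ)).sub ?_
      split_ifs
      · exact_mod_cast isIntegral_natCast (2 ^ blockDefect 2 e)
      · exact isIntegral_zero
    · split_ifs with h3
      · subst h3; exact sub_ne_zero.2 (h2 hψ)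
      · simpa using h1 ψ hψ h3
    · have h3 : ∑ ψ with ψ ∈ B, (ctr 2 e x χ ψ - if ψ = χ then 2 ^ blockDefect 2 e else 0) *
          conj (ctr 2 e x χ ψ - if ψ = χ then 2 ^ blockDefect 2 e else 0) =
          2 ^ blockDefect 2 e * (2 ^ blockDefect 2 e - ctr 2 e x χ χ) := by
        have := sum_ctr_mul hM hH ⟨k, hk⟩ h χ χ
        simp only [map_sub, conj_ctr, mul_sub, sub_mul, Finset.sum_sub_distrib, this, apply_ite conj,
          map_zero, map_pow, map_ofNat, mul_ite, ite_mul, mul_zero, zero_mul, Finset.sum_ite_eq',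
          Finset.mem_filter, Finset.mem_univ, true_and, hχ, if_true]
        push_cast; ring
      rw [h3]
      simp only [map_mul, map_pow, map_ofNat, map_sub, ← Finset.mul_sum,
        Finset.sum_sub_distrib, hy]
      simp; ring
  · obtain ⟨h1, h2⟩ := ctr_major hM hH ⟨k, hk⟩ h hd hχ hχ
    have h3 : ((2 : ℕ) : ℂ) ^ blockHeight 2 B χ.1 ≠ 0 := pow_ne_zero _ (by simp)
    obtain ⟨a, h4, h5⟩ := H1 _ (mem_adjoin_of_isIntegral hζ h1 (n := 2 ^ blockHeight 2 B χ.1)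
      (by positivity) (by rw [Nat.cast_pow, mul_div_cancel₀ _ h3]; exact hm χ χ))
      (by rw [map_div₀, conj_ctr, map_pow, map_natCast])
    have h6 : y χ = 2 ^ blockHeight 2 B χ.1 * a := by
      apply Int.cast_injective (α := ℂ)
      apply mul_left_cancel₀ hN
      simp only [map_div₀, map_pow, map_natCast, ← Finset.sum_div, hy] at h4
      rw [div_eq_iff h3] at h4
      rw [h4]; push_cast; ring
    rw [h6, pow_succ]
    refine mul_dvd_mul_left _ ((memLocalIdeal_intCast_iff hM _).1 ?_)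
    simpa using (h2.2 h0).sub (h5 M hM)

omit [Fintype G] [Fintype H] in
theorem major_defect {p : ℕ} [Fact p.Prime] [Finite G] (hM : IsPModular p M) {D : Subgroup G}
    (hD : IsDefectGroup p M B D) {z : G} (hzD : z ∈ D) (hzc : ∀ d ∈ D, d * z = z * d)
    {b : Set (IrrCharacter (centralizer ({z} : Set G)))}
    (hb : IsInducedBlock M (centralizer {z}) b B)
    (hbD : IsDefectGroup p M b (D.subgroupOf (centralizer {z}))) :
    (∃ k, orderOf z = p ^ k) ∧ blockDefect p b = blockDefect p B := by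
  have h1 := card_defectGroup hM hb.2.1 hD
  have h2 := card_defectGroup hM hb.1 hbD
  have h3 : D ≤ centralizer {z} := fun d hd => mem_centralizer_singleton_iff.2 (hzc d hd)
  rw [Nat.card_congr (subgroupOfEquivOfLe h3).toEquiv, h1] at h2
  refine ⟨?_, (Nat.pow_right_injective hM.1.two_le h2).symm⟩
  obtain ⟨k, -, hk⟩ := (Nat.dvd_prime_pow hM.1).1 (h1 ▸ orderOf_dvd_natCard D hzD)
  exact ⟨k, hk⟩

theorem ctr_major_ne {p : ℕ} [Fact p.Prime] (hM : IsPModular p M) (hH : H = centralizer {x})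
    (hx : ∃ k, orderOf x = p ^ k) (h : IsInducedBlock M H e B)
    (hd : blockDefect p e = blockDefect p B) {χ ψ : IrrCharacter G} (hχ : χ ∈ B) (hψ : ψ ∈ B)
    (h0 : blockHeight p B χ.1 = 0) : ctr p e x χ ψ ≠ 0 ∧ ctr p e x ψ χ ≠ 0 := by
  have : ctr p e x χ ψ ≠ 0 := fun h1 =>
    (ctr_major hM hH hx h hd hχ hψ).2.1 (by rw [h1, zero_div]; exact memLocalIdeal_zero) h0
  exact ⟨this, by rwa [← conj_ctr, map_ne_zero]⟩

end Cfsg.Lib.Small
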