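import Cfsg.Agent.Lib.Small.DadeH
import Cfsg.Agent.Lib.Small.TwoAvg

/-!
# Brauer's bound through the Cartan form of a subsection with cyclic quotient defect group
-/

set_option autoImplicit false
set_option linter.unusedSectionVars false

namespace Cfsg.Lib.Small

open Cfsg.Lib.Block Cfsg.Lib.Block2 Cfsg.Lib.Char Cfsg.Lib.Amalg MonoidAlgebra Subgroup
open scoped ComplexConjugate

variable {p : ℕ} [hp : Fact p.Prime] {M : Ideal AlgInt} [M.IsMaximal]

theorem two_le_card_ne {n : ℕ} (y : Fin (n + 1) → ℂ) [DecidablePred fun r => y r - y (r + 1) ≠ 0]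
    (h : ¬ ∀ i j, y i = y j) : 2 ≤ (Finset.univ.filter fun r => y r - y (r + 1) ≠ 0).card := by
  by_contra! h1
  obtain ⟨r₀, h2⟩ := Finset.card_le_one_iff_subset_singleton.1 (Nat.lt_succ_iff.1 h1)
  have h3 : ∀ r, r ≠ r₀ → y r - y (r + 1) = 0 := fun r hr => by_contra fun e =>
    hr (Finset.mem_singleton.1 (h2 (by simpa using e)))
  have h4 : ∑ r, (y r - y (r + 1)) = 0 := by
    rw [Finset.sum_sub_distrib, sub_eq_zero, ← Equiv.sum_comp (Equiv.addRight 1)]; rfl
  rw [Finset.sum_eq_single r₀ (fun r _ => h3 r) (by simp)] at h4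
  have h5 : ∀ r, y r = y 0 := fun r => by
    induction r using Fin.induction with
    | zero => rfl
    | succ i ih =>
      rw [← Fin.coeSucc_eq_succ, ← ih, eq_comm, ← sub_eq_zero]
      exact (eq_or_ne i.castSucc r₀).elim (fun e => e ▸ h4) (h3 _)
  exact h fun i j => (h5 i).trans (h5 j).symm

section lf

variable {H K : Type*} [Group H] [Fintype H] [Group K] [Fintype K]

variable (p) in
/-- lifting projective characters along a central extension -/
noncomputable def lf (f : H →* K) : (K → ℂ) →ₗ[ℂ] H → ℂ where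
  toFun F := (Nat.card f.ker : ℂ) • reg p fun h => F (f h)
  map_add' F F' := funext fun h => by by_cases e : p ∣ orderOf h <;> simp [e, mul_add]
  map_smul' c F := funext fun h => by by_cases e : p ∣ orderOf h <;> simp [e, mul_left_comm]

variable {f : H →* K} (hf : Function.Surjective f)
include hf

omit hp in
theorem card_eq_ker_mul : (Nat.card H : ℂ) = Nat.card f.ker * Nat.card K := by
  rw [← f.ker.card_mul_index, index_ker, MonoidHom.range_eq_top.2 hf, card_top, Nat.cast_mul]

theorem inner_lf (hk : IsPGroup p f.ker) (hC : f.ker ≤ center H) {F : K → ℂ}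
    (hF : ∀ g, p ∣ orderOf g → F g = 0) (F' : K → ℂ) :
    classInner (lf p f F) (lf p f F') = Nat.card f.ker * classInner F F' := by
  classical
  have h1 : ∑ h, lf p f F h * conj (lf p f F' h) = Nat.card f.ker ^ 2 * ∑ k, F k * conj (F' k) := by
    rw [← Finset.sum_filter_of_ne (p := fun h => ¬ p ∣ orderOf h) fun h _ e e' => e (by simp [lf, e']),
      ← Finset.sum_filter_of_ne (p := fun k : K => ¬ p ∣ orderOf k) fun k _ e e' => e (by simp [hF k e']),
      Finset.mul_sum]
    refine Finset.sum_bij (fun c _ => f c) (fun c hc => ?_) (fun c hc d hd e => ?_) (fun k hk' => ?_)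
      fun c hc => ?_
    · simpa using not_dvd_orderOf_map (by simpa using hc)
    · exact eq_of_regular_of_map_eq hk (by simpa using hd) (by simpa using hc)
        (fun z hz => (mem_center_iff.1 (hC hz) d).symm) e
    · obtain ⟨x, h, h'⟩ := exists_regular_lift hp.out hf (by simpa using hk')
      exact ⟨x, by simpa using h', h⟩
    · have : ¬ p ∣ orderOf c := by simpa using hc
      simp [lf, this]; ring
  have : (Nat.card f.ker : ℂ) ≠ 0 := Nat.cast_ne_zero.2 Nat.card_pos.ne'
  rw [classInner, classInner, h1, card_eq_ker_mul hf]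
  field_simp

theorem exists_int_lf (hM : IsPModular p M) {F : K → ℂ} (hF : IsGeneralizedCharacter K F)
    (h0 : ∀ g, p ∣ orderOf g → F g = 0) (ξ : IrrCharacter H) : ∃ n : ℤ, classInner (lf p f F) ξ.1 = n := by
  classical
  haveI := Fintype.ofFinite (ConjClasses H)
  obtain ⟨n, hn⟩ := exists_int_classInner_regular (p := p) (hF.comp f) ξ.2.isGeneralizedCharacter
  have h1 : MemLocalRing M (classInner (lf p f F) ξ.1) := by
    have h2 : IsClassFunction H fun h => lf p f F h * conj (ξ.1 h) := fun g h => by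
      simp only [lf, LinearMap.coe_mk, AddHom.coe_mk, Pi.smul_apply,
        isClassFunction_reg (hF.comp f).isClassFunction g h, ξ.2.isClassFunction g h]
    rw [classInner, h2.sum_eq_sum_conjClasses, Finset.mul_sum]
    refine memLocalRing_sum fun C _ => ?_
    by_cases e : p ∣ orderOf C.out
    · simpa [lf, e] using memLocalRing_zero
    obtain ⟨m, hm⟩ : (centralizer {f C.out}).index ∣ (centralizer {C.out}).index := by
      rw [← index_comap_of_surjective _ hf]
      exact index_dvd_of_le fun g hg => mem_centralizer_singleton_iff.2 (by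
        rw [← map_mul, mem_centralizer_singleton_iff.1 hg, map_mul])
    have h3 := (((oc_of_isGen hF).div_card hM h0 (f C.out)).mul (memLocalRing_natCast m)).mul
      (memLocalRing_of_isIntegral (ξ.2.isCharacter.isIntegral C.out⁻¹))
    have : (Nat.card f.ker : ℂ) ≠ 0 := Nat.cast_ne_zero.2 Nat.card_pos.ne'
    have : ((centralizer {f C.out}).index : ℂ) ≠ 0 := Nat.cast_ne_zero.2 index_ne_zero_of_finite
    convert h3 using 1
    rw [card_eq_ker_mul hf, hm, ← (centralizer {f C.out}).card_mul_index, ξ.2.isCharacter.apply_inv,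
      show lf p f F C.out = Nat.card f.ker * F (f C.out) from
        congrArg (_ * ·) (reg_of_not_dvd (fun h => F (f h)) e)]
    push_cast
    field_simp
  have hp0 : (p : ℂ) ^ (Nat.card H).factorization p ≠ 0 := pow_ne_zero _ (Nat.cast_ne_zero.2 hM.1.ne_zero)
  have h2 : classInner (lf p f F) ξ.1 = (Nat.card f.ker * n : ℤ) / p ^ (Nat.card H).factorization p := by
    rw [eq_div_iff hp0, Int.cast_mul, ← hn]
    simp only [lf, LinearMap.coe_mk, AddHom.coe_mk, classInner_smul_left]
    push_cast; ring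
  obtain ⟨m, hm⟩ := pow_dvd_of_memLocalRing hM _ (h2 ▸ h1)
  exact ⟨m, by rw [h2, hm]; push_cast; field_simp⟩

omit hp in
theorem lf_mem {e : Set (IrrCharacter H)} {ψ : IrrCharacter K} (h : ψ ∈ infl f hf ⁻¹' e) :
    lf p f ψ.1 ∈ VB p e := Submodule.smul_mem _ _ (reg_mem_VB (χ := infl f hf ψ) h)

end lf

variable (p) in
/-- the shape of a Brauer tree on the level of characters -/
structure TF {K : Type*} [Group K] (b : Set (IrrCharacter K)) (X Y : Finset (IrrCharacter K))
    (δ : IrrCharacter K → ℤ) (δ₀ : ℤ) : Prop where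
  subX : ∀ χ ∈ X, χ ∈ b
  subY : ∀ χ ∈ Y, χ ∈ b
  ne : X.Nonempty
  disj : Disjoint X Y
  sX : ∀ χ ∈ X, δ χ * δ χ = 1
  s0 : δ₀ * δ₀ = 1
  sing : ∀ χ ∈ X, ∀ g, p ∣ orderOf g → δ χ * χ.1 g = ∑ ψ ∈ Y, δ₀ * ψ.1 g
  rank : blockRank p b ≤ X.card

theorem DD.tf {G : Type*} [Group G] [Finite G] {B X Y : Finset (IrrCharacter G)} {A : Type*} [Group A]
    [Fintype A] [Nontrivial A] {E : Subgroup (MulAut A)} {d δ δ₀ μ} (h : DD p M B E d X Y δ δ₀ μ)
    (hE : Free E) (ab : ∀ u v : A, u * v = v * u) : TF p (B : Set (IrrCharacter G)) X Y δ δ₀ := by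
  refine ⟨fun _ => h.memX, fun _ => h.memY, h.nonemptyX, h.disj, fun _ => h.sq, h.sq0, fun χ hχ x hx => ?_,
    ((h.rank hE ab).trans h.cardX.symm).le⟩
  haveI := Fintype.ofFinite (A →* ℂˣ)
  obtain ⟨w, h1, -, h2⟩ := h.val x hx
  rw [Finset.sum_congr rfl fun ψ hψ => by rw [h2 ψ (h.memY hψ), Finset.mul_sum], Finset.sum_comm,
    h2 χ (h.memX hχ), Finset.mul_sum]
  refine Finset.sum_congr rfl fun u _ => ?_
  by_cases e : u = 1
  · simp [e, h1]
  have h5 : ∑ ψ ∈ Y, orb E (μ ψ) u = -1 :=
    (h.sum_Y hE fun l => l u).trans (by rw [sum_linear_apply ab e]; simp)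
  have h6 : (δ₀ : ℂ) * δ₀ = 1 := by exact_mod_cast h.sq0
  rw [Finset.sum_congr rfl (g := fun ψ => -orb E (μ ψ) u * w u) fun ψ hψ => by
    rw [h.dY ψ hψ u e]; linear_combination -orb E (μ ψ) u * w u * h6, ← Finset.sum_mul,
    Finset.sum_neg_distrib, h5, h.dX χ hχ u e, ← mul_assoc, ← Int.cast_mul, h.sq hχ]
  simp

theorem exists_TF {K : Type*} [Group K] [Finite K] (hM : IsPModular p M) {b : Set (IrrCharacter K)}
    (hb : IsPBlock M b) {D : Subgroup K} (hD : IsDefectGroup p M b D) (hcyc : IsCyclic D) :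
    ∃ X Y δ δ₀, TF p b X Y δ δ₀ ∧ X.card + Y.card ≤ Nat.card D := by
  by_cases h1 : D = ⊥
  · obtain ⟨χ, hχ⟩ := hb.nonempty
    have h2 := defectZero_of_blockDefect_eq_zero ((blockDefect_eq_zero_iff_bot hM hb hD).2 h1) hχ
    obtain rfl : b = {χ} := (hb.eq_blockOf hχ).trans (blockOf_eq_singleton_of_defectZero hM χ h2)
    exact ⟨{χ}, ∅, fun _ => 1, 1, ⟨by simp, by simp, by simp, by simp, by simp, rfl, by
      simpa using fun _ => apply_eq_zero_of_isBlockUnion_singleton hM hb.isBlockUnion,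
      (blockRank_singleton χ).le⟩, by simp [h1]⟩
  haveI := Fintype.ofFinite D
  haveI := (nontrivial_iff_ne_bot D).2 h1
  obtain ⟨ε, hm⟩ := (hD.defG_top hM hb).exists_maxP hM (blk_top_eB hb)
  obtain ⟨h2, -, B, rfl, d, X, Y, δ, δ₀, μ, h⟩ := exists_DD' hM hb h1 hcyc hm
  have ab := hcyc.isMulCommutative.is_comm.comm
  refine ⟨X, Y, δ, δ₀, h.tf h2 ab, ?_⟩
  have h3 := h.cardY h2 ab
  have h4 := Finite.one_lt_card (α := D)
  have h5 := h.nonemptyX.card_pos
  rw [← h.cardX] at h3
  obtain ⟨m, hm⟩ : ∃ m, Y.card = m + 1 := Nat.exists_eq_add_one.2 (Nat.pos_of_ne_zero fun e => by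
    rw [e] at h3; omega)
  obtain ⟨n, hn⟩ : ∃ n, X.card = n + 1 := Nat.exists_eq_add_one.2 h5
  rw [← h3, hm, hn]
  nlinarith

theorem blockRank_le_card {K : Type*} [Group K] [Finite K] (b : Set (IrrCharacter K)) :
    blockRank p b ≤ Nat.card b := by
  haveI := Fintype.ofFinite b
  rw [blockRank, Set.image_eq_range, Nat.card_eq_fintype_card]
  exact finrank_range_le_card _

universe u

theorem exists_major {G : Type*} [Group G] [Finite G] (hM : IsPModular p M) {B : Set (IrrCharacter G)}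
    (hB : IsPBlock M B) {D : Subgroup G} (hD : IsDefectGroup p M B D) {z : G} (hz : z ∈ D)
    (hc : D ≤ centralizer {z}) : ∃ b, IsInducedBlock M (centralizer {z}) b B ∧
      IsDefectGroup p M b (D.subgroupOf (centralizer {z})) := by
  obtain ⟨ε, hm⟩ := (hD.defG_top hM hB).exists_maxP hM (blk_top_eB hB)
  have h1 := hm.bp.sle_sp hM hz
  have h2 := (hm.cent_of_comm hM (by rwa [centralizer_zpowers_eq]) h1).defG
  have h3 := (hm.bpo.of_sle hM h1).ind hM
  rw [top_inf_eq, centralizer_zpowers_eq, ← h1.blk_cent.EB_bset] at h2 h3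
  exact ⟨_, h3.isInducedBlock h1.blk_cent.isPBlock_bset hB,
    (isDefectGroup_subgroupOf_iff hM h1.blk_cent.isPBlock_bset hc).2 h2⟩

theorem exists_quot {G : Type u} [Group G] [Finite G] (hM : IsPModular p M) {x : G}
    {e : Set (IrrCharacter (centralizer ({x} : Set G)))} (he : IsPBlock M e) {D : Subgroup G} (hx : x ∈ D)
    (hc : D ≤ centralizer {x}) (hD : IsDefectGroup p M e (D.subgroupOf (centralizer {x}))) :
    ∃ (K : Type u) (_ : Group K) (_ : Fintype K) (f : centralizer ({x} : Set G) →* K)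
      (hf : Function.Surjective f), IsPGroup p f.ker ∧ f.ker ≤ center _ ∧ f ⟨x, hc hx⟩ = 1 ∧
      IsPBlock M (infl f hf ⁻¹' e) ∧ IsDefectGroup p M (infl f hf ⁻¹' e) ((D.subgroupOf _).map f) ∧
      blockRank p (infl f hf ⁻¹' e) = blockRank p e ∧ Nat.card f.ker = orderOf x ∧
      orderOf x * Nat.card ((D.subgroupOf _).map f) = Nat.card D := by
  let Z := zpowers (⟨x, hc hx⟩ : centralizer ({x} : Set G))
  have h1 : Z ≤ center _ := zpowers_le.2 (mem_center_iff.2 fun g =>
    Subtype.ext (mem_centralizer_singleton_iff.1 g.2))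
  haveI : Z.Normal := ⟨fun n hn g => by rwa [mem_center_iff.1 (h1 hn) g, mul_inv_cancel_right]⟩
  have hf := QuotientGroup.mk'_surjective Z
  have e1 := QuotientGroup.ker_mk' Z
  have h2 : Z ≤ D.subgroupOf _ := zpowers_le.2 hx
  have h3 : IsPGroup p (QuotientGroup.mk' Z).ker := e1.symm ▸ hD.isPGroup.to_le h2
  have h4 : PQuo p (𝐂 (QuotientGroup.mk' Z).ker) ⊤ := fun g _ =>
    ⟨0, fun z hz => by simpa using (mem_center_iff.1 (h1 (e1.le hz)) g).symm⟩
  have h5 := isPBlock_preimage_infl_of_pquo hf hM h3 h4 he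
  have h6 : Nat.card (QuotientGroup.mk' Z).ker = orderOf x := by
    rw [e1, Nat.card_zpowers, ← orderOf_coe]
  refine ⟨_, _, Fintype.ofFinite _, _, hf, h3, e1.le.trans h1, e1.ge (mem_zpowers _), h5,
    isDefectGroup_preimage_infl hf hM h3 he h5 hD,
    blockRank_preimage_infl_of_pquo hf hM h3 h4 he.isBlockUnion, h6, ?_⟩
  refine Nat.eq_of_mul_eq_mul_right (Nat.pos_of_ne_zero (index_ne_zero_of_finite
    (H := D.subgroupOf (centralizer {x})))) ?_
  rw [← Nat.card_congr (subgroupOfEquivOfLe hc).toEquiv, card_mul_index, ← index_map_eq _ hf (e1.le.trans h2),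
    mul_assoc, card_mul_index, ← h6, e1, mul_comm, ← card_eq_card_quotient_mul_card_subgroup]

variable {G : Type*} [Group G] [Fintype G] {H : Subgroup G} [Fintype H] {x : G}
  {B : Set (IrrCharacter G)} {e : Set (IrrCharacter H)}

theorem TF.card_le (hM : IsPModular p M) (hH : H = centralizer {x}) (hx : ∃ k, orderOf x = p ^ k)
    (h : IsInducedBlock M H e B) {K : Type*} [Group K] [Fintype K] {f : H →* K}
    (hf : Function.Surjective f) (hk : IsPGroup p f.ker) (hC : f.ker ≤ center H) {X Y δ δ₀}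
    (T : TF p (infl f hf ⁻¹' e) X Y δ δ₀) {S : Finset (IrrCharacter G)}
    (hS : ∀ χ ∈ S, χ ∈ B ∧ fsub p e x χ.1 ≠ 0) : S.card ≤ Nat.card f.ker * (X.card + Y.card) := by
  classical
  let Φ : Option X → K → ℂ := fun i => i.elim (∑ ψ ∈ Y, (δ₀ : ℂ) • ψ.1) fun χ => (δ χ : ℂ) • χ.1.1
  let w : Option X → ℕ := fun i => i.elim Y.card fun _ => 1
  have h0 : (δ₀ : ℂ) * δ₀ = 1 := by exact_mod_cast T.s0
  have hXY : ∀ χ : X, χ.1 ∉ Y := fun χ => Finset.disjoint_left.1 T.disj χ.2
  have h1 : ∀ i j, classInner (Φ i) (Φ j) = if i = j then w i else 0 := by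
    rintro (_ | χ) (_ | ψ)
    · simp +contextual [Φ, w, classInner_sum_left, classInner_sum_right, classInner_smul_left,
        classInner_smul_right, classInner_irr, h0]
    · simp [Φ, classInner_sum_left, classInner_smul_left, classInner_smul_right, classInner_irr, hXY]
    · simp [Φ, classInner_sum_right, classInner_smul_left, classInner_smul_right, classInner_irr, hXY]
    · have : (δ χ : ℂ) * δ χ = 1 := by exact_mod_cast T.sX χ χ.2
      by_cases e : χ = ψ
      · simp [Φ, w, classInner_smul_left, classInner_smul_right, classInner_irr, ← e, this]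
      · simp [Φ, classInner_smul_left, classInner_smul_right, classInner_irr, e, Subtype.ext_iff.not.1 e]
  have h2 : ∀ i j g, p ∣ orderOf g → (Φ i - Φ j) g = 0 := fun i j g hg => by
    have : ∀ i, Φ i g = Φ none g := by
      rintro (_ | χ)
      · rfl
      · simpa [Φ] using T.sing χ χ.2 g hg
    rw [Pi.sub_apply, this i, this j, sub_self]
  have h3 : ∀ i, lf p f (Φ i) ∈ VB p e := by
    rintro (_ | χ)
    · simp only [Φ, Option.elim, map_sum, map_smul]
      exact Submodule.sum_mem _ fun ψ hψ => Submodule.smul_mem _ _ (lf_mem hf (T.subY ψ hψ))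
    · simp only [Φ, Option.elim, map_smul]
      exact Submodule.smul_mem _ _ (lf_mem hf (T.subX χ χ.2))
  have h3' : ∀ i j, lf p f (Φ i - Φ j) ∈ VB p e := fun i j => by
    rw [map_sub]; exact sub_mem (h3 i) (h3 j)
  have h4 : ∀ i, IsGeneralizedCharacter K (Φ i) := by
    rintro (_ | χ)
    · exact isGeneralizedCharacter_sum _ fun ψ _ => by
        simpa only [Int.cast_smul_eq_zsmul] using ψ.2.isGeneralizedCharacter.zsmul δ₀
    · simpa only [Φ, Option.elim, Int.cast_smul_eq_zsmul] using χ.1.2.isGeneralizedCharacter.zsmul (δ χ)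
  obtain ⟨l, n, hl, -, hn⟩ := exists_fsub_eq (G := G) (e := e) hH
  have h5 : ∀ i j (χ : IrrCharacter G), classInner (lf p f (Φ i - Φ j)) (fsub p e x χ.1) ∈ cyc := by
    intro i j χ
    rw [fsub, classInner_reg_right, (VB_spec hM h.1.isBlockUnion (h3' i j)).1, hn, classInner_sum_right]
    refine sum_mem fun ξ _ => ?_
    obtain ⟨m, hm⟩ := exists_int_lf hf hM ((h4 i).sub (h4 j)) (h2 i j) ξ
    rw [classInner_smul_right, hm]
    exact mul_mem (conj_mem_cyc (mul_mem (natCast_mem _ _) (mem_cyc_of_pow (orderOf_pos x).ne' (hl ξ))))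
      (intCast_mem _ _)
  have hc : (Nat.card f.ker : ℂ) ≠ 0 := Nat.cast_ne_zero.2 Nat.card_pos.ne'
  have h6 : Submodule.span ℂ (Set.range fun χ : X => lf p f (Φ (some χ) - Φ none)) = VB p e := by
    refine Submodule.eq_of_le_of_finrank_le (Submodule.span_le.2 (Set.range_subset_iff.2 fun χ => h3' _ _)) ?_
    rw [finrank_span_eq_card, Fintype.card_coe, ← blockRank_eq, ← blockRank_preimage_infl_of_pquo hf hM hk
      (fun g _ => ⟨0, fun z hz => by simpa using (mem_center_iff.1 (hC hz) g).symm⟩) h.1.isBlockUnion]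
    · exact T.rank
    refine Fintype.linearIndependent_iff.2 fun a ha χ => ?_
    have := congrArg (classInner · (lf p f (Φ (some χ)))) ha
    simpa [-map_sub, classInner_sum_left, classInner_smul_left, inner_lf hf hk hC (h2 _ _),
      classInner_sub_left, h1, w, classInner_zero_left, hc, -Nat.card_eq_fintype_card, -MonoidHom.mem_ker]
      using this
  obtain ⟨N, hN⟩ : ∃ N, Fintype.card (Option X) = N + 2 := by
    have := T.ne.card_pos
    exact ⟨X.card - 1, by simp; omega⟩
  let ε := (Fintype.equivFinOfCardEq hN).symm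
  let α : IrrCharacter G × Fin (N + 2) → ℂ := fun i =>
    classInner (lf p f (Φ (ε i.2) - Φ (ε (i.2 + 1)))) (fsub p e x i.1.1)
  have h7 := sum_le_of_sum_mul_conj (Finset.univ.filter (· ∈ B) ×ˢ Finset.univ) _
    (Finset.filter_subset (α · ≠ 0) _) (fun _ => 1) α (fun i _ => isIntegral_of_mem_cyc (h5 _ _ _))
    (fun i hi => (Finset.mem_filter.1 hi).2) (fun σ i _ => map_conj_of_mem_cyc σ.toRingHom (h5 _ _ _))
    (N := 2 * (Nat.card f.ker * (X.card + Y.card))) (by
      have : ∀ r : Fin (N + 2), r ≠ r + 1 := fun r => by simp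
      simp only [Finset.sum_product_right, α, conj_classInner, Nat.cast_one, one_mul,
        parseval_subsec hM h.2.1.isBlockUnion hH hx h.1.isBlockUnion (subset_under h) (h3' _ _) (h3' _ _),
        inner_lf hf hk hC (h2 _ _), classInner_sub_left, classInner_sub_right, h1, if_true,
        ε.injective.eq_iff, this, (this _).symm, if_false, ← Finset.mul_sum, sub_zero, zero_sub,
        sub_neg_eq_add, Finset.sum_add_distrib, Nat.cast_zero]
      rw [show ∑ r, (w (ε (r + 1)) : ℂ) = _ from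
        Equiv.sum_comp (Equiv.addRight (1 : Fin (N + 2))) fun r => (w (ε r) : ℂ),
        Equiv.sum_comp ε fun i => (w i : ℂ)]
      simp [w]; ring)
  rw [← Finset.card_eq_sum_ones, Finset.card_filter, Finset.sum_product] at h7
  refine Nat.le_of_mul_le_mul_left (le_trans ?_ h7) two_pos
  rw [mul_comm, ← smul_eq_mul, ← Finset.sum_const]
  refine (Finset.sum_le_sum fun χ hχ => ?_).trans (Finset.sum_le_sum_of_subset fun χ hχ => by
    simpa using (hS χ hχ).1)
  rw [← Finset.card_filter]
  have := two_le_card_ne (fun r => classInner (lf p f (Φ (ε r))) (fsub p e x χ.1)) fun hy => (hS χ hχ).2 ?_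
  · simpa only [α, map_sub, classInner_sub_left] using this
  obtain ⟨c, hc⟩ := (Submodule.mem_span_range_iff_exists_fun ℂ).1 (h6.ge (fsub_mem (x := x) χ.1))
  rw [← classInner_self_eq_zero]
  nth_rw 1 [← hc]
  rw [classInner_sum_left]
  refine Finset.sum_eq_zero fun ψ _ => ?_
  have := hy (ε.symm (some ψ)) (ε.symm none)
  simp only [Equiv.apply_symm_apply] at this
  rw [classInner_smul_left, map_sub, classInner_sub_left, this, sub_self, mul_zero]

theorem card_le_of_two_gen (hM : IsPModular p M) {e : Set (IrrCharacter (centralizer ({x} : Set G)))}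
    [Fintype (centralizer ({x} : Set G))] (h : IsInducedBlock M _ e B) {D : Subgroup G} {y : G}
    (hc : D ≤ centralizer {x}) (hD : IsDefectGroup p M e (D.subgroupOf (centralizer {x})))
    (hy : D = closure {x, y}) {S : Finset (IrrCharacter G)} (hS : ∀ χ ∈ S, χ ∈ B ∧ fsub p e x χ.1 ≠ 0) :
    S.card ≤ Nat.card D := by
  have hx : x ∈ D := hy.ge (subset_closure (by simp))
  have hy' : y ∈ D := hy.ge (subset_closure (by simp))
  obtain ⟨K, _, _, f, hf, h1, h2, h3, h4, h5, -, h6, h7⟩ := exists_quot hM h.1 hx hc hD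
  have h8 : (D.subgroupOf _).map f ≤ zpowers (f ⟨y, hc hy'⟩) := by
    rintro _ ⟨⟨g, hg⟩, h9, rfl⟩
    replace h9 : g ∈ closure {x, y} := hy.le h9
    induction h9 using closure_induction with
    | mem g h => rcases h with rfl | rfl <;> simp [h3]
    | one => exact (map_one f).symm ▸ one_mem _
    | mul a b ha hb h h' => exact (map_mul f ⟨a, hc (hy.ge ha)⟩ ⟨b, hc (hy.ge hb)⟩) ▸ mul_mem (h _) (h' _)
    | inv a ha h => exact (map_inv f ⟨a, hc (hy.ge ha)⟩) ▸ inv_mem (h _)
  obtain ⟨X, Y, δ, δ₀, T, h9⟩ := exists_TF hM h4 h5 (isCyclic_of_le h8)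
  exact (T.card_le hM rfl (exists_orderOf_of_mem_isPGroup hM.1 ((isPGroup_subgroupOf_iff hc).1 hD.isPGroup) hx)
    h hf h1 h2 hS).trans (by rw [h6, ← h7]; exact Nat.mul_le_mul_left _ h9)

omit [Fintype G] in
theorem card_le_of_comm_two [Finite G] (hM : IsPModular p M) (hB : IsPBlock M B) {D : Subgroup G}
    (hD : IsDefectGroup p M B D) {x y : G} (hxy : Commute x y) (h : D = closure {x, y}) :
    Nat.card B ≤ Nat.card D := by
  classical
  haveI := Fintype.ofFinite G
  have hx : x ∈ D := h.ge (subset_closure (by simp))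
  have hc : D ≤ centralizer {x} := h.le.trans ((closure_le _).2 (by
    rintro _ (rfl | rfl) <;> simp [mem_centralizer_singleton_iff, hxy.eq]))
  obtain ⟨b, h1, h2⟩ := exists_major hM hB hD hx hc
  obtain ⟨h3, h4⟩ := major_defect hM hD hx (fun d hd => mem_centralizer_singleton_iff.1 (hc hd)) h1 h2
  obtain ⟨χ₀, h5, h6⟩ := exists_blockHeight_eq_zero (p := p) hB.nonempty
  rw [card_block_eq]
  refine card_le_of_two_gen hM h1 hc h2 h fun χ hχ => ⟨by simpa using hχ, fun e => ?_⟩
  exact (ctr_major_ne hM rfl h3 h1 h4 h5 (by simpa using hχ) h6).1 (by rw [ctr, e, classInner_zero_right, mul_zero])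

theorem card_le_mul_rank (hM : IsPModular p M) (hH : H = centralizer {x}) (hx : ∃ k, orderOf x = p ^ k)
    (h : IsInducedBlock M H e B) (hd : blockDefect p e = blockDefect p B) :
    Nat.card B ≤ p ^ blockDefect p e * blockRank p e := by
  classical
  obtain ⟨χ₀, h5, h6⟩ := exists_blockHeight_eq_zero (p := p) h.2.1.nonempty
  have hN : (p : ℂ) ^ blockDefect p e ≠ 0 := pow_ne_zero _ (Nat.cast_ne_zero.2 hM.1.ne_zero)
  have := sum_le_of_totally_nonneg (Finset.univ.filter (· ∈ B)) (fun _ => 1) (fun χ => ctr p e x χ χ)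
    (fun χ _ => isIntegral_of_mem_cyc (ctr_mem_cyc hM hH h _ _)) (fun χ hχ e' => ?_) (fun σ χ _ => ?_)
    (N := (p ^ blockDefect p e * blockRank p e : ℕ)) fun σ => by
      simp only [Nat.cast_one, one_mul, sum_ctr_self hM hH hx h, map_mul, map_pow, map_natCast]
      norm_cast
  · rw [card_block_eq, Finset.card_eq_sum_ones]; exact_mod_cast this
  · refine (ctr_major_ne hM hH hx h hd h5 (by simpa using hχ) h6).1 ?_
    rw [ctr, classInner_self_eq_zero.1 ((mul_eq_zero.1 e').resolve_left hN), classInner_zero_right, mul_zero]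
  · refine ⟨(∑ ψ with ψ ∈ B, ‖σ (ctr p e x χ ψ)‖ ^ 2) / p ^ blockDefect p e, by positivity, ?_⟩
    have h1 := congrArg σ (sum_ctr_mul hM hH hx h χ χ)
    rw [map_sum, map_mul, map_pow, map_natCast] at h1
    push_cast
    rw [eq_div_iff hN, mul_comm, ← h1]
    refine Finset.sum_congr rfl fun ψ _ => ?_
    rw [map_mul, ← conj_ctr χ ψ, ← Complex.mul_conj']
    exact congrArg _ (map_conj_of_mem_cyc σ.toRingHom (ctr_mem_cyc hM hH h _ _))

omit [Fintype G] in
theorem exists_two_gen [Finite G] {D : Subgroup G} (hD : Nat.card D ∣ p ^ 2) (hx : x ∈ D) (h1 : x ≠ 1) :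
    ∃ y, D = closure {x, y} := by
  by_cases h : D ≤ zpowers x
  · exact ⟨x, by rw [Set.pair_eq_singleton, ← zpowers_eq_closure]; exact le_antisymm h (zpowers_le.2 hx)⟩
  obtain ⟨y, hy, hy'⟩ := SetLike.not_le_iff_exists.1 h
  have h2 : closure {x, y} ≤ D := (closure_le _).2 (by rintro _ (rfl | rfl) <;> assumption)
  have h3 : zpowers x ≤ closure {x, y} := zpowers_le.2 (subset_closure (by simp))
  obtain ⟨j, hj, e⟩ := (Nat.dvd_prime_pow hp.out).1 ((card_dvd_of_le h2).trans hD)
  obtain ⟨i, -, e'⟩ := (Nat.dvd_prime_pow hp.out).1 (e ▸ card_dvd_of_le h3)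
  have h4 : i ≠ 0 := fun h => h1 (by simpa [h] using e')
  have h5 : ¬ j ≤ i := fun h => hy' ((eq_of_le_of_card_ge h3 (by
    rw [e, e']; exact Nat.pow_le_pow_right hp.out.pos h)).ge (subset_closure (by simp)))
  refine ⟨y, (eq_of_le_of_card_ge h2 ?_).symm⟩
  rw [e, show j = 2 by omega]
  exact Nat.le_of_dvd (pow_pos hp.out.pos _) hD

omit [Fintype G] in
theorem commute_of_card_dvd_sq [Finite G] {D : Subgroup G} (hD : Nat.card D ∣ p ^ 2) {y : G} (hx : x ∈ D)
    (hy : y ∈ D) : Commute x y := by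
  obtain ⟨j, hj, e⟩ := (Nat.dvd_prime_pow hp.out).1 hD
  suffices (⟨x, hx⟩ : D) * ⟨y, hy⟩ = ⟨y, hy⟩ * ⟨x, hx⟩ from congrArg Subtype.val this
  interval_cases j
  · exact (Nat.card_eq_one_iff_unique.1 e).1.elim _ _
  · exact (isCyclic_of_prime_card (e.trans (pow_one p))).isMulCommutative.is_comm.comm _ _
  · exact (IsPGroup.isMulCommutative_of_card_eq_prime_sq e).is_comm.comm _ _

omit [Fintype G] in
theorem card_le_of_dvd_sq [Finite G] (hM : IsPModular p M) (hB : IsPBlock M B) {D : Subgroup G}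
    (hD : IsDefectGroup p M B D) (h : Nat.card D ∣ p ^ 2) : Nat.card B ≤ Nat.card D := by
  by_cases h1 : D = ⊥
  · exact card_le_of_comm_two hM hB hD (Commute.refl 1)
      (by rw [h1, Set.pair_eq_singleton, closure_singleton_one])
  obtain ⟨x, hx⟩ := ne_bot_iff_exists_ne_one.1 h1
  obtain ⟨y, hy⟩ := exists_two_gen h x.2 (by simpa using hx)
  exact card_le_of_comm_two hM hB hD (commute_of_card_dvd_sq h x.2 (hy.ge (subset_closure (by simp)))) hy

end Cfsg.Lib.Small
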