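import Cfsg.Agent.Lib.Small.DadeH
import Cfsg.Agent.Lib.Block2.Major

/-!
# Nilpotent blocks with abelian defect group and blocks with Klein four defect group
-/

set_option autoImplicit false
set_option linter.unusedSectionVars false

namespace Cfsg.Lib.Small

open Cfsg.Lib.Block Cfsg.Lib.Block2 Cfsg.Lib.Char Cfsg.Lib.Amalg MonoidAlgebra Subgroup
open scoped ComplexConjugate

variable {G : Type*} [Group G] [Finite G] {p : ℕ} [hp : Fact p.Prime] {M : Ideal AlgInt} [M.IsMaximal]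
  {B : Finset (IrrCharacter G)} {P : Subgroup G} {ε : MonoidAlgebra (resField M) G}

theorem inE_push {H : Subgroup G} (hN : 𝐍 P ≤ H) (ε : MonoidAlgebra (resField M) H) :
    inE (P.subgroupOf H) ε = (inE P (push H.subtype ε)).comap
      (MulAut.congr (subgroupOfEquivOfLe (le_normalizer.trans hN))).toMonoidHom := by
  have e1 : (P.subgroupOf H).map H.subtype = P := by
    rw [subgroupOf_map_subtype, inf_eq_left.2 (le_normalizer.trans hN)]
  have e2 : ∀ t : H, t ∈ stabP ⊤ (P.subgroupOf H) ε ↔ (t : G) ∈ stabP ⊤ P (push H.subtype ε) := fun t => by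
    rw [← mem_stabP_push H.subtype_injective, e1, mem_stabP, mem_stabP]
    exact and_congr_left' (iff_of_true (mem_map_of_mem _ trivial) trivial)
  ext α
  rw [mem_comap, mem_inE, mem_inE]
  refine ⟨fun ⟨t, h1, h2⟩ => ⟨t, (e2 t).1 h1, fun u => congrArg Subtype.val (h2 _)⟩, fun ⟨t, h1, h2⟩ =>
    ⟨⟨t, hN (stabP_le_norm h1)⟩, (e2 _).2 h1, fun u => Subtype.ext (h2 ⟨u, u.2⟩)⟩⟩

theorem maxP_push_of_ind (hM : IsPModular p M) {H : Subgroup G} (hN : 𝐍 P ≤ H)
    {c : Set (IrrCharacter H)} {B : Set (IrrCharacter G)} (hc : IsInducedBlock M H c B)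
    (hP : IsDefectGroup p M B P) {ε : MonoidAlgebra (resField M) H}
    (hm : MaxP p ⊤ (eB M c) (P.subgroupOf H) ε) : MaxP p ⊤ (eB M B) P (push H.subtype ε) := by
  have hC : 𝐂 P ≤ H := (centralizer_le_normalizer _).trans hN
  have h2 := (bpo_push_iff H.subtype_injective).2 hm.bpo
  rw [subgroupOf_map_subtype, inf_eq_left.2 (le_normalizer.trans hN), map_subtype_top, push_subtype] at h2
  have h3 := (h2.ind hM).trans hc.ind
  rw [inf_eq_right.2 hC, ← top_inf_eq (𝐂 P)] at h3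
  exact ⟨(h2.bp.of_ge (inf_le_right.trans hC) le_top).bpo_of_ind hM h3, hP.defG_top hM hc.2.1⟩

theorem exists_DD_nil (hM : IsPModular p M) (hB : IsPBlock M (B : Set (IrrCharacter G))) [Fintype P]
    [Nontrivial P] (hP : P ≤ 𝐂 P) (hm : MaxP p ⊤ (eB M (B : Set (IrrCharacter G))) P ε) (hE : inE P ε = ⊥) :
    ∃ d X Y δ δ₀ μ, DD p M B (inE P ε) d X Y δ δ₀ μ := by
  classical
  haveI := Fintype.ofFinite G
  haveI := Fintype.ofFinite (P →* ℂˣ)
  have ab : ∀ u v : P, u * v = v * u := fun u v => Subtype.ext (hP v.2 u u.2)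
  obtain ⟨θ₀, h₀⟩ := hB.nonempty
  obtain ⟨θ, hθ, -⟩ := exists_NA hM hB hm ((hm.nilB_iff_of_comm hM hP).2 (relIndex_eq_one.1 (by
    rw [← card_inE, hE, card_bot]))) ab (MulEquiv.refl P) h₀
  choose n hn using fun (χ : IrrCharacter G) l => χ.2.isCharacter.classInner_nat (θ l).2.isCharacter
  have hF : FD p B P ε fun χ u => ∑ l, classInner χ.1 (θ l).1 * l u := by
    refine ⟨hB, hm, hP, fun χ u => IsIntegral.sum _ fun l _ => ?_, fun χ u => ?_,
      fun χ _ ψ _ u _ => hθ.con_any hM χ.2.isClassFunction ψ.2.isClassFunction u, fun χ α hα u => ?_⟩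
    · exact (hn χ l ▸ isIntegral_natCast _).mul ((isIrrCharacter_linear l).isCharacter.isIntegral u)
    · simp only [map_sum, map_mul, hn, map_natCast, ← (isIrrCharacter_linear _).isCharacter.apply_inv]
    · rw [mem_bot.1 (hE.le hα)]; rfl
  refine ⟨_, (hF.ad hM).exists_DD (fun α hα _ _ _ => mem_bot.1 (hE.le hα)) ab fun χ hχ => ⟨1, .inl rfl, ?_⟩⟩
  obtain ⟨k, rfl⟩ := (hθ.mem χ).1 hχ
  simp only [classInner_irr, hθ.inj.eq_iff, ite_mul, one_mul, zero_mul, Finset.sum_ite_eq, Finset.mem_univ,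
    if_true, Int.cast_one]
  by_cases e : k = 1
  · exact .inl fun u _ => by simp [e]
  · exact .inr ⟨k, e, fun u _ => by rw [hE, orb, finsum_unique]; rfl⟩

theorem LP.of_free (hM : IsPModular p M) {β : MonoidAlgebra (resField M) G} (hm : MaxP p ⊤ β P ε)
    (hP : P ≤ 𝐂 P) (hE : Free (inE P ε)) {u : P} (hu : u ≠ 1) :
    LP p β P ε (zpowers (u : G)) (sp p P ε u) := by
  refine ⟨hm, hP, hm.bp.sle_sp hM u.2, fun t ht h v hv => ?_⟩
  obtain ⟨α, h1, h2⟩ := exists_inE ht
  have := h2 ⟨v, hv⟩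
  rw [hE α h1 u hu (Subtype.ext (by rw [h2, ← h _ (mem_zpowers _), mul_inv_cancel_right]))] at this
  exact eq_mul_inv_iff_mul_eq.1 this

theorem exists_DD_klein (hM : IsPModular 2 M) (hB : IsPBlock M (B : Set (IrrCharacter G))) [Fintype P]
    (hV : IsKleinFour P) (hm : MaxP 2 ⊤ (eB M (B : Set (IrrCharacter G))) P ε) :
    Free (inE P ε) ∧ (Nat.card (inE P ε) = 1 ∨ Nat.card (inE P ε) = 3) ∧
      ∃ d X Y δ δ₀ μ, DD 2 M B (inE P ε) d X Y δ δ₀ μ := by
  classical
  haveI := Fintype.ofFinite G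
  haveI := Fintype.ofFinite (P →* ℂˣ)
  haveI := IsKleinFour.isMulCommutative (G := P)
  have hP : P ≤ 𝐂 P := le_centralizer P
  have h4 := hV.card_four
  haveI : Nontrivial P := Finite.one_lt_card_iff_nontrivial.1 (by omega)
  have h3 : Nat.card (inE P ε) ∣ 3 := by
    have h1 := hm.not_dvd hM
    rw [top_inf_eq, sup_eq_right.2 hP, ← card_inE] at h1
    have h2 := (card_subgroup_dvd_card (inE P ε)).trans
      (card_dvd_of_injective (MulAut.toPerm P) MulEquiv.toEquiv_injective)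
    rw [Nat.card_perm, h4] at h2
    exact (((Nat.prime_two.coprime_iff_not_dvd.2 h1).symm.pow_right 3).dvd_mul_left (n := 3)).1 h2
  have hE : Free (inE P ε) := fun α hα u hu e => by
    have h1 : α ^ 3 = 1 := congrArg Subtype.val
      (orderOf_dvd_iff_pow_eq_one.1 ((_root_.orderOf_dvd_natCard (⟨α, hα⟩ : inE P ε)).trans h3))
    have h2 : α * α = 1 := MulEquiv.ext fun w => by
      show α (α w) = w
      by_cases a : α w = w
      · rw [a, a]
      have b : w ≠ 1 := fun b => a (by rw [b, map_one])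
      have c : u ≠ w := fun c => a (c ▸ e)
      have d := IsKleinFour.eq_mul_of_ne_all hu b c (by simpa using b) (fun d => c (α.injective (e.trans d.symm))) a
      rw [d, map_mul, e, d, ← mul_assoc, IsKleinFour.mul_self, one_mul]
    rwa [pow_succ, sq, h2, one_mul] at h1
  have h5 := (Nat.dvd_prime Nat.prime_three).1 h3
  refine ⟨hE, h5, h5.elim (fun h => exists_DD_nil hM hB hP hm (card_eq_one.1 h)) fun h => ?_⟩
  obtain ⟨u₀, hu₀⟩ := exists_ne (1 : P)
  have hL := LP.of_free hM hm hP hE hu₀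
  obtain ⟨θ₀, h₀⟩ := hL.blk.nonempty
  obtain ⟨θ, hθ, -⟩ := hL.exists_NA hM h₀
  haveI := Fintype.ofFinite (𝐂 (zpowers (u₀ : G)))
  have h6 : ∀ χ : IrrCharacter G, ∃ n : ℤ,
      ∑ l, classInner (fun c : 𝐂 (zpowers (u₀ : G)) => χ.1 c) (θ l).1 * l u₀ = n := fun χ => by
    refine (Subring.mem_bot.1 (sum_mem fun l _ => mul_mem ?_ ?_)).imp fun _ => Eq.symm
    · obtain ⟨n, hn⟩ := (χ.2.isCharacter.restrict _).classInner_nat (θ l).2.isCharacter
      exact hn ▸ natCast_mem _ _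
    · rcases mul_self_eq_one_iff.1 (show (l u₀ : ℂ) * l u₀ = 1 by
        rw [← Units.val_mul, ← map_mul, IsKleinFour.mul_self]; simp) with a | a <;> simp [a]
  choose n hn using h6
  have hF : FD 2 B P ε fun χ _ => n χ := by
    refine ⟨hB, hm, hP, fun χ _ => isIntegral_intCast _, fun χ u => by simp, fun χ _ ψ _ u hu => ?_,
      fun _ _ _ _ => rfl⟩
    obtain ⟨α, hα⟩ : ∃ α : inE P ε, α.1 u₀ = u := by
      have := (Function.Injective.bijective_of_nat_card_le
        (f := fun α : inE P ε => (⟨α.1 u₀, by simpa using hu₀⟩ : {v : P // v ≠ 1})) (fun α β e => (inv_mul_eq_one.1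
          (Subtype.ext (hE _ (β⁻¹ * α).2 u₀ hu₀ (by simpa [MulEquiv.symm_apply_eq] using e)))).symm) (by
           rw [h, Nat.card_eq_fintype_card, Fintype.card_subtype_compl, ← Nat.card_eq_fintype_card,
            h4]; simp)).2 ⟨u, hu⟩
      exact this.imp fun _ => congrArg Subtype.val
    obtain ⟨t, h7, h8⟩ := mem_inE.1 α.2
    rw [← hα, h8, (hm.bp.fCj_of_stab hM u₀.2 h7).con_eq hM χ.2.isClassFunction ψ.2.isClassFunction,
      hL.con_eq hM hθ (centralizer_zpowers_eq _).ge χ.2.isClassFunction ψ.2.isClassFunction, hn, hn]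
  have hA := hF.ad hM
  refine ⟨_, hA.exists_DD hE hL.comm fun χ hχ => ⟨n χ, ?_, .inl fun _ _ => rfl⟩⟩
  have h7 := hA.orth u₀ u₀ hu₀ ⟨1, one_mem _, rfl⟩
  simp only [map_intCast, h4] at h7
  norm_cast at h7
  have h8 : ∀ ψ ∈ B, 1 ≤ n ψ * n ψ := fun ψ hψ => Int.add_one_le_of_lt
    (mul_self_pos.2 (by exact_mod_cast hA.ne ψ hψ u₀ hu₀))
  obtain ⟨χ₀, a1, a2⟩ := exists_blockHeight_eq_zero (p := 2) hB.nonempty
  have h9 := Finset.single_le_sum (fun ψ hψ => zero_le_one.trans (h8 ψ hψ)) hχ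
  rw [← mul_self_eq_one_iff]
  by_contra h10
  have h11 : n χ * n χ = 4 := by
    have := h8 χ hχ
    have : n χ ≤ 2 := by nlinarith
    have : -2 ≤ n χ := by nlinarith
    interval_cases n χ <;> omega
  obtain rfl : χ = χ₀ := by_contra fun e => by
    have := Finset.add_le_sum (fun ψ hψ => zero_le_one.trans (h8 ψ hψ)) hχ a1 e
    have := h8 χ₀ a1
    omega
  exact hF.unit hM hχ a2 hu₀ ((memLocalIdeal_intCast_iff hM _).2 (by
    exact_mod_cast (Int.prime_two.dvd_mul.1 ⟨2, h11⟩).elim id id))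

end Cfsg.Lib.Small
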