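import Cfsg.Agent.Lib.Small.SylNum

/-!
# Sylow intersections of index `p`
-/

set_option autoImplicit false

namespace Cfsg.Lib.Small

open Subgroup Cfsg.Lib.Amalg MulAction Pointwise

universe u

variable {G : Type u} [Group G] [Finite G] {p : ℕ} [hp : Fact p.Prime] {P R T : Sylow p G} {D : Subgroup G}

/-- the Sylow subgroups meeting `P` in a subgroup of index `p` -/
def gam (P : Sylow p G) : Set (Sylow p G) := {R | (R : Subgroup G).relIndex P = p}

/-- the Sylow subgroups containing `D` -/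
def lin (p : ℕ) (D : Subgroup G) : Set (Sylow p G) := {R | D ≤ R}

omit hp in
theorem card_inf_mul (P R : Sylow p G) :
    Nat.card ↥((P : Subgroup G) ⊓ R) * (R : Subgroup G).relIndex P = Nat.card (P : Subgroup G) := by
  rw [← inf_relIndex_left, Clifford.card_mul_relIndex inf_le_left]

omit hp in
theorem mem_gam : R ∈ gam P ↔ Nat.card ↥((P : Subgroup G) ⊓ R) * p = Nat.card (P : Subgroup G) := by
  rw [← card_inf_mul P R, Nat.mul_right_inj Nat.card_pos.ne', eq_comm]; rfl

theorem card_sylow_eq (P R : Sylow p G) : Nat.card (P : Subgroup G) = Nat.card (R : Subgroup G) :=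
  Nat.card_congr (Sylow.equiv P R).toEquiv

theorem gam_symm (h : R ∈ gam P) : P ∈ gam R := by
  rwa [mem_gam, inf_comm, card_sylow_eq R P, ← mem_gam]

theorem ne_of_mem_gam (h : R ∈ gam P) : R ≠ P := by
  rintro rfl
  exact hp.out.one_lt.ne ((relIndex_self _).symm.trans h)

theorem inf_eq_of_le (hD : Nat.card D * p = Nat.card (P : Subgroup G)) (h1 : D ≤ P) (h2 : D ≤ T) (h : T ≠ P) :
    (P : Subgroup G) ⊓ T = D := by
  obtain ⟨k, hk⟩ := exists_relIndex_sylow h
  refine (eq_of_le_of_card_ge (le_inf h1 h2) (Nat.le_of_mul_le_mul_right ?_ hp.out.pos)).symm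
  rw [hD, ← card_inf_mul P T, hk]
  exact Nat.mul_le_mul_left _ (Nat.le_self_pow k.succ_ne_zero p)

theorem le_normalizer_of_card (hD : Nat.card D * p = Nat.card (P : Subgroup G)) (h : D ≤ T) :
    (T : Subgroup G) ≤ 𝐍 D := by
  refine le_normalizer_of_relIndex_le_prime T.2 h (Nat.eq_of_mul_eq_mul_left (Nat.card_pos (α := D)) ?_).le
  rw [Clifford.card_mul_relIndex h, hD, card_sylow_eq P T]

omit [Finite G] in
theorem conj_smul_eq_iff {g : G} : MulAut.conj g • D = D ↔ g ∈ 𝐍 D := conjAct_pointwise_smul_iff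

omit [Finite G] hp in
theorem le_smul_of_mem_normalizer {g : G} (hg : g ∈ 𝐍 D) (h : D ≤ T) : D ≤ (g • T : Sylow p G) := by
  rw [Sylow.coe_subgroup_smul, ← conj_smul_eq_iff.2 hg]
  exact pointwise_smul_le_pointwise_smul_iff.2 h

/-- there are no triangles -/
theorem inf_le_of_gam (h1 : R ∈ gam P) (h2 : T ∈ gam P) (h3 : T ∈ gam R) : (P : Subgroup G) ⊓ R ≤ T := by
  intro d hd
  by_contra hdT
  have h4 : d • T ≠ T := fun e =>
    hdT ((P.2.inf_normalizer_sylow T).le ⟨hd.1, Sylow.smul_eq_iff_mem_normalizer.1 e⟩).2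
  have key : ∀ {P : Sylow p G}, T ∈ gam P → d ∈ (P : Subgroup G) → 
      (T : Subgroup G) ⊓ (d • T : Sylow p G) = (P : Subgroup G) ⊓ T :=
    fun {P} h hd => inf_eq_of_le (by rw [mem_gam.1 h, card_sylow_eq P T]) inf_le_right
      (le_smul_of_mem_normalizer (le_normalizer_of_card (mem_gam.1 h) inf_le_left hd) inf_le_right) h4
  have h5 := inf_eq_of_le (mem_gam.1 h2) inf_le_left
    (((key h2 hd.1).symm.trans (key h3 hd.2)).le.trans inf_le_left) (ne_of_mem_gam h1)
  exact hdT (h5.le hd).2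

omit [Finite G] hp in
theorem smul_mem_gam (g : G) : g • R ∈ gam (g • P) ↔ R ∈ gam P := by
  simp only [gam, Set.mem_ofPred_eq, Sylow.coe_subgroup_smul, relIndex_pointwise_smul]

theorem ncard_gam_eq (P R : Sylow p G) : (gam P).ncard = (gam R).ncard := by
  obtain ⟨g, rfl⟩ := exists_smul_eq G P R
  exact Set.ncard_congr (fun T _ => g • T) (fun T h => (smul_mem_gam g).2 h) (fun _ _ _ _ h => smul_left_cancel g h)
    fun T h => ⟨g⁻¹ • T, (smul_mem_gam g).1 (by simpa using h), by simp⟩

theorem exists_ncard_gam (P : Sylow p G) : ∃ m, Nat.card (Sylow p G) = 1 + (gam P).ncard + p ^ 2 * m := by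
  obtain ⟨m, hm⟩ := dvd_card_of_orbits (H := (P : Subgroup G)) (fun R : Sylow p G => R ∈ (insert P (gam P))ᶜ)
    (fun g R h => by
      have e : (g : G) • P = P := Sylow.smul_eq_iff_mem_normalizer.2 (le_normalizer g.2)
      simp only [Set.mem_compl_iff, Set.mem_insert_iff] at h ⊢
      change ¬ ((g : G) • R = P ∨ (g : G) • R ∈ gam P)
      generalize (g : G) = g at e
      rwa [← e, smul_mem_gam, smul_left_cancel_iff]) (m := p ^ 2) fun R h => by
      simp only [Set.mem_compl_iff, Set.mem_insert_iff, not_or] at h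
      obtain ⟨k, hk⟩ := exists_relIndex_sylow h.1
      rw [card_orbit_sylow, hk]
      refine pow_dvd_pow _ (Nat.succ_le_succ (Nat.pos_of_ne_zero ?_))
      rintro rfl
      exact h.2 (hk.trans (pow_one p))
  refine ⟨m, ?_⟩
  rw [← hm, add_comm 1, ← Set.ncard_insert_of_notMem fun h => ne_of_mem_gam h rfl, ← Set.ncard_add_ncard_compl]
  rfl

theorem ncard_lin (hD : Nat.card D * p = Nat.card (P : Subgroup G)) (h : D ≤ P) :
    (lin p D).ncard = Nat.card (Sylow p (𝐍 D)) ∧ (lin p D).ncard = (𝐍 (P : Subgroup G)).relIndex (𝐍 D) := by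
  have h1 := le_normalizer_of_card hD h
  have : lin p D = orbit (𝐍 D) P := by
    ext T
    refine ⟨fun hT => ?_, ?_⟩
    · obtain ⟨g, hg⟩ := exists_smul_eq (𝐍 D) (P.subtype h1) (T.subtype (le_normalizer_of_card hD hT))
      rw [Sylow.smul_subtype] at hg
      exact ⟨g, Sylow.subtype_injective hg⟩
    · rintro ⟨g, rfl⟩
      exact le_smul_of_mem_normalizer g.2 h
  rw [Syl.card_sylow ((syl_top P).of_le h1 le_top), and_self, this, ← Nat.card_coe_set_eq, card_orbit_eq_index]
  congr 1
  ext g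
  exact Sylow.smul_eq_iff_mem_normalizer (g := (g : G))

theorem exists_line (h : R ∈ gam P) : ∃ k r, Nat.card (Sylow p (𝐍 ((P : Subgroup G) ⊓ R))) = k ∧ 1 < k ∧ k % p = 1 ∧
    0 < r ∧ r * (k - 1) ≤ (gam P).ncard ∧ k * (𝐍 ((P : Subgroup G) ⊓ R)).index = Nat.card (Sylow p G) * r ∧
    k * ((gam P).ncard + 2) ≤ Nat.card (Sylow p G) + k * k := by
  classical
  set D := (P : Subgroup G) ⊓ R
  have hD := mem_gam.1 h
  obtain ⟨h1, h2⟩ := ncard_lin hD inf_le_left
  have hP : P ∈ lin p D := (inf_le_left : D ≤ P)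
  have adj : ∀ X ∈ lin p D, ∀ Y ∈ lin p D, Y ≠ X → (X : Subgroup G) ⊓ Y = D ∧ Y ∈ gam X := fun X hX Y hY hne => by
    have e := hD.trans (card_sylow_eq P X)
    have := inf_eq_of_le e hX hY hne
    exact ⟨this, mem_gam.2 (this ▸ e)⟩
  refine ⟨_, (𝐍 D).relIndex (𝐍 (P : Subgroup G)), rfl, ?_, card_sylow_mod,
    Nat.pos_of_ne_zero index_ne_zero_of_finite, ?_, ?_, ?_⟩
  · rw [← h1]
    exact (Set.one_lt_ncard (Set.toFinite _)).2 ⟨R, (inf_le_right : D ≤ R), P, hP, ne_of_mem_gam h⟩
  · rw [← h1, ← Set.ncard_sdiff_singleton_of_mem hP, relIndex, index, ← Nat.card_coe_set_eq, ← Nat.card_coe_set_eq,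
      ← Nat.card_prod]
    have e : ∀ n : 𝐍 (P : Subgroup G), (n : G) • P = P := fun n => Sylow.smul_eq_iff_mem_normalizer.2 n.2
    refine Nat.card_le_card_of_injective (fun x => ⟨(x.1.out : G) • x.2.1, by
      have := (smul_mem_gam (x.1.out : G)).2 (adj P hP _ x.2.2.1 x.2.2.2).2
      rwa [e] at this⟩) fun x y hxy => ?_
    have h3 : (x.1.out : G) • x.2.1 = (y.1.out : G) • y.2.1 := congrArg Subtype.val hxy
    have h4 : x.1 = y.1 := by
      rw [← x.1.out_eq, ← y.1.out_eq, Quotient.eq, QuotientGroup.leftRel_apply, mem_subgroupOf,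
        ← conj_smul_eq_iff]
      have h5 := congrArg (MulAut.conj ((x.1.out⁻¹ * y.1.out : 𝐍 (P : Subgroup G)) : G) • ·)
        (adj P hP _ y.2.2.1 y.2.2.2).1
      simp only [smul_inf, ← Sylow.coe_subgroup_smul] at h5
      rw [e, coe_mul, mul_smul, ← h3, coe_inv, inv_smul_smul, (adj P hP _ x.2.2.1 x.2.2.2).1] at h5
      exact h5.symm
    exact Prod.ext h4 (Subtype.ext (smul_left_cancel _ (h4 ▸ h3)))
  · rw [← h1, h2, ← index_normalizer_sylow P, ← inf_relIndex_right, relIndex_mul_index inf_le_right, mul_comm,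
      ← inf_relIndex_left, relIndex_mul_index inf_le_left]
  · have := Fintype.ofFinite (Sylow p G)
    let l := (lin p D).toFinset
    have h3 : ∑ X ∈ l, ((gam X).toFinset \ l).card ≤ (lᶜ).card := by
      rw [← Finset.card_biUnion fun X hX Y hY hne => Finset.disjoint_left.2 fun T h3 h4 => ?_]
      · exact Finset.card_le_card fun T hT => by
          obtain ⟨X, -, h3⟩ := Finset.mem_biUnion.1 hT
          exact Finset.mem_compl.2 (Finset.mem_sdiff.1 h3).2
      · simp only [l, Finset.mem_sdiff, Set.mem_toFinset, Finset.mem_coe] at hX hY h3 h4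
        obtain ⟨h5, h6⟩ := adj X hX Y hY hne.symm
        exact h3.2 (h5.ge.trans (inf_le_of_gam h6 h3.1 h4.1))
    have h4 : ∀ X ∈ l, (gam P).ncard + 1 ≤ ((gam X).toFinset \ l).card + l.card := fun X hX => by
      rw [ncard_gam_eq P X, Set.ncard_eq_toFinset_card', ← Finset.card_insert_of_notMem (a := X)
        (by simpa using fun h => ne_of_mem_gam h rfl), Finset.card_sdiff_add_card]
      exact Finset.card_le_card (Finset.insert_subset (Finset.mem_union_right _ hX) Finset.subset_union_left)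
    have h5 := Finset.sum_le_sum h4
    rw [Finset.sum_const, Finset.sum_add_distrib, Finset.sum_const, smul_eq_mul, smul_eq_mul] at h5
    have h6 := Finset.card_add_card_compl l
    rw [← h1, Set.ncard_eq_toFinset_card' (lin p D), Nat.card_eq_fintype_card]
    change l.card * _ ≤ _ + l.card * l.card
    linarith

/-- in a simple group with non-cyclic Sylow subgroups, not all Sylow intersections have index `p`. -/
theorem ncard_gam_ne [IsSimpleGroup G] (hG : ¬ IsMulCommutative G) (hd : p ∣ Nat.card G) (P : Sylow p G)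
    (hP : Nat.card (P : Subgroup G) ≠ p) : Nat.card (Sylow p G) ≠ 1 + (gam P).ncard := fun h =>
  hP (card_eq_of_forall_relIndex hG hd (fun Q R hne => by
    have : insert Q (gam Q) = Set.univ := Set.eq_of_subset_of_ncard_le (Set.subset_univ _) (by
      rw [Set.ncard_insert_of_notMem fun h => ne_of_mem_gam h rfl, Set.ncard_univ, h, ncard_gam_eq P Q, add_comm])
    exact (this.ge (Set.mem_univ R)).resolve_left hne) P)

end Cfsg.Lib.Small
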