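import Cfsg.Agent.Lib.Small.Sieve

/-!
# The sieve for two primes, and Sylow intersections of index `p`
-/

set_option autoImplicit false

namespace Cfsg.Lib.Small

open Subgroup Cfsg.Lib.Amalg Cfsg.Lib.Char Cfsg.Lib.Block MulAction

universe u

variable {G : Type u} [Group G] [Finite G]

theorem forall_deg [IsSimpleGroup G] (hG : ¬ IsMulCommutative G) {n p J : ℕ} (hn : Nat.card G = n) (hp : p.Prime)
    (hd : n % p = 0) (h2 : n / p % p ≠ 0) (hJ : n ≤ (p * J) ^ 2) {Q : List ℕ} (hQ : ∀ q ∈ Q, q.Prime)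
    {M : Ideal AlgInt} (hM : IsPModular p M) (ok : ℕ → Bool) (z : ℕ → ℕ → ℕ → Bool)
    (hz : ∀ e t s c L y, NumG G p M e t s c L y → z e s c)
    (h : feas n p J (fun e s c l => std n p Q c l && (z e s c && l.any fun d => !ok d.natAbs)) = false) :
    ∀ χ ∈ principalBlock M G, χ ≠ principalIrr G → ok (charDegree χ.1) := fun χ h3 h4 => by
  by_contra h5
  rw [feas_std hG hn hp hd h2 hJ hQ hM fun e t s c L y H l hl => ?_] at h
  · exact absurd h (by simp)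
  obtain ⟨d, h6, h7⟩ := H.deg χ h3 h4
  rw [Bool.and_eq_true, List.any_eq_true]
  exact ⟨hz _ _ _ _ _ _ H, d, Multiset.mem_coe.1 (hl ▸ h6), by simpa [h7] using h5⟩

theorem NumG.btB {p e t s c q b : ℕ} {M M' : Ideal AlgInt} [M'.IsMaximal] {L : Multiset ℤ} {y : ℤ}
    (h : NumG G p M e t s c L y) (hM' : IsPModular q M') (hqp : q ≠ p) (hb : q ^ b ∣ Nat.card G) {ok : ℕ → Bool}
    (hok : ∀ χ ∈ principalBlock M' G, χ ≠ principalIrr G → ok (charDegree χ.1)) (hc : ¬ q ∣ c) {l : List ℤ}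
    (hl : (l : Multiset ℤ) = y ::ₘ L) : btB (q ^ b) (fun d => ok d.natAbs) l 1 := by
  obtain ⟨S, h3, h4, h5⟩ := h.bt q b M' hM' hqp hc hb
  refine btB_of (hl ▸ h3) (fun d hd => ?_) h4
  obtain ⟨χ, h6, h7, h8⟩ := h5 d hd
  exact h8 ▸ hok χ h6 h7

theorem not_joint [IsSimpleGroup G] (hG : ¬ IsMulCommutative G) {n p q : ℕ} (J : ℕ) (hn : Nat.card G = n) (hp : p.Prime)
    (hq : q.Prime) (hqp : q ≠ p) (hd : n % p = 0) (h2 : n / p % p ≠ 0) (hd' : n % q = 0) (h2' : n / q % q ≠ 0)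
    (hJ : n ≤ (p * J) ^ 2) (hJ' : n ≤ (q * J) ^ 2) (Q : List ℕ) (hQ : ∀ q ∈ Q, q.Prime) (ok : ℕ → Bool)
    (h1 : feas n q J (fun _ _ c l => std n q Q c l && (c % p != 0 && l.any fun d => !ok d.natAbs)) = false) :
    feas n p J fun _ _ c l => std n p Q c l && (c % q == 0 || btB (q ^ 1) (fun d => ok d.natAbs) l 1) := by
  obtain ⟨M, hM⟩ := Block2.exists_isPModular hp
  obtain ⟨M', hM'⟩ := Block2.exists_isPModular hq
  have := hM'.2.1
  refine feas_std hG hn hp hd h2 hJ hQ hM fun e t s c L y H l hl => ?_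
  rw [Bool.or_eq_true, beq_iff_eq, ← Nat.dvd_iff_mod_eq_zero, or_iff_not_imp_left]
  refine fun hc => H.btB hM' hqp (by rw [hn, pow_one]; exact Nat.dvd_of_mod_eq_zero hd')
    (forall_deg hG hn hq hd' h2' hJ' hQ hM' ok _ (fun _ _ _ _ _ _ H' => ?_) h1) hc hl
  rw [bne_iff_ne, Ne, ← Nat.dvd_iff_mod_eq_zero, H'.ord p hp hqp.symm, mul_comm, ← H.ord q hq hqp]
  exact hc

end Cfsg.Lib.Small
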