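import Cfsg.Agent.Lib.Small.AbS
import Cfsg.Agent.Lib.Small.SubsecSum
import Cfsg.Agent.Lib.Block.KleinB
import Cfsg.Agent.Lib.Block.AbFrob
import Cfsg.Agent.Lib.Block.Homocyc
import Cfsg.Agent.Lib.Block2.Ker
import Cfsg.Agent.Lib.Clifford.PBlk
import Cfsg.Agent.Lib.Known.PSL2Char
import Cfsg.Agent.Lib.Char.Prod

/-! Principal blocks for abelian Sylow subgroups: the subsection formula, and height zero for `p = 2`. -/

set_option autoImplicit false
set_option linter.unusedSectionVars false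
set_option linter.style.haveILetI false

namespace Cfsg.Lib.AbS
open Subgroup MulAction Cfsg.Lib.Block Cfsg.Lib.Block2 Cfsg.Lib.Char Cfsg.Lib.Small Cfsg.Lib.BG1 Cfsg.Lib.Gold Cfsg.Lib.Wal
open Cfsg.Lib.Amalg hiding le_cent_symm op_top
open Cfsg.Lib.Transfer (PNil SylowIn hasNormalPComplement_iff)
open scoped ComplexConjugate

universe u

theorem sum_orbit {N X : Type*} [Group N] [MulAction N X] [Fintype X] [Fintype (orbitRel.Quotient N X)] (g : X → ℚ)
    (hg : ∀ (n : N) x, g (n • x) = g x) : ∑ q : orbitRel.Quotient N X, g q.out = ∑ x, g x / (orbit N x).ncard := by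
  classical
  rw [← Finset.sum_fiberwise (s := Finset.univ) (g := fun x => (Quotient.mk'' x : orbitRel.Quotient N X))]
  refine Finset.sum_congr rfl fun q _ => ?_
  have h1 : ∀ x, (Quotient.mk'' x : orbitRel.Quotient N X) = q ↔ x ∈ orbit N q.out := fun x => by
    conv_lhs => rw [← q.out_eq']
    exact Quotient.eq''
  rw [Finset.sum_congr rfl (g := fun _ => g q.out / (orbit N q.out).ncard) fun x hx => by
    obtain ⟨n, rfl⟩ := (h1 x).1 (Finset.mem_filter.1 hx).2
    rw [hg, orbit_smul], Finset.sum_const, nsmul_eq_mul]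
  have h2 : (orbit N q.out).ncard = (Finset.univ.filter fun x => (Quotient.mk'' x : orbitRel.Quotient N X) = q).card := by
    rw [← Set.ncard_coe_finset]
    congr 1
    ext x
    simp [h1]
  have h3 : (orbit N q.out).ncard ≠ 0 := ((Set.ncard_pos (Set.toFinite _)).2 ⟨_, mem_orbit_self _⟩).ne'
  rw [← h2, mul_div_cancel₀ _ (Nat.cast_ne_zero.2 h3)]

theorem eq_of_dvd {a q e : ℤ} (he : e = 1 ∨ e = -1) (hq : 4 ≤ q) (h : a ^ 2 + 1 ≤ q) (hd : q ∣ q + e - a) : a = e := by
  obtain ⟨m, hm⟩ := hd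
  obtain rfl : a = q * (1 - m) + e := by linear_combination -hm
  rcases lt_trichotomy m 1 with h1 | rfl | h1
  · have : q - 1 ≤ q * (1 - m) + e := by rcases he with rfl | rfl <;> nlinarith
    nlinarith
  · ring
  · have : q * (1 - m) + e ≤ -(q - 1) := by rcases he with rfl | rfl <;> nlinarith
    nlinarith

variable {G : Type u} [Group G] [Finite G] {p : ℕ} [hp : Fact p.Prime] {M : Ideal AlgInt} [M.IsMaximal]
  {P N K : Subgroup G} {x t : G}

theorem principal_quot (hM : IsPModular p M) {H : Type*} [Group H] [Finite H] {f : G →* H} (hf : Function.Surjective f)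
    (hk : ¬ p ∣ Nat.card f.ker) : infl f hf ⁻¹' principalBlock M G = principalBlock M H ∧
      (∀ χ ∈ principalBlock M G, ∃ ψ ∈ principalBlock M H, infl f hf ψ = χ) ∧
      Nat.card (principalBlock M H) = Nat.card (principalBlock M G) ∧
      blockRank p (principalBlock M H) = blockRank p (principalBlock M G) := by
  have h0 : (infl f hf ⁻¹' principalBlock M G).Nonempty :=
    ⟨_, principalBlock_subset_preimage_infl hf (oneB M H).2⟩
  have h1 := preimage_infl_principalBlock hf (isPBlock_preimage_infl_of_not_dvd hf hM hk isPBlock_principalBlock h0)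
  have h2 : ∀ χ ∈ principalBlock M G, f.ker ≤ charKer (χ : G → ℂ) := fun χ hχ =>
    ker_le_charKer_of_not_dvd hf hM hk isPBlock_principalBlock h0 hχ
  refine ⟨h1, fun χ hχ => ?_, h1 ▸ card_preimage_infl hf h2,
    h1 ▸ blockRank_preimage_infl_of_le hf (fun _ => dvd_orderOf_map_of_not_dvd hk) h2⟩
  obtain ⟨ψ, rfl⟩ := exists_infl hf (h2 χ hχ)
  exact ⟨ψ, h1 ▸ hχ, rfl⟩

theorem principal_equiv (hM : IsPModular p M) {H : Type*} [Group H] [Finite H] (e : G ≃* H) :
    Nat.card (principalBlock M H) = Nat.card (principalBlock M G) ∧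
      blockRank p (principalBlock M H) = blockRank p (principalBlock M G) :=
  (principal_quot hM (f := e.toMonoidHom) e.surjective (by
    rw [(MonoidHom.ker_eq_bot_iff _).2 e.injective, card_bot]; exact hp.out.not_dvd_one)).2.2

theorem ncard_orbit (u : P) : (orbit 𝐍(P) u).ncard = (𝐂[(u : G)]).relIndex 𝐍(P) := by
  rw [← index_stabilizer, relIndex]
  congr 1
  ext n
  rw [mem_stabilizer_iff, mem_subgroupOf, Subtype.ext_iff, coe_normalizer_smul, mul_inv_eq_iff_eq_mul,
    mem_centralizer_singleton_iff]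

/-- Brauer's subsection formula for an abelian Sylow subgroup -/
theorem card_eq_sum (hM : IsPModular p M) (hP : Syl p P ⊤) (hc : IsMulCommutative P) [Fintype P] :
    (Nat.card (principalBlock M G) : ℚ) =
      ∑ u : P, (blockRank p (principalBlock M 𝐂[(u : G)]) : ℚ) / (𝐂[(u : G)]).relIndex 𝐍(P) := by
  classical
  haveI := Fintype.ofFinite G
  haveI := Fintype.ofFinite (orbitRel.Quotient 𝐍(P) P)
  have hA : ∀ a b : P, a * b = b * a := fun a b => mul_comm' a b
  have hS := syl_iff_sylowIn.1 hP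
  have h1 : ∀ q q' : orbitRel.Quotient 𝐍(P) P, IsConj (q.out : G) q'.out → q = q' := fun q q' h => by
    rw [← q.out_eq', ← q'.out_eq']
    exact (Quotient.eq''.2 ((isConj_iff_mem_orbit hS hA).1 h)).symm
  have h2 : ∀ x ∈ Finset.univ.image fun q : orbitRel.Quotient 𝐍(P) P => (q.out : G), ∃ k, orderOf x = p ^ k :=
    fun x hx => by
      obtain ⟨q, -, rfl⟩ := Finset.mem_image.1 hx
      exact orderOf_eq_pow_of_mem hP.isPGroup q.out.2
  rw [card_eq_sum_rank_under hM isPBlock_principalBlock.isBlockUnion _ h2 fun g ⟨k, hk⟩ => ?_,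
    Finset.sum_congr rfl fun x hx => by rw [(allInd_centralizer_singleton hM (h2 x hx)).under_principalBlock hM],
    Finset.sum_image fun q _ q' _ e => h1 q q' (by rw [show (q.out : G) = q'.out from e]), Nat.cast_sum,
    sum_orbit (fun u : P => (blockRank p (principalBlock M 𝐂[(u : G)]) : ℚ)) fun n u => ?_]
  · simp only [ncard_orbit]
  · rw [coe_normalizer_smul, ← cj_centralizer_singleton, (principal_equiv hM (cjEquiv _ _)).2]
  · obtain ⟨c, -, e⟩ := hP.exists_conj_le (isPGroup_zpowers_of_orderOf hk) le_top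
    let u : P := ⟨_, e (conj_mem_cj c (mem_zpowers g))⟩
    have h3 : IsConj g ((Quotient.mk'' u : orbitRel.Quotient 𝐍(P) P).out : G) :=
      (Invol.isConj_conj c g).trans ((isConj_iff_mem_orbit (y := u) hS hA).2 (Quotient.mk_out' (s₁ := orbitRel _ _) u))
    refine ⟨_, ⟨Finset.mem_image_of_mem _ (Finset.mem_univ _), h3⟩, fun y ⟨hy, e⟩ => ?_⟩
    obtain ⟨q, -, rfl⟩ := Finset.mem_image.1 hy
    rw [h1 _ _ (e.symm.trans h3)]

theorem exists_under (hM : IsPModular p M) (N : Subgroup G) [N.Normal] {χ : IrrCharacter G} (hχ : χ ∈ principalBlock M G) :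
    ∃ θ ∈ principalBlock M N, ∃ e, e ∣ N.index ∧ charDegree χ.1 = e * charDegree θ.1 := by
  have h1 := Clifford.irrOn_top.2 χ.2
  obtain ⟨θ, hθ, h⟩ := h1.exists_under (H := N) le_top
  have h2 := Clifford.irrOn_of_mem hθ
  obtain ⟨e, e1, e2⟩ := Clifford.exists_deg_eq_mul le_top (Clifford.nrm_of_normal _ N) h1 h2 h
  exact ⟨⟨_, h2⟩, (h2.res_mem_principalBlock_iff hM).2 (Clifford.mem_B0.1 (Clifford.B0_under le_top
    (Clifford.nrm_of_normal _ N) ((Clifford.mem_principalBlock_iff_B0 hM χ).1 hχ) hθ h)).2, e,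
    relIndex_top_right (H := N) ▸ e1, e2.trans (by rw [Clifford.charDegree_res])⟩

theorem mem_of_res (hM : IsPModular p M) [N.Normal] {χ : IrrCharacter G} (hχ : χ ∈ principalBlock M G)
    (θ : IrrCharacter N) {c : ℂ} (h : ∀ n : N, χ.1 n = θ.1 n * c) : θ ∈ principalBlock M N := by
  haveI := Fintype.ofFinite N
  have h1 := Clifford.regSum_ne_zero_of_B0 le_top (Clifford.nrm_of_normal _ N)
    ((Clifford.mem_principalBlock_iff_B0 hM χ).1 hχ)
  rw [mem_principalBlock_iff_sum hM]
  intro e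
  rw [Clifford.regSum_res, Finset.sum_congr rfl (g := fun y => (if p ∣ orderOf y then 0 else θ.1 y) * c) fun y _ => by
    split_ifs; exacts [(zero_mul _).symm, h y], ← Finset.sum_mul, e, zero_mul] at h1
  exact h1 rfl

theorem pnil_sub (t : K) (h : PNil p (K ⊓ 𝐂[(t : G)])) : PNil p 𝐂[t] := by
  rwa [← Transfer.pnil_map_iff_of_injective K.subtype_injective, cent_subtype, subgroupOf_map_subtype, inf_comm]

theorem l2e_deg (hM : IsPModular 2 M) (h : IsL2e G) (hP : Syl 2 P ⊤) {χ : IrrCharacter G} (hχ : χ ∈ principalBlock M G) :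
    4 ≤ Nat.card P ∧ (χ.1 = (fun _ => 1) ∨ charDegree χ.1 = Nat.card P + 1 ∨ charDegree χ.1 + 1 = Nat.card P) := by
  classical
  obtain ⟨F, _, _, ⟨n, hn, hF⟩, ⟨e⟩⟩ := h
  have : CharP F 2 := charP_of_card_eq_prime_pow hF
  have h1 : Nat.card P = Nat.card F := by
    rw [hP.card_eq_pow, card_top, Nat.card_congr e.toEquiv, ← Sylow.card_eq_multiplicity default,
      Linear.card_sylow_subgroup_PSL2]
  have hs : Function.Surjective (e.symm.toMonoidHom.comp (Known.pmk F)) := e.symm.surjective.comp Known.pmk_surjective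
  have h2 : Even (Nat.card F) := by
    rw [Nat.card_eq_fintype_card, hF]; exact (Nat.even_pow' (by omega)).2 even_two
  have := Nat.card_pos (α := F)
  refine ⟨by rw [h1, Nat.card_eq_fintype_card, hF]; exact Nat.pow_le_pow_right two_pos hn, ?_⟩
  rcases Known.SL2_irr_cases' (χ.2.comp _ hs) (n := charDegree χ.1) (by rw [map_one, irr_cast_deg]) with
    h | h | h | h | h | h
  · exact .inl (funext fun g => by obtain ⟨a, rfl⟩ := hs g; exact congrFun h.2 a)
  · have h3 := (isPBlock_singleton_of_defectZero hM (χ := χ) (by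
      rw [h.1, ← h1, hP.card_eq_pow, card_top, Nat.prime_two.factorization_pow, Finsupp.single_eq_same])).eq_of_mem
      isPBlock_principalBlock rfl hχ
    exact .inl (congrArg Subtype.val (h3.ge principalIrr_mem)).symm
  · exact .inr (.inl (h1 ▸ h.1))
  · exact .inr (.inr (by omega))
  · exact absurd h.1 (Nat.not_odd_iff_even.2 h2)
  · exact absurd h.1 (Nat.not_odd_iff_even.2 h2)

theorem l2e_vals (hM : IsPModular 2 M) (h : IsL2e G) (hP : Syl 2 P ⊤) : Nat.card (principalBlock M G) = Nat.card P ∧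
    ∀ χ ∈ principalBlock M G, χ.1 ≠ (fun _ => 1) → ∀ t : G, orderOf t = 2 → χ.1 1 - χ.1 t = Nat.card P := by
  classical
  haveI := Fintype.ofFinite (principalBlock M G)
  obtain ⟨_, h0, -⟩ := l2e_simple h
  obtain ⟨h1, hc, h2, h3⟩ := l2e_syl h hP
  have h4 := l2e_index h hP
  obtain ⟨s, hs, s2⟩ := SigC.exists_central_prime hP.isPGroup
    (hP.ne_bot (card_top (G := G) ▸ (FT.even_card_of_simple G fun h => h0 ⟨⟨h⟩⟩).two_dvd))
  have s1 := Invol.ne_one_of_two s2
  choose a ha using fun χ : principalBlock M G => χ.1.2.isCharacter.exists_int_of_two (h1 s hs.1)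
  have h5 : ∀ χ : principalBlock M G, ∀ t, orderOf t = 2 → χ.1.1 t = a χ := fun χ t ht => by
    obtain ⟨g, rfl⟩ := isConj_iff.1 (Invol.se_isConj h3 s2 ht)
    rw [χ.1.2.isClassFunction, ha]
  have h6 : ∑ χ, a χ ^ 2 = Nat.card P := by
    have := ker_self_of_pnil hM ⟨1, s2⟩ (by rw [h2 s hs.1 s1]; exact Transfer.pnil_of_isPGroup hP.isPGroup)
      (syl_iff_sylowIn.1 (syl_cent hP hc hs.1))
    simp only [ha, map_intCast, ← sq] at this
    exact_mod_cast this
  have h7 : a (oneB M G) = 1 := by exact_mod_cast (ha _).symm.trans (oneB_apply s)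
  have h8 : ∀ χ, a χ ^ 2 = 1 ∧ (χ ≠ oneB M G → charDegree χ.1.1 - a χ = Nat.card P) := fun χ => by
    by_cases e : χ = oneB M G
    · exact ⟨by rw [e, h7, one_pow], fun h => absurd e h⟩
    have i1 := card_dvd_of_const χ.1.2.isCharacter (P := P) fun y hy y1 =>
      h5 χ y (orderOf_eq_prime (sq y ▸ h1 y hy) y1)
    have i2 : a χ ^ 2 + 1 ≤ Nat.card P := by
      rw [← h6, ← one_pow 2, ← h7, ← Finset.sum_pair (f := fun χ => a χ ^ 2) e]
      exact Finset.sum_le_sum_of_subset_of_nonneg (Finset.subset_univ _) fun _ _ _ => sq_nonneg _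
    obtain ⟨i3, h | h | h⟩ := l2e_deg hM h hP χ.2
    · exact absurd (eq_oneB_iff.2 h) e
    · have := eq_of_dvd (e := 1) (by omega) (by omega) i2 (by convert i1 using 2; omega)
      exact ⟨by rw [this, one_pow], fun _ => by omega⟩
    · have := eq_of_dvd (e := -1) (by omega) (by omega) i2 (by convert i1 using 2; omega)
      exact ⟨by rw [this, neg_one_sq], fun _ => by omega⟩
  refine ⟨?_, fun χ hχ e t ht => ?_⟩
  · simp only [fun χ => (h8 χ).1, Finset.sum_const, Finset.card_univ, nsmul_eq_mul, mul_one] at h6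
    rw [Nat.card_eq_fintype_card]; exact_mod_cast h6
  · rw [h5 ⟨χ, hχ⟩ t ht, ← irr_cast_deg]
    exact_mod_cast (h8 ⟨χ, hχ⟩).2 fun h => e (eq_oneB_iff.1 h)

theorem klein_of_four [IsSimpleGroup G] (hG : ¬ IsMulCommutative G) (hP : Syl 2 P ⊤) (h4 : Nat.card P = 4) :
    IsKleinFour P := by
  haveI : Nontrivial P := Finite.one_lt_card_iff_nontrivial.1 (by omega)
  refine ⟨h4, (Monoid.exponent_eq_prime_iff Nat.prime_two).2 fun g hg => orderOf_eq_prime (Subtype.ext ?_) hg⟩
  exact (sq (g : G)).trans ((gd_of_four hG hP h4).el _ (GW.Two.of_mem hP.isPGroup g.2))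

theorem JR.not_pnil {E L : Subgroup G} (h : JR P t E L) (hx : x ∈ P) : ¬ PNil 2 𝐂[x] := fun hn => by
  have h1 : L ≤ 𝐂[t] := (le_sup_left.trans h.sup.ge).trans h.prod.2.1
  by_cases x1 : x = 1
  · exact AbS.not_pnil h.simple h.nc (hn.mono fun _ _ => Invol.mem_cent.2 (x1 ▸ Commute.one_right _))
  obtain ⟨g, rfl⟩ := h.one x (orderOf_eq_prime (sq x ▸ h.sq x hx) x1)
  rw [← cj_centralizer_singleton] at hn
  have h2 := hn.cj g⁻¹
  rw [show Transfer.cj g⁻¹ (cj g 𝐂[t]) = 𝐂[t] from cj_inv_cj _ _] at h2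
  exact AbS.not_pnil h.simple h.nc (h2.mono h1)

theorem sup_cent_eq_top (hO : pPrimeCore 2 G = ⊥) (hP : Syl 2 P ⊤) (hc : IsMulCommutative P) (hK : IsComponent K)
    (h : normalClosure (P : Set G) = ⊤) : K ⊔ 𝐂(K) = ⊤ := by
  refine eq_top_iff.2 (h.ge.trans ((closure_le _).2 fun y hy => ?_))
  obtain ⟨a, ha, e⟩ := Group.mem_conjugatesOfSet_iff.1 hy
  obtain ⟨g, rfl⟩ := isConj_iff.1 e
  obtain ⟨s, -, h1, h2⟩ := exists_cent hO (hP.conj_top g) (comm_map hc _) hK (conj_mem_cj g ha)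
  exact (mul_mem_cancel_right (mem_sup_left h1)).1 (mem_sup_right h2)

/-- height zero in the principal 2-block, when some `x` in the abelian Sylow subgroup has a 2-nilpotent centralizer -/
theorem odd_deg (hM : IsPModular 2 M) (G : Type u) [Group G] [Finite G] (P : Subgroup G) (hP : Syl 2 P ⊤)
    (hc : IsMulCommutative P) (x : G) (hx : x ∈ P) (hn : PNil 2 𝐂[x]) :
    ∀ χ ∈ principalBlock M G, Odd (charDegree χ.1) := by
  induction hG : Nat.card G using Nat.strong_induction_on generalizing G with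
  | _ n ih =>
  subst hG
  intro χ hχ
  have sub : ∀ K : Subgroup G, K ≠ ⊤ → K.Normal → ∀ s ∈ P, s ∈ K → K ⊓ 𝐂[s] ≤ 𝐂[x] →
      ∀ θ ∈ principalBlock M K, Odd (charDegree θ.1) := fun K h1 _ s h2 h3 h4 =>
    ih _ (card_lt_of_ne_top h1) K _ (hP.inf_normal_top K).subgroupOf_top (comm_subgroupOf (comm_of_le hc inf_le_left) _)
      ⟨s, h3⟩ ⟨h2, h3⟩ (pnil_sub _ (hn.mono h4)) rfl
  by_cases hO : pPrimeCore 2 G = ⊥
  swap
  · obtain ⟨ψ, h1, rfl⟩ := (principal_quot hM (QuotientGroup.mk'_surjective (pPrimeCore 2 G))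
      Layer.not_dvd_card_ker_core).2.1 χ hχ
    rw [charDegree_infl]
    refine ih _ (Core.card_quotient_lt hO) _ _ (hP.map_top (QuotientGroup.mk'_surjective _)) (comm_map hc _) _
      (mem_map_of_mem _ hx) ?_ rfl ψ h1
    rw [← Core.centralizer_zpowers, ← MonoidHom.map_zpowers,
      ← Layer.map_cent_quot_core (hP.isPGroup.to_le (zpowers_le.2 hx)), Core.centralizer_zpowers]
    exact hn.map _
  have odd : ∀ N : Subgroup G, P ≤ N → Odd N.index := fun N h =>
    Nat.odd_iff.2 (Nat.two_dvd_ne_zero.1 fun e => hP.not_dvd_index (e.trans (index_dvd_of_le h)))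
  by_cases hN : normalClosure (P : Set G) = ⊤
  swap
  · obtain ⟨θ, h1, e, h2, h3⟩ := exists_under hM (normalClosure (P : Set G)) hχ
    rw [h3]
    exact ((odd _ le_normalClosure).of_dvd_nat h2).mul
      (sub _ hN inferInstance x hx (le_normalClosure hx) inf_le_right θ h1)
  by_cases hE : layer G = ⊥
  · have h1 := le_norm_of_solvable hP hc (by have := solvable_of_layer hO hP hc hE; infer_instance)
      ((opp_top Nat.prime_two).trans hO)
    have := normalizer_eq_top_iff.1 (eq_top_iff.2 h1)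
    exact (odd P le_rfl).of_dvd_nat (relIndex_top_right (H := P) ▸ (Clifford.irrOn_top.2 χ.2).deg_dvd_relIndex_of_comm le_top
      (Clifford.nrm_of_normal _ P) fun a ha b hb => PGrp.comm_of_mem hc ha hb)
  obtain ⟨K, hK⟩ := Layer.exists_component_of_layer_ne_bot hE
  have h1 := sup_cent_eq_top hO hP hc hK hN
  have h2 := inf_cent hO hP hc hK
  haveI : K.Normal := normalizer_eq_top_iff.1 (eq_top_iff.2 (h1.ge.trans (sup_le le_normalizer (centralizer_le_normalizer _))))
  by_cases h3 : K = ⊤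
  · subst h3
    haveI := (simple hO hP hc hK)
    haveI : IsSimpleGroup G := topEquiv.symm.isSimpleGroup
    have h4 : ¬ IsMulCommutative G := fun h => Layer.IsQuasisimple.not_isMulCommutative hK.2 inferInstance
    obtain ⟨gd, h | h | ⟨t, E, L, h⟩⟩ := walter_aux G inferInstance h4 P hP hc
    · haveI := Fintype.ofFinite (principalBlock M G)
      obtain ⟨ε, e1, -, -, -, e2, -⟩ := exists_kleinB hM hP.toSylowTop (klein_of_four h4 hP h.1) gd.one
      have := e1 ⟨χ, hχ⟩
      have := e2 ⟨χ, hχ⟩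
      exact Nat.odd_iff.2 (by simp only at this; omega)
    · obtain ⟨k, hk⟩ := hP.isPGroup.exists_card_eq
      obtain ⟨h5, h | h | h⟩ := l2e_deg hM h.2 hP hχ
      · rw [deg_eq_of_apply_one (n := 1) (by rw [h, Nat.cast_one])]; exact odd_one
      all_goals
        obtain ⟨k, rfl⟩ : ∃ j, k = j + 1 := ⟨k - 1, by rcases k with _ | k <;> simp_all⟩
        exact Nat.odd_iff.2 (by omega)
    · exact absurd hn (JR.not_pnil h hx)
  obtain ⟨φ, ψ, h4, h5, h6⟩ := χ.2.exists_mul_of_commute K 𝐂(K) (fun a ha b hb => hb a ha) fun g => by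
    obtain ⟨a, ha, b, hb, e⟩ := mem_sup_of_normal_left.1 (h1.ge (mem_top g))
    exact ⟨a, ha, b, hb, e.symm⟩
  obtain ⟨s, s1, s2, s3⟩ := exists_cent hO hP hc hK hx
  have h7 : charDegree χ.1 = charDegree φ * charDegree ψ := deg_eq_of_apply_one (by
    rw [Nat.cast_mul, cast_deg h4.isCharacter, cast_deg h5.isCharacter, ← h6]; simp)
  rw [h7]
  refine (sub K h3 inferInstance s s1 s2 (fun y hy => ?_) ⟨φ, h4⟩ (mem_of_res hM hχ _ (c := ψ 1) fun n => ?_)).mul
    (sub 𝐂(K) (fun e => ?_) inferInstance _ (mul_mem hx s1) s3 (fun y hy => ?_) ⟨ψ, h5⟩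
      (mem_of_res hM hχ _ (c := φ 1) fun n => ?_))
  · exact Invol.mem_cent.2 (by simpa using Commute.mul_right (s3 y hy.1) (Invol.mem_cent.1 hy.2).inv_right)
  · rw [← h6]; simp
  · rw [e, inf_top_eq] at h2
    exact Layer.IsComponent.ne_bot hK h2
  · exact Invol.mem_cent.2 (by
      simpa using (Invol.mem_cent.1 hy.2).mul_right (Commute.inv_right (hy.1 s s2).symm))
  · rw [mul_comm, ← h6]; simp

theorem two_dvd_sub {χ : G → ℂ} (hχ : IsCharacter G χ) (ht : orderOf t = 2) {a : ℤ} (h : χ t = a) :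
    2 ∣ charDegree χ - a := by
  have := card_dvd_of_const hχ (P := zpowers t) (a := a) fun y hy y1 => by
    rw [(Exc.mem_zpowers_two ht hy).resolve_left y1, h]
  rwa [Nat.card_zpowers, ht] at this

theorem card_mod (hM : IsPModular 2 M) (hP : Syl 2 P ⊤) (hc : IsMulCommutative P) (ht : t ∈ P) (t2 : orderOf t = 2)
    (hn : PNil 2 𝐂[t]) : 0 < Nat.card (principalBlock M G) ∧ Nat.card (principalBlock M G) ≤ Nat.card P ∧
      Nat.card (principalBlock M G) % 8 = Nat.card P % 8 := by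
  haveI := Fintype.ofFinite (principalBlock M G)
  choose a ha using fun χ : principalBlock M G => χ.1.2.isCharacter.exists_int_of_two (by rw [← sq, ← t2, pow_orderOf_eq_one] : t * t = 1)
  have h1 : ∑ χ, a χ ^ 2 = Nat.card P := by
    have := ker_self_of_pnil hM ⟨1, t2⟩ hn (syl_iff_sylowIn.1 (syl_cent hP hc ht))
    simp only [ha, map_intCast, ← sq] at this
    exact_mod_cast this
  have h2 : ∀ χ, Odd (a χ) := fun χ => by
    have := two_dvd_sub χ.1.2.isCharacter t2 (ha χ)
    have := Nat.odd_iff.1 (odd_deg hM G P hP hc t ht hn _ χ.2)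
    exact Int.odd_iff.2 (by omega)
  have h3 : (8 : ℤ) ∣ ∑ χ, (a χ ^ 2 - 1) := Finset.dvd_sum fun χ _ => Int.eight_dvd_sq_sub_one_of_odd (h2 χ)
  have h4 : 0 ≤ ∑ χ, (a χ ^ 2 - 1) := Finset.sum_nonneg fun χ _ => by
    have : a χ ≠ 0 := fun e => by simpa [e] using h2 χ
    have := sq_pos_of_ne_zero this
    omega
  rw [Finset.sum_sub_distrib, h1, Finset.sum_const, Finset.card_univ, ← Nat.card_eq_fintype_card, nsmul_one] at h3 h4
  haveI : Nonempty (principalBlock M G) := ⟨oneB M G⟩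
  exact ⟨Nat.card_pos, by omega, by omega⟩

end Cfsg.Lib.AbS
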