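import Cfsg.Agent.Lib.Small.AbB

/-! Principal 2-blocks for abelian Sylow 2-subgroups with prime inertial index. -/

set_option autoImplicit false
set_option linter.unusedSectionVars false
set_option linter.style.haveILetI false

namespace Cfsg.Lib.AbS
open Subgroup MulAction Cfsg.Lib.Block Cfsg.Lib.Block2 Cfsg.Lib.Char Cfsg.Lib.Small Cfsg.Lib.BG1 Cfsg.Lib.Gold Cfsg.Lib.Wal
open Cfsg.Lib.Amalg hiding le_cent_symm op_top
open Cfsg.Lib.Transfer (PNil SylowIn hasNormalPComplement_iff)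
open scoped ComplexConjugate

universe u

variable {G : Type u} [Group G] [Finite G] {p : ℕ} [hp : Fact p.Prime] {M : Ideal AlgInt} [M.IsMaximal]
  {P N K : Subgroup G} {x t : G}

theorem relIndex_map (hP : Syl p P ⊤) {H : Type*} [Group H] {f : G →* H} (hf : Function.Surjective f)
    (h : ∀ n ∈ 𝐍(P), ∀ x ∈ P, f (n * x * n⁻¹) = f x → n * x * n⁻¹ = x) :
    (𝐂(P.map f)).relIndex 𝐍(P.map f) = (𝐂(P)).relIndex 𝐍(P) := by
  have h1 : 𝐍(P.map f) = (𝐍(P)).map f := le_antisymm (fun y hy => by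
    obtain ⟨g, rfl⟩ := hf y
    have h2 : g ∈ 𝐍((P.map f).comap f) := by
      rw [coe_comap, ← coe_comap, ← comap_normalizer_eq_of_surjective _ hf]; exact hy
    obtain ⟨n, hn, a, ha, rfl⟩ := (hP.of_le (le_comap_map f P) le_top).frattini_mem h2
    obtain ⟨b, hb, e⟩ := hn
    exact ⟨b * a, mul_mem (le_normalizer hb) ha, by rw [map_mul, map_mul, e]⟩) (map_normalizer_le f P)
  rw [h1, ← relIndex_comap, ← inf_relIndex_right, ← inf_relIndex_right 𝐂(P)]
  congr 1
  ext n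
  refine and_congr_left fun hn => ⟨fun e x hx => ?_, fun e _ ⟨x, hx, h⟩ => by rw [← h, ← map_mul, e x hx, map_mul]⟩
  rw [eq_comm, ← mul_inv_eq_iff_eq_mul]
  exact h n hn x hx (by rw [map_mul, map_mul, ← e _ (mem_map_of_mem f hx), map_inv, mul_inv_cancel_right])

theorem one_class (hO : pPrimeCore 2 G = ⊥) (hP : Syl 2 P ⊤) (hc : IsMulCommutative P) (hK : IsComponent K) [K.Normal]
    (hPK : P ≤ K) (s t : G) (hs : orderOf s = 2) (ht : orderOf t = 2) : IsConj s t := by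
  haveI := simple hO hP hc hK
  have h : ∀ s : G, orderOf s = 2 → s ∈ K := fun s hs => by
    obtain ⟨g, e⟩ := exists_conj_mem hP (GW.Two.of_two hs)
    exact (Normal.mem_comm_iff inferInstance).1 (hPK e) |> fun h => by simpa using h
  exact K.subtype.map_isConj ((gd_of_comm (Layer.IsQuasisimple.not_isMulCommutative hK.2)
    (hP.of_le hPK le_top).subgroupOf_top (comm_subgroupOf hc _)).one ⟨s, h s hs⟩ ⟨t, h t ht⟩
    ((orderOf_coe _).symm.trans hs) ((orderOf_coe _).symm.trans ht))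

theorem rank_frob (hM : IsPModular p M) (hP : Syl p P ⊤) [P.Normal] (he : P.index.Prime) (hC : 𝐂(P) ≤ P)
    (h : ∀ u ∈ P, u ≠ 1 → 𝐂[u] ≤ P) : blockRank p (principalBlock M G) = P.index := by
  classical
  haveI := Fintype.ofFinite G
  have h1 := card_mul_rank_eq hM (isPBlock_principalBlock (M := M) (G := G)).isBlockUnion
  rw [show principalBlock M G = Set.univ from Set.eq_univ_of_forall fun χ =>
    sameBlock_of_cent_le hM hP.isPGroup hC (principalIrr G) χ] at h1 ⊢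
  simp only [finsum_mem_univ] at h1
  simp only [finsum_eq_sum_of_fintype, column_orthogonality_of_isConj (IsConj.refl _)] at h1
  rw [Finset.sum_congr rfl (g := fun c => (if c = 1 then (Nat.card G : ℂ) else 0) + P.index - if c ∈ P then (P.index : ℂ) else 0)
    fun c _ => ?_, Finset.sum_sub_distrib, Finset.sum_add_distrib, Finset.sum_ite_eq', ← Finset.sum_filter,
    Finset.sum_const, Finset.sum_const, ← Fintype.card_subtype, Finset.card_univ, ← Nat.card_eq_fintype_card,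
    ← Nat.card_eq_fintype_card, if_pos (Finset.mem_univ _), nsmul_eq_mul, nsmul_eq_mul, ← Nat.cast_mul (Nat.card P),
    card_mul_index, add_sub_cancel_left] at h1
  · exact_mod_cast mul_left_cancel₀ (Nat.cast_ne_zero.2 Nat.card_pos.ne') h1
  by_cases c1 : c = 1
  · rw [c1, show 𝐂[(1 : G)] = ⊤ from eq_top_iff.2 fun g _ => Invol.mem_cent.2 (Commute.one_right g)]
    simp [hp.out.ne_one]
  by_cases hc : c ∈ P
  · simp [c1, hc, dvd_orderOf_of_mem_isPGroup hp.out hP.isPGroup hc c1]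
  have h2 : Nat.card 𝐂[c] = P.index := by
    have h3 : P.subgroupOf 𝐂[c] = ⊥ := eq_bot_iff.2 fun u hu => mem_bot.2 (Subtype.ext (by_contra fun e =>
      hc (h u hu e (Invol.mem_cent.2 (Invol.mem_cent.1 u.2).symm))))
    have h4 := relIndex_dvd_index_of_normal P 𝐂[c]
    rw [relIndex, h3, index_bot] at h4
    refine ((Nat.dvd_prime he).1 h4).resolve_left fun e => c1 (mem_bot.1 (card_eq_one.1 e ▸ ?_))
    exact Invol.mem_cent.2 rfl
  rw [if_neg fun e => hP.not_dvd_index (e.trans (h2 ▸ orderOf_dvd_natCard _ (Invol.mem_cent.2 rfl))), h2]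
  simp [c1, hc]

section
variable (hP : Syl 2 P ⊤) (hc : IsMulCommutative P) (he : ((𝐂(P)).relIndex 𝐍(P)).Prime)
include hP hc he

omit hP hc in
theorem cent_or (hx : x ∈ P) : x ∈ 𝐂(𝐍(P)) ∨ 𝐂[x] ⊓ 𝐍(P) = 𝐂(P) :=
  (eq_or_eq_of_relIndex_prime he (le_inf (fun _ h => Invol.mem_cent.2 (h x hx).symm) (centralizer_le_normalizer _))
    inf_le_right).symm.imp_left fun e _ hn => Invol.mem_cent.1 (e.ge hn).1

/-- the subsection formula when `C_P(N(P))` is central -/
theorem card_eq (hM : IsPModular 2 M) (hZ : P ⊓ 𝐂(𝐍(P)) ≤ center G) : (Nat.card (principalBlock M G) : ℚ) =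
    Nat.card ↥(P ⊓ 𝐂(𝐍(P))) * blockRank 2 (principalBlock M G) +
      (Nat.card P - Nat.card ↥(P ⊓ 𝐂(𝐍(P)))) / (𝐂(P)).relIndex 𝐍(P) := by
  classical
  haveI := Fintype.ofFinite P
  rw [card_eq_sum hM hP hc, Finset.sum_congr rfl (g := fun u : P => 1 / ((𝐂(P)).relIndex 𝐍(P) : ℚ) +
    if (u : G) ∈ 𝐂(𝐍(P)) then (blockRank 2 (principalBlock M G) : ℚ) - 1 / (𝐂(P)).relIndex 𝐍(P) else 0) fun u _ => ?_,
    Finset.sum_add_distrib, ← Finset.sum_filter, Finset.sum_const, Finset.sum_const, Finset.card_univ,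
    ← Fintype.card_subtype, ← Nat.card_eq_fintype_card, ← Nat.card_eq_fintype_card,
    show Nat.card {u : P // (u : G) ∈ 𝐂(𝐍(P))} = Nat.card ↥(P ⊓ 𝐂(𝐍(P))) from
      Nat.card_congr (Equiv.subtypeSubtypeEquivSubtypeInter _ _)]
  · simp only [nsmul_eq_mul]; ring
  split_ifs with h
  · have e : 𝐂[(u : G)] = ⊤ := eq_top_iff.2 fun g _ => Invol.mem_cent.2 (mem_center_iff.1 (hZ ⟨u.2, h⟩) g)
    rw [← (principal_equiv hM ((MulEquiv.subgroupCongr e).trans topEquiv)).2, e, relIndex_top_left]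
    simp
  · have e := (cent_or he u.2).resolve_left h
    rw [(blockRank_principal_eq_one_iff hM).2 (hasNormalPComplement_iff.2 (pnil_centralizer_of_frob
      (syl_iff_sylowIn.1 hP) (fun a b => mul_comm' a b) u.2 e.le)), ← inf_relIndex_right, e]
    simp

omit he in
theorem le_center (hO : pPrimeCore 2 G = ⊥) : P ⊓ 𝐂(𝐍(P)) ≤ center G := fun z hz => mem_center_iff.2 fun g => by
  have := zstar_of_comm hP hc hz.1 (by rw [top_inf_eq]; exact hz.2) (mem_top g)
  rwa [opp_top Nat.prime_two, hO, mem_bot, mul_inv_eq_one, mul_inv_eq_iff_eq_mul] at this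

theorem comp_facts (hO : pPrimeCore 2 G = ⊥) (hK : IsComponent K) : K.Normal ∧ P ⊓ 𝐂(K) = P ⊓ 𝐂(𝐍(P)) ∧
    K ⊔ 𝐂(P) = ⊤ ∧ Nat.card P = ((𝐂(P)).relIndex 𝐍(P) + 1) * Nat.card ↥(P ⊓ 𝐂(𝐍(P))) := by
  have hZ := le_center hP hc hO
  have hQ := hP.inf_subnormal_top hK.1
  haveI := simple hO hP hc hK
  have nc := Layer.IsQuasisimple.not_isMulCommutative hK.2
  have h0 := inf_cent hO hP hc hK
  have key : ∀ n ∈ 𝐍(P ⊓ K), (∀ y ∈ P, y ∈ 𝐂(K) → n * y = y * n) → n ∈ 𝐍(P) := fun n hn h => by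
    refine mem_normalizer_fintype fun x hx => ?_
    obtain ⟨s, s1, s2, s3⟩ := exists_cent hO hP hc hK hx
    rw [show n * x * n⁻¹ = n * (x * s) * n⁻¹ * (n * s * n⁻¹)⁻¹ by group, h _ (mul_mem hx s1) s3, mul_inv_cancel_right]
    exact mul_mem (mul_mem hx s1) (inv_mem ((hn s).1 ⟨s1, s2⟩).1)
  have h1 : ¬ K ⊓ 𝐍(P) ≤ 𝐂(P) := fun h => not_pnil inferInstance nc ((syl_iff_sylowIn.1 hQ).pnil_of_normalizer_le_centralizer
    fun n hn => centralizer_le (SetLike.coe_subset_coe.2 inf_le_left) (h ⟨hn.1, key n hn.2 fun y _ e => e n hn.1⟩))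
  have h2 : P ⊓ 𝐂(K) = P ⊓ 𝐂(𝐍(P)) := le_antisymm (fun x hx => ⟨hx.1, (cent_or he hx.1).resolve_right fun e =>
    h1 fun n hn => e.le ⟨Invol.mem_cent.2 (hx.2 n hn.1), hn.2⟩⟩)
    fun x hx => ⟨hx.1, fun k _ => mem_center_iff.1 (hZ hx) k⟩
  haveI : K.Normal := normalizer_eq_top_iff.1 (eq_top_iff.2 fun g _ => cj_eq_self_iff.1 (by_contra fun e => by
    obtain ⟨s, s1, s2, s3⟩ := exists_two hO hP hc (Layer.IsComponent.cj hK g)
    have h3 := hZ (h2.le ⟨s1, comm_eq_bot_iff.1 (Layer.IsComponent.commutator_eq_bot_of_ne (Layer.IsComponent.cj hK g) hK e) s2⟩)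
    exact Invol.ne_one_of_two s3 (mem_bot.1 ((inf_cent hO hP hc (Layer.IsComponent.cj hK g)).le
      ⟨s2, fun k _ => mem_center_iff.1 h3 k⟩))))
  have h3 : P ⊓ K ⊔ P ⊓ 𝐂(K) = P := le_antisymm (sup_le inf_le_left inf_le_left) fun x hx => by
    obtain ⟨s, s1, s2, s3⟩ := exists_cent hO hP hc hK hx
    exact (mul_mem_cancel_right (mem_sup_left (mem_inf.2 ⟨s1, s2⟩))).1 (mem_sup_right ⟨mul_mem hx s1, s3⟩)
  refine ⟨inferInstance, h2, eq_top_iff.2 fun g _ => ?_, ?_⟩
  · obtain ⟨k, hk, n, hn, rfl⟩ := hQ.frattini_mem (le_normalizer_of_normal (mem_top g))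
    have h4 := ((eq_or_eq_of_relIndex_prime he (B := K ⊓ 𝐍(P) ⊔ 𝐂(P)) le_sup_right
      (sup_le inf_le_right (centralizer_le_normalizer _))).resolve_left fun e => h1 (le_sup_left.trans e.le)).ge.trans
      (sup_le_sup_right inf_le_left _)
    exact mul_mem (mem_sup_left hk) (h4 (key n hn fun y h e => mem_center_iff.1 (hZ (h2.le ⟨h, e⟩)) n))
  obtain ⟨t, t1, t2, t3⟩ := exists_two hO hP hc hK
  have gd := gd_of_comm nc hQ.subgroupOf_top (comm_subgroupOf (comm_of_le hc inf_le_left) _)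
  have h4 : orbit 𝐍(P) (⟨t, t1⟩ : P) = ((K.subgroupOf P : Subgroup P) : Set P) \ {1} := by
    ext w
    rw [← isConj_iff_mem_orbit (syl_iff_sylowIn.1 hP) fun a b => mul_comm' a b]
    refine ⟨fun h => ?_, fun ⟨w1, w2⟩ => ?_⟩
    · obtain ⟨g, e⟩ := isConj_iff.1 h
      exact ⟨show (w : G) ∈ K from e ▸ Normal.conj_mem inferInstance t t2 g, fun w1 => Invol.ne_one_of_two t3
        (conj_eq_one_iff.1 (e.trans (congrArg Subtype.val w1)))⟩
    · exact K.subtype.map_isConj (gd.one ⟨t, t2⟩ ⟨w, w1⟩ ((orderOf_coe _).symm.trans t3) (orderOf_eq_prime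
        ((sq _).trans (gd.el _ (GW.Two.of_mem hQ.subgroupOf_top.isPGroup ⟨w.2, w1⟩)))
        fun e => w2 (Subtype.ext (congrArg K.subtype e))))
  have h5 := ncard_orbit (⟨t, t1⟩ : P)
  rw [h4, ← inf_relIndex_right, (cent_or he t1).resolve_left fun e => Invol.ne_one_of_two t3
    (mem_bot.1 (h0.le ⟨t2, (h2.ge ⟨t1, e⟩).2⟩))] at h5
  rw [← h5, Set.ncard_sdiff_singleton_add_one (one_mem _), ← h2, ← Nat.card_coe_set_eq, SetLike.coe_sort_coe,
    ← inf_subgroupOf_left, Nat.card_congr (subgroupOfEquivOfLe inf_le_left).toEquiv, ← Core.card_sup_of_disjoint, h3]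
  · exact fun x hx => centralizer_le_normalizer _ fun y hy => PGrp.comm_of_mem hc hy.1 hx.1
  · exact le_bot_iff.1 ((inf_le_inf inf_le_right inf_le_right).trans h0.le)

end

theorem odd_relIndex (hP : Syl 2 P ⊤) (hc : IsMulCommutative P) : Odd ((𝐂(P)).relIndex 𝐍(P)) :=
  Nat.odd_iff.2 (Nat.two_dvd_ne_zero.1 ((hP.of_le le_normalizer le_top).not_dvd_relIndex_of_le
    fun _ hx _ hy => PGrp.comm_of_mem hc hy hx))

theorem conj_eq_of_sq (hP : Syl 2 P ⊤) (hc : IsMulCommutative P) {n : G} (hn : n ∈ 𝐍(P)) (hx : x ∈ P)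
    (h : n * n * x * (n * n)⁻¹ = x) : n * x * n⁻¹ = x := by
  obtain ⟨k, hk⟩ := odd_relIndex hP hc
  have h1 := Transfer.pow_relIndex_mem' (Core.normalizer_le_normalizer_centralizer P) hn x hx
  have h2 : Commute (n * n) x := mul_inv_eq_iff_eq_mul.1 h
  rw [hk, pow_succ, pow_mul, sq, ← mul_assoc, ← (h2.pow_left k).eq, mul_assoc, mul_assoc, mul_right_inj] at h1
  rw [← h1, mul_inv_cancel_right]

theorem relIndex_core (hP : Syl p P ⊤) : (𝐂(P.map (QuotientGroup.mk' (pPrimeCore p G)))).relIndex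
    𝐍(P.map (QuotientGroup.mk' (pPrimeCore p G))) = (𝐂(P)).relIndex 𝐍(P) :=
  relIndex_map hP (QuotientGroup.mk'_surjective _) fun n hn x hx e => by
    have h1 : (n * x * n⁻¹)⁻¹ * x ∈ P ⊓ pPrimeCore p G := ⟨P.mul_mem (P.inv_mem ((hn x).1 hx)) hx, QuotientGroup.eq.1 e⟩
    rwa [isPGroup_eq_bot_of_not_dvd (hP.isPGroup.to_le inf_le_left) inf_le_right (Core.not_dvd_card_pPrimeCore hp.out), mem_bot,
      inv_mul_eq_one] at h1

theorem rank_eq (hM : IsPModular 2 M) (G : Type u) [Group G] [Finite G] (P : Subgroup G) (hP : Syl 2 P ⊤)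
    (hc : IsMulCommutative P) (he : ((𝐂(P)).relIndex 𝐍(P)).Prime) :
    blockRank 2 (principalBlock M G) = (𝐂(P)).relIndex 𝐍(P) := by
  induction hG : Nat.card G using Nat.strong_induction_on generalizing G with
  | _ n ih =>
  subst hG
  by_cases hO : pPrimeCore 2 G = ⊥
  swap
  · rw [← (principal_quot hM (QuotientGroup.mk'_surjective (pPrimeCore 2 G)) Layer.not_dvd_card_ker_core).2.2.2,
      ← relIndex_core hP]
    exact ih _ (Core.card_quotient_lt hO) _ _ (hP.map_top (QuotientGroup.mk'_surjective _)) (comm_map hc _)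
      (relIndex_core hP ▸ he) rfl
  have hZ := le_center hP hc hO
  by_cases h0 : P ⊓ 𝐂(𝐍(P)) = ⊥
  swap
  · obtain ⟨z, hz, z2⟩ := SigC.exists_central_prime (hP.isPGroup.to_le inf_le_left) h0
    have zc := mem_center_iff.1 (hZ hz.1)
    haveI : (zpowers z).Normal := PGrp.normal_of_le_center (zpowers_le.2 (hZ hz.1))
    have hf := QuotientGroup.mk'_surjective (zpowers z)
    have h1 : IsPGroup 2 (QuotientGroup.mk' (zpowers z)).ker := by
      rw [QuotientGroup.ker_mk']; exact Invol.isPGroup_zpowers_two z2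
    have h2 : PQuo 2 𝐂((QuotientGroup.mk' (zpowers z)).ker) ⊤ := pquo_of_le fun g _ y hy => by
      rw [QuotientGroup.ker_mk'] at hy
      exact (mem_center_iff.1 (zpowers_le.2 (hZ hz.1) hy) g).symm
    have h3 := relIndex_map hP hf fun n hn x hx e => conj_eq_of_sq hP hc hn hx (by
      have h4 : n * x * n⁻¹ = x * (x⁻¹ * (n * x * n⁻¹)) := (mul_inv_cancel_left _ _).symm
      rcases Exc.mem_zpowers_two z2 (QuotientGroup.eq.1 e.symm) with e | e <;> rw [e] at h4
      all_goals rw [show n * n * x * (n * n)⁻¹ = n * (n * x * n⁻¹) * n⁻¹ by group, h4]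
      · rw [mul_one] at h4 ⊢; exact h4
      · rw [← mul_assoc, mul_assoc _ z, ← zc, ← mul_assoc, h4, mul_assoc, ← sq, ← z2, pow_orderOf_eq_one, mul_one])
    rw [← blockRank_preimage_infl_of_pquo hf hM h1 h2 isPBlock_principalBlock.isBlockUnion, preimage_infl_principalBlock hf
      (isPBlock_preimage_infl_of_pquo hf hM h1 h2 isPBlock_principalBlock), ← h3]
    exact ih _ (Core.card_quotient_lt fun e => Invol.ne_one_of_two z2 (zpowers_eq_bot.1 e)) _ _ (hP.map_top hf)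
      (comm_map hc _) (h3 ▸ he) rfl
  have h1 : ∀ u ∈ P, u ≠ 1 → 𝐂[u] ⊓ 𝐍(P) = 𝐂(P) := fun u hu u1 =>
    (cent_or he hu).resolve_left fun e => u1 (mem_bot.1 (h0.le ⟨hu, e⟩))
  by_cases hE : layer G = ⊥
  · have h2 := eq_top_iff.2 (le_norm_of_solvable hP hc (by have := solvable_of_layer hO hP hc hE; infer_instance)
      ((opp_top Nat.prime_two).trans hO))
    haveI := normalizer_eq_top_iff.1 h2
    have h3 : 𝐂(P) = P := le_antisymm ((centralizer_le (SetLike.coe_subset_coe.2 hP.pCore_le)).trans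
      (((Layer.centralizer_pCore_le_iff (p := 2)).2 ⟨hO, hE⟩).trans hP.pCore_le)) fun _ hx _ hy => PGrp.comm_of_mem hc hy hx
    rw [h2, h3, relIndex_top_right] at he ⊢
    exact rank_frob hM hP he h3.le fun u hu u1 => by rw [← h3, ← h1 u hu u1, h2, inf_top_eq]
  obtain ⟨K, hK⟩ := Layer.exists_component_of_layer_ne_bot hE
  obtain ⟨_, h2, h3, h4⟩ := comp_facts hP hc he hO hK
  have hPK := (le_of_inf hO hP hc hK fun x hx e => mem_bot.1 ((h2.trans h0).le ⟨hx, e⟩)).1
  have h5 := card_eq hP hc he hM hZ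
  rw [h0, card_bot, mul_one] at h4
  rw [h0, card_bot, h4, Nat.cast_add, Nat.cast_one, add_sub_cancel_right, div_self (Nat.cast_ne_zero.2 he.ne_zero),
    one_mul] at h5
  suffices Nat.card (principalBlock M G) = Nat.card P by
    rw [this, h4] at h5
    exact_mod_cast (add_right_cancel (by exact_mod_cast h5) : (𝐂(P)).relIndex 𝐍(P) = blockRank 2 (principalBlock M G)).symm
  haveI := simple hO hP hc hK
  have nc := Layer.IsQuasisimple.not_isMulCommutative hK.2
  have hQ := (hP.of_le hPK le_top).subgroupOf_top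
  rcases as_cases hO hP hc hK hPK h3 with h | ⟨rfl, h⟩ | ⟨t, E, L, h⟩
  · haveI := Fintype.ofFinite (principalBlock M G)
    have e := subgroupOfEquivOfLe hPK
    haveI := klein_of_four nc hQ ((Nat.card_congr e.toEquiv).trans h.1)
    obtain ⟨ε, -, -, h6, -⟩ := exists_kleinB hM hP.toSylowTop ⟨h.1, (Monoid.exponent_eq_of_mulEquiv e).symm.trans
      IsKleinFour.exponent_two⟩ (one_class hO hP hc hK hPK)
    rw [Nat.card_eq_fintype_card, h6, h.1]
  · haveI : IsSimpleGroup G := topEquiv.symm.isSimpleGroup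
    exact (l2e_vals hM (l2e_of_se (fun h => nc inferInstance) hP hc h le_normalizer).2.2.2 hP).1
  · refine absurd (pnil_sub t ((pnil_centralizer_of_frob (syl_iff_sylowIn.1 hP) (fun a b => mul_comm' a b) h.mem
      (h1 _ h.mem fun e => Invol.ne_one_of_two h.two (Subtype.ext e)).le).mono inf_le_right)) (JR.not_pnil h h.mem)

theorem card_eq_of_prime (hM : IsPModular 2 M) (hP : Syl 2 P ⊤) (hc : IsMulCommutative P)
    (he : ((𝐂(P)).relIndex 𝐍(P)).Prime) (hs : ¬ Group.IsSolvable G) : Nat.card (principalBlock M G) = Nat.card P := by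
  have hf := QuotientGroup.mk'_surjective (pPrimeCore 2 G)
  have h1 := hP.map_top hf
  have h2 := comm_map hc (QuotientGroup.mk' (pPrimeCore 2 G))
  have h3 := relIndex_core hP ▸ he
  have hO := Core.pPrimeCore_quotient_pPrimeCore (p := 2) (G := G)
  obtain ⟨K, hK⟩ := Layer.exists_component_of_layer_ne_bot fun e => hs (by
    haveI := solvable_of_layer hO h1 h2 e
    haveI := FT.solvable_of_not_two_dvd (pPrimeCore 2 G) (Core.not_dvd_card_pPrimeCore Nat.prime_two)
    exact Core.isSolvable_of_normal_of_quotient (pPrimeCore 2 G))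
  have h4 := card_eq h1 h2 h3 hM (le_center h1 h2 hO)
  have h5 := (comp_facts h1 h2 h3 hO hK).2.2.2
  have h6 : Nat.card (P.map (QuotientGroup.mk' (pPrimeCore 2 G))) = Nat.card P := by
    rw [← Core.card_map_mul_card_inf_ker (QuotientGroup.mk' (pPrimeCore 2 G)) P, isPGroup_eq_bot_of_not_dvd
      (hP.isPGroup.to_le inf_le_right) inf_le_left Layer.not_dvd_card_ker_core, card_bot, mul_one]
  rw [rank_eq hM _ _ h1 h2 h3, (principal_quot hM hf Layer.not_dvd_card_ker_core).2.2.1] at h4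
  rw [← h6]
  apply Nat.cast_injective (R := ℚ)
  have := (Nat.cast_ne_zero (R := ℚ)).2 h3.ne_zero
  rw [h4, h5]
  push_cast
  field_simp
  ring

end Cfsg.Lib.AbS
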