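import Cfsg.Agent.Lib.Linear.SL2Sub
import Mathlib.LinearAlgebra.QuadraticForm.AlgClosed

/-!
# Three dimensional orthogonal representations are projective representations of degree two
-/

set_option autoImplicit false

namespace Cfsg.Lib.Small

open Module Matrix Cfsg.Lib.Linear

variable {κ : Type*} [Field κ]

theorem exists_clifford [IsAlgClosed κ] (h2 : (2 : κ) ≠ 0) {S : Type*} [AddCommGroup S] [Module κ S]
    [FiniteDimensional κ S] (h3 : finrank κ S = 3) (B : LinearMap.BilinForm κ S)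
    (hs : ∀ a b, B a b = B b a) (hn : ∀ a, (∀ b, B a b = 0) → a = 0) :
    ∃ ι : S →ₗ[κ] Matrix (Fin 2) (Fin 2) κ, Function.Injective ι ∧
      (∀ a b, ι a * ι b + ι b * ι a = (2 * B a b) • 1) ∧ (∀ a, ι a 1 1 = -ι a 0 0) ∧
      ∀ x y z : κ, ∃ a, ι a = !![x, y; z, -x] := by
  letI := invertibleOfNonzero h2
  obtain ⟨e⟩ := QuadraticForm.equivalent_weightedSumSquares_of_isAlgClosed B.toQuadraticMap (by
    rw [QuadraticMap.associated_left_inverse κ hs]
    exact hn)
  rw [h3] at e
  obtain ⟨i, hi⟩ := IsAlgClosed.exists_eq_mul_self (-1 : κ)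
  have hi0 : i ≠ 0 := fun h => by simp [h] at hi
  let j : (Fin 3 → κ) →ₗ[κ] Matrix (Fin 2) (Fin 2) κ :=
    { toFun c := !![c 0, c 1 + i * c 2; c 1 - i * c 2, -c 0]
      map_add' c d := by ext a b; fin_cases a <;> fin_cases b <;> simp <;> ring
      map_smul' c d := by ext a b; fin_cases a <;> fin_cases b <;> simp <;> ring }
  have h1 : ∀ a, j (e a) * j (e a) = B a a • 1 := fun a => by
    have := e.map_app a
    simp only [QuadraticMap.weightedSumSquares_apply, Fin.sum_univ_three, Pi.one_apply, one_smul,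
      LinearMap.BilinMap.toQuadraticMap_apply] at this
    ext a b; fin_cases a <;> fin_cases b <;> simp [j, ← this]
    · linear_combination (e a 2) ^ 2 * hi
    · ring
    · ring
    · linear_combination (e a 2) ^ 2 * hi
  have h4 : ∀ a b, j (e a) * j (e b) + j (e b) * j (e a) = (2 * B a b) • 1 := fun a b => by
    have := h1 (a + b)
    simp only [map_add, add_mul, mul_add, h1, LinearMap.add_apply, hs b a, add_smul] at this
    rw [two_mul, add_smul]
    linear_combination (norm := abel1) this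
  refine ⟨j ∘ₗ e.toLinearEquiv.toLinearMap, (injective_iff_map_eq_zero _).2 fun a h => hn a fun b => ?_,
    h4, fun a => rfl, fun x y z => ⟨e.symm ![x, (y + z) / 2, (y - z) / (2 * i)], ?_⟩⟩
  · have := congrFun₂ (h4 a b) 0 0
    rw [show j (e a) = 0 from h] at this
    simpa [h2] using this
  · change j (e (e.symm _)) = _
    rw [e.apply_symm_apply]
    ext a b; fin_cases a <;> fin_cases b <;> simp [j] <;> field_simp <;> ring

theorem exists_conj_of_clifford (h2 : (2 : κ) ≠ 0) {e f h : Matrix (Fin 2) (Fin 2) κ}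
    (he : e * e + e * e = 0) (hf : f * f + f * f = 0) (hef : e * f + f * e = 1)
    (hh : h * h + h * h = 1 + 1) (heh : e * h + h * e = 0) (hfh : f * h + h * f = 0) :
    ∃ (M : GL (Fin 2) κ) (s : κ), (s = 1 ∨ s = -1) ∧ e * M.1 = s • (M.1 * !![0, 1; 0, 0]) ∧
      f * M.1 = s • (M.1 * !![0, 0; 1, 0]) ∧ h * M.1 = s • (M.1 * !![1, 0; 0, -1]) := by
  rw [← two_smul κ, smul_eq_zero_iff_right h2] at he hf
  rw [← two_smul κ, ← two_smul κ, (smul_right_injective _ h2).eq_iff] at hh
  have hf0 : f ≠ 0 := fun h => by simp [h] at hef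
  obtain ⟨w, hw⟩ : ∃ w, f *ᵥ w ≠ 0 := by
    by_contra! h
    exact hf0 (mulVec_injective (funext fun w => by rw [h, zero_mulVec]))
  set v := f *ᵥ w
  have hv : f *ᵥ v = 0 := by rw [mulVec_mulVec, hf, zero_mulVec]
  have hv' : f *ᵥ e *ᵥ v = v := by
    have := congrArg (· *ᵥ v) hef
    simpa [add_mulVec, ← mulVec_mulVec, hv] using this
  let M : Matrix (Fin 2) (Fin 2) κ := (of ![e *ᵥ v, v])ᵀ
  have h1 : e * M = M * !![0, 1; 0, 0] := by
    have := congrArg (· *ᵥ v) he
    simp only [← mulVec_mulVec, zero_mulVec] at this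
    ext a b
    fin_cases b
    · simpa [M, mul_apply, mulVec, dotProduct] using congrFun this a
    · fin_cases a <;> simp [M, mul_apply, mulVec, dotProduct]
  have h3 : f * M = M * !![0, 0; 1, 0] := by
    ext a b
    fin_cases b
    · simpa [M, mul_apply, mulVec, dotProduct] using congrFun hv' a
    · simpa [M, mul_apply, mulVec, dotProduct] using congrFun hv a
  have h4 : IsUnit M := by
    rw [← mulVec_injective_iff_isUnit]
    refine (injective_iff_map_eq_zero (mulVecLin M)).2 fun c hc => ?_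
    have h5 : c 0 • e *ᵥ v + c 1 • v = 0 := by
      rw [← hc]
      ext a
      fin_cases a <;> simp [M, mulVec, dotProduct, mul_comm, vecHead, vecTail]
    have h6 := congrArg (f *ᵥ ·) h5
    simp only [mulVec_add, mulVec_smul, hv, hv', smul_zero, add_zero, mulVec_zero,
      smul_eq_zero_iff_left hw] at h6
    rw [h6, zero_smul, zero_add, smul_eq_zero_iff_left hw] at h5
    ext a
    fin_cases a
    exacts [h6, h5]
  lift M to GL (Fin 2) κ using h4 with N hN
  obtain ⟨k, hk⟩ : ∃ k, h * N.1 = N.1 * k := ⟨N⁻¹.1 * (h * N), by simp⟩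
  have h5 := congrArg (· * N.1) heh
  have h6 := congrArg (· * N.1) hfh
  have h7 := congrArg (· * N.1) hh
  simp only [add_mul, mul_assoc, hk, h1, h3, zero_mul, one_mul] at h5 h6 h7
  simp only [← mul_assoc, hk, h1, h3] at h5 h6 h7
  simp only [mul_assoc, ← mul_add, Units.mul_right_eq_zero] at h5 h6 h7
  replace h7 := N.mul_right_inj.1 (h7.trans (mul_one _).symm)
  have h8 : k = k 0 0 • !![1, 0; 0, -1] := by
    have a1 := congrFun₂ h5 0 0
    have a2 := congrFun₂ h5 0 1
    have a3 := congrFun₂ h6 0 0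
    simp [mul_apply, vecMul, dotProduct] at a1 a2 a3
    ext a b
    fin_cases a <;> fin_cases b <;> simp [a1, a3]
    linear_combination a2
  have h9 : k 0 0 * k 0 0 = 1 := by
    rw [h8] at h7
    simpa [mul_apply] using congrFun₂ h7 0 0
  rcases mul_self_eq_one_iff.1 h9 with a | a
  · exact ⟨N, 1, .inl rfl, by simp [h1], by simp [h3], by rw [hk, h8, a, one_smul, one_smul]⟩
  · refine ⟨N * glMat 1 0 0 (-1) (by simp), -1, .inr rfl, ?_, ?_, ?_⟩ <;>
      simp only [Units.val_mul, coe_glMat, ← mul_assoc, h1, h3, hk] <;>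
      simp only [mul_assoc, ← mul_smul_comm] <;> congr 1
    · ext a b; fin_cases a <;> fin_cases b <;> simp
    · ext a b; fin_cases a <;> fin_cases b <;> simp
    · rw [h8, a]; ext a b; fin_cases a <;> fin_cases b <;> simp

theorem mk_eq_one_of_clifford (h2 : (2 : κ) ≠ 0) {N : GL (Fin 2) κ} {s : κ} (hs : s = 1 ∨ s = -1)
    (h : ∀ x y z : κ, !![x, y; z, -x] * N.1 = s • (N.1 * !![x, y; z, -x])) :
    ProjGenLinGroup.mk N = 1 ∧ s = 1 := by
  have a1 := congrFun₂ (h 0 1 0) 0 0
  have a2 := congrFun₂ (h 0 1 0) 0 1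
  have a3 := congrFun₂ (h 0 0 1) 0 0
  have a4 := congrFun₂ (h 1 0 0) 0 0
  have a5 := gl2_det_ne N
  simp [mul_apply] at a1 a2 a3 a4
  rw [mk_eq_mat, mat_eq_one_iff]
  rcases hs with rfl | rfl
  · exact ⟨⟨by simpa using a3, a1, by simpa using a2.symm⟩, rfl⟩
  · have : N 0 0 = 0 := mul_left_cancel₀ h2 (by linear_combination a4)
    simp [this, a1] at a5

theorem exists_pgl2_of_three [IsAlgClosed κ] (h2 : (2 : κ) ≠ 0) {S : Type*} [AddCommGroup S]
    [Module κ S] [FiniteDimensional κ S] (h3 : finrank κ S = 3) (B : LinearMap.BilinForm κ S)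
    (hs : ∀ a b, B a b = B b a) (hn : ∀ a, (∀ b, B a b = 0) → a = 0) {G : Type*} [Group G]
    (ρ : G →* End κ S) (hρ : ∀ g a b, B (ρ g a) (ρ g b) = B a b) :
    ∃ π : G →* PGL2 κ, ∀ g, π g = 1 ↔ ρ g = 1 ∨ ρ g = -1 := by
  obtain ⟨ι, hι, h1, h4, h5⟩ := exists_clifford h2 h3 B hs hn
  obtain ⟨e, he⟩ := h5 0 1 0
  obtain ⟨f, hf⟩ := h5 0 0 1
  obtain ⟨h, hh⟩ := h5 1 0 0
  have h6 : ∀ g a b, ι (ρ g a) * ι (ρ g b) + ι (ρ g b) * ι (ρ g a) = ι a * ι b + ι b * ι a :=
    fun g a b => by rw [h1, h1, hρ]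
  have h7 : ∀ g, ∃ (M : GL (Fin 2) κ) (s : κ), (s = 1 ∨ s = -1) ∧
      ∀ a, ι (ρ g a) * M.1 = s • (M.1 * ι a) := fun g => by
    obtain ⟨M, s, a1, a2, a3, a4⟩ : ∃ (M : GL (Fin 2) κ) (s : κ), (s = 1 ∨ s = -1) ∧ _ := by
      refine exists_conj_of_clifford h2 (e := ι (ρ g e)) (f := ι (ρ g f))
        (h := ι (ρ g h)) ?_ ?_ ?_ ?_ ?_ ?_ <;>
      · rw [h6]
        ext i j
        fin_cases i <;> fin_cases j <;> simp [he, hf, hh]
    refine ⟨M, s, a1, fun a => ?_⟩
    have : a = ι a 0 1 • e + ι a 1 0 • f + ι a 0 0 • h := hι (by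
      simp only [map_add, map_smul, he, hf, hh]
      ext i j
      fin_cases i <;> fin_cases j <;> simp [h4])
    rw [this]
    simp only [map_add, map_smul, add_mul, smul_mul_assoc, a2, a3, a4, he, hf, hh, neg_zero, mul_add,
      mul_smul_comm, smul_add, smul_comm s]
  choose M s h8 h9 using h7
  have key : ∀ g (N : GL (Fin 2) κ) (r : κ), (r = 1 ∨ r = -1) →
      (∀ a, ι (ρ g a) * N.1 = r • (N.1 * ι a)) → ProjGenLinGroup.mk N = ProjGenLinGroup.mk (M g) :=
    fun g N r hr hN => by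
      rw [← inv_mul_eq_one, ← map_inv, ← map_mul]
      refine (mk_eq_one_of_clifford h2 (s := r * s g) (by
        rcases hr with a | a <;> rcases h8 g with b | b <;> simp [a, b]) fun x y z => ?_).1
      obtain ⟨a, ha⟩ := h5 x y z
      have hr' : r * r = 1 := by rcases hr with a | a <;> simp [a]
      rw [← ha, ← (Units.mul_right_inj N), Units.val_mul, mul_smul_comm, mul_assoc _ (M g).1,
        Units.mul_inv_cancel_left, mul_smul, ← h9, ← mul_assoc, ← one_smul κ (N.1 * ι a), ← hr',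
        mul_smul, ← hN]
      simp [mul_assoc]
  refine ⟨MonoidHom.mk' (fun g => ProjGenLinGroup.mk (M g)) fun g k => ?_, fun g => ⟨fun h => ?_,
    fun h => ?_⟩⟩
  · rw [← map_mul]
    refine (key _ _ (s g * s k) (by
      rcases h8 g with a | a <;> rcases h8 k with b | b <;> simp [a, b]) fun a => ?_).symm
    rw [map_mul, End.mul_apply, Units.val_mul, ← mul_assoc, h9, smul_mul_assoc, mul_assoc, h9]
    simp [mul_smul, mul_assoc]
  · obtain ⟨u, hu⟩ := ProjGenLinGroup.mk_eq_mk_iff.1 (Eq.symm h : ProjGenLinGroup.mk 1 = _)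
    have : ∀ a, ρ g a = s g • a := fun a => hι (by
      have := h9 g a
      rw [← hu] at this
      rw [map_smul, ← (smul_right_injective _ u.ne_zero).eq_iff]
      simpa [← smul_eq_mul_diagonal, ← smul_eq_diagonal_mul, smul_comm (s g)] using this)
    exact (h8 g).imp (fun e => LinearMap.ext fun a => by simp [this, e])
      fun e => LinearMap.ext fun a => by simp [this, e]
  · rcases h with h | h
    · exact (key g 1 1 (.inl rfl) fun a => by simp [h]).symm
    · exact (key g 1 (-1) (.inr rfl) fun a => by simp [h]).symm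

end Cfsg.Lib.Small
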