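import Cfsg.Agent.Lib.Small.PolyM
import Cfsg.Agent.Lib.Small.SO3
import Cfsg.Agent.Lib.Small.PB
import Cfsg.Agent.Lib.Block2.Frob

/-!
# Groups with a Sylow subgroup of order `p` and a representation of degree less than `p / 2`
-/

set_option autoImplicit false

namespace Cfsg.Lib.Small

open Module Polynomial Subgroup Cfsg.Lib.Amalg Cfsg.Lib.Linear

variable {κ : Type*} [Field κ] {p : ℕ} [hp : Fact p.Prime]

section lin

variable {V : Type*} [AddCommGroup V] [Module κ V] [FiniteDimensional κ V]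

omit hp in
theorem exists_orth_proj (B : LinearMap.BilinForm κ V) (hs : ∀ a b, B a b = B b a)
    (S : Submodule κ V) (hS : ∀ s ∈ S, (∀ s' ∈ S, B s s' = 0) → s = 0) :
    ∃ u : End κ V, LinearMap.range u = S ∧ u * u = u ∧ (∀ a b, B (u a) b = B a (u b)) ∧
      ∀ g : End κ V, (∀ a b, B (g a) (g b) = B a b) → (∀ s ∈ S, g s ∈ S) → g * u = u * g := by
  let e := LinearEquiv.ofInjectiveOfFinrankEq (B.domRestrict₁₂ S S)
    ((injective_iff_map_eq_zero _).2 fun s h => Subtype.ext (hS s s.2 fun s' hs' =>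
      LinearMap.congr_fun h ⟨s', hs'⟩)) Subspace.dual_finrank_eq.symm
  let u := S.subtype ∘ₗ e.symm.toLinearMap ∘ₗ B.domRestrict₂ S
  have h1 : ∀ a, u a ∈ S := fun a => Subtype.prop _
  have h2 : ∀ a, ∀ s ∈ S, B (u a) s = B a s := fun a s hs =>
    LinearMap.congr_fun (e.apply_symm_apply (B.domRestrict₂ S a)) ⟨s, hs⟩
  have h3 : ∀ a ∈ S, ∀ b ∈ S, (∀ s ∈ S, B a s = B b s) → a = b := fun a ha b hb h =>
    sub_eq_zero.1 (hS _ (sub_mem ha hb) fun s hs => by simp [h s hs])
  have h4 : ∀ s ∈ S, u s = s := fun s hs => h3 _ (h1 s) _ hs (h2 s)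
  refine ⟨u, le_antisymm (by rintro _ ⟨a, rfl⟩; exact h1 a) fun s hs => ⟨s, h4 s hs⟩,
    LinearMap.ext fun a => h4 _ (h1 a), fun a b => ?_, fun g hg hgS => LinearMap.ext fun a => ?_⟩
  · rw [← h2 a _ (h1 b), hs _ b, ← h2 b _ (h1 a), hs]
  · refine h3 _ (hgS _ (h1 a)) _ (h1 _) fun s hs => ?_
    obtain ⟨s', hs'⟩ := LinearMap.surjective_of_injective (f := g.restrict hgS)
      ((injective_iff_map_eq_zero _).2 fun v hv => Subtype.ext (hS v v.2 fun s' _ => by
        rw [← hg, show g v = 0 from congrArg Subtype.val hv, LinearMap.map_zero₂])) ⟨s, hs⟩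
    rw [← show g s' = s from congrArg Subtype.val hs', End.mul_apply, h2 _ _ (hgS _ s'.2), hg, hg, h2 _ _ s'.2]

omit hp in
theorem Sl2.eq_zero (h2 : (2 : κ) ≠ 0) {x t e h f : End κ V} (H : Sl2 x t e h f) (c : Fin 3 → κ)
    (hc : ∀ i, LinearMap.trace κ V ((∑ j, c j • ![e, h, f] j) * ![e, h, f] i) = 0) : c = 0 := by
  have a1 := congrArg (fun z => LinearMap.trace κ V (z * e)) H.he
  have a2 := congrArg (fun z => LinearMap.trace κ V (h * z)) H.he
  have a3 := congrArg (fun z => LinearMap.trace κ V (h * z)) H.hf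
  have a4 := congrArg (fun z => LinearMap.trace κ V (z * f)) H.hf
  have a5 := congrArg (fun z => LinearMap.trace κ V (z * f)) H.he
  have a6 := congrArg (fun z => LinearMap.trace κ V (h * z)) H.ef
  have c1 := LinearMap.trace_mul_cycle κ h e e
  have c2 := LinearMap.trace_mul_cycle κ h e h
  have c3 := LinearMap.trace_mul_cycle κ h f h
  have c4 := LinearMap.trace_mul_cycle κ h f f
  have c5 := LinearMap.trace_mul_cycle κ h f e
  simp only [sub_mul, mul_sub, map_sub, smul_mul_assoc, mul_smul_comm, map_smul, ← mul_assoc,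
    smul_eq_mul] at a1 a2 a3 a4 a5 a6
  have b1 := hc 0
  have b2 := hc 1
  have b3 := hc 2
  simp only [Fin.sum_univ_three, add_mul, smul_mul_assoc, map_add, map_smul, smul_eq_mul,
    Matrix.cons_val, LinearMap.trace_mul_comm κ f, LinearMap.trace_mul_comm κ e h] at b1 b2 b3
  have d1 : LinearMap.trace κ V (e * e) = 0 := mul_left_cancel₀ h2 (by linear_combination a1 - c1)
  have d2 : LinearMap.trace κ V (h * e) = 0 := mul_left_cancel₀ h2 (by linear_combination a2 + c2)
  have d3 : LinearMap.trace κ V (h * f) = 0 := mul_left_cancel₀ h2 (by linear_combination -a3 - c3)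
  have d4 : LinearMap.trace κ V (f * f) = 0 := mul_left_cancel₀ h2 (by linear_combination -a4 + c4)
  have d5 : LinearMap.trace κ V (h * h) = -2 * LinearMap.trace κ V (e * f) := by
    linear_combination -a6 + a5 - c5
  simp only [d1, d2, d3, d4, d5, mul_zero, zero_add, add_zero, mul_eq_zero, H.tr, or_false,
    neg_eq_zero, h2] at b1 b2 b3
  ext i
  fin_cases i
  exacts [b3, b2, b1]

/-- multiples of `y` commuting with `y` -/
def Mu {R : Type*} [Ring R] (y a : R) : Prop := Commute a y ∧ ∃ v, a = v * y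

theorem Mu.add {R : Type*} [Ring R] {y a b : R} (h : Mu y a) (h' : Mu y b) : Mu y (a + b) := by
  obtain ⟨h1, v, rfl⟩ := h
  obtain ⟨h2, w, rfl⟩ := h'
  exact ⟨h1.add_left h2, v + w, (add_mul ..).symm⟩

theorem Mu.mul_left {R : Type*} [Ring R] {y a b : R} (h : Mu y a) (h' : Commute b y) : Mu y (b * a) := by
  obtain ⟨h1, v, rfl⟩ := h
  exact ⟨h'.mul_left h1, b * v, (mul_assoc ..).symm⟩

theorem Mu.mul_right {R : Type*} [Ring R] {y a b : R} (h : Mu y a) (h' : Commute b y) : Mu y (a * b) := by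
  obtain ⟨h1, v, rfl⟩ := h
  exact ⟨h1.mul_left h', v * b, by rw [mul_assoc, ← h'.eq, mul_assoc]⟩

theorem Mu.pow_eq_zero {R : Type*} [Ring R] {y a : R} (h : Mu y a) {n : ℕ} (hn : y ^ n = 0) :
    a ^ n = 0 := by
  obtain ⟨h1, v, e⟩ := h
  rw [pow_eq_of_eq_mul e h1, hn, mul_zero]

theorem Mu.idem [CharP κ p] {y u z : End κ V} (hy : y ^ p = 0) (hu : u * u = u) (hc : Commute u y)
    (hz : Mu y z) : (u + z) ^ p * (u + z) ^ p = (u + z) ^ p ∧ (∀ a, y a = 0 → ((u + z) ^ p) a = u a) ∧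
      finrank κ (LinearMap.range ((u + z) ^ p)) = finrank κ (LinearMap.range u) := by
  rcases subsingleton_or_nontrivial V with h | h
  · exact ⟨Subsingleton.elim _ _, fun _ _ => Subsingleton.elim _ _, by rw [Subsingleton.elim (_ ^ p) u]⟩
  haveI : CharP (End κ V) p := charP_of_injective_algebraMap (algebraMap κ _).injective p
  have h1 : ∀ j, Mu y ((u + z) ^ (j + 1) - u) := fun j => by
    induction j with
    | zero => simpa using hz
    | succ j ih =>
      convert (ih.mul_right (hc.add_left hz.1)).add (hz.mul_left hc) using 1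
      rw [pow_succ, sub_mul, mul_add u, hu]
      abel
  have h2 : (u + z) ^ p * (u + z) ^ p = (u + z) ^ p := by
    have := ((h1 1).add (hz.mul_left (Commute.neg_one_left y))).pow_eq_zero hy
    rwa [show (u + z) ^ (1 + 1) - u + -1 * z = (u + z) * (u + z) - (u + z) by noncomm_ring,
      sub_pow_char_of_commute _ ((Commute.refl _).mul_left (Commute.refl _)),
      (Commute.refl _).mul_pow, sub_eq_zero] at this
  have h3 := h1 (p - 1)
  rw [Nat.sub_add_cancel hp.out.one_le] at h3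
  generalize (u + z) ^ p = ε at h2 h3
  refine ⟨h2, fun a ha => ?_, ?_⟩
  · obtain ⟨-, v, hv⟩ := h3
    rw [sub_eq_iff_eq_add.1 hv]
    simp [ha]
  obtain ⟨v, hv⟩ := IsNilpotent.isUnit_one_add
    ⟨p, (h3.mul_right ((hc.add_left hc).sub_left (Commute.one_left y))).pow_eq_zero hy⟩
  have h4 : ε * v = v * u := by
    rw [hv]
    simp only [mul_add, add_mul, mul_sub, sub_mul, ← mul_assoc, h2, mul_one, one_mul]
    simp only [mul_assoc, hu]
    abel
  let e := LinearMap.GeneralLinearGroup.toLinearEquiv v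
  have h5 : LinearMap.range ε = (LinearMap.range u).map e.toLinearMap := by
    rw [← LinearMap.range_comp, ← LinearMap.range_comp_of_range_eq_top ε e.range]
    exact congrArg _ h4
  rw [h5, LinearEquiv.finrank_map_eq]

end lin

section conj

variable {A : Type*} [Ring A] [Algebra κ A] {G : Type*} [Group G]

/-- the conjugation action on an algebra -/
noncomputable def cjH (κ : Type*) [Field κ] [Algebra κ A] (ρ : G →* A) : G →* End κ A where
  toFun := cjL κ ρ
  map_one' := LinearMap.ext fun a => by simp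
  map_mul' g h := LinearMap.ext fun a => by simp [mul_assoc]

@[simp] theorem cjH_apply (ρ : G →* A) (g : G) (a : A) : cjH κ ρ g a = ρ g * a * ρ g⁻¹ :=
  cjL_apply ρ g a

theorem cjH_map (ρ : G →* A) (g h : G) : cjH κ ρ g (ρ h) = ρ (g * h * g⁻¹) := by simp

theorem cjH_eq_iff (ρ : G →* A) {g : G} {a b : A} : cjH κ ρ g a = b ↔ ρ g * a = b * ρ g := by
  refine ⟨fun h => ?_, fun h => ?_⟩
  · simp [← h, mul_assoc, ← map_mul]
  · simp [h, mul_assoc, ← map_mul]

theorem cjH_sub_one_pow (ρ : G →* A) {x : G} {d : ℕ} (h : (ρ x - 1) ^ d = 0) :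
    (cjH κ ρ x - 1) ^ (2 * d) = 0 := by
  set L := LinearMap.mulLeft κ (ρ x - 1)
  set R := LinearMap.mulRight κ (ρ x - 1)
  set S := LinearMap.mulRight κ (ρ x⁻¹)
  have h2 : cjH κ ρ x - 1 = (L + -R) * S := LinearMap.ext fun v => by
    simp [L, R, S, sub_mul, mul_sub, mul_assoc, ← map_mul]
  have h3 : Commute L (-R) := LinearMap.ext fun v => by simp [L, R, mul_assoc]
  have h4 : Commute (L + -R) S := LinearMap.ext fun v => by
    simp [L, R, S, sub_mul, mul_sub, add_mul, mul_assoc, ← map_mul]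
  rw [h2, h4.mul_pow, h3.add_pow_eq_zero_of_add_le_succ_of_pow_eq_zero (m := d) (n := d) _ _ (by omega),
    zero_mul]
  · simp [L, LinearMap.pow_mulLeft, h]
  · rw [← neg_one_smul κ R, _root_.smul_pow]; simp [R, LinearMap.pow_mulRight, h]

theorem sum_eq_pow [CharP κ p] [Fintype G] (σ : G →* A) {x : G} (hx : ∀ u, u ∈ zpowers x)
    (ho : orderOf x = p) : ∑ c, σ c = (σ x - 1) ^ (p - 1) := by
  have := congrArg (aeval (σ x)) (geom_eq_pow (κ := κ) (p := p) 1)
  simp only [map_sum, map_pow, aeval_X, map_sub, map_one, pow_one] at this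
  rw [← this, Finset.sum_range, ← (bijective_pow hx ho).sum_comp]
  simp only [map_pow]

end conj

variable {G : Type*} [Group G] [Finite G]

theorem sylow_inf_eq_bot (P : Sylow p G) (hP : Nat.card P = p) (Q : Sylow p G) (h : Q ≠ P) :
    (P : Subgroup G) ⊓ Q = ⊥ := by
  rcases (Nat.dvd_prime hp.out).1 (hP ▸ card_dvd_of_le (inf_le_left : (P : Subgroup G) ⊓ Q ≤ P)) with
    e | e
  · exact card_eq_one.1 e
  · exact absurd (Sylow.ext (P.is_maximal' Q.isPGroup' (inf_eq_left.1
      (eq_of_le_of_card_ge inf_le_left (hP.trans e.symm).le)))) h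

variable {W : Type*} [AddCommGroup W] [Module κ W] [FiniteDimensional κ W] [CharP κ p]

/-- a faithful modular representation of small degree -/
structure SR {P : Sylow p G} (D : DOne p (P : Subgroup G)) (ρ : G →* End κ W) : Prop where
  inj : Function.Injective ρ
  small : 2 * finrank κ W + 1 ≤ p
  scalar : ∀ z ∈ center G, ∃ c : κ, ρ z = c • 1
  cent : ∀ v : G, (∀ g, v * (g * D.x * g⁻¹) = g * D.x * g⁻¹ * v) → v ∈ center G

namespace SR

variable {P : Sylow p G} {D : DOne p (P : Subgroup G)} {ρ : G →* End κ W} (h : SR D ρ)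
include h

omit [Finite G] [FiniteDimensional κ W] [CharP κ p] in
theorem ne_one : ρ D.x ≠ 1 := fun e => D.x_ne_one (h.inj (e.trans (map_one ρ).symm))

omit [Finite G] in
theorem nil : (ρ D.x - 1) ^ finrank κ W = 0 := by
  haveI : Nontrivial (End κ W) := nontrivial_of_ne _ _ h.ne_one
  haveI : CharP (End κ W) p := charP_of_injective_algebraMap (algebraMap κ _).injective p
  have hN : IsNilpotent (ρ D.x - 1) := ⟨p, by
    rw [sub_pow_char_of_commute _ (Commute.one_right _), ← map_pow, D.pow_eq_one D.x_mem]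
    simp⟩
  have := LinearMap.aeval_self_charpoly (ρ D.x - 1)
  rwa [hN.charpoly_eq_X_pow_finrank, map_pow, aeval_X] at this

omit [Finite G] in
theorem nil2 : (cjH κ ρ D.x - 1) ^ (p - 1) = 0 :=
  pow_eq_zero_of_le (by have := h.small; omega) (cjH_sub_one_pow ρ h.nil)

omit [Finite G] h [FiniteDimensional κ W] [CharP κ p] in
theorem gen (u : (P : Subgroup G)) : u ∈ zpowers (⟨D.x, D.x_mem⟩ : (P : Subgroup G)) := by
  obtain ⟨k, hk⟩ := (D.zpowers_eq D.x_mem D.x_ne_one).ge u.2
  exact ⟨k, Subtype.ext hk⟩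

omit [Finite G] h [FiniteDimensional κ W] [CharP κ p] in
theorem ord : orderOf (⟨D.x, D.x_mem⟩ : (P : Subgroup G)) = p := by
  rw [← orderOf_coe, D.orderOf_eq D.x_mem D.x_ne_one]

theorem transfer {s : End κ (End κ W)} (hs : ∀ n ∈ 𝐍 (P : Subgroup G), cjH κ ρ n * s = s * cjH κ ρ n) :
    ∃ z, Mu (cjH κ ρ D.x - 1) z ∧ (∀ g, cjH κ ρ g * (s + z) = (s + z) * cjH κ ρ g) ∧
      ∀ S : AddSubmonoid (End κ (End κ W)), (∀ g, cjH κ ρ g * s * cjH κ ρ g⁻¹ ∈ S) → s + z ∈ S := by
  haveI := Fintype.ofFinite P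
  obtain ⟨z, h1, h2, h3⟩ := exists_transfer (κ := κ) P (sylow_inf_eq_bot P D.card) (cjH κ ρ) hs
  obtain ⟨-, v, hv⟩ := tr_eq_mul ((cjH κ ρ).comp (P : Subgroup G).subtype) (gen (D := D)) (a := 1)
    (by rw [pow_one, ord]) h.nil2 h1
  rw [pow_one, Nat.sub_sub_self hp.out.one_le, pow_one] at hv
  refine ⟨z, ⟨Commute.sub_right ?_ (Commute.one_right _), v, hv⟩, h2, h3⟩
  have := h2 D.x
  rwa [mul_add, add_mul, hs _ (le_normalizer D.x_mem), add_right_inj, eq_comm] at this

theorem mem_center {v : 𝐂 (P : Subgroup G)} (hv : D.π v = 0) : (v : G) ∈ center G := by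
  classical
  haveI := Fintype.ofFinite (𝐂 (P : Subgroup G))
  haveI : Nontrivial (End κ W) := nontrivial_of_ne _ _ h.ne_one
  haveI : CharP (End κ (End κ W)) p := charP_of_injective_algebraMap (algebraMap κ _).injective p
  obtain ⟨z, h1, h2, -⟩ := h.transfer (s := ∑ c with D.π c = 0, cjH κ ρ c) fun n hn => by
    simp only [Finset.mul_sum, Finset.sum_mul, ← map_mul]
    exact Finset.sum_equiv (cjC ⟨n, hn⟩).toEquiv (by simp [D.π_cjC_eq_zero]) fun c _ =>
      congrArg _ (inv_mul_cancel_right _ n).symm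
  set s := ∑ c with D.π c = 0, cjH κ ρ c with hs
  have h3 : Commute s (s + z) := Commute.sum_left _ _ _ fun c _ => h2 c
  have h4 : (s + z) ^ p = s ^ p := by
    rw [add_pow_char_of_commute _ (by simpa using h3.sub_right (Commute.refl s)),
      h1.pow_eq_zero (pow_eq_zero_of_le (Nat.sub_le p 1) h.nil2), add_zero]
  have h5 : cjH κ ρ v * s = s := by
    simp only [hs, Finset.mul_sum, ← map_mul]
    exact Finset.sum_equiv (Equiv.mulLeft v) (by simp [D.π_mul, hv]) fun c _ => rfl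
  let V : Subgroup (𝐂 (P : Subgroup G)) :=
    (MonoidHom.mk' (fun c => Multiplicative.ofAdd (D.π c)) D.π_mul).ker
  have h6 : (Nat.card V : κ) ≠ 0 := fun e => by
    obtain ⟨c, hc⟩ := exists_prime_orderOf_dvd_card' p ((CharP.cast_eq_zero_iff κ p _).1 e)
    exact (D.π_eq_zero c).1 c.2 (by rw [orderOf_coe, hc])
  have h7 : ∀ j, (s ^ j) (ρ D.x) = (Nat.card V : κ) ^ j • ρ D.x := fun j => by
    induction j with
    | zero => simp
    | succ j ih =>
      rw [pow_succ', End.mul_apply, ih, map_smul, pow_succ, mul_smul, hs, LinearMap.sum_apply,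
        Finset.sum_congr rfl (g := fun _ => ρ D.x), Finset.sum_const, Nat.cast_smul_eq_nsmul,
        Nat.card_eq_fintype_card, Fintype.card_subtype]
      · congr!
      · intro c _
        rw [cjH_map, ← c.2 _ D.x_mem, mul_inv_cancel_right]
  refine h.cent v fun g => h.inj ?_
  have h8 : (s ^ p) (cjH κ ρ g (ρ D.x)) = (Nat.card V : κ) ^ p • cjH κ ρ g (ρ D.x) := by
    rw [← End.mul_apply, ← h4, ← (Commute.pow_right (h2 g) p).eq, h4, End.mul_apply, h7, map_smul]
  have h9 : cjH κ ρ v * s ^ p = s ^ p := by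
    rw [← mul_pow_sub_one hp.out.ne_zero, ← mul_assoc, h5]
  have := LinearMap.congr_fun h9 (cjH κ ρ g (ρ D.x))
  rw [End.mul_apply, h8, map_smul, (smul_right_injective _ (pow_ne_zero _ h6)).eq_iff, cjH_eq_iff,
    cjH_map] at this
  rw [map_mul, this, ← map_mul]

theorem cjH_center {z : G} (hz : z ∈ center G) : cjH κ ρ z = 1 := by
  obtain ⟨c, hc⟩ := h.scalar z hz
  exact LinearMap.ext fun a => (cjH_eq_iff ρ).2 (by simp [hc])

theorem exists_t : ∃ t ∈ 𝐍 (P : Subgroup G), t ^ (P : Subgroup G).index = 1 ∧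
    ∀ u, Commute (cjH κ ρ D.x) u → Commute (cjH κ ρ t) u → ∀ n ∈ 𝐍 (P : Subgroup G),
      cjH κ ρ n * u = u * cjH κ ρ n := by
  obtain ⟨⟨_, t, rfl⟩, ht⟩ := IsCyclic.exists_generator (α := D.a.range)
  refine ⟨t ^ p, pow_mem t.2 _, by rw [← pow_mul, ← D.card_G, pow_card_eq_one'],
    fun u h1 h2 n hn => ?_⟩
  obtain ⟨j, hj⟩ := mem_powers_iff_mem_zpowers.2 (ht ⟨_, ⟨n, hn⟩, rfl⟩)
  have h3 : D.a (((t ^ p) ^ j)⁻¹ * ⟨n, hn⟩) = 1 := by
    rw [map_mul, map_inv, map_pow, map_pow, inv_mul_eq_one,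
      show D.a t ^ p = D.a t from Units.ext (ZMod.pow_card _)]
    exact congrArg Subtype.val hj
  obtain ⟨y, hy, e⟩ := D.exists_decomp ⟨_, (D.a_eq_one_iff _).1 h3⟩
  replace e : n = ((t : G) ^ p) ^ j * (D.x ^ _ * y) := inv_mul_eq_iff_eq_mul.1 (congrArg Subtype.val e)
  rw [e, map_mul, map_mul, map_pow, map_pow _ (D.x : G), h.cjH_center (h.mem_center hy), mul_one]
  exact (h2.pow_left _).mul_left (h1.pow_left _)

theorem le_center {K : Subgroup G} [K.Normal] (hK : (D.x : G) ∉ K) : K ≤ center G := by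
  classical
  haveI := Fintype.ofFinite K
  haveI := Fintype.ofFinite P
  have h1 : ¬ p ∣ Nat.card K := fun e => by
    obtain ⟨k, hk⟩ := exists_prime_orderOf_dvd_card' p e
    rw [← orderOf_coe] at hk
    obtain ⟨g, hg⟩ := D.exists_conj_mem (hk ▸ pow_orderOf_eq_one (k : G))
    refine hK (zpowers_le.2 (Normal.conj_mem ‹_› _ k.2 g) ((D.zpowers_eq hg fun e => ?_).ge D.x_mem))
    rw [conj_eq_one_iff.1 e, orderOf_one] at hk
    exact hp.out.ne_one hk.symm
  letI := MulAction.compHom K ((MulAut.conjNormal (H := K)).comp (P : Subgroup G).subtype)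
  have h2 := sum_mem_range_tr (κ := κ) (p := p) (C := (P : Subgroup G)) (fun c => cjH κ ρ c)
    (fun k : K => ρ (k * D.x * (k : G)⁻¹) - ρ D.x) (fun c k => by
      have : (c : G) * D.x * (c : G)⁻¹ = D.x := by rw [D.x.2 c c.2, mul_inv_cancel_right]
      rw [map_sub, cjH_map, cjH_map, this]
      nth_rw 1 [← this]
      change ρ ((c : G) * k * (c : G)⁻¹ * _ * ((c : G) * k * (c : G)⁻¹)⁻¹) - _ = _
      simp [mul_assoc]) fun k hk e => hk (by
      have h3 : MulAction.stabilizer (P : Subgroup G) k = ⊤ := eq_top_of_le_card _ (by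
        rw [D.card]; exact Nat.le_of_dvd Nat.card_pos e)
      have h4 : (D.x : G) * k * (D.x : G)⁻¹ = k :=
        congrArg Subtype.val (h3.ge (mem_top (⟨D.x, D.x_mem⟩ : (P : Subgroup G))))
      rw [← mul_inv_eq_iff_eq_mul.1 h4, mul_inv_cancel_right, sub_self])
  have h3 := sum_eq_pow (κ := κ) ((cjH κ ρ).comp (P : Subgroup G).subtype) (gen (D := D)) ord
  rw [show ∑ c : (P : Subgroup G), cjH κ ρ c = 0 from h3.trans h.nil2, LinearMap.range_zero,
    Submodule.mem_bot, Finset.sum_sub_distrib, sub_eq_zero, Finset.sum_const, Finset.card_univ,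
    ← Nat.card_eq_fintype_card, ← Nat.cast_smul_eq_nsmul κ] at h2
  intro k hk
  have h4 : cjH κ ρ k (ρ D.x) = ρ D.x := by
    refine smul_right_injective _ (mt (CharP.cast_eq_zero_iff κ p _).1 h1) ?_
    beta_reduce
    rw [← map_smul, ← h2, map_sum]
    simp only [cjH_map]
    exact Fintype.sum_equiv (Equiv.mulLeft (⟨k, hk⟩ : K)) _ _ fun c => by simp [mul_assoc]
  rw [cjH_eq_iff, ← map_mul, ← map_mul, h.inj.eq_iff] at h4
  refine h.mem_center (v := ⟨k, D.centralizer_eq D.x_mem D.x_ne_one ▸ mem_centralizer_singleton_iff.2 h4⟩)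
    ((D.π_eq_zero _).2 fun e => h1 (e.trans ?_))
  rw [← orderOf_coe]
  exact orderOf_dvd_natCard K hk

theorem exists_pgl2 [IsAlgClosed κ] (hz : (D.x : G) ∉ center G) :
    5 ≤ p ∧ ∃ π : G →* PGL2 κ, π.ker = center G := by
  have hs := h.small
  have h0 : 0 < finrank κ W := by
    by_contra! h0
    haveI := finrank_zero_iff.1 (Nat.le_zero.1 h0)
    exact h.ne_one (Subsingleton.elim _ _)
  by_cases hd : finrank κ W = 1
  · refine absurd (h.cent _ fun g => h.inj ?_) hz
    obtain ⟨c, hc, -⟩ := (ρ D.x).existsUnique_eq_smul_id_of_finrank_eq_one hd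
    rw [map_mul, map_mul _ _ (D.x : G), hc]
    simp [← End.one_eq_id]
  have h2 : (2 : κ) ≠ 0 := fun e =>
    Nat.not_dvd_of_pos_of_lt two_pos (by omega) ((CharP.cast_eq_zero_iff κ p 2).1 e)
  obtain ⟨t, ht, ht1, ht2⟩ := h.exists_t
  obtain ⟨a, ha⟩ := mem_powers_iff_mem_zpowers.2 ((D.zpowers_eq D.x_mem D.x_ne_one).ge
    ((mem_normalizer_iff''.1 ht _).1 D.x_mem))
  obtain ⟨b, hb⟩ := mem_powers_iff_mem_zpowers.2 ((D.zpowers_eq D.x_mem D.x_ne_one).ge
    ((mem_normalizer_iff.1 ht _).1 D.x_mem))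
  obtain ⟨e, k, f, H⟩ := exists_sl2 (x := ρ D.x) (t := ρ t) (by omega) h.nil h.ne_one
    (mt (CharP.cast_eq_zero_iff κ p _).1 D.ndvd) (by rw [← map_pow, ht1, map_one]) (a := a) (b := b)
    (fun e => D.x_ne_one (by
      obtain ⟨c, rfl⟩ := (CharP.cast_eq_zero_iff κ p _).1 e
      simpa [pow_mul, D.pow_eq_one D.x_mem, eq_comm, mul_assoc, inv_mul_eq_one] using ha))
    (by simp only [← map_pow, ← map_mul, ha]; simp [mul_assoc])
    (by simp only [← map_pow, ← map_mul, hb]; simp [mul_assoc])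
  let B : LinearMap.BilinForm κ (End κ W) := (LinearMap.mul κ _).compr₂ (LinearMap.trace κ W)
  have hB : ∀ a b, B a b = LinearMap.trace κ W (a * b) := fun _ _ => rfl
  have hBs : ∀ a b, B a b = B b a := LinearMap.trace_mul_comm κ
  have hBi : ∀ g a b, B (cjH κ ρ g a) (cjH κ ρ g b) = B a b := fun g a b => by
    rw [hB, hB, cjH_apply, cjH_apply, ← mul_assoc, LinearMap.trace_mul_comm]
    simp [mul_assoc, ← mul_assoc (ρ _) (ρ _), ← map_mul]
  have hm : ∀ i, ![e, k, f] i ∈ Submodule.span κ (Set.range ![e, k, f]) := fun i =>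
    Submodule.subset_span ⟨i, rfl⟩
  obtain ⟨u, hu1, hu2, hu3, hu4⟩ := exists_orth_proj B hBs (Submodule.span κ (Set.range ![e, k, f]))
    fun s hs h0 => by
      obtain ⟨c, rfl⟩ := (Submodule.mem_span_range_iff_exists_fun κ).1 hs
      simp [H.eq_zero h2 c fun i => h0 _ (hm i)]
  have hx : ∀ g, (∀ i, cjH κ ρ g (![e, k, f] i) ∈ Submodule.span κ (Set.range ![e, k, f])) →
      Commute (cjH κ ρ g) u := fun g hg => hu4 _ (hBi g) fun s hs => by
    obtain ⟨c, rfl⟩ := (Submodule.mem_span_range_iff_exists_fun κ).1 hs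
    rw [map_sum]
    exact Submodule.sum_mem _ fun i _ => by rw [map_smul]; exact Submodule.smul_mem _ _ (hg i)
  have xe := (cjH_eq_iff (κ := κ) ρ).2 H.xe
  have xh := (cjH_eq_iff (κ := κ) ρ).2 H.xh
  have xf := (cjH_eq_iff (κ := κ) ρ).2 H.xf
  have hx1 := hx D.x fun i => by
    fin_cases i
    · exact xe.symm ▸ hm 0
    · exact xh.symm ▸ add_mem (hm 1) (Submodule.smul_mem _ _ (hm 0))
    · exact xf.symm ▸ add_mem (add_mem (hm 2) (hm 1)) (hm 0)
  obtain ⟨z, hz1, hz2, hz3⟩ := h.transfer (ht2 u hx1 (hx t fun i => by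
    obtain ⟨c, hc⟩ := H.te
    obtain ⟨c', hc'⟩ := H.tf
    rw [← smul_mul_assoc, ← cjH_eq_iff (κ := κ)] at hc hc'
    fin_cases i
    · exact hc.symm ▸ Submodule.smul_mem _ _ (hm 0)
    · exact ((cjH_eq_iff (κ := κ) ρ).2 H.th).symm ▸ hm 1
    · exact hc'.symm ▸ Submodule.smul_mem _ _ (hm 2)))
  obtain ⟨h3, h4, h5⟩ := hz1.idem (pow_eq_zero_of_le (Nat.sub_le p 1) h.nil2) hu2
    (hx1.symm.sub_right (Commute.one_right u))
  have h6 : ∀ j a b, B (((u + z) ^ j) a) b = B a (((u + z) ^ j) b) := fun j => by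
    have := hz3 ⟨⟨{φ | ∀ a b, B (φ a) b = B a (φ b)}, fun h1 h2 a b => by simp [h1 a b, h2 a b]⟩,
      fun a b => by simp⟩ fun g a b => by
        rw [End.mul_apply, End.mul_apply, End.mul_apply, End.mul_apply, ← hBi g⁻¹, ← hBi g⁻¹ a,
          ← End.mul_apply, ← End.mul_apply (cjH κ ρ g⁻¹) (cjH κ ρ g), ← map_mul, inv_mul_cancel,
          map_one, End.one_apply, End.one_apply, hu3]
    induction j with
    | zero => simp
    | succ j ih => intro a b; rw [pow_succ, End.mul_apply, ih, this, ← End.mul_apply, ← pow_succ', pow_succ]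
  have h7 : ∀ g, Commute (cjH κ ρ g) ((u + z) ^ p) := fun g => Commute.pow_right (hz2 g) p
  replace h6 := h6 p
  generalize (u + z) ^ p = ε at h3 h4 h5 h6 h7
  rw [hu1, finrank_span_eq_card (Fintype.linearIndependent_iff.2 fun c hc =>
    congrFun (H.eq_zero h2 c fun i => by simp [hc]))] at h5
  have h8 : ∀ a ∈ LinearMap.range ε, ε a = a := by
    rintro _ ⟨a, rfl⟩
    rw [← End.mul_apply, h3]
  obtain ⟨π, hπ⟩ := exists_pgl2_of_three h2 h5 (B.restrict (LinearMap.range ε)) (fun a b => hBs a b)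
    (fun a ha => Subtype.ext (LinearMap.ext fun w => (forall_dual_apply_eq_zero_iff κ _).1 fun ξ => by
      have := ha ⟨ε (ξ.smulRight w), _, rfl⟩
      change B a (ε _) = 0 at this
      rwa [← h6, h8 _ a.2, hB, show a.1 * ξ.smulRight w = ξ.smulRight (a.1 w) by ext; simp,
        LinearMap.trace_smulRight] at this))
    (Representation.subrepresentation (cjH κ ρ) (LinearMap.range ε) fun g => by
      rintro _ ⟨a, rfl⟩
      exact ⟨cjH κ ρ g a, LinearMap.congr_fun (h7 g).symm a⟩) fun g a b => hBi g a b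
  have he : e ≠ 0 := fun e => H.tr (by simp [e])
  have h9 : ε e = e := by
    obtain ⟨a, ha⟩ := hu1.ge (hm 0)
    rw [h4 e (by simp [-cjH_apply, xe]), ← show u a = e from ha, ← End.mul_apply, hu2]
  refine ⟨by omega, π, le_antisymm (h.le_center fun hx => he ?_) fun g hg => (hπ g).2 (.inl ?_)⟩
  · rcases (hπ _).1 hx with h | h
    · have h1 : ε (cjH κ ρ D.x f) = ε f := (LinearMap.congr_fun (h7 _).symm f).trans
        (congrArg Subtype.val (LinearMap.congr_fun h ⟨ε f, _, rfl⟩))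
      have h3 : ε (cjH κ ρ D.x k) = ε k := (LinearMap.congr_fun (h7 _).symm k).trans
        (congrArg Subtype.val (LinearMap.congr_fun h ⟨ε k, _, rfl⟩))
      simpa [-cjH_apply, xh, h9, h2] using h3
    · have : cjH κ ρ D.x e = -e := congrArg Subtype.val (LinearMap.congr_fun h ⟨e, _, h9⟩)
      rwa [xe, ← add_eq_zero_iff_eq_neg, ← two_smul κ, smul_eq_zero_iff_right h2] at this
  · exact LinearMap.ext fun a => Subtype.ext (LinearMap.congr_fun (h.cjH_center hg) a)

theorem card_C_le : Nat.card (𝐂 (P : Subgroup G)) ≤ p * Nat.card (center G) := by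
  choose y h1 h2 using D.exists_decomp
  have := Nat.card_le_card_of_injective (fun c => (D.π c, (⟨y c, h.mem_center (h1 c)⟩ : center G)))
    fun c c' e => by
      rw [h2 c, h2 c', show D.π c = D.π c' from congrArg Prod.fst e,
        show y c = y c' from Subtype.ext (congrArg (·.2.1) e)]
  rwa [Nat.card_prod, Nat.card_zmod] at this

theorem psl [IsAlgClosed κ] (hz : (D.x : G) ∉ center G) (hn : ¬ (P : Subgroup G).Normal) :
    p - 1 ≤ Nat.card D.a.range ∨ p - 1 ≤ 2 * Nat.card D.a.range ∧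
      Nonempty ((G ⧸ center G) ≃* PSL2 (ZMod p)) := by
  obtain ⟨h5, π, hπ⟩ := h.exists_pgl2 hz
  have hc : CentralP' π p := ⟨fun g hg => mem_center_iff.1 (hπ.le hg), fun g hg h1 => by
    by_contra h2
    obtain ⟨k, hk⟩ := D.exists_conj_mem h1
    rw [mem_center_iff.1 (hπ.le hg), mul_inv_cancel_right] at hk
    exact hz (zpowers_le.2 (hπ.le hg) ((D.zpowers_eq hk h2).ge D.x_mem))⟩
  obtain ⟨y, hy⟩ := exists_sylow_eq_pU hc pFix_of_isAlgClosed P
  obtain ⟨g, hg⟩ : ∃ g, π g • y ≠ y := by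
    by_contra! h1
    haveI := (Nat.card_eq_one_iff_unique.1 (hc.card_sylow_eq_one_of_fix h1)).1
    exact hn P.normal_of_subsingleton
  have hx := hy.le D.x_mem
  have hx1 : π D.x ≠ 1 := fun e => hz (hπ.le e)
  have h0 : ∀ n : ℕ, 0 < n → n < p → (n : κ) ≠ 0 := fun n h1 h2 h3 =>
    Nat.not_dvd_of_pos_of_lt h1 h2 ((CharP.cast_eq_zero_iff κ p n).1 h3)
  haveI := Finite.of_surjective _ π.rangeRestrict_surjective
  obtain ⟨h3, -⟩ | ⟨R, t, hR, h3⟩ := dickson_two_unip (H := π.range) (h0 2 two_pos (by omega)) hg.symm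
    ⟨D.x, rfl⟩ ⟨g * D.x * g⁻¹, rfl⟩ ((mem_pU hc).1 hx).1
    ((mem_pU hc).1 ((mem_pU_smul hc).2 (by simpa [mul_assoc] using hx))).1 hx1 (by simpa using hx1)
  · exact absurd h3 (h0 3 three_pos (by omega))
  let ι := (MulAut.conj t).toMonoidHom.comp (Matrix.ProjGenLinGroup.map (n := Fin 2) R.subtype)
  have hι : Function.Injective ι := (MulAut.conj t).injective.comp (pglMap_injective _)
  have h4 : π.range ≤ ι.range := by
    rw [MonoidHom.range_comp]
    exact h3.elim le_of_eq fun e => e.trans_le (map_mono (pslToPGL_range_le _))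
  let π' := (MonoidHom.ofInjective hι).symm.toMonoidHom.comp (π.codRestrict _ fun g => h4 ⟨g, rfl⟩)
  have hπ' : ∀ g, π' g = 1 → π g = 1 := fun g e =>
    congrArg Subtype.val ((MonoidHom.ofInjective hι).symm.map_eq_one_iff.1 e)
  have hc' : CentralP' π' p := ⟨fun g e => hc.1 g (hπ' g e), fun g e => hc.2 g (hπ' g e)⟩
  choose f hf using exists_sylow_eq_pU hc' pFix_of_finite
  haveI : Finite (PL R) := Nat.finite_of_card_ne_zero (by rw [card_PL]; omega)
  have h6 := Nat.card_le_card_of_injective f fun Q Q' e => Sylow.ext (by rw [hf, hf, e])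
  have e1 : (G ⧸ center G) ≃* π.range :=
    (QuotientGroup.quotientMulEquivOfEq hπ.symm).trans (QuotientGroup.quotientKerEquivRange π)
  have h7 : Nat.card G = Nat.card π.range * Nat.card (center G) := by
    rw [card_eq_card_quotient_mul_card_subgroup (center G), Nat.card_congr e1.toEquiv]
  have h8 : Nat.card G ≤ (Nat.card R + 1) * (Nat.card D.a.range * (p * Nat.card (center G))) := by
    rw [← (𝐍 (P : Subgroup G)).index_mul_card, ← card_PL, ← D.a.ker.index_mul_card, index_ker,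
      D.card_ker_a]
    exact Nat.mul_le_mul (P.card_eq_index_normalizer.symm.trans_le h6) (Nat.mul_le_mul_left _ h.card_C_le)
  have h9 : ∀ c, ¬ p ∣ c → c * Nat.card π.range = Nat.card R * (Nat.card R - 1) * (Nat.card R + 1) →
      Nat.card R = p ∧ p - 1 ≤ c * Nat.card D.a.range := fun c hc e => by
    haveI := Fintype.ofFinite R
    obtain ⟨k, -, hq⟩ := FiniteField.card R p
    rw [← Nat.card_eq_fintype_card] at hq
    have h1 : Nat.card R = p := by
      rw [hq, show (k : ℕ) = 1 from le_antisymm (not_lt.1 fun h1 => D.ndvd ?_) k.2, pow_one]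
      have : p ^ 2 ∣ c * Nat.card π.range := by
        rw [e, mul_assoc, hq]; exact (pow_dvd_pow p h1).mul_right _
      have := ((hp.out.coprime_iff_not_dvd.2 hc).pow_left 2).dvd_of_dvd_mul_left this |>.mul_right
        (Nat.card (center G))
      rwa [← h7, D.card_G, sq, Nat.mul_dvd_mul_iff_left hp.out.pos] at this
    rw [h1] at e h8
    rw [h7, ← mul_assoc, ← mul_assoc] at h8
    have := Nat.mul_le_mul_left c (Nat.le_of_mul_le_mul_right h8 Nat.card_pos)
    rw [e] at this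
    exact ⟨h1, Nat.le_of_mul_le_mul_left (c := p * (p + 1)) (by linarith) (by positivity)⟩
  rcases h3 with h3 | h3
  · refine .inl ((h9 1 (by simp; omega) ?_).2.trans_eq (one_mul _))
    rw [h3, ← MonoidHom.range_comp, ← Nat.card_congr (MonoidHom.ofInjective hι).toEquiv, one_mul,
      card_PGL_two]
  · have hj : Function.Injective ((MulAut.conj t).toMonoidHom.comp (pslToPGL R.subtype)) :=
      (MulAut.conj t).injective.comp (pslToPGL_injective _)
    rw [← MonoidHom.range_comp] at h3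
    have h2 : (2 : R) ≠ 0 := fun e => h0 2 two_pos (by omega) (congrArg R.subtype e)
    obtain ⟨a1, a2⟩ := h9 2 (Nat.not_dvd_of_pos_of_lt two_pos (by omega)) (by
      rw [h3, ← Nat.card_congr (MonoidHom.ofInjective hj).toEquiv, ← card_PSL_two,
        gcd_two_of_two_ne_zero h2])
    obtain ⟨φ⟩ := nonempty_ringEquiv_zmod p a1
    exact .inr ⟨a2, ⟨e1.trans ((MulEquiv.subgroupCongr h3).trans
      ((MonoidHom.ofInjective hj).symm.trans (pslMapEquiv _ φ)))⟩⟩

end SR

open Cfsg.Lib.Char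

theorem DOne.conj_x {P : Subgroup G} (D : DOne p P) (n : 𝐍 P) :
    (n : G) * D.x * (n : G)⁻¹ = D.x ^ (D.a n : ZMod p).val := by
  obtain ⟨y, hy, e⟩ := D.exists_decomp (cjC n D.x)
  have h1 : ((cjC n D.x : 𝐂 P) : G) ∈ P := (mem_normalizer_iff.1 n.2 _).1 D.x_mem
  rw [D.eq_one_of_π (D.pow_eq_one ((mul_mem_cancel_left (pow_mem D.x_mem _)).1 (e ▸ h1 :))) hy, mul_one,
    D.π_cjC, D.π_x, mul_one] at e
  exact congrArg Subtype.val e

theorem DOne.card_range_le {P : Subgroup G} (D : DOne p P) {χ : G → ℂ} (hχ : IsCharacter G χ)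
    (h : χ D.x ≠ χ 1) : Nat.card D.a.range ≤ charDegree χ := by
  obtain ⟨n, R, rfl⟩ := hχ
  obtain ⟨w, hw, μ, hμ⟩ := exists_eigen_notMem (τ := R D.x) (Nat.cast_ne_zero.2 hp.out.ne_zero)
    (by rw [← map_pow, D.pow_eq_one D.x_mem, map_one]) (K := LinearMap.ker (R D.x - 1)) fun e => h (by
      rw [Representation.character, sub_eq_zero.1 (LinearMap.ker_eq_top.1 e), ← map_one R]; rfl)
  have hw0 : w ≠ 0 := fun e => hw (e ▸ zero_mem _)
  have h1 : ∀ j, R (D.x ^ j) w = μ ^ j • w := fun j => by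
    rw [map_pow]
    exact End.HasEigenvector.pow_apply ⟨End.mem_eigenspace_iff.2 hμ, hw0⟩ j
  have h2 : orderOf μ = p := orderOf_eq_prime (smul_left_injective ℂ hw0 (by
    simp only [← h1, D.pow_eq_one D.x_mem, map_one, End.one_apply, one_smul]))
    fun e => hw (by simp [hμ, e])
  choose t ht using fun α : D.a.range => α.2
  haveI := Fintype.ofFinite D.a.range
  have := (End.eigenvectors_linearIndependent' (R D.x) (fun α : D.a.range => μ ^ (α.1 : ZMod p).val)
    (fun α β e => Subtype.ext (Units.ext (ZMod.val_injective p (pow_injOn_Iio_orderOf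
      (h2.symm ▸ ZMod.val_lt _) (h2.symm ▸ ZMod.val_lt _) e))))
    (fun α => R (t α : G)⁻¹ w) fun α => ⟨End.mem_eigenspace_iff.2 (by
      rw [← map_smul, ← h1, ← ht, ← D.conj_x, ← End.mul_apply, ← End.mul_apply, ← map_mul, ← map_mul]
      simp [mul_assoc]), fun e => hw0 (by
        simpa [← End.mul_apply, ← map_mul] using congrArg (R (t α)) e)⟩).fintype_card_le_finrank
  rw [Nat.card_eq_fintype_card]
  simpa [charDegree, Representation.character] using this

theorem exists_SR {P : Sylow p G} (D : DOne p (P : Subgroup G)) (hn : ¬ (P : Subgroup G).Normal)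
    (χ : IrrCharacter G) (hf : charKer χ.1 = ⊥) (hd : 2 * charDegree χ.1 + 1 ≤ p)
    (hc : ∀ v : G, (∀ g, v * (g * D.x * g⁻¹) = g * D.x * g⁻¹ * v) → v ∈ center G) :
    ∃ (A : PAdic p) (N : ℕ) (ρ : G →* End A.κ (Fin N → A.κ)), SR D ρ := by
  obtain ⟨M, hM⟩ := Block2.exists_isPModular hp.out
  obtain ⟨A, -⟩ := exists_padic hM
  haveI := A.charP hp.out
  obtain ⟨N, _, ρ, htr, hρ, -⟩ := A.exists_local_lattice χ
  have hN : N = charDegree χ.1 := by
    have := htr 1
    rw [← coe_deg] at this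
    simpa using this
  let σ := (RM (IsLocalRing.residue A.O) ρ).toMonoidHom.comp (MonoidAlgebra.of A.κ G)
  have hσ : ∀ g, σ g = Matrix.toLin' ((ρ g).map (IsLocalRing.residue A.O)) := fun g =>
    (RM_single _ ρ g 1).trans (one_smul _ _)
  have h1 : ∀ g, σ g = 1 → ¬ p ∣ orderOf g → g = 1 := fun g hg h1 => by
    have h2 : (ρ g).map (IsLocalRing.residue A.O) = 1 :=
      Matrix.toLin'.injective (by rw [← hσ, hg, Matrix.toLin'_one]; rfl)
    have h3 : IsUnit (∑ i ∈ Finset.range (orderOf g), ρ g ^ i) := by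
      rw [Matrix.isUnit_iff_isUnit_det, ← IsLocalRing.residue_ne_zero_iff_isUnit, RingHom.map_det,
        map_sum]
      simp only [map_pow, RingHom.mapMatrix_apply, h2, one_pow, Finset.sum_const, Finset.card_range,
        ← Nat.cast_smul_eq_nsmul A.κ, Matrix.det_smul, Matrix.det_one, mul_one]
      exact pow_ne_zero _ (mt (CharP.cast_eq_zero_iff _ p _).1 h1)
    have h4 := geom_sum_mul (ρ g) (orderOf g)
    rw [← map_pow, pow_orderOf_eq_one, map_one, sub_self, h3.mul_right_eq_zero, sub_eq_zero] at h4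
    rw [← mem_bot, ← hf, χ.2.mem_charKer, ← htr, ← htr, h4, map_one]
  refine ⟨A, N, σ, (MonoidHom.ker_eq_bot_iff _).1 (by_contra fun h2 => hn ?_), by simpa [hN] using hd,
    fun z hz => ?_, hc⟩
  · have h3 : IsPGroup p σ.ker := fun g => by
      obtain ⟨k, m, hm, e⟩ := Nat.exists_eq_pow_mul_and_not_dvd (orderOf_pos g).ne' p hp.out.ne_one
      refine ⟨k, Subtype.ext (h1 _ (g ^ p ^ k).2 fun h => hm (h.trans ?_))⟩
      rw [orderOf_coe, orderOf_dvd_iff_pow_eq_one, ← pow_mul, ← e, pow_orderOf_eq_one]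
    rw [← eq_of_le_of_card_ge (h3.le_sylow_of_normal P) (D.card.trans_le
      (Nat.le_of_dvd Nat.card_pos (dvd_card_of_isPGroup_ne_bot h3 h2)))]
    infer_instance
  · obtain ⟨c, hc⟩ := exists_lift_eq_smul A.O hρ (b := .single z 1) fun a => by
      rw [← map_mul, ← map_mul, MonoidAlgebra.mapRingHom_single, (Block.isCen_single hz _).comm]
    refine ⟨IsLocalRing.residue A.O c, ?_⟩
    rw [MonoidAlgebra.lift_single, one_smul] at hc
    rw [hσ, hc]
    ext i j
    simp [Matrix.one_apply, Pi.single_apply, eq_comm, apply_ite (IsLocalRing.residue A.O)]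

/-- Brauer's theorem on groups with a faithful character of degree less than `p / 2` -/
theorem brauer_psl {P : Sylow p G} (D : DOne p (P : Subgroup G)) (hn : ¬ (P : Subgroup G).Normal)
    (χ : IrrCharacter G) (hf : charKer χ.1 = ⊥) (hd : 2 * charDegree χ.1 + 1 ≤ p)
    (hc : ∀ v : G, (∀ g, v * (g * D.x * g⁻¹) = g * D.x * g⁻¹ * v) → v ∈ center G) :
    2 * charDegree χ.1 + 1 = p ∧ Nonempty ((G ⧸ center G) ≃* PSL2 (ZMod p)) := by
  obtain ⟨A, N, ρ, h⟩ := exists_SR D hn χ hf hd hc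
  haveI := A.charP hp.out
  have h1 := D.card_range_le χ.2.isCharacter fun e => D.x_ne_one (by
    rwa [← χ.2.mem_charKer, hf, mem_bot] at e)
  have := deg_pos χ
  rcases h.psl (fun e => hn (D.zpowers_eq D.x_mem D.x_ne_one ▸ ⟨fun n hn g => by
    rwa [mem_center_iff.1 (zpowers_le.2 e hn), mul_inv_cancel_right]⟩)) hn with h2 | ⟨h2, h3⟩
  · omega
  · exact ⟨by omega, h3⟩

theorem card_sylow_of_not_sq (hd : p ∣ Nat.card G) (h2 : ¬ p ^ 2 ∣ Nat.card G) (P : Sylow p G) :
    Nat.card P = p := by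
  obtain ⟨n, hn⟩ := IsPGroup.iff_card.1 P.isPGroup'
  have h1 := P.dvd_card_of_dvd_card hd
  rcases n with _ | _ | n
  · rw [hn, pow_zero, Nat.dvd_one] at h1
    exact absurd h1 hp.out.ne_one
  · rw [hn, zero_add, pow_one]
  · exact absurd ((pow_dvd_pow p (by omega)).trans (hn ▸ card_subgroup_dvd_card _)) h2

theorem le_of_gen (h2 : ¬ p ^ 2 ∣ Nat.card G)
    (hG : ∀ K : Subgroup G, K.Normal → ¬ p ∣ K.index → K = ⊤) {χ : G → ℂ} (hχ : IsIrrCharacter G χ)
    (hf : charKer χ = ⊥) (h1 : χ 1 ≠ 1) : p ≤ 2 * charDegree χ + 1 := by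
  by_contra! hd
  obtain ⟨P⟩ := (inferInstance : Nonempty (Sylow p G))
  have hn : ¬ (P : Subgroup G).Normal := fun hn => h1 (hχ.degree_eq_one_of_comm fun a b => by
    have h3 := hG _ hn P.not_dvd_index
    by_cases h : p ∣ Nat.card G
    · exact le_centralizer_of_card_prime (card_sylow_of_not_sq h h2 P) (h3.ge (mem_top b)) a
        (h3.ge (mem_top a))
    · have h4 := hG ⊥ inferInstance (by rwa [index_bot])
      rw [mem_bot.1 (h4.ge (mem_top a)), one_mul, mul_one])
  have h3 : p ∣ Nat.card G := by_contra fun h => hn (by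
    rw [eq_top_iff.2 ((hG ⊥ inferInstance (by rwa [index_bot])).ge.trans (bot_le (a := (P : Subgroup G))))]
    infer_instance)
  obtain ⟨D⟩ := exists_dOne (card_sylow_of_not_sq h3 h2 P) P.not_dvd_index
  refine hd.ne (brauer_psl D hn ⟨χ, hχ⟩ hf hd.le fun v hv => mem_center_iff.2 fun g => ?_).1
  have h4 : normalClosure {(D.x : G)} ≤ centralizer {v} := (closure_le _).2 fun y hy => by
    obtain ⟨_, rfl, h⟩ := Group.mem_conjugatesOfSet_iff.1 hy
    obtain ⟨k, rfl⟩ := isConj_iff.1 h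
    exact mem_centralizer_singleton_iff.2 (hv k).symm
  refine mem_centralizer_singleton_iff.1 (h4 ((hG _ inferInstance fun e => D.ndvd (e.trans
    (index_dvd_of_le ?_))).ge (mem_top g)))
  exact (D.zpowers_eq D.x_mem D.x_ne_one).ge.trans (zpowers_le.2 (subset_normalClosure rfl))

theorem exists_constituent {P : Sylow p G} (h2 : ¬ p ^ 2 ∣ Nat.card G)
    (hn : ¬ (P : Subgroup G).Normal) {χ : G → ℂ} (hχ : IsCharacter G χ) (hf : charKer χ = ⊥) :
    ∃ ψ, IsIrrCharacter (normalClosure (P : Set G)) ψ ∧ p ≤ 2 * charDegree ψ + 1 ∧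
      IsCharacter (normalClosure (P : Set G)) ((fun x => χ x.1) - ψ) := by
  set H := normalClosure (P : Set G)
  haveI := Fintype.ofFinite H
  have hG : ∀ K : Subgroup H, K.Normal → ¬ p ∣ K.index → K = ⊤ := fun K _ hK => by
    suffices H ≤ K.map H.subtype from eq_top_iff.2 fun x _ => by
      obtain ⟨y, hy, e⟩ := this x.2
      exact Subtype.ext e ▸ hy
    refine (closure_le _).2 fun y hy => ⟨⟨y, subset_closure hy⟩, ?_, rfl⟩
    obtain ⟨u, hu, h⟩ := Group.mem_conjugatesOfSet_iff.1 hy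
    obtain ⟨g, rfl⟩ := isConj_iff.1 h
    obtain ⟨k, hk⟩ := P.isPGroup' ⟨u, hu⟩
    rw [SetLike.mem_coe, ← QuotientGroup.eq_one_iff, ← orderOf_eq_one_iff]
    refine Nat.eq_one_of_dvd_coprimes ((hp.out.coprime_iff_not_dvd.2 hK).pow_left k)
      (orderOf_dvd_of_pow_eq_one ?_) (_root_.orderOf_dvd_natCard _)
    rw [← QuotientGroup.mk_pow, QuotientGroup.eq_one_iff]
    convert K.one_mem
    exact Subtype.ext (by simpa using congrArg Subtype.val hk)
  have h3 := hχ.restrict H
  obtain ⟨ψ, h4, h5, h6⟩ : ∃ ψ, IsIrrCharacter H ψ ∧ classInner (fun x : H => χ x) ψ ≠ 0 ∧ ψ 1 ≠ 1 := by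
    by_contra! h
    have h4 : _root_.commutator H ≤ ⊥ := fun x hx => by
      have := h3.isClassFunction.mem_charKer_of_forall fun ψ a b => a.degree_eq_one_iff.1 (h ψ a b) hx
      rw [h3.mem_charKer, OneMemClass.coe_one, ← hχ.mem_charKer, hf, mem_bot] at this
      exact Subtype.ext this
    haveI := (commutator_eq_bot_iff H).1 (le_bot_iff.1 h4)
    have hP : (P : Subgroup G) ≤ H := le_normalClosure
    have := hG ((P : Subgroup G).subgroupOf H) inferInstance fun e =>
      P.not_dvd_index (e.trans (relIndex_dvd_index_of_le hP))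
    exact hn (le_antisymm (subgroupOf_eq_top.1 this) hP ▸ normalClosure_normal)
  haveI := h4.charKer_normal
  obtain ⟨φ, h7, h8⟩ := h4.exists_quotient _ le_rfl
  have h9 : ψ 1 = φ 1 := congrFun h8 1
  refine ⟨ψ, h4, ?_, h3.sub_of_classInner_ne_zero h4 h5⟩
  rw [charDegree, h9]
  refine le_of_gen (fun e => h2 ((e.trans (card_quotient_dvd_card _)).trans (card_subgroup_dvd_card H)))
    (fun K hK e => comap_injective (QuotientGroup.mk'_surjective _) (hG _ (hK.comap _) (by
      rwa [index_comap_of_surjective _ (QuotientGroup.mk'_surjective _)]))) h7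
    (eq_bot_iff.2 fun x hx => ?_) (h9 ▸ h6)
  obtain ⟨x, rfl⟩ := QuotientGroup.mk_surjective x
  rw [mem_bot, QuotientGroup.eq_one_iff, h4.mem_charKer, h9, ← h7.mem_charKer.1 hx]
  exact congrFun h8 x

end Cfsg.Lib.Small
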