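import Cfsg.Agent.Lib.Small.AbC
import Cfsg.Agent.Lib.Block2.Dade2
import Cfsg.Agent.Lib.Block.Height
import Cfsg.Agent.Lib.JR.J1
import Cfsg.Agent.Lib.Linear.AutAlt
import Cfsg.Agent.Lib.Linear.SmallRec
import Cfsg.Agent.S4503

/-! Harada's theorem: `χ(1) - χ(u)` constant on the non-principal characters of the principal 2-block. -/

set_option autoImplicit false
set_option linter.unusedSectionVars false
set_option linter.style.haveILetI false

namespace Cfsg.Lib.AbS
open Subgroup MulAction Cfsg.Lib.Block Cfsg.Lib.Block2 Cfsg.Lib.Char Cfsg.Lib.Small Cfsg.Lib.BG1 Cfsg.Lib.Gold Cfsg.Lib.Wal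
open Cfsg.Lib.Amalg hiding le_cent_symm op_top
open Cfsg.Lib.Transfer (PNil SylowIn hasNormalPComplement_iff)
open scoped ComplexConjugate

universe u

variable {G : Type u} [Group G] [Finite G] {M : Ideal AlgInt} [M.IsMaximal] {P N K L E : Subgroup G} {x t u : G} {c : ℂ}

theorem l2o_five (h : IsL2o L) {θ : G → ℂ} (hθ : Clifford.CharOn L θ) (h4 : charDegree θ ≤ 4) (hn : ¬ Clifford.Triv L θ) :
    Nat.card L = 60 := by
  classical
  obtain ⟨F, _, _, h1, h2, ⟨e⟩⟩ := h
  obtain ⟨x, hx, ξ, h3, h5, h6⟩ : ∃ x ∈ L, ∃ ξ ∈ Clifford.Irr L, Clifford.dot L θ ξ ≠ 0 ∧ ξ x ≠ ξ 1 := by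
    by_contra! h
    exact hn fun x hx => hθ.classOn.eq_of_forall hx (h x hx)
  have h7 := Clifford.irrOn_of_mem h3
  have h8 := hθ.deg_le_of_dot h7 h5
  have hs : Function.Surjective (e.symm.toMonoidHom.comp (Known.pmk F)) := e.symm.surjective.comp Known.pmk_surjective
  have h9 : Nat.card F = 5 := by
    rw [← Nat.card_eq_fintype_card] at h1 h2
    rcases Known.SL2_irr_cases' (Char.Cfsg.IsIrrCharacter.comp h7 _ hs) (n := charDegree ξ) (by rw [map_one]; exact h7.one_eq) with
      h | h | h | h | h | h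
    · obtain ⟨a, ha⟩ := hs ⟨x, hx⟩
      have := congrFun h.2 a
      rw [ha] at this
      exact absurd (this.trans (by rw [h7.one_eq, h.1, Nat.cast_one])) h6
    all_goals omega
  have := Linear.card_PSL_two_of_odd (F := F) (by rw [h9]; decide)
  rw [h9, ← Nat.card_congr e.toEquiv] at this
  omega

theorem l2e_of_sixty [IsSimpleGroup G] (h : Nat.card G = 60) : IsL2e G := by
  haveI := Fintype.ofFinite (GaloisField 2 2)
  have h1 : Nat.card (GaloisField 2 2) = 4 := GaloisField.card 2 2 two_ne_zero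
  haveI := Linear.isSimpleGroup_PSL2 h1.ge
  obtain ⟨e⟩ := Linear.nonempty_equiv_A5_of_simple h
  obtain ⟨e'⟩ := Linear.nonempty_equiv_A5_of_simple (G := Linear.PSL2 (GaloisField 2 2))
    (by rw [Linear.card_PSL_two_of_even (by rw [h1]; decide), h1])
  exact ⟨_, _, _, ⟨2, le_rfl, Nat.card_eq_fintype_card.symm.trans h1⟩, ⟨e.trans e'.symm⟩⟩

theorem JR.no_seven [IsSimpleGroup G] (h : JR P t E L) {χ : G → ℂ} (hχ : IsCharacter G χ) (h7 : charDegree χ = 7)
    (ht : χ t = -1) : False := by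
  have hf : ∀ g, χ g = χ 1 → g = 1 := fun g hg => by
    rcases hχ.isClassFunction.charKer_normal.eq_bot_or_eq_top with e | e
    · exact mem_bot.1 (e ▸ hχ.mem_charKer.2 hg)
    · have := hχ.mem_charKer.1 (e.ge (mem_top t))
      rw [ht, ← cast_deg hχ, h7] at this
      norm_num at this
  have hE : L ≤ E := le_sup_left.trans h.sup.ge
  have h1 : L ≤ 𝐂[t] := hE.trans h.prod.2.1
  haveI := h.simple
  have tc : t ∈ 𝐂[t] := Invol.mem_cent.2 rfl
  have h2 := Clifford.charOn_of_isCharacter hχ 𝐂[t]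
  obtain ⟨x, hx, ξ, h3, h5, h6⟩ : ∃ x ∈ L, ∃ ξ ∈ Clifford.Irr 𝐂[t], Clifford.dot 𝐂[t] χ ξ ≠ 0 ∧ ξ x ≠ ξ 1 := by
    by_contra! e
    exact h.nc ⟨⟨fun a b => by rw [show a = 1 from Subtype.ext (hf _ (h2.classOn.eq_of_forall (h1 a.2) (e _ a.2))),
      one_mul, mul_one]⟩⟩
  have h8 := Clifford.irrOn_of_mem h3
  have h9 : ‖ξ t‖ = ‖ξ 1‖ := (Char.Cfsg.IsIrrCharacter.mem_charCenter h8 (x := ⟨t, tc⟩)).1
    (Char.Cfsg.IsIrrCharacter.center_le_charCenter h8 (mem_center_iff.2 fun g => Subtype.ext (Invol.mem_cent.1 g.2)))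
  have h10 := (h2.sub_irr h8 h5).norm_le tc
  have h11 := h2.deg_le_of_dot h8 h5
  have h12 := norm_sub_norm_le (ξ t) (χ t)
  rw [Pi.sub_apply, Pi.sub_apply, norm_sub_rev, ← cast_deg hχ, h8.one_eq, ← Nat.cast_sub h11, Complex.norm_natCast,
    Nat.cast_sub h11, h7] at h10
  rw [h9, h8.one_eq, Complex.norm_natCast, ht, norm_neg, norm_one, ← ht] at h12
  have h13 : charDegree ξ ≤ 4 := by
    have : (charDegree ξ : ℝ) ≤ 4 := by push_cast at h10; linarith
    exact_mod_cast this
  have h14 := l2o_five h.l2 (h8.charOn.mono h1) h13 fun e => h6 (e x hx)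
  obtain ⟨e⟩ := Linear.nonempty_equiv_A5_of_simple h14
  have h15 : Nat.card E ∣ 120 := by
    have := card_dvd_of_injective (L.normalizerMonoidHom.comp (inclusion (h.prod.2.1.trans h.norm)))
      ((injective_iff_map_eq_one _).2 fun a ha => Subtype.ext (mem_bot.1 (h.cent.le ⟨a.2, by
        have : inclusion (h.prod.2.1.trans h.norm) a ∈ L.normalizerMonoidHom.ker := ha
        rwa [normalizerMonoidHom_ker] at this⟩)))
    rwa [Nat.card_congr (MulAut.congr e).toEquiv, ← Nat.card_eq_of_bijective _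
      (Linear.conjNormal_alt_bijective (α := Fin 5) (by simp) (by simp)), Nat.card_perm, Nat.card_fin] at this
  have h16 : L = E := eq_of_le_of_card_ge hE (by
    have h1 := card_dvd_of_le hE
    have h2 := h.sylE.card_eq_pow
    rw [h.four] at h2
    rw [h14] at h1 ⊢
    obtain ⟨m, hm⟩ := h1
    have h3 : m ∣ 2 := Nat.dvd_of_mul_dvd_mul_left (k := 60) (by norm_num) (hm ▸ h15)
    rcases (Nat.dvd_prime Nat.prime_two).1 h3 with rfl | rfl
    · exact hm.le
    · exact absurd (hm ▸ h2) (by decide +kernel))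
  subst h16
  have j : JR.JZ t L := ⟨h.two, ⟨e⟩, fun f hf => Invol.mem_cent.1 (h1 hf), fun e => Invol.ne_one_of_two h.two
    (mem_bot.1 (h.prod.2.2.2.1.le ⟨mem_zpowers t, e⟩)), fun g hg => by
      obtain ⟨z, hz, a, ha, rfl⟩ := (mem_sup_of_le_normalizer fun z hz => centralizer_le_normalizer _
        fun a ha => (h.prod.2.2.1 z hz a ha).symm).1 (h.prod.2.2.2.2.ge (Invol.mem_cent.2 hg))
      rcases Exc.mem_zpowers_two h.two hz with rfl | rfl
      · exact .inl (by rwa [one_mul])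
      · exact .inr (by rwa [mul_assoc, ← h.prod.2.2.1 _ hz a ha, ← mul_assoc, h.sq _ h.mem, one_mul]),
    JR.no_index_two (lt_of_lt_of_le (by omega) (card_le_card_group L)),
    Nat.odd_iff.2 (Nat.two_dvd_ne_zero.1 fun e => h.syl.not_dvd_index (e.trans (index_dvd_of_le (syl_cent h.syl h.comm h.mem).le)))⟩
  have h17 := j.card_eq
  have := Agent.S4503.result 19 (by norm_num) (by rw [h17]; norm_num) (by rw [h17]; norm_num) (fun H hH e => by
    rcases hH.eq_bot_or_eq_top with rfl | rfl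
    · simp at e
    · rw [card_top] at e; omega) χ hχ hf
  omega

variable [Fintype (principalBlock M G)] (hM : IsPModular 2 M) (h0 : c ≠ 0)
  (h : ∀ χ ∈ principalBlock M G, χ.1 ≠ (fun _ => 1) → χ.1 1 - χ.1 u = c)
include h

theorem sum_eq (F : principalBlock M G → ℂ) :
    ∑ χ, χ.1.1 1 * F χ - ∑ χ, χ.1.1 u * F χ = c * (∑ χ, F χ - F (oneB M G)) := by
  classical
  rw [← Finset.sum_sub_distrib, ← Finset.sum_erase_eq_sub (Finset.mem_univ _), Finset.mul_sum,
    ← Finset.sum_erase (a := oneB M G) _ (by simp [oneB_apply])]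
  refine Finset.sum_congr rfl fun χ hχ => ?_
  rw [← sub_mul, h _ χ.2 fun e => Finset.ne_of_mem_erase hχ (eq_oneB_iff.2 e)]

include hM h0

theorem isConj_of (ht : IsPPart 2 u t) (hx : ∃ k, orderOf x = 2 ^ k) (x1 : x ≠ 1) : IsConj t x := by_contra fun e => by
  have hx' := isPPart_self Nat.prime_two hx
  have e1 := ker_eq_zero hM (isPPart_self Nat.prime_two ⟨0, orderOf_one⟩) hx' fun e => x1 (isConj_one_right.1 e)
  have e2 := sum_eq h fun χ => conj (χ.1.1 x)
  rw [e1, ker_eq_zero hM ht hx' e, sub_zero, oneB_apply, map_one, eq_comm, mul_eq_zero, sub_eq_zero] at e2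
  refine not_memLocalIdeal_one (M := M) ?_
  rw [← e2.resolve_left h0, ← sub_zero (∑ _, _), ← e1, ← Finset.sum_sub_distrib]
  refine memLocalIdeal_sum fun χ _ => ?_
  have h1 := χ.1.2.isCharacter
  rw [← h1.apply_inv, show χ.1.1 x⁻¹ - χ.1.1 1 * χ.1.1 x⁻¹ = (χ.1.1 x⁻¹ - χ.1.1 1) * (1 - χ.1.1 1) +
    ((-((charDegree χ.1.1 - 1) * (charDegree χ.1.1 - 1 + 1)) : ℤ) : ℂ) by rw [← irr_cast_deg]; push_cast; ring]
  exact ((char_sub_deg_mem hM h1 (by rwa [orderOf_inv])).mul_right (memLocalRing_one.sub (h1.memLocalRing 1))).add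
    ((memLocalIdeal_intCast_iff hM _).2 (Int.even_mul_succ_self _).two_dvd.neg_right)

theorem exists_small (hP : Syl 2 P ⊤) (hu : 2 ∣ orderOf u) :
    ∃ χ ∈ principalBlock M G, χ.1 ≠ (fun _ => 1) ∧ charDegree χ.1 < Nat.card P := by
  classical
  haveI := Fintype.ofFinite G
  by_contra! hd
  obtain ⟨a, ha, -⟩ := exists_contrib hM (isPBlock_principalBlock (M := M) (G := G))
  have h1 : ∀ g, ∑ χ : principalBlock M G, χ.1.1 g * a (principalIrr G) χ = Nat.card P * reg 2 (principalIrr G).1 g :=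
    fun g => by
      rw [(isClassFunction_reg (principalIrr G).2.isClassFunction).apply_eq_sum, Finset.mul_sum,
        ← finsum_mem_eq_sum_coe (principalBlock M G) fun χ => χ.1 g * a (principalIrr G) χ, Block.finsum_mem_irr']
      refine Finset.sum_congr rfl fun χ _ => ?_
      split_ifs with e
      · rw [ha _ principalIrr_mem, card_defectGroup hM isPBlock_principalBlock (isDefectGroup_principalBlock hM hP)]
        push_cast; ring
      · rw [classInner_reg_eq_zero' hM isPBlock_principalBlock.isBlockUnion principalIrr_mem e, zero_mul, mul_zero]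
  have h2 := sum_eq h fun χ => a (principalIrr G) χ
  rw [h1, h1, reg_of_dvd _ hu, reg_of_not_dvd _ not_dvd_orderOf_one, mul_zero, sub_zero] at h2
  obtain ⟨t, ht⟩ := exists_isPPart Nat.prime_two u
  have h3 := sum_eq h fun χ => conj (χ.1.1 1)
  rw [ker_eq_zero hM ht (isPPart_self Nat.prime_two ⟨0, orderOf_one⟩) fun e =>
    (ht.eq_one_iff Nat.prime_two).1 (isConj_one_left.1 e) hu, oneB_apply, map_one, sub_zero] at h3
  simp only [← irr_cast_deg, map_natCast] at h3
  generalize hm : ∑ χ : principalBlock M G, a (principalIrr G) χ - a (principalIrr G) (oneB M G) = m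
  have h4 : (Nat.card P : ℂ) = c * m := by rw [← hm]; push_cast; rw [← h2]; exact (mul_one _).symm
  have h5 : (Nat.card P : ℤ) * (∑ χ : principalBlock M G, (charDegree χ.1.1 : ℤ) - 1) =
      m * ∑ χ : principalBlock M G, (charDegree χ.1.1 : ℤ) * charDegree χ.1.1 := by
    apply Int.cast_injective (α := ℂ)
    push_cast
    rw [h3, h4]; ring
  have h6 : charDegree (oneB M G).1.1 = 1 := deg_eq_of_apply_one (by rw [oneB_apply, Nat.cast_one])
  rw [← Finset.add_sum_erase _ _ (Finset.mem_univ (oneB M G)), ← Finset.add_sum_erase _ _ (Finset.mem_univ (oneB M G)), h6,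
    Nat.cast_one, add_sub_cancel_left, Finset.mul_sum] at h5
  have h7 : ∑ χ ∈ Finset.univ.erase (oneB M G), (Nat.card P : ℤ) * charDegree χ.1.1 ≤
      ∑ χ ∈ Finset.univ.erase (oneB M G), (charDegree χ.1.1 : ℤ) * charDegree χ.1.1 := Finset.sum_le_sum fun χ hχ =>
    mul_le_mul_of_nonneg_right (by exact_mod_cast hd _ χ.2 fun e => Finset.ne_of_mem_erase hχ (eq_oneB_iff.2 e))
      (Nat.cast_nonneg _)
  have h8 : 0 ≤ ∑ χ ∈ Finset.univ.erase (oneB M G), (Nat.card P : ℤ) * charDegree χ.1.1 :=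
    Finset.sum_nonneg fun _ _ => by positivity
  have h9 : m ≠ 0 := fun e => Nat.card_pos.ne' (by rw [e, Int.cast_zero, mul_zero] at h4; exact_mod_cast h4 : Nat.card P = 0)
  rcases lt_or_gt_of_ne h9 with e | e <;> nlinarith

theorem eq_top (hP : Syl 2 P ⊤) (hc : IsMulCommutative P) [N.Normal] (hN : 𝐂(P) ≤ N) : N = ⊤ := by_contra fun e => by
  have ho : ¬ 2 ∣ N.index := fun e => hP.not_dvd_index (e.trans (index_dvd_of_le
    fun _ hx => hN fun _ hy => PGrp.comm_of_mem hc hy hx))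
  haveI := FT.odd_order_solvable (G ⧸ N) (Nat.odd_iff.2 (Nat.two_dvd_ne_zero.1 ho))
  haveI := QuotientGroup.nontrivial_iff.2 e
  obtain ⟨x, -, hx⟩ := SetLike.exists_of_lt (Group.IsSolvable.commutator_lt_top_of_nontrivial (G := G ⧸ N))
  obtain ⟨x, rfl⟩ := QuotientGroup.mk'_surjective N x
  obtain ⟨β, h1, h2⟩ := Clifford.exists_IrrKer_ne (N := (commutator (G ⧸ N)).comap (QuotientGroup.mk' N)) le_top
    (Clifford.nrm_of_normal _ _) hx
  have h3 := Clifford.linOn_of_mem_IrrKer (map_le_iff_le_comap.1 (by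
    rw [map_commutator]; exact commutator_mono le_top le_top)) h1
  obtain ⟨h4, h5⟩ := Clifford.mem_IrrKer.1 h1
  have h6 : ∀ g ∈ N, β g = 1 := fun g hg => (h5 g (by
    rw [mem_comap, (QuotientGroup.eq_one_iff g).2 hg |> fun e => show QuotientGroup.mk' N g = 1 from e]; exact one_mem _)).trans h3.2
  have h7 : (⟨β, Clifford.mem_Irr_top.1 h4⟩ : IrrCharacter G) ∈ principalBlock M G :=
    mem_principalBlock_of_u1 hM (by rw [h3.deg]; decide) fun g hg => by
      obtain ⟨T, hT⟩ := exists_syl 2 𝐂[g]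
      obtain ⟨k, -, rfl⟩ := hP.exists_conj (hT.of_le_of_not_dvd le_top (by rwa [relIndex_top_right]))
      have : k⁻¹ * g * k ∈ N := hN fun y hy => by
        have := (Invol.mem_cent.1 (hT.le (conj_mem_cj k hy))).eq
        calc y * (k⁻¹ * g * k) = k⁻¹ * (k * y * k⁻¹ * g) * k := by group
          _ = _ := by rw [this]; group
      change U1 M (β g / β 1)
      rw [show β g = 1 from h6 g (by simpa [mul_assoc] using Normal.conj_mem inferInstance _ this k), show β 1 = 1 from h3.2, div_one]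
      exact ⟨memLocalRing_one, red_one⟩
  have h8 := h _ h7 fun e => h2 ((congrFun e x).trans h3.2.symm)
  have h9 := h _ (conj_mem_principalBlock hM ⟨_, h7⟩) fun e => h2 (by
    rw [← star_star (β x), show star (β x) = 1 from congrFun e x, _root_.star_one, h3.2])
  simp only [h3.2, map_one] at h8 h9
  have h10 := h3.mul_conj (mem_top u)
  have h11 := h3.map_pow (mem_top u) N.index
  obtain ⟨k, hk⟩ := Nat.odd_iff.2 (Nat.two_dvd_ne_zero.1 ho)
  rw [h6 _ (N.pow_index_mem u), hk, pow_succ, pow_mul, sq, show β u * β u = 1 by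
    rw [← h10, sub_right_inj.1 (h9.trans h8.symm)], one_pow, one_mul] at h11
  exact h0 (by rw [← h8, ← h11, sub_self])

theorem harada (hO : pPrimeCore 2 G = ⊥) (u1 : u ≠ 1) : Nat.card G = 2 ∨ (IsL2e G ∧ u * u = 1) := by
  obtain ⟨P, hP⟩ := exists_syl 2 (⊤ : Subgroup G)
  obtain ⟨t, ht⟩ := exists_isPPart Nat.prime_two u
  have h1 : ∀ x ∈ P, x ≠ 1 → IsConj t x := fun x hx => isConj_of hM h0 h ht (orderOf_eq_pow_of_mem hP.isPGroup hx)
  obtain ⟨s, ⟨hs, -⟩, s2⟩ := SigC.exists_central_prime hP.isPGroup (hP.ne_bot (by_contra fun e => u1 (mem_bot.1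
    (hO.le (Core.le_pPrimeCore ((Nat.prime_two.coprime_iff_not_dvd.2 e).symm) (mem_top u))))))
  have s1 := Invol.ne_one_of_two s2
  have h2 : ∀ x ∈ P, x ≠ 1 → ∃ g, g * s * g⁻¹ = x := fun x hx x1 => isConj_iff.1 ((h1 s hs s1).symm.trans (h1 x hx x1))
  have h3 : ∀ x ∈ P, x * x = 1 := fun x hx => by
    by_cases x1 : x = 1
    · rw [x1, mul_one]
    obtain ⟨g, rfl⟩ := h2 x hx x1
    rw [conj_mul, ← sq, ← s2, pow_orderOf_eq_one, mul_one, mul_inv_cancel]
  have hc := R2.comm_of_sq h3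
  have hu : 2 ∣ orderOf u := by_contra fun e =>
    s1 (isConj_one_right.1 ((ht.eq_one_iff Nat.prime_two).2 e ▸ h1 s hs s1))
  by_cases hE : layer G = ⊥
  · haveI := normalizer_eq_top_iff.1 (eq_top_iff.2 (le_norm_of_solvable hP hc
      (by have := solvable_of_layer hO hP hc hE; infer_instance) ((opp_top Nat.prime_two).trans hO)))
    obtain rfl := eq_top hM h0 h hP hc ((centralizer_le (SetLike.coe_subset_coe.2 hP.pCore_le)).trans
      (((Layer.centralizer_pCore_le_iff (p := 2)).2 ⟨hO, hE⟩).trans hP.pCore_le))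
    refine .inl ((Nat.card_eq_two_iff' 1).2 ⟨s, s1, fun y hy => ?_⟩)
    obtain ⟨g, rfl⟩ := h2 y trivial hy
    rw [PGrp.comm_of_mem hc (mem_top g) trivial, mul_inv_cancel_right]
  obtain ⟨K, hK⟩ := Layer.exists_component_of_layer_ne_bot hE
  have i0 := inf_cent hO hP hc hK
  obtain ⟨hPK, _⟩ := le_of_inf hO hP hc hK fun w hw wc => by_contra fun w1 => by
    obtain ⟨v, v1, v2, v3⟩ := exists_two hO hP hc hK
    have i1 : ∀ y ∈ K, y ∈ 𝐂(K) → y = 1 := fun y a b => mem_bot.1 (i0.le ⟨a, b⟩)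
    obtain ⟨g, e⟩ := isConj_iff.1 ((h1 v v1 (Invol.ne_one_of_two v3)).symm.trans (h1 _ (mul_mem v1 hw) fun e =>
      w1 (i1 w (eq_inv_of_mul_eq_one_right e ▸ inv_mem v2) wc)))
    have i2 : v * w ∈ cj g K := e ▸ conj_mem_cj g v2
    by_cases e : cj g K = K
    · exact w1 (i1 w ((mul_mem_cancel_left v2).1 (e ▸ i2)) wc)
    · exact Invol.ne_one_of_two v3 (i1 v v2 ((mul_mem_cancel_right wc).1 (comm_eq_bot_iff.1
        (Layer.IsComponent.commutator_eq_bot_of_ne (Layer.IsComponent.cj hK g) hK e) i2)))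
  have hQ := hP.of_le hPK le_top
  haveI : (K ⊔ 𝐂(P)).Normal := normalizer_eq_top_iff.1 (eq_top_iff.2 fun g _ => by
    obtain ⟨k, hk, n, hn, rfl⟩ := hQ.frattini_mem (le_normalizer_of_normal (mem_top g))
    exact mul_mem (le_normalizer (mem_sup_left hk)) (Core.le_normalizer_sup
      (le_top.trans le_normalizer_of_normal) (Core.normalizer_le_normalizer_centralizer P) hn))
  have hcov := eq_top hM h0 h hP hc (le_sup_right (a := K))
  haveI := simple hO hP hc hK
  have nc := Layer.IsQuasisimple.not_isMulCommutative hK.2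
  have fin : K = ⊤ ∧ IsStronglyEmbedded 𝐍(P) → Nat.card G = 2 ∨ IsL2e G ∧ u * u = 1 := fun ⟨e, h⟩ => by
    subst e
    haveI : IsSimpleGroup G := topEquiv.symm.isSimpleGroup
    have := (l2e_of_se (fun h => nc inferInstance) hP hc h le_normalizer).2.2.2
    exact .inr ⟨this, ((l2e_simple this).2.2 u).resolve_right fun e => e.not_two_dvd_nat hu⟩
  obtain ⟨χ, hχ, c1, c2⟩ := exists_small hM h0 h hP hu
  obtain ⟨a, ha⟩ := χ.2.isCharacter.exists_int_of_two (h3 s hs)
  have h4 : ∀ y ∈ P, y ≠ 1 → χ.1 y = a := fun y hy y1 => by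
    obtain ⟨g, rfl⟩ := h2 y hy y1
    rw [χ.2.isClassFunction, ha]
  have h5 : a ≠ charDegree χ.1 := fun e => c1 (congrArg Subtype.val (eq_of_principal_over (θ := principalIrr K) hM hP hcov
    (fun e => hP.not_dvd_index (e.trans (index_dvd_of_le hPK))) principalIrr_mem hχ (fun _ => rfl) (by
      haveI := Fintype.ofFinite K
      haveI := χ.2.isCharacter.charKer_normal
      have i1 : K ≤ charKer χ.1 := subgroupOf_eq_top.1 ((inferInstance : ((charKer χ.1).subgroupOf K).Normal).eq_bot_or_eq_top.resolve_left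
        fun e' => s1 (congrArg Subtype.val (mem_bot.1 (e'.le (show (⟨s, hPK hs⟩ : K) ∈ _ from
          χ.2.isCharacter.mem_charKer.2 (by rw [← irr_cast_deg]; exact ha.trans (by rw [e, Int.cast_natCast])))))))
      rw [over_iff, show (fun k : K => χ.1 (K.subtype k)) = χ.1 1 • (principalIrr K).1 from funext fun k =>
        (χ.2.isCharacter.mem_charKer.1 (i1 k.2)).trans (mul_one _).symm, classInner_smul_left,
        (principalIrr K).2.classInner_self, mul_one]
      exact χ.2.apply_one_ne_zero)))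
  have h6 : a = -1 ∧ charDegree χ.1 + 1 = Nat.card P := by
    classical
    haveI := Fintype.ofFinite P
    obtain ⟨m, hm⟩ := card_dvd_of_const χ.2.isCharacter h4
    obtain ⟨n, hn⟩ := exists_sum_subgroup χ.2.isCharacter P
    have i1 := χ.2.isCharacter.norm_le s
    rw [ha, ← irr_cast_deg, Complex.norm_intCast, Complex.norm_natCast] at i1
    replace i1 : |a| ≤ charDegree χ.1 := by exact_mod_cast i1
    rw [← Finset.add_sum_erase _ _ (Finset.mem_univ 1), Finset.sum_congr rfl fun y hy => h4 _ y.2 fun e =>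
      Finset.ne_of_mem_erase hy (Subtype.ext e), Finset.sum_const, Finset.card_erase_of_mem (Finset.mem_univ _),
      Finset.card_univ, ← Nat.card_eq_fintype_card, nsmul_eq_mul, Nat.cast_pred Nat.card_pos, OneMemClass.coe_one,
      ← irr_cast_deg] at hn
    replace hn : (charDegree χ.1 : ℤ) + (Nat.card P - 1) * a = Nat.card P * n := by exact_mod_cast hn
    generalize charDegree χ.1 = d at *
    generalize Nat.card P = q at *
    have i2 := abs_le.1 i1
    obtain rfl : m = 1 := by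
      have : 0 < m := by by_contra; nlinarith [lt_of_le_of_ne i2.2 h5]
      have : m < 2 := by by_contra; nlinarith
      omega
    have : (q : ℤ) * (1 + a) = q * n := by linear_combination hn - hm
    have := mul_left_cancel₀ (by omega) this
    omega
  rcases as_cases hO hP hc hK hPK hcov with e | e | ⟨v, E, L, e⟩
  · have i1 := l2e_syl (l2e_of_sixty (l2o_five e.2 (Clifford.charOn_of_isCharacter χ.2.isCharacter K) (by omega) fun e =>
      h5 (by have := ha.symm.trans ((e s (hPK hs)).trans (irr_cast_deg χ).symm); exact_mod_cast this))) hQ.subgroupOf_top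
    exact fin (top_of_cent hO hP hc hK hPK hcov fun y hy y2 g hg => le_normalizer ((i1.2.2.1 ⟨y, hPK hy⟩ hy fun e =>
      Invol.ne_one_of_two y2 (congrArg Subtype.val e)).le (show (⟨g, hg.1⟩ : K) ∈ _ by rw [cent_subtype]; exact hg.2)))
  · exact fin e
  · have i1 := (Nat.card_congr (subgroupOfEquivOfLe hPK).toEquiv).symm.trans e.card
    exact (JR.no_seven e (χ.2.isCharacter.restrict K) (deg_eq_of_apply_one ((irr_cast_deg χ).symm.trans (by
      rw [show charDegree χ.1 = 7 by omega]))) ((h4 _ e.mem fun h => Invol.ne_one_of_two e.two (Subtype.ext h)).trans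
      (by rw [h6.1]; simp))).elim

end Cfsg.Lib.AbS
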