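import Cfsg.Agent.Lib.Small.Tuan
import Cfsg.Agent.Lib.Small.PB2
import Cfsg.Agent.Lib.Small.Brauer

/-!
# The Brauer–Tuan theorem on simple groups of order `p q ^ b g₀`
-/

set_option autoImplicit false

namespace Cfsg.Lib.Small

open Subgroup Cfsg.Lib.Amalg Cfsg.Lib.Linear Cfsg.Lib.Char Cfsg.Lib.Block Cfsg.Lib.Clifford ZMod

variable {G : Type*} [Group G] [Finite G] {p : ℕ} [hp : Fact p.Prime] {P : Subgroup G}

theorem mul_cases (p n : ℕ) : (p * n : ℤ) = 0 ∨ (p * n : ℤ) = p ∨ (p * n : ℤ) = 2 * p ∨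
    3 * p ≤ (p * n : ℤ) := by
  rcases n with _ | _ | _ | n <;> push_cast
  exacts [.inl (by ring), .inr (.inl (by ring)), .inr (.inr (.inl (by ring))),
    .inr (.inr (.inr (by nlinarith)))]

theorem DOne.ker_of_lt (D : DOne p P) {M : Ideal AlgInt} [M.IsMaximal] (hM : IsPModular p M)
    {χ : IrrCharacter G} (hχ : χ ∈ principalBlock M G) (hd : charDegree χ.1 < p) {y : 𝐂 P}
    (hy : D.π y = 0) : χ.1 y = χ.1 1 := by
  classical
  haveI := Fintype.ofFinite G
  haveI := Fintype.ofFinite (𝐂 P)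
  let ψ : ZMod p → 𝐂 P → ℂ := fun k => (fun c => (D.lam k c : ℂ)) * fun c : 𝐂 P => χ.1 c
  have h1 : ∀ k, IsCharacter _ (ψ k) := fun k =>
    (isCharacter_linear (D.lam k)).mul (χ.2.isCharacter.restrict _)
  have h2 : ∀ c ∈ elems (P.subgroupOf (𝐂 P)), c ≠ 1 → D.π c ≠ 0 := fun c hc h =>
    D.π_ne_zero (mem_subgroupOf.1 (mem_elems.1 hc)) fun e => h (Subtype.ext e)
  obtain ⟨k, hk⟩ : ∃ k, av (P.subgroupOf (𝐂 P)) (ψ k) = 0 := by
    by_contra! h
    have h3 : ∑ k, ∑ u ∈ elems (P.subgroupOf (𝐂 P)), ψ k u = p * χ.1 1 := by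
      rw [Finset.sum_comm, Finset.sum_eq_single_of_mem 1 (mem_elems.2 (one_mem _)) fun c hc h => by
        simp [ψ, DOne.lam, ← Finset.sum_mul, sum_psi, h2 c hc h]]
      simp [ψ]
    simp only [sum_eq_av (h1 _), D.card_subgroupOf, ← Finset.mul_sum, ← coe_deg, ← Nat.cast_sum,
      ← Nat.cast_mul, Nat.cast_inj, mul_right_inj' hp.out.ne_zero] at h3
    have := Finset.card_nsmul_le_sum Finset.univ _ 1 fun k _ => Nat.one_le_iff_ne_zero.2 (h k)
    simp only [Finset.card_univ, ZMod.card, smul_eq_mul, h3] at this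
    omega
  have h3 := sum_eq_av (h1 k) (P.subgroupOf (𝐂 P))
  rw [hk, Nat.cast_zero, mul_zero] at h3
  have h4 := (sum_mul_eq_zero (h1 k) h3 y).trans h3.symm
  rw [← sub_eq_zero, ← Finset.sum_sub_distrib, Finset.sum_eq_single_of_mem 1 (mem_elems.2 (one_mem _))
    fun c hc h => ?_] at h4
  · simpa [ψ, DOne.lam, hy, D.π_one, sub_eq_zero] using h4
  · have h5 : D.π (c * y) = D.π c := by rw [D.π_mul, hy, add_zero]
    simp only [ψ, DOne.lam, Pi.mul_apply, MonoidHom.coe_mk, OneHom.coe_mk, Units.val_mk0, h5,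
      D.value_principal hM hχ (h2 c hc h), D.value_principal hM hχ (h5 ▸ h2 c hc h), sub_self]

theorem DOne.C_le_of_lt [IsSimpleGroup G] (D : DOne p P) {M : Ideal AlgInt} [M.IsMaximal]
    (hM : IsPModular p M) {χ : IrrCharacter G} (hχ : χ ∈ principalBlock M G) (h1 : χ ≠ principalIrr G)
    (hd : charDegree χ.1 < p) : 𝐂 P ≤ P := fun c hc => by
  obtain ⟨y, hy, e⟩ := D.exists_decomp ⟨c, hc⟩
  have := χ.2.mem_charKer.2 (D.ker_of_lt hM hχ hd hy)
  rw [charKer_eq_bot_of_simple h1, mem_bot] at this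
  rw [show c = D.x ^ _ * y from congrArg Subtype.val e, this, mul_one]
  exact pow_mem D.x_mem _

namespace PB

variable {e t : ℕ} {X Y : Finset (IrrCharacter G)} {κ : ℤ} {ε : IrrCharacter G → ℤ} {χ θ : IrrCharacter G}

theorem exists_defectZero (h : PB p P e t X Y κ ε) (hC : 𝐂 P ≤ P) (he : 2 * e + 1 = p) (hκ : κ = -1)
    (h1 : principalIrr G ∈ X) (hX : ∀ χ ∈ X, χ ≠ principalIrr G → 2 ∣ charDegree χ.1) (hθ : θ ∈ Y)
    (hd : charDegree θ.1 = e + 1) :
    ∃ χ : IrrCharacter G, p ∣ charDegree χ.1 ∧ ∀ [Fintype G], classInner (θ.1 * star θ.1) χ.1 = (1 : ℕ) := by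
  classical
  haveI := Fintype.ofFinite G
  have hψ : IsCharacter G (θ.1 * star θ.1) := θ.2.isCharacter.mul θ.2.isCharacter.conj
  obtain ⟨a, a1, -, a3, a4⟩ := exists_coeffs hψ
  have a2 : a (principalIrr G) = 1 := by
    have := (classInner_eq_mul_conj_one θ.1 θ.1).symm.trans θ.2.classInner_self
    exact_mod_cast (a1 (principalIrr G)).symm.trans this
  have h2 := deg_le_av_mul_star θ.2.isCharacter (H := P) fun a ha b hb =>
    le_centralizer_of_card_prime h.card hb a ha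
  rw [charDegree_eq_of_eq (n := (e + 1) * (e + 1)) (by simp [← coe_deg, hd])] at a3
  rw [a4, hd] at h2
  have he0 := h.e_pos
  by_contra! h3
  let F : IrrCharacter G → ℤ := fun χ => a χ * (charDegree χ.1 - (e + 1) * av P χ.1) +
    if χ = principalIrr G then (e : ℤ) else 0
  have h4 : ∑ χ, F χ = (e + 1) * ((e + 1) - ∑ χ, a χ * av P χ.1) + e := by
    zify at a3
    push_cast
    simp only [F, Finset.sum_add_distrib, mul_sub, Finset.sum_sub_distrib, ← a3, Finset.sum_ite_eq',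
      Finset.mem_univ, if_true, Finset.mul_sum, mul_left_comm]
  have h5 : ∀ χ, ∃ m : ℕ, F χ = e * m ∧ m ≠ 1 := fun χ => by
    have := deg_pos χ
    by_cases hχ : χ ∈ X
    · rcases eq_or_ne χ (principalIrr G) with rfl | h6
      · exact ⟨0, by simp [F, a2, av_one, deg_principal], by omega⟩
      obtain ⟨k, hk⟩ := hX χ hχ h6
      have h7 := h.av_X hχ
      obtain ⟨j, hj⟩ : Even (av P χ.1) := by
        have : Even ((p : ℤ) * av P χ.1) := ⟨k + e * ε χ, by rw [h7, hk, ← he]; push_cast; ring⟩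
        rw [Int.even_mul, Int.even_coe_nat, Int.even_coe_nat, ← he] at this
        simpa using this
      rw [hj, ← he] at h7
      rcases h.sign_ε χ hχ with h8 | h8 <;> rw [h8] at h7
      · obtain ⟨j, rfl⟩ : ∃ i, j = i + 1 := Nat.exists_eq_succ_of_ne_zero (by
          rintro rfl; push_cast at h7; omega)
        refine ⟨a χ * j * 2, ?_, by omega⟩
        simp only [F, if_neg h6, hj]
        push_cast at h7 ⊢
        linear_combination (-a χ) * h7
      · refine ⟨a χ * (j + 1) * 2, ?_, by omega⟩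
        simp only [F, if_neg h6, hj]
        push_cast at h7 ⊢
        linear_combination (-a χ) * h7
    have h6 : χ ≠ principalIrr G := fun e => hχ (e ▸ h1)
    by_cases hχ' : χ ∈ Y
    · have h7 := h.av_Y hχ'
      rw [h.deg_eq hχ' hθ, hd, hκ, ← he] at h7
      have : (av P χ.1 : ℤ) = 1 := by
        refine mul_left_cancel₀ (a := 2 * (e : ℤ) + 1) (by omega) ?_
        push_cast at h7
        linarith
      exact ⟨0, by simp [F, h6, h.deg_eq hχ' hθ, hd, this], by omega⟩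
    · have h7 := h.av_out (h.out hC χ hχ hχ')
      refine ⟨a χ * av P χ.1, by simp only [F, if_neg h6, ← h7, ← he]; push_cast; ring, fun e => ?_⟩
      obtain ⟨_, h8⟩ := h3 χ (h.out hC χ hχ hχ')
      exact h8 (by rw [← Nat.eq_one_of_mul_eq_one_right e]; convert a1 χ)
  choose m h5 h6 using h5
  zify at h2
  have h7 : ∀ χ, F χ = 0 := fun χ => by
    have := Finset.single_le_sum (f := F) (fun χ _ => by rw [h5]; positivity) (Finset.mem_univ χ)
    have h8 := h6 χ
    rw [h5] at this ⊢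
    have : (m χ : ℤ) ≤ 1 := by
      refine le_of_mul_le_mul_left (a := (e : ℤ)) ?_ (by omega)
      push_cast at h4
      nlinarith
    rw [show m χ = 0 by omega]; simp
  rw [Finset.sum_eq_zero fun χ _ => h7 χ] at h4
  have : (e + 1 : ℤ) ∣ e := ⟨(∑ χ, a χ * av P χ.1 : ℕ) - (e + 1), by linear_combination -h4⟩
  have := Int.le_of_dvd (by omega) this
  omega

theorem card_dvd_eight (h : PB p P 2 t X Y κ ε) (hC : 𝐂 P ≤ P) (h5 : p = 5)
    (hd : charDegree χ.1 + 1 = p) (hf : ∀ g, χ.1 g = χ.1 1 → g = 1) {S : Subgroup G}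
    (hS : IsPGroup 2 S) : Nat.card S ∣ 8 := by
  classical
  have h1 : ∀ k (g : G), g ^ 2 ^ k = 1 → ¬ p ∣ orderOf g := fun k g hg e => by
    have := (Nat.prime_dvd_prime_iff_eq hp.out Nat.prime_two).1
      (hp.out.dvd_of_dvd_pow (e.trans (orderOf_dvd_of_pow_eq_one hg)))
    omega
  have h2 : ∀ k (g : G), g ≠ 1 → g ^ 2 ^ k = 1 → χ.1 g = 0 ∨ χ.1 g = 2 := fun k => by
    induction k with
    | zero => exact fun g h1 h2 => absurd (by simpa using h2) h1
    | succ k ih =>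
      intro g hg hk
      by_cases h3 : g * g = 1
      · exact .inl (h.val_two hC (by omega) hd hf (orderOf_eq_prime (by rw [sq, h3]) hg))
      have h4 := h.alt_eq hC (by omega) hd (h1 _ g hk)
      obtain ⟨m, hm⟩ := (h.isRat hC (by omega) hd).exists_int χ.2.isCharacter g
      rw [hm] at h4 ⊢
      rw [h5] at h4
      rcases ih (g * g) h3 (by rw [← sq, ← pow_mul, ← pow_succ', hk]) with e | e <;> rw [e] at h4
      · exact .inr (sub_eq_zero.1 (pow_eq_zero_iff two_ne_zero |>.1 (by push_cast at h4; linear_combination h4)))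
      · have : (m - 2) ^ 2 = 2 := by exact_mod_cast (by push_cast at h4; linear_combination h4 : ((m : ℂ) - 2) ^ 2 = 2)
        have h6 : m - 2 < 2 ∧ -2 < m - 2 := by constructor <;> nlinarith
        obtain rfl | rfl | rfl : m = 1 ∨ m = 2 ∨ m = 3 := by omega
        all_goals simp at this
  obtain ⟨θ, hθ⟩ := h.exists_Y
  obtain ⟨-, -, -, h3, h4⟩ := h.pm1 hC (by omega) hd
  have h6 := sum_eq_av (θ.2.isCharacter.mul θ.2.isCharacter.conj) S
  rw [sum_elems_erase S _ (c := 1) fun u hu h7 => by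
    obtain ⟨k, hk⟩ := hS ⟨u, hu⟩
    have hk' : u ^ 2 ^ k = 1 := congrArg Subtype.val hk
    rcases h2 k u h7 hk' with e | e <;> norm_num [h4 θ hθ u (h1 k u hk'), e]] at h6
  have h7 : θ.1 1 = 3 := by
    rw [← coe_deg, show charDegree θ.1 = 3 by have := h3 θ hθ; omega]; rfl
  generalize av S _ = n at h6
  have : Nat.card S + 8 = Nat.card S * n := by
    simp only [Pi.mul_apply, h7, map_ofNat] at h6
    exact_mod_cast (by linear_combination h6 : (Nat.card S : ℂ) + 8 = Nat.card S * n)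
  exact (Nat.dvd_add_right dvd_rfl).1 ⟨n, this⟩

theorem dvd_deg_X (h : PB p P e t X Y κ ε) (hperf : commutator G = ⊤) {q b g₀ : ℕ} (hq : q.Prime)
    (hG : P.index = q ^ b * g₀) (hg : g₀ + 1 < p) (hχ : χ ∈ X) (h1 : χ ≠ principalIrr G) :
    q ∣ charDegree χ.1 := by
  by_contra h2
  have h3 := Nat.le_of_dvd (Nat.pos_of_ne_zero (by rintro rfl; exact P.index_ne_zero_of_finite hG))
    (((hq.coprime_iff_not_dvd.2 h2).symm.pow_right b).dvd_of_dvd_mul_left
      (hG ▸ (h.dvd_X hχ).trans (index_dvd_of_le (le_centralizer_of_card_prime h.card))))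
  have h4 := h.av_X hχ
  have h5 := mt (eq_principal_of_degree_one hperf) h1
  have := deg_pos χ
  have := mul_cases p (av P χ.1)
  rcases h.sign_ε χ hχ with e | e <;> rw [e] at h4 <;> omega

end PB

theorem brauer_tuan [IsSimpleGroup G] (hG : ¬ IsMulCommutative G) {q b g₀ : ℕ} (hq : q.Prime)
    (hpq : p ≠ q) (hc : Nat.card G = p * q ^ b * g₀) (hg : g₀ + 1 < p) :
    (3 < p ∧ Nonempty (G ≃* PSL2 (ZMod p))) ∨ ∃ (m : ℕ) (F : Type) (_ : Field F) (_ : Fintype F),
      Fintype.card F = 2 ^ m ∧ p = 2 ^ m + 1 ∧ 3 < p ∧ Nonempty (G ≃* PSL2 F) := by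
  classical
  have h0 : 0 < g₀ := Nat.pos_of_ne_zero (by rintro rfl; exact Nat.card_pos.ne' hc)
  have hn : ¬ p ∣ q ^ b * g₀ := fun h => (hp.out.dvd_mul.1 h).elim
    (fun h => hpq ((Nat.prime_dvd_prime_iff_eq hp.out hq).1 (hp.out.dvd_of_dvd_pow h)))
    (Nat.not_dvd_of_pos_of_lt h0 (by omega))
  obtain ⟨P⟩ : Nonempty (Sylow p G) := inferInstance
  have hP := card_sylow_subgroup_eq P (a := 1) (by rwa [pow_one, ← mul_assoc]) hn
  have hi := index_sylow_eq P (a := 1) (by rwa [pow_one, ← mul_assoc]) hn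
  rw [pow_one] at hP
  obtain ⟨M, hM⟩ := Block2.exists_isPModular hp.out
  haveI := hM.2.1
  obtain ⟨e, t, X, Y, κ, ε, h, hB⟩ := exists_PB_block hM hP P.not_dvd_index
  obtain ⟨D⟩ := h.dOne
  have hperf := commutator_eq_top_of_simple hG
  have hZ := center_eq_bot_of_simple hG
  obtain ⟨θ, h1, h2, h3, -⟩ := exists_principal_not_dvd hM hq (D.orderOf_eq D.x_mem D.x_ne_one).symm.dvd
  have hθ := ((hB θ).1 h1).resolve_left fun e => h3 (h.dvd_deg_X hperf hq hi hg e h2)
  have h4 := ((hq.coprime_iff_not_dvd.2 h3).symm.pow_right b).dvd_of_dvd_mul_left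
    (hi ▸ (h.dvd_Y hθ).trans (index_dvd_of_le D.le_C))
  have h5 := Nat.le_of_dvd h0 h4
  have h6 := mt (eq_principal_of_degree_one hperf) h2
  have h7 := deg_pos θ
  have h8 := h.av_Y hθ
  have h9 := h.mul
  have he : 1 < e := h.he ▸ one_lt_relIndex_of_perfect hperf P ⟨_, D.card_G⟩
  have ht := h.t_pos
  have het : e < p := by nlinarith
  have := mul_cases p (av P θ.1)
  rcases h.sign with rfl | rfl
  · have : charDegree θ.1 = e := by omega
    have ht2 : 2 ≤ t := by rcases t with _ | _ | t <;> omega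
    obtain ⟨-, ⟨f⟩⟩ := brauer_psl D (fun hn => normalizer_ne_top_of_isPGroup hG P.isPGroup'
      (fun e => D.x_ne_one (e.le D.x_mem)) (normalizer_eq_top _)) θ (charKer_eq_bot_of_simple h2)
      (by nlinarith) (cent_of_simple D.x_ne_one)
    exact .inl ⟨by omega, ⟨((QuotientGroup.quotientMulEquivOfEq hZ).trans
      QuotientGroup.quotientBot).symm.trans f⟩⟩
  have hd : charDegree θ.1 + e = p := by omega
  have ht2 : 2 ≤ t := by rcases t with _ | _ | t <;> omega
  have he2 : 2 * e + 1 ≤ p := by nlinarith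
  obtain rfl : g₀ = charDegree θ.1 := by
    obtain ⟨_ | _ | c, hc⟩ := h4 <;> [omega; omega; nlinarith]
  have hC := D.C_le_of_lt hM h1 h2 (by omega)
  have hX := h.one_mem_X hperf ht2
  have a1 : e ∣ q ^ b := Nat.Coprime.dvd_of_dvd_mul_right (by
    rw [← Nat.coprime_add_self_right, hd]; exact (Nat.coprime_of_lt_prime (by omega) het hp.out).symm)
    ⟨_, hi.symm.trans (Nat.eq_of_mul_eq_mul_left hp.out.pos (by rw [← D.card_G, h.card_eq hC, mul_assoc]))⟩
  obtain ⟨j, -, rfl⟩ := (Nat.dvd_prime_pow hq).1 a1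
  have a2 := h.deg_rel hθ
  rw [← Finset.add_sum_erase _ _ hX, h.ε_one hX, deg_principal] at a2
  have a3 : ∀ r : ℕ, (∀ χ ∈ X, χ ≠ principalIrr G → r ∣ charDegree χ.1) → r ∣ q ^ j → r ∣ 2 :=
    fun r h1 h2 => by
      have h3 : (r : ℤ) ∣ _ := Finset.dvd_sum fun χ (hχ : χ ∈ X.erase (principalIrr G)) =>
        (Int.natCast_dvd_natCast.2 (h1 χ (Finset.mem_of_mem_erase hχ) (Finset.ne_of_mem_erase hχ))).mul_left (ε χ)
      have h4 := Int.natCast_dvd_natCast.2 h2
      zify at h9 hd ⊢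
      refine (dvd_sub (dvd_sub h4 (h4.mul_left t)) h3).trans (dvd_of_eq ?_)
      push_cast at a2 ⊢
      linear_combination hd - h9 + a2
  have hj : j ≠ 0 := by rintro rfl; simp at he
  obtain rfl := (Nat.prime_dvd_prime_iff_eq hq Nat.prime_two).1
    (a3 q (fun χ => h.dvd_deg_X hperf hq hi hg) (dvd_pow_self q hj))
  rcases j with _ | _ | j
  · exact absurd rfl hj
  · rw [zero_add, pow_one] at h hd
    obtain ⟨χ, b1, b2, b3⟩ := h.two rfl hX
    have b4 := b3 θ hθ
    have b5 : charDegree χ.1 + 1 = p := by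
      rcases h.sign_ε χ ((b2 χ).2 (.inr rfl)) with e | e <;> rw [e] at b4 <;> omega
    have hf : ∀ g, χ.1 g = χ.1 1 → g = 1 := fun g hg => by
      rwa [← χ.2.mem_charKer, charKer_eq_bot_of_simple b1, mem_bot] at hg
    by_cases h5 : 5 < p
    · obtain ⟨F, _, _, c1, c2, c3⟩ := h.psl hC (by omega) b5 hf h5
      obtain ⟨r, hr⟩ := CharP.exists F
      obtain ⟨m, c4, c5⟩ := FiniteField.card F r
      obtain rfl := c4.even_iff.1 (Nat.even_pow.1 (c5 ▸ c2)).1
      exact .inr ⟨m, F, _, _, c5, by omega, by omega, c3⟩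
    · haveI := Fact.mk Nat.prime_two
      obtain ⟨S⟩ : Nonempty (Sylow 2 G) := inferInstance
      have c1 := Nat.le_of_dvd (by omega) (h.card_dvd_eight hC (by omega) b5 hf S.isPGroup')
      rw [card_sylow_subgroup_eq S (a := b) (m := 15) (by
        rw [hc, show p = 5 by omega, show charDegree θ.1 = 3 by omega]; ring) (by omega)] at c1
      refine psl_of_lt_cube hG ⟨_, D.card_G⟩ ?_
      rw [hc, show p = 5 by omega, show charDegree θ.1 = 3 by omega]
      omega
  have b0 : 4 ∣ 2 ^ (j + 1 + 1) := ⟨2 ^ j, by ring⟩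
  obtain ⟨χ, b1, b2, b3⟩ : ∃ χ ∈ X, χ ≠ principalIrr G ∧ ¬ 4 ∣ charDegree χ.1 := by
    by_contra! h1
    exact absurd (a3 4 h1 b0) (by omega)
  generalize 2 ^ (j + 1 + 1) = e at *
  obtain ⟨k, hk⟩ := h.dvd_deg_X hperf hq hi hg b1 b2
  have b4 : k ∣ charDegree θ.1 := ((Nat.coprime_two_right.2 (Nat.odd_iff.2 (by omega))).pow_right b).dvd_of_dvd_mul_left
    (hi ▸ (Dvd.intro_left _ hk.symm).trans ((h.dvd_X b1).trans (index_dvd_of_le D.le_C)))
  have b5 := Nat.le_of_dvd h7 b4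
  have b6 := h.av_X b1
  have b7 := Nat.le_of_dvd (by omega) b0
  have b8 : 4 ∣ p - 1 := by rw [← h9]; exact b0.mul_left t
  have b9 : 2 * k = p + 1 := by
    have := mul_cases p (av P χ.1)
    have := deg_pos χ
    rcases h.sign_ε χ b1 with e | e <;> rw [e] at b6 <;> omega
  have c1 : charDegree θ.1 = k := by
    obtain ⟨_ | _ | c, hc⟩ := b4 <;> [omega; omega; nlinarith]
  obtain ⟨ψ, c2, c3⟩ := h.exists_defectZero hC (by omega) rfl hX
    (fun χ => h.dvd_deg_X hperf hq hi hg) hθ (by omega)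
  refine .inl ⟨by omega, (psl_of_defectZero hZ D hC θ ψ (by omega) (by omega) c2 hp.out.not_dvd_one
    c3).resolve_left ?_⟩
  rw [D.card_range_a, h.he]
  omega

end Cfsg.Lib.Small
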