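import Cfsg.Agent.Lib.Coprime.Jordan
import Cfsg.Agent.Lib.Small.PB

/-!
# Blichfeldt's theorem on eigenvalues in an arc of sixty degrees
-/

set_option autoImplicit false

namespace Cfsg.Lib.Small

open Subgroup Cfsg.Lib.Char Cfsg.Lib.Coprime Cfsg.Lib.Block Cfsg.Lib.Amalg Module
open scoped InnerProductSpace

theorem exists_arc_six : ∃ f : ℂ → Fin 6, ∀ z w : ℂ, ‖z‖ = 1 → ‖w‖ = 1 → f z = f w → ‖z - w‖ < 1 := by
  have hpi := Real.pi_pos
  have hb : ∀ z : ℂ, ⌊(Real.pi - z.arg) / (Real.pi / 3)⌋₊ < 6 := fun z => by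
    rw [Nat.floor_lt (div_nonneg (sub_nonneg.2 z.arg_le_pi) (by positivity)),
      div_lt_iff₀ (by positivity)]
    have := z.neg_pi_lt_arg
    push_cast
    linarith
  refine ⟨fun z => ⟨_, hb z⟩, fun z w hz hw e => ?_⟩
  have e : ⌊(Real.pi - z.arg) / (Real.pi / 3)⌋₊ = ⌊(Real.pi - w.arg) / (Real.pi / 3)⌋₊ :=
    congrArg Fin.val e
  have h1 : |z.arg - w.arg| < Real.pi / 3 := by
    have a1 := Nat.floor_le (div_nonneg (sub_nonneg.2 z.arg_le_pi) (by positivity : 0 ≤ Real.pi / 3))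
    have a2 := Nat.floor_le (div_nonneg (sub_nonneg.2 w.arg_le_pi) (by positivity : 0 ≤ Real.pi / 3))
    have a3 := Nat.lt_floor_add_one ((Real.pi - z.arg) / (Real.pi / 3))
    have a4 := Nat.lt_floor_add_one ((Real.pi - w.arg) / (Real.pi / 3))
    rw [e] at a1 a3
    rw [le_div_iff₀ (by positivity)] at a1 a2
    rw [div_lt_iff₀ (by positivity)] at a3 a4
    rw [abs_lt]
    constructor <;> linarith
  have h2 : 1 / 2 < Real.cos (z.arg - w.arg) := by
    rw [← Real.cos_abs, ← Real.cos_pi_div_three]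
    exact Real.cos_lt_cos_of_nonneg_of_le_pi (abs_nonneg _) (by linarith) h1
  rw [Real.cos_sub, Complex.cos_arg (by rintro rfl; simp at hz), Complex.cos_arg (by rintro rfl; simp at hw),
    Complex.sin_arg, Complex.sin_arg, hz, hw] at h2
  have h3 := Complex.sq_norm z
  have h4 := Complex.sq_norm w
  rw [← sq_lt_one_iff₀ (norm_nonneg _), Complex.sq_norm]
  simp only [Complex.normSq_apply, hz, hw, Complex.sub_re, Complex.sub_im] at *
  nlinarith

theorem blichfeldt {G : Type*} [Group G] [Finite G] {E : Type*} [NormedAddCommGroup E]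
    [InnerProductSpace ℂ E] [FiniteDimensional ℂ E] {X : G →* (E →L[ℂ] E)} (hX : ∀ g v, ‖X g v‖ = ‖v‖)
    (hirr : ∀ W : Submodule ℂ E, (∀ g, ∀ v ∈ W, X g v ∈ W) → W = ⊥ ∨ W = ⊤) {a : G} {c : ℂ} {v₀ : E}
    (h0 : v₀ ≠ 0) (hv : X a v₀ = c • v₀) (hr : ∀ v, ‖X a v - c • v‖ ≤ ‖v‖) :
    (∀ v, X a v = c • v) ∨ ∃ (v : E) (H : Subgroup G), v ≠ 0 ∧ H ≠ ⊤ ∧ ∀ x ∉ H, ⟪v, X x v⟫_ℂ = 0 := by
  have hm : ∀ x y v, X x (X y v) = X (x * y) v := fun x y v => by rw [map_mul]; rfl
  have hi : ∀ x {v}, v ≠ 0 → X x v ≠ 0 := fun x v h => by rwa [← norm_ne_zero_iff, hX, norm_ne_zero_iff]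
  let T : E → Set G := fun u => {g | X (g * a * g⁻¹) u = c • u}
  have hT : ∀ x u g, g ∈ T (X x u) ↔ x⁻¹ * g ∈ T u := fun x u g => by
    refine ⟨fun h => ?_, fun h => ?_⟩
    · simpa [-map_mul, hm, mul_assoc, T] using congrArg (X x⁻¹) h
    · simpa [-map_mul, hm, mul_assoc, T] using congrArg (X x) h
  obtain ⟨v, hv0, hmin⟩ := (measure fun u => (T u)ᶜ.ncard).wf.has_min {u | u ≠ 0} ⟨v₀, h0⟩
  have h1 : ∀ u, u ≠ 0 → T v ⊆ T u → T u = T v := fun u hu h => compl_injective
    (Set.eq_of_subset_of_ncard_le (Set.compl_subset_compl.2 h) (not_lt.1 (hmin u hu)))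
  obtain ⟨g₀, hg₀⟩ : (T v).Nonempty := by
    by_contra h
    rw [Set.not_nonempty_iff_eq_empty] at h
    exact ((h1 v₀ h0 (h ▸ Set.empty_subset _)).trans h).le (show 1 ∈ T v₀ by simpa [T])
  let W : Submodule ℂ E := ⨅ g ∈ T v, End.eigenspace (X (g * a * g⁻¹) : E →ₗ[ℂ] E) c
  have hW : ∀ u, u ∈ W ↔ T v ⊆ T u := fun u => by
    simp only [W, Submodule.mem_iInf, End.mem_eigenspace_iff]; rfl
  have K1 : ∀ u ∈ W, u ≠ 0 → ∀ x, X x u ∈ W → ∀ w ∈ W, X x w ∈ W := fun u hu h0 x hx w hw =>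
    (hW _).2 fun g hg => (hT ..).2 ((hW _).1 hw (h1 u h0 ((hW _).1 hu) ▸ (hT ..).1 ((hW _).1 hx hg)))
  have hvW : v ∈ W := (hW _).2 le_rfl
  let H : Subgroup G := ⟨⟨⟨{x | ∀ w ∈ W, X x w ∈ W}, fun h h' w hw => hm .. ▸ h _ (h' w hw)⟩,
    fun w hw => by simpa using hw⟩, fun {x} h => K1 _ (h v hvW) (hi x hv0) _ (by simpa [-map_mul, hm] using hvW)⟩
  by_cases hH : H = ⊤
  · have := (hirr W fun g => hH.ge (mem_top g)).resolve_left fun e => hv0 (e.le hvW)
    exact .inl fun u => by simpa [T] using (hT g₀ u g₀).1 ((hW _).1 (this.ge Submodule.mem_top) hg₀)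
  refine .inr ⟨v, H, hv0, hH, ?_⟩
  let Z : Set E := Metric.sphere 0 1 ∩ ⋃ x ∉ H, X x ⁻¹' W
  have hZ : ∀ x ∉ H, ∀ u ∈ W, u ≠ 0 → ((‖u‖ : ℂ)⁻¹) • X x u ∈ Z := fun x hx u hu h => ⟨by
    simp [norm_smul, hX, h], Set.mem_biUnion (mt (inv_mem_iff (H := H)).1 hx) (by
      simpa [-map_mul, hm] using W.smul_mem _ hu)⟩
  obtain ⟨x₁, hx₁⟩ : ∃ x, x ∉ H := by by_contra! h; exact hH (eq_top_iff.2 fun x _ => h x)
  obtain ⟨w, ⟨hw1, hw2⟩, hw⟩ := IsCompact.exists_isMaxOn (s := Z) ((isCompact_sphere 0 1).inter_right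
    ((Set.toFinite _).isClosed_biUnion fun x _ => W.closed_of_finiteDimensional.preimage (X x).continuous))
    ⟨_, hZ x₁ hx₁ v hvW hv0⟩ (f := fun w => ‖W.starProjection w‖) (by fun_prop)
  obtain ⟨x, hx, hxw⟩ : ∃ x ∉ H, X x w ∈ W := by simpa using hw2
  rw [mem_sphere_zero_iff_norm] at hw1
  have hw0 : w ≠ 0 := by rintro rfl; simp at hw1
  have h2 := W.norm_sq_eq_add_norm_sq_starProjection w
  rw [hw1, Submodule.starProjection_orthogonal_val] at h2
  have h3 : ∀ g ∈ T v, x * (g * a * g⁻¹) * x⁻¹ ∈ H := fun g hg => by_contra fun h => by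
    have a1 : ‖W.starProjection _‖ ≤ ‖W.starProjection w‖ := hw (hZ _ h _ hxw (hi x hw0))
    rw [hX, hw1, hm, inv_mul_cancel_right, ← hm] at a1
    simp only [Complex.ofReal_one, inv_one, one_smul] at a1
    have a2 : ‖⟪w, X (g * a * g⁻¹) w⟫_ℂ‖ ≤ ‖W.starProjection w‖ := by
      rw [← inner_rep hX x, ← W.starProjection_eq_self_iff.2 hxw, W.inner_starProjection_left_eq_right]
      exact (norm_inner_le_norm _ _).trans (by rwa [hX, hw1, one_mul])
    have a3 : ‖X (g * a * g⁻¹) w - c • w‖ ≤ ‖w - W.starProjection w‖ := by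
      have := hr (X g⁻¹ (w - W.starProjection w))
      rwa [hX, ← hX g, map_sub, map_smul, hm, hm, hm, mul_inv_cancel, map_one, map_sub,
        (hW _).1 (W.starProjection_apply_mem w) hg, one_apply_eq_self, smul_sub,
        sub_sub_sub_cancel_right] at this
    have a4 := norm_sub_sq (𝕜 := ℂ) (c • w) (X (g * a * g⁻¹) w)
    have a5 := norm_eigen hX h0 hv
    rw [norm_smul, a5, hX, hw1, norm_sub_rev] at a4
    have a6 := (RCLike.re_le_norm ⟪c • w, X (g * a * g⁻¹) w⟫_ℂ).trans_eq (by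
      rw [inner_smul_left, norm_mul, RCLike.norm_conj, a5, one_mul])
    have a7 : ‖w - W.starProjection w‖ ≠ 0 := fun e => hx (K1 w (by
      rw [sub_eq_zero.1 (norm_eq_zero.1 e)]; exact W.starProjection_apply_mem w) hw0 x hxw)
    have a8 := pow_le_pow_left₀ (norm_nonneg _) a3 2
    have : ‖W.starProjection w‖ = 1 := by nlinarith
    exact a7 (pow_eq_zero_iff two_ne_zero |>.1 (by rw [this] at h2; linarith))
  let W' := W.comap (X x : E →ₗ[ℂ] E)
  have h4 : W'.starProjection (W.starProjection w) ∈ W := (hW _).2 fun g hg => by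
    change X _ _ = _
    rw [← map_smul, ← (hW _).1 (W.starProjection_apply_mem w) hg, eq_comm]
    refine Submodule.eq_starProjection_of_mem_of_inner_eq_zero ?_ fun u hu => ?_
    · simpa [-map_mul, hm, W'] using h3 g hg _ (W'.starProjection_apply_mem (W.starProjection w))
    · rw [← map_sub, ← inner_rep hX (g * a * g⁻¹)⁻¹, hm, inv_mul_cancel, map_one,
        one_apply_eq_self]
      exact W'.starProjection_inner_eq_zero _ _ (by simpa [-map_mul, hm, W', mul_assoc] using inv_mem (h3 g hg) _ hu)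
  have h5 : W'.starProjection (W.starProjection w) = 0 := by_contra fun h =>
    hx (K1 _ h4 h x (W'.starProjection_apply_mem _))
  have h6 : W.starProjection w = 0 := by
    have a1 := W'.starProjection_inner_eq_zero (W.starProjection w) w hxw
    have a2 := W.starProjection_inner_eq_zero w _ (W.starProjection_apply_mem w)
    rw [h5, sub_zero, inner_eq_zero_symm] at a1
    rwa [inner_sub_left, a1, zero_sub, neg_eq_zero, inner_self_eq_zero] at a2
  intro y hy
  have a1 : ‖W.starProjection _‖ ≤ ‖W.starProjection w‖ := hw (hZ _ hy _ hvW hv0)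
  rw [h6, norm_zero, norm_le_zero_iff, map_smul, smul_eq_zero_iff_right (by simpa)] at a1
  rw [← W.starProjection_eq_self_iff.2 hvW, W.inner_starProjection_left_eq_right,
    W.starProjection_eq_self_iff.2 hvW, a1, inner_zero_right]

variable {G : Type*} [Group G] [Finite G] {p : ℕ} [hp : Fact p.Prime]

/-- an element of order `p` has many eigenvalues in a simple group -/
theorem le_six_pow [IsSimpleGroup G] (hG : ¬ IsMulCommutative G) {χ : IrrCharacter G}
    (h1 : χ ≠ principalIrr G) {z : G} (hz : orderOf z = p) {g₀ : ℕ} (hg : g₀ < p)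
    (h : ∀ m : ZMod p → ℕ, (∀ i, ∑ j, ZMod.stdAddChar (i * j) * χ.1 (z ^ j.val) = p * m i) →
      ∑ i, m i = charDegree χ.1 → (Finset.univ.filter fun i => m i ≠ 0).card ≤ g₀) :
    p ≤ 6 ^ (g₀ - 1) := by
  classical
  obtain ⟨n, ρ, hρ, hχ⟩ := χ.2
  obtain ⟨E, _, _, _, X, e, hX, he⟩ := exists_unitary ρ
  let R : Representation ℂ G E := ContinuousLinearMap.toLinearMapRingHom.toMonoidHom.comp X
  have hR : ∀ g, R.character g = χ.1 g := fun g => by
    rw [← hχ, Representation.character, Representation.character, ← LinearMap.trace_conj' _ e]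
    exact congrArg _ (LinearMap.ext fun v => by simpa [R] using he g (e.symm v))
  have hp1 : ∀ j : ℕ, z ^ (j : ZMod p).val = z ^ j := fun j => by
    rw [ZMod.val_natCast, ← hz, pow_mod_orderOf]
  let φ : Multiplicative (ZMod p) →* G := MonoidHom.mk' (fun j => z ^ j.toAdd.val) fun j k => by
    rw [← pow_add, ← hp1 (_ + _)]; simp
  let σ := fun i : ZMod p => twistRep (ZMod.stdAddChar.mulShift i).toMonoidHom.toHomUnits (R.comp φ)
  have h2 : ∀ i v, v ∈ (σ i).invariants ↔ ∀ j : ZMod p, ZMod.stdAddChar (i * j) • X (z ^ j.val) v = v :=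
    fun i v => Iff.rfl
  have h3 : ∀ i, ∑ j, ZMod.stdAddChar (i * j) * χ.1 (z ^ j.val) = p * finrank ℂ (σ i).invariants :=
    fun i => by
      rw [← classInner_character_one, classInner_one_right, Nat.card_eq_fintype_card,
        Fintype.card_multiplicative, ZMod.card, mul_inv_cancel_left₀ (Nat.cast_ne_zero.2 hp.out.ne_zero)]
      exact Fintype.sum_equiv Multiplicative.ofAdd _ _ fun j => by rw [twistRep_character, ← hR]; rfl
  have h4 : ∑ i, finrank ℂ (σ i).invariants = charDegree χ.1 := by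
    have := Finset.sum_congr rfl fun i (_ : i ∈ Finset.univ) => h3 i
    rw [Finset.sum_comm, Finset.sum_eq_single 0 (fun j _ hj => by simp [← Finset.sum_mul, sum_psi, hj])
      (by simp), ← Finset.mul_sum] at this
    simp only [mul_zero, AddChar.map_zero_eq_one, ZMod.val_zero, pow_zero, one_mul, Finset.sum_const,
      Finset.card_univ, ZMod.card, nsmul_eq_mul, ← coe_deg] at this
    exact_mod_cast (mul_left_cancel₀ (Nat.cast_ne_zero.2 hp.out.ne_zero) this).symm
  have h5 := h _ h3 h4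
  set S := Finset.univ.filter fun i => finrank ℂ (σ i).invariants ≠ 0
  have hS : ∀ i, i ∈ S ↔ (σ i).invariants ≠ ⊥ := fun i => by simp [S]
  obtain ⟨i₀, hi₀⟩ : S.Nonempty := Finset.nonempty_iff_ne_empty.2 fun e => (deg_pos χ).ne' (h4 ▸
    Finset.sum_eq_zero fun i _ => by simpa [S] using e.le.mt (Finset.notMem_empty i))
  obtain ⟨v₀, hv₀, h0⟩ := Submodule.exists_mem_ne_zero_of_ne_bot ((hS _).1 hi₀)
  by_contra! h6
  obtain ⟨f, hf⟩ := exists_arc_six
  obtain ⟨k, l, hkl, h7⟩ := Fintype.exists_ne_map_eq_of_card_lt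
    (fun (k : ZMod p) (i : S.erase i₀) => f (ZMod.stdAddChar (k * (i₀ - i.1)))) (by
      rw [Fintype.card_fun, Fintype.card_fin, Fintype.card_coe, Finset.card_erase_of_mem hi₀, ZMod.card]
      exact (Nat.pow_le_pow_right (by omega) (by omega)).trans_lt h6)
  have hn : ∀ a : ZMod p, ‖(ZMod.stdAddChar a : ℂ)‖ = 1 := fun a =>
    Complex.norm_eq_one_of_pow_eq_one (psi_pow_p a) hp.out.ne_zero
  have h8 : ∀ i v, v ∈ (σ i).invariants → ∀ j : ZMod p, X (z ^ j.val) v = ZMod.stdAddChar (-(i * j)) • v :=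
    fun i v hv j => by
      rw [AddChar.map_neg_eq_inv, eq_inv_smul_iff₀ (psi_ne_zero _), (h2 i v).1 hv]
  have h9 := norm_sub_lt hX (H := zpowers z) (fun x hx y hy => setLike_mul_comm hx hy)
    (h := z ^ (k - l).val) (npow_mem_zpowers ..) (c := ZMod.stdAddChar (-(i₀ * (k - l)))) one_pos
    fun v hv lam hl => by
      have a1 : ∀ j, X (z ^ j) v = lam ⟨z, mem_zpowers z⟩ ^ j • v := fun j => by
        induction j with
        | zero => simp
        | succ j ih => rw [pow_succ', map_mul, mul_apply_eq_comp, ih, map_smul,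
            hl ⟨z, mem_zpowers z⟩, smul_smul, pow_succ]
      obtain ⟨i, hi⟩ := exists_psi_eq (p := p) (z := lam ⟨z, mem_zpowers z⟩)
        (smul_left_injective ℂ hv (by simp only [← a1, ← hz, pow_orderOf_eq_one]; simp))
      have a2 : v ∈ (σ (-i)).invariants := (h2 ..).2 fun j => by
        rw [a1, ← hi, ← psi_natCast_mul, smul_smul, ← AddChar.map_add_eq_mul]
        simp [mul_comm]
      rw [smul_left_injective ℂ hv ((hl ⟨_, npow_mem_zpowers ..⟩).symm.trans (h8 _ v a2 _))]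
      rcases eq_or_ne (-i) i₀ with rfl | a3
      · simp
      have := hf _ _ (hn _) (hn _) (congrFun h7 ⟨_, Finset.mem_erase.2 ⟨a3, (hS _).2 fun e => hv (e.le a2)⟩⟩)
      refine ((one_mul _).symm.trans ?_).trans_lt this
      rw [← hn (l * (i₀ + i) + i₀ * (k - l)), ← norm_mul, mul_sub (_ : ℂ), ← AddChar.map_add_eq_mul,
        ← AddChar.map_add_eq_mul]
      congr 3 <;> ring
  have hv : ∀ j : ZMod p, j ≠ 0 → (orderOf z).Coprime j.val := fun j hj => by
    rw [hz]; exact Nat.coprime_of_lt_prime ((ZMod.val_ne_zero j).2 hj) j.val_lt hp.out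
  rcases blichfeldt hX ((isIrreducible_iff R).1 ((isIrrCharacter_character_iff R).1 (funext hR ▸ χ.2))).2 h0 (h8 _ _ hv₀ (k - l)) (fun v => ((X _ - algebraMap ℂ _ _).le_of_opNorm_le h9.le v).trans_eq
      (one_mul _)) with a1 | ⟨v, H, a1, a2, a3⟩
  · have : z ^ (k - l).val ∈ center G := mem_center_iff.2 fun g => by
      rw [← mul_inv_eq_one, ← mem_bot, ← charKer_eq_bot_of_simple h1, χ.2.mem_charKer, ← hR, ← hR]
      refine congrArg (LinearMap.trace ℂ E) (LinearMap.ext fun v => ?_)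
      change X _ v = X 1 v
      rw [map_mul, mul_apply_eq_comp, map_mul, mul_apply_eq_comp, a1, map_smul, ← a1, ← mul_apply_eq_comp,
        ← mul_apply_eq_comp, ← map_mul, ← map_mul, mul_inv_cancel]
    rw [center_eq_bot_of_simple hG, mem_bot] at this
    have h := (hv _ (sub_ne_zero.2 hkl)).orderOf_pow
    rw [this, orderOf_one, hz] at h
    exact hp.out.ne_one h.symm
  · obtain ⟨g, a4⟩ : ∃ g, g * z * g⁻¹ ∉ H := by
      by_contra! a4
      rcases H.normalCore_normal.eq_bot_or_eq_top with e | e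
      · exact hp.out.ne_one (by rw [← hz, mem_bot.1 (e.le a4), orderOf_one])
      · exact a2 (eq_top_iff.2 (e.ge.trans H.normalCore_le))
    obtain ⟨i, -, hi⟩ := Finset.exists_mem_notMem_of_card_lt_card (s := S) (t := Finset.univ)
      (by simpa using h5.trans_lt hg)
    have a5 : ∑ j : ZMod p, ZMod.stdAddChar (i * j) • X (z ^ j.val) (X g⁻¹ v) ∈ (σ i).invariants :=
      fun k => by
        rw [map_sum]
        exact Fintype.sum_equiv (Equiv.addLeft k.toAdd) _ _ fun j =>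
          LinearMap.congr_fun (map_mul (σ i) k (.ofAdd j)).symm _
    rw [not_not.1 (mt (hS i).2 hi), Submodule.mem_bot] at a5
    have := congrArg (fun w => ⟪v, X g w⟫_ℂ) a5
    simp only [map_sum, map_smul, inner_sum, inner_smul_right, ← mul_apply_eq_comp,
      ← map_mul] at this
    rw [Finset.sum_eq_single 0 (fun j _ hj => by
      rw [a3 _ fun h => a4 (zpowers_le.2 h ?_), mul_zero]
      obtain ⟨k, hk⟩ := (mem_zpowers_pow_iff (g := z) (k := j.val)).2 (hv j hj).symm
      exact ⟨k, by simp only [← mul_assoc, conj_zpow]; rw [show _ ^ k = z from hk]⟩) (by simp)] at this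
    exact a1 (by simpa using this)

end Cfsg.Lib.Small
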