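import Cfsg.Agent.Lib.Leech.Enc
import Cfsg.Agent.Lib.Leech.SgnGrp
import Cfsg.Agent.Lib.Forms.Exc
import Cfsg.Agent.Lib.Golay.Oct

/-! The sublattice supported on an octad, modulo two, as the hyperbolic space of dimension 8. -/

set_option autoImplicit false

namespace Cfsg.Lib.Small.Co1Z

open Cfsg.Lib.Leech Cfsg.Lib.Golay Cfsg.Spor Cfsg.Lib.Forms Subgroup

abbrev I8 := Fin 4 ⊕ Fin 4
abbrev V8 := I8 → ZMod 2
abbrev oo : Finset GolayPt := om 0x82402f
abbrev D8 := fPlus (ZMod 2) 4

def ix : I8 → ℕ := Sum.elim (fun i => i.val) fun i => 4 + i.val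
noncomputable def bc (j : I8) : ℕ := getL [0x808080808080408080c0808080808080808080808080c04,
  0xa08080808080a08080a080808080808080806080a06060e, 0x608080808080e0808060808080808080808060806060606,
  0x408080808080808080408080808080808080c0808080c08, 0x408080808080c080808080808080808080808080808040c,
  0x608080808080608080e08080808080808080a080a060a0a, 0xa08080808080a08080208080808080808080a0806060a0a,
  0xc08080808080808080c0808080808080808040808080804] 0 (ix j)
noncomputable def bs (j : I8) : ℕ := getL [0x60808080a0a06080a080a08080808080808040804080a0a,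
  0x70907090909070709070909090909090907050709070909, 0x70907090707070709070909090907090907070909050707,
  0x808080a08080a0a0808080808080a080808080a0a0a0a08, 0x80a0a0808080a08080a0a0808080808080a0808040c0a0a,
  0x909090907070909090909090909070909090b0709070707, 0x90909090909090909090909090909090909090905090909,
  0xa0808080a080c08080a0a0808080808080a0a0a080c0a08] 0 (ix j)
noncomputable def TT (i j : I8) : ℤ := getL (getL [[2, -2, -2, 0, -3, 2, -2, 2], [0, 2, 0, -2, 2, 1, 0, 0],
  [0, 0, 2, 0, 2, -2, 1, 0], [0, 0, 0, 2, 0, 0, 2, -3], [0, 0, 0, 0, 2, 0, 0, -2],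
  [0, 0, 0, 0, 0, 2, -2, 0], [0, 0, 0, 0, 0, 0, 2, -2], [0, 0, 0, 0, 0, 0, 0, 2]] [] (ix i)) 0 (ix j)

theorem b_ok : ∀ j, inL (bc j) = true ∧ inL (bs j) = true ∧ bc j < 2 ^ 192 := by decide +kernel

noncomputable def B (j : I8) : leechLattice := ⟨decV (bc j), mem_of_inL (b_ok j).1⟩
noncomputable def Bs (j : I8) : leechLattice := ⟨decV (bs j), mem_of_inL (b_ok j).2.1⟩

theorem rep_B (j : I8) : Rep (bc j) (B j) := ⟨(b_ok j).2.2, rfl⟩

/-- supported on the octad -/
def Lm (v : leechLattice) : Prop := ∀ l ∉ oo, (v : GolayPt → ℤ) l = 0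

theorem Lm_B : ∀ j, Lm (B j) := by
  show ∀ j, ∀ l ∉ oo, decV (bc j) l = 0
  simp only [Coding.mem_ofMask]
  decide +kernel

theorem Lm.sum {f : I8 → ℤ} : Lm (∑ j, f j • B j) := fun l hl => by
  simp [Lm_B _ l hl]

theorem Lm.sub {v w : leechLattice} (hv : Lm v) (hw : Lm w) : Lm (v - w) := fun l hl => by
  simp [hv l hl, hw l hl]

noncomputable def co (v : leechLattice) (j : I8) : ℤ := dotInt (Bs j : GolayPt → ℤ) v / 8

theorem co8 (v : leechLattice) (j : I8) : 8 * co v j = dotInt (Bs j : GolayPt → ℤ) v :=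
  Int.mul_ediv_cancel' (eight_dvd_dot (Bs j).2 v.2)

theorem dual_chk : ∀ k ∈ oo, ∀ l, ∑ j, decV (bs j) k * decV (bc j) l = if k = l then 8 else 0 := by
  simp only [Coding.mem_ofMask]
  decide +kernel

theorem span {v : leechLattice} (hv : Lm v) : v = ∑ j, co v j • B j := by
  refine Subtype.ext (funext fun l => ?_)
  have : 8 * ((∑ j, co v j • B j : leechLattice) : GolayPt → ℤ) l = 8 * (v : GolayPt → ℤ) l := by
    rw [AddSubgroup.val_finsetSum, Finset.sum_apply, Finset.mul_sum]
    calc ∑ j, 8 * ((co v j • B j : leechLattice) : GolayPt → ℤ) l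
        = ∑ j, ∑ k, (v : GolayPt → ℤ) k * (decV (bs j) k * decV (bc j) l) := by
          refine Finset.sum_congr rfl fun j _ => ?_
          show 8 * (co v j * decV (bc j) l) = _
          rw [← mul_assoc, co8, dotInt, Finset.sum_mul]
          exact Finset.sum_congr rfl fun k _ => by show decV (bs j) k * _ * _ = _; ring
      _ = ∑ k, if k = l then 8 * (v : GolayPt → ℤ) l else 0 := by
          rw [Finset.sum_comm]
          refine Finset.sum_congr rfl fun k _ => ?_
          rw [← Finset.mul_sum]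
          by_cases hk : k ∈ oo
          · rw [dual_chk k hk]; split_ifs with h
            · rw [h, mul_comm]
            · rw [mul_zero]
          · rw [hv k hk, zero_mul]; split_ifs with h
            · rw [← h, hv k hk, mul_zero]
            · rfl
      _ = _ := by simp
  omega

theorem co_add (v w : leechLattice) (j : I8) : co (v + w) j = co v j + co w j := by
  have h := co8 (v + w) j
  rw [AddSubgroup.coe_add, dotInt_add_right, ← co8, ← co8] at h
  omega

/-- the class modulo two -/
noncomputable def cl : leechLattice →+ V8 :=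
  AddMonoidHom.mk' (fun v j => (co v j : ZMod 2)) fun v w => funext fun j => by
    simp [co_add]

theorem cl_apply (v : leechLattice) (j : I8) : cl v j = (co v j : ZMod 2) := rfl

noncomputable def cN (m : ℕ) : V8 := fun k =>
  (((dotN (bs k) m + 1536 - 8 * sumD (bs k) - 8 * sumD m : ℤ) / 8 : ℤ) : ZMod 2)

theorem cl_rep {m : ℕ} {v : leechLattice} (h : Rep m v) : cl v = cN m := funext fun k => by
  rw [cl_apply, co, ← h.2]
  exact congrArg (fun x : ℤ => ((x / 8 : ℤ) : ZMod 2)) (dot_decV _ _)

theorem cl_B (j : I8) : cl (B j) = Pi.single j 1 := by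
  rw [cl_rep (rep_B j)]; revert j; decide +kernel

theorem gram : ∀ i j, dotInt (B i : GolayPt → ℤ) (B j) = 16 * (TT i j + TT j i) := by
  show ∀ i j, dotInt (decV (bc i)) (decV (bc j)) = _
  simp only [dot_decV]
  decide +kernel

theorem sq_B (j : I8) : sqNorm (B j : GolayPt → ℤ) = 64 := by
  rw [← dotInt_self, gram]; revert j; decide +kernel

theorem TT_chk : ∀ x : V8, ∑ i, ∑ j, x i * x j * (TT i j : ZMod 2) = quadFormPlus 4 (ZMod 2) x := by
  decide +kernel

theorem qn {v : leechLattice} (hv : Lm v) :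
    ∃ n : ℤ, sqNorm (v : GolayPt → ℤ) = 32 * n ∧ D8.Q (cl v) = n := by
  refine ⟨∑ i, ∑ j, co v i * co v j * TT i j, ?_, ?_⟩
  · have e : ∀ l, (v : GolayPt → ℤ) l = ∑ j, co v j * (B j : GolayPt → ℤ) l := fun l => by
      conv_lhs => rw [span hv]
      rw [AddSubgroup.val_finsetSum, Finset.sum_apply]; rfl
    calc sqNorm (v : GolayPt → ℤ) = ∑ i, ∑ j, co v i * co v j * dotInt (B i : GolayPt → ℤ) (B j) := by
          rw [← dotInt_self, dotInt]
          simp only [dotInt, Finset.mul_sum]
          rw [Finset.sum_congr rfl fun l _ => by rw [e l, Finset.sum_mul_sum], Finset.sum_comm]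
          refine Finset.sum_congr rfl fun i _ => ?_
          rw [Finset.sum_comm]
          exact Finset.sum_congr rfl fun j _ => Finset.sum_congr rfl fun l _ => by ring
      _ = 16 * (∑ i, ∑ j, co v i * co v j * TT i j) + 16 * ∑ i, ∑ j, co v j * co v i * TT j i := by
          simp only [gram, Finset.mul_sum, ← Finset.sum_add_distrib]
          exact Finset.sum_congr rfl fun i _ => Finset.sum_congr rfl fun j _ => by ring
      _ = _ := by rw [Finset.sum_comm (f := fun i j => co v j * co v i * TT j i)]; ring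
  · rw [fPlus_Q, ← TT_chk]; push_cast; rfl

theorem two_of {v : leechLattice} (hv : Lm v) (h : cl v = 0) : ∃ w, v = 2 • w := by
  refine ⟨∑ j, (co v j / 2) • B j, ?_⟩
  rw [Finset.smul_sum]
  conv_lhs => rw [span hv]
  refine Finset.sum_congr rfl fun j _ => ?_
  have := (ZMod.intCast_zmod_eq_zero_iff_dvd _ 2).1 (congrFun h j)
  rw [two_nsmul, ← add_smul]
  congr 1
  omega

theorem cl_surj (x : V8) : ∃ v, Lm v ∧ cl v = x := by
  refine ⟨∑ j, ((x j).val : ℤ) • B j, Lm.sum, ?_⟩
  rw [map_sum]
  funext k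
  simp only [map_zsmul, cl_B, Finset.sum_apply, Pi.smul_apply, Pi.single_apply, smul_ite, smul_zero,
    Finset.sum_ite_eq, Finset.mem_univ, if_true]
  simp

theorem cw_oo : Cw oo := O0_mem.1

noncomputable abbrev ep : Co0 := sgn oo cw_oo
abbrev LL : Subgroup Co0 := centralizer {ep}

theorem Lm_iff {v : leechLattice} : Lm v ↔ ep • v = -v := by
  constructor
  · intro h
    refine Subtype.ext (funext fun l => ?_)
    rw [sgn_smul]; split_ifs with hl
    · rfl
    · simp [h l hl]
  · intro h l hl
    have := congrArg (fun w : leechLattice => (w : GolayPt → ℤ) l) h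
    simp only [sgn_smul, if_neg hl, AddSubgroup.coe_neg, Pi.neg_apply] at this
    omega

theorem Lm.smul {g : Co0} (hg : g ∈ LL) {v : leechLattice} (h : Lm v) : Lm (g • v) := by
  rw [Lm_iff] at h ⊢
  rw [← mul_smul, ← mem_centralizer_singleton_iff.1 hg, mul_smul, h, co0_smul_neg]

noncomputable def ff (g : Co0) : V8 →ₗ[ZMod 2] V8 :=
  Fintype.linearCombination (ZMod 2) fun j => cl (g • B j)

theorem ff_cl (g : Co0) {v : leechLattice} (h : Lm v) : ff g (cl v) = cl (g • v) := by
  conv_rhs => rw [span h]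
  rw [co0_smul_sum, map_sum, ff, Fintype.linearCombination_apply]
  exact Finset.sum_congr rfl fun j _ => by
    rw [co0_smul_zsmul, map_zsmul, cl_apply, Int.cast_smul_eq_zsmul]

theorem exists_rho : ∃ ρ : LL →* D8.isom, ∀ (g : LL) v, Lm v → (ρ g).1 (cl v) = cl ((g : Co0) • v) := by
  obtain ⟨ρ, h⟩ := exists_hom_of_embed D8 (fun g : LL => ff g)
    (fun x => by obtain ⟨v, hv, rfl⟩ := cl_surj x; rw [ff_cl _ hv]; simp)
    (fun g k x => by
      obtain ⟨v, hv, rfl⟩ := cl_surj x
      rw [ff_cl _ hv, ff_cl _ hv, ff_cl _ (hv.smul k.2), Subgroup.coe_mul, mul_smul])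
    LinearMap.id (fun _ _ h => h) (fun g x => ⟨_, rfl⟩) (fun g x y e => by
      obtain ⟨v, hv, rfl⟩ := cl_surj x
      obtain rfl : y = cl ((g : Co0) • v) := e.trans (ff_cl _ hv)
      obtain ⟨n, h1, h2⟩ := qn hv
      obtain ⟨m, h3, h4⟩ := qn (hv.smul g.2)
      rw [sqNorm_smul] at h3
      rw [h2, h4, show m = n by omega])
  exact ⟨ρ, fun g v hv => (h g _).trans (ff_cl _ hv)⟩

end Cfsg.Lib.Small.Co1Z
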