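import Cfsg.Agent.Lib.Small.CoD1
import Cfsg.Agent.Lib.JT.Main

/-! Elements of order 5 centralising the involution in a group of Conway type. -/

set_option autoImplicit false

namespace Cfsg.Lib.Small.CoD

open Cfsg.Lib.Forms Subgroup Cfsg.Lib.Small.Co1Z Cfsg.Lib.Known2 Cfsg.Agent.S5405 Cfsg.Lib.Small.CoT
  Cfsg.Lib.Leech Cfsg.Lib.Core

variable {G : Type*} [Group G] [Finite G] {Q : Subgroup G} {z y y' : G}

theorem exF (h : XT Q z) : ∃ ν a, FG Q z ν a := by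
  obtain ⟨s, hs, h1, h2, ss⟩ : ∃ s ∈ Q, s ≠ 1 ∧ s ≠ z ∧ s * s = 1 := by
    obtain ⟨x, hx, w, hw, n⟩ := h.nonab
    have key : ∀ s ∈ Q, ∀ t ∈ Q, s * t ≠ t * s → s * s = 1 → ∃ s ∈ Q, s ≠ 1 ∧ s ≠ z ∧ s * s = 1 :=
      fun s hs t ht n e => ⟨s, hs, by rintro rfl; simp at n, by rintro rfl; exact n (h.cen t ht).symm, e⟩
    rcases h.sq_mem x hx with e | e
    · exact key x hx w hw n e
    obtain ⟨a, ha, a', ha', c1, c2, c3⟩ := h.toES.exists_anti_cent (by rw [h.card]; norm_num) hx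
    rcases h.sq_mem a ha with e' | e'
    · exact key a ha a' ha' c3 e'
    refine key (x * a) (mul_mem hx ha) a' ha' (fun e => c3 ?_) ?_
    · rwa [← mul_assoc, ← c2, mul_assoc, mul_assoc, mul_right_inj] at e
    · rw [mul_assoc, ← mul_assoc a, ← c1, mul_assoc, ← mul_assoc, e, e', h.sq]
  obtain ⟨M, hP, -⟩ := h.exists_M hs h1 h2 ss (v := vv 1) (by decide +kernel) (by rw [fPlus_Q]; decide +kernel)
  exact ⟨_, _, h.fg M hP⟩

theorem pc_bot {X : Type*} [Group X] [Finite X] (h : ∀ N : Subgroup X, N.Normal → N = ⊥ ∨ N = ⊤)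
    (h3 : 3 ∣ Nat.card X) : pCore 2 X = ⊥ := by
  refine (h _ inferInstance).resolve_right fun h => ?_
  have := Fact.mk Nat.prime_two
  obtain ⟨n, h1⟩ := IsPGroup.iff_card.1 (isPGroup_pCore 2 X)
  rw [h, card_top] at h1
  exact absurd (Nat.prime_three.dvd_of_dvd_pow (h1 ▸ h3)) (by norm_num)

theorem n5 {ν : G → V8} {a : G → D8.isom} (F : FG Q z ν a) (hy : orderOf y = 5) (hz : y * z = z * y)
    (hq : ∃ q ∈ Q, q ≠ 1 ∧ q ≠ z ∧ q * y = y * q) :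
    (⟨y, mem_cent_single.2 hz⟩ : centralizer ({z} : Set G)) ^ 5 = 1 ∧
      ∃ g, g * A F ⟨y, mem_cent_single.2 hz⟩ * g⁻¹ = Y5 := by
  have p5 : y ^ 5 = 1 := hy ▸ pow_orderOf_eq_one y
  have p5' : (⟨y, mem_cent_single.2 hz⟩ : centralizer ({z} : Set G)) ^ 5 = 1 := Subtype.ext p5
  obtain ⟨q, h1, h2, h3, h4⟩ := hq
  refine ⟨p5', nf5 (by rw [← map_pow, p5', map_one]) (fun e => ?_) ⟨ν q, fun e => ((F.zero q h1).1 e).elim h2 h3,
    (fix_iff F Nat.prime_five (by norm_num) p5' h1).1 h4⟩⟩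
  rw [inf_one F Nat.prime_five (by norm_num) p5 (mem_zpowers y) ((A_one F).1 e), orderOf_one] at hy
  omega

theorem odd5 (h : XT Q z) (hw : ∃ g, g * z * g⁻¹ ∈ Q ∧ g * z * g⁻¹ ≠ z) (hy : orderOf y = 5) (hz : y * z = z * y)
    (hq : ∃ q ∈ Q, q ≠ 1 ∧ q ≠ z ∧ q * y = y * q) (h19 : ¬ 19 ∣ Nat.card G)
    [hn : ((zpowers y).subgroupOf (centralizer (zpowers y : Set G))).Normal] :
    Spor.IsoJ2 (centralizer (zpowers y : Set G) ⧸ (zpowers y).subgroupOf _) := by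
  obtain ⟨ν, a, F⟩ := exF h
  obtain ⟨p5, g, hg⟩ := n5 F hy hz hq
  have := qn (tw F g) Nat.prime_five (by norm_num) p5
  have ⟨s1, s2⟩ := JT.omega_facts (omegaIso D4 rfl).symm
  have : Finite (commutator D4.isom) := Nat.finite_of_card_ne_zero (by omega)
  obtain ⟨⟨a1, a2, a3, a4, a5⟩, ⟨e⟩⟩ := odd (tw F g) Nat.prime_five (by norm_num) p5 (by rw [A_tw F, hg]; exact N5) hw
    (pc_bot s1.eq_bot_or_eq_top_of_normal (by rw [s2]; norm_num)) (w := 2) (by simp)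
  obtain ⟨φ, hφ, -⟩ := JT.jt_of_omega a1 _ a2 a3 a4 (e.trans (omegaIso D4 rfl).symm) a5
  by_cases hc : IsConj (φ JT.z0) (φ JT.a0)
  · have c := (JT.card_of_isoJ3 (JT.isoJ3 hφ hc)).symm.dvd.trans
      ((card_quotient_dvd_card _).trans (card_subgroup_dvd_card (centralizer (zpowers y : Set G))))
    exact absurd (Dvd.dvd.trans (by norm_num) c) h19
  exact JT.isoJ2 hφ hc

theorem conj5 (h : XT Q z) (hy : orderOf y = 5) (hz : y * z = z * y) (hq : ∃ q ∈ Q, q ≠ 1 ∧ q ≠ z ∧ q * y = y * q)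
    (hy' : orderOf y' = 5) (hz' : y' * z = z * y') (hq' : ∃ q ∈ Q, q ≠ 1 ∧ q ≠ z ∧ q * y' = y' * q) :
    ∃ c, c * z = z * c ∧ c * y * c⁻¹ = y' := by
  obtain ⟨ν, a, F⟩ := exF h
  obtain ⟨p5, g, hg⟩ := n5 F hy hz hq
  obtain ⟨p5', g', hg'⟩ := n5 F hy' hz' hq'
  have key : ∀ r : D8.isom, r * Y5 * r⁻¹ = Y5 → Form.dickson nd8 (g'⁻¹ * r * g) = 1 →
      ∃ c, c * z = z * c ∧ c * y * c⁻¹ = y' := fun r h1 h2 => by
    obtain ⟨l, b1, -⟩ := lift F Nat.prime_five (by norm_num) p5 p5' (mem_om.2 h2) (by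
      rw [show A F ⟨y, _⟩ = g⁻¹ * Y5 * g by rw [← hg]; group, show A F ⟨y', _⟩ = g'⁻¹ * (r * Y5 * r⁻¹) * g' by
        rw [h1, ← hg']; group]
      group)
    exact ⟨l, mem_cent_single.1 l.2, mul_inv_eq_iff_eq_mul.2 (congrArg Subtype.val b1)⟩
  rcases Int.units_eq_one_or (Form.dickson nd8 (g'⁻¹ * 1 * g)) with e | e
  · exact key 1 (by simp) e
  refine key (D8.refl (vv 17)) ?_ ?_
  · rw [mul_inv_eq_iff_eq_mul, eq_comm, ← mul_inv_eq_iff_eq_mul, Form.conj_refl, Y5_eq]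
    congr 1; decide +kernel
  · rw [mul_one, map_mul] at e
    rw [map_mul, map_mul, mul_right_comm, e, Form.dickson_refl nd8 (by rw [fPlus_Q]; decide +kernel)]; rfl

end Cfsg.Lib.Small.CoD
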