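import Cfsg.Agent.Lib.Small.CoT4

/-! Centralisers of elements of odd order in groups of Conway type: the general setting. -/

set_option autoImplicit false

namespace Cfsg.Lib.Small.CoD

open Cfsg.Lib.Forms Subgroup Cfsg.Lib.Small.Co1Z Cfsg.Lib.Known2 Cfsg.Agent.S5405 Cfsg.Lib.Small.CoT
  Cfsg.Lib.Leech Cfsg.Lib.Core Cfsg.Lib.Amalg

variable {G : Type*} [Group G]

theorem fp [Finite G] {S : Set G} {y y' : G} {p : ℕ} (hp : p.Prime) (hy : y ^ p = 1) (hy' : y' ^ p = 1)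
    (hS : ∀ x ∈ S, y' * x * y⁻¹ ∈ S) (hn : ¬ p ∣ Nat.card S) : ∃ x ∈ S, x * y = y' * x := by
  classical
  have := Fact.mk hp
  have := Fintype.ofFinite S
  let f : S → S := fun x => ⟨_, hS x x.2⟩
  have hf : Function.Injective f := fun a b e => Subtype.ext (by simpa [f] using e)
  let σ : Equiv.Perm S := Equiv.ofBijective f (Finite.injective_iff_bijective.1 hf)
  have h1 : ∀ (n : ℕ) (x : S), ((σ ^ n) x : G) = y' ^ n * x * (y ^ n)⁻¹ := fun n x => by
    induction n with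
    | zero => simp
    | succ n ih =>
      rw [pow_succ', Equiv.Perm.mul_apply]
      show y' * ((σ ^ n) x : G) * y⁻¹ = _
      rw [ih]; group
  obtain ⟨x, hx⟩ := Equiv.Perm.exists_fixed_point_of_prime (p := p) (n := 1) (σ := σ)
    (by rwa [← Nat.card_eq_fintype_card]) (Equiv.ext fun x => Subtype.ext (by
      rw [pow_one, h1, hy, hy']; simp))
  exact ⟨x, x.2, (mul_inv_eq_iff_eq_mul.1 (congrArg Subtype.val hx)).symm⟩

theorem nd8 : D8.Nondeg := fPlus_nondeg 4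

theorem mem_om {g : D8.isom} : g ∈ commutator D8.isom ↔ Form.dickson nd8 g = 1 := by
  rw [nd8.commutator_eq_ker_of_two_eq_zero good8 rfl]; rfl

abbrev vv (n : ℕ) : V8 := vec (ixP 4) n

theorem trans0 {v w : V8} (hv : v ≠ 0) (hw : w ≠ 0) (h : D8.Q v = D8.Q w) :
    ∃ g ∈ commutator D8.isom, g.1 v = w := by
  obtain ⟨g, hg⟩ := nd8.exists_map_of_Q_eq hv hw h
  rcases Int.units_eq_one_or (Form.dickson nd8 g) with e | e
  · exact ⟨g, mem_om.2 e, hg⟩
  obtain ⟨n, h1, h2⟩ : ∃ n, D8.Q n = 1 ∧ D8.B n w = 0 := by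
    have a : quadFormPlus 4 (ZMod 2) (vv 68) = 1 ∧ quadFormPlus 4 (ZMod 2) (vv 140) = 1 ∧
      quadFormPlus 4 (ZMod 2) (vv 68 + vv 140) = 1 := by decide +kernel
    rcases z2 (D8.B (vv 68) w) with e1 | e1
    · exact ⟨_, a.1, e1⟩
    rcases z2 (D8.B (vv 140) w) with e2 | e2
    · exact ⟨_, a.2.1, e2⟩
    exact ⟨_, a.2.2, by rw [D8.B_add_left, e1, e2]; rfl⟩
  refine ⟨D8.refl n * g, mem_om.2 ?_, by rw [Form.isom_mul_apply, hg, rf h1, h2, zero_smul, add_zero]⟩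
  rw [map_mul, e, Form.dickson_refl nd8 (by rw [h1]; exact one_ne_zero)]; rfl

variable {Q : Subgroup G} {z : G} {ν : G → V8} {a : G → D8.isom}

section
variable (F : FG Q z ν a)
include F

theorem a_ext {g g' : D8.isom} (h : ∀ x ∈ Q, g.1 (ν x) = g'.1 (ν x)) : g = g' :=
  Form.isom_ext fun v => by obtain ⟨x, hx, rfl⟩ := F.surj v; exact h x hx

/-- the action on `Q / ⟨z⟩` -/
def A : centralizer ({z} : Set G) →* D8.isom := MonoidHom.mk' (fun c => a c) fun c d =>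
  a_ext F fun x hx => by
    have hc := mem_cent_single.1 c.2
    have hd := mem_cent_single.1 d.2
    rw [Form.isom_mul_apply, ← F.act _ hd x hx, ← F.act _ hc _ (F.norm _ hd x hx),
      ← F.act _ (mem_cent_single.1 (c * d).2) x hx, coe_mul]
    congr 1; group

theorem act (c : centralizer ({z} : Set G)) {x : G} (hx : x ∈ Q) :
    ν (c * x * (c : G)⁻¹) = (A F c).1 (ν x) := F.act _ (mem_cent_single.1 c.2) x hx

theorem A_mem (c : centralizer ({z} : Set G)) : A F c ∈ commutator D8.isom :=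
  F.mem_rng _ (mem_cent_single.1 c.2)

theorem A_sur {g : D8.isom} (hg : g ∈ commutator D8.isom) : ∃ c, A F c = g :=
  let ⟨c, h1, h2⟩ := F.rng g hg; ⟨⟨c, mem_cent_single.2 h1⟩, h2⟩

theorem nm (c : centralizer ({z} : Set G)) {x : G} (hx : x ∈ Q) : c * x * (c : G)⁻¹ ∈ Q :=
  F.norm _ (mem_cent_single.1 c.2) x hx

theorem A_one [Finite G] {c : centralizer ({z} : Set G)} : A F c = 1 ↔ (c : G) ∈ Q := by
  refine ⟨fun h => F.mem_of_inner (mem_cent_single.1 c.2) fun x hx =>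
    F.nu_eq (nm F c hx) hx (by rw [act F c hx, h]; rfl), fun h => a_ext F fun x hx => ?_⟩
  rw [← act F c hx]
  rcases F.conj_eq h hx with e | e <;> rw [e]
  · rfl
  · exact F.nu_z hx

theorem tw (g : D8.isom) : FG Q z (fun x => g.1 (ν x)) (fun c => g * a c * g⁻¹) where
  toXT := F.toXT
  add x hx y hy := by rw [F.add x hx y hy, map_add]
  zero x hx := by rw [LinearEquiv.map_eq_zero_iff, F.zero x hx]
  surj v := by obtain ⟨x, hx, e⟩ := F.surj ((g⁻¹).1 v); exact ⟨x, hx, by rw [e]; simp⟩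
  sq' x hx := by rw [F.sq' x hx, mem_isom_quad.1 g.2]
  comm' x hx y hy := by rw [F.comm' x hx y hy, g.2.B_map]
  act c hc x hx := by rw [F.act c hc x hx]; simp
  rng k hk := by
    obtain ⟨c, h1, h2⟩ := F.rng _ ((inferInstance : (commutator D8.isom).Normal).conj_mem k hk g⁻¹)
    exact ⟨c, h1, by rw [h2]; group⟩
  mem_rng c hc := (inferInstance : (commutator D8.isom).Normal).conj_mem _ (F.mem_rng c hc) g

theorem A_tw (g : D8.isom) (c : centralizer ({z} : Set G)) : A (tw F g) c = g * A F c * g⁻¹ := rfl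

variable [Finite G] {p : ℕ} (hp : p.Prime) (h2 : ¬ p ∣ 2)
include hp h2

theorem lift {y y' : centralizer ({z} : Set G)} (hy : y ^ p = 1) (hy' : y' ^ p = 1) {g : D8.isom}
    (hg : g ∈ commutator D8.isom) (h : g * A F y = A F y' * g) : ∃ l, l * y = y' * l ∧ A F l = g := by
  obtain ⟨c, rfl⟩ := A_sur F hg
  obtain ⟨l, h1, h3⟩ := fp (S := A F ⁻¹' {A F c}) hp hy hy' (fun x hx => by
    rw [Set.mem_preimage, Set.mem_singleton_iff] at hx ⊢
    rw [map_mul, map_mul, hx, ← h, map_inv, mul_inv_cancel_right]) (by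
    rw [Nat.card_congr ((A F).fiberEquivKer c), show (A F).ker = Q.subgroupOf _ from
      Subgroup.ext fun _ => A_one F, card_subgroupOf_of_le F.le_cent, F.card]
    exact fun e => h2 (hp.dvd_of_dvd_pow e))
  exact ⟨l, h3, h1⟩

theorem fix_iff {y : centralizer ({z} : Set G)} (hy : y ^ p = 1) {x : G} (hx : x ∈ Q) :
    x * y = y * x ↔ (A F y).1 (ν x) = ν x := by
  rw [← act F y hx]
  refine ⟨fun h => by rw [← h, mul_inv_cancel_right], fun h => ?_⟩
  have yz := mem_cent_single.1 y.2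
  have hy2 : (y : G) ^ p = 1 := congrArg Subtype.val hy
  have e := F.nu_eq (nm F y hx) hx h
  obtain ⟨l, h1, h3⟩ := fp (S := {x, x * z}) hp hy2 hy2 (by
    rintro _ (rfl | rfl)
    · exact e
    · rw [show (y : G) * (x * z) * (y : G)⁻¹ = y * x * (y : G)⁻¹ * z by
        rw [mul_assoc _ _ z, (Commute.inv_left yz).eq]; group]
      exact e.symm.imp (fun e => by rw [e, mul_assoc, F.sq, mul_one]) fun e => by rw [e]; rfl) (by
    rwa [Nat.card_coe_set_eq, Set.ncard_pair (by simpa using F.ne)])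
  rcases h1 with rfl | rfl
  · exact h3
  · rwa [mul_assoc, ← yz, ← mul_assoc, ← mul_assoc, mul_left_inj] at h3

omit [Finite G] in
theorem inf_one {y x : G} (hy : y ^ p = 1) (h : x ∈ zpowers y) (hx : x ∈ Q) : x = 1 := by
  obtain ⟨n, rfl⟩ := h
  refine (pow_eq_one_iff_of_coprime (m := p) (n := 2 ^ 2) (((Nat.Prime.coprime_iff_not_dvd hp).2 h2).pow_right 2)).1
    ⟨?_, F.pow_four hx⟩
  show (y ^ n) ^ p = 1
  rw [← zpow_natCast, ← zpow_mul, mul_comm, zpow_mul, zpow_natCast, hy, one_zpow]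

omit hp h2 in
theorem card_nu {N : Subgroup G} (hN : N ≤ Q) (hz : z ∈ N) : Nat.card N = 2 * (ν '' N).ncard := by
  let φ : N →* Multiplicative V8 := MonoidHom.mk' (fun x => Multiplicative.ofAdd (ν x))
    fun x y => congrArg Multiplicative.ofAdd (F.add _ (hN x.2) _ (hN y.2))
  have h1 : (φ.ker : Set N) = {1, ⟨z, hz⟩} := Set.ext fun x =>
    (F.zero x (hN x.2)).trans ⟨fun h => h.imp Subtype.ext Subtype.ext, fun h => h.imp (congrArg Subtype.val) (congrArg Subtype.val)⟩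
  rw [← φ.ker.card_mul_index, index_ker, ← SetLike.coe_sort_coe φ.ker, h1, Nat.card_coe_set_eq,
    Set.ncard_pair fun e => F.ne (congrArg Subtype.val e).symm, ← SetLike.coe_sort_coe, Nat.card_coe_set_eq]
  congr 1
  exact congrArg (Set.ncard (α := V8)) (Set.ext fun v => ⟨fun ⟨x, e⟩ => ⟨x, x.2, e⟩, fun ⟨x, h, e⟩ => ⟨⟨x, h⟩, e⟩⟩)

end

/-- normal form data -/
structure ND (Y : D8.isom) {ι : Type} [Fintype ι] (D : Form (quadKind (ZMod 2)) (ι → ZMod 2))
    (f : (ι → ZMod 2) →ₗ[ZMod 2] V8) (u : V8) : Prop where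
  nd : D.Nondeg
  good : D.Good
  inj : Function.Injective f
  Q : ∀ v, D8.Q (f v) = D.Q v
  fix : ∀ w, Y.1 w = w ↔ ∃ v, f v = w
  perp : ∀ v, D8.B (f v) u = 0
  ne : u ≠ 0
  orb : ∀ w, (∀ v, D8.B (f v) w = 0) → D8.Q w = D8.Q u → w ≠ 0 → ∃ i : ℕ, w = (Y ^ i).1 u
  span : ∀ j, ∃ v, ∃ c : Fin 4 → ZMod 2, Pi.single j 1 = f v + ∑ k, c k • (Y ^ k.1).1 u
  sing : ∃ v ≠ 0, D.Q v = 0

variable {Y : D8.isom} {ι : Type} [Fintype ι] {D : Form (quadKind (ZMod 2)) (ι → ZMod 2)}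
  {f : (ι → ZMod 2) →ₗ[ZMod 2] V8} {u : V8}

namespace ND
variable (N : ND Y D f u)
include N

theorem B (v w : ι → ZMod 2) : D8.B (f v) (f w) = D.B v w := by
  rw [quad_B_eq, quad_B_eq, ← map_add, N.Q, N.Q, N.Q]

theorem fix' (n : ℤ) (v : ι → ZMod 2) : (Y ^ n).1 (f v) = f v :=
  zpow_mem (K := D8.fix (LinearMap.range f)) (fun w hw => (N.fix w).2 hw) n _ ⟨v, rfl⟩

theorem ext {g g' : D8.isom} (h1 : ∀ v, g.1 (f v) = g'.1 (f v))
    (h2 : ∀ k : Fin 4, g.1 ((Y ^ k.1).1 u) = g'.1 ((Y ^ k.1).1 u)) : g = g' := by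
  refine Subtype.ext (LinearEquiv.toLinearMap_injective ((Pi.basisFun _ _).ext fun j => ?_))
  obtain ⟨v, c, e⟩ := N.span j
  show g.1 _ = g'.1 _
  simp only [Pi.basisFun_apply, e, map_add, map_sum, map_smul, h1, h2]

theorem ker {g : D8.isom} (h : g * Y = Y * g) (h1 : ∀ v, g.1 (f v) = f v) : g ∈ zpowers Y := by
  obtain ⟨i, hi⟩ := N.orb (g.1 u) (fun v => by rw [← h1, g.2.B_map, N.perp]) (mem_isom_quad.1 g.2 _)
    (fun e => N.ne (g.1.map_eq_zero_iff.1 e))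
  refine ⟨i, N.ext (fun v => (N.fix' _ v).trans (h1 v).symm) fun k => ?_⟩
  show (Y ^ (i : ℤ) * Y ^ k.1).1 u = (g * Y ^ k.1).1 u
  rw [(Commute.pow_right h k.1).eq, zpow_natCast, pow_mul_comm, Form.isom_mul_apply, Form.isom_mul_apply, hi]

theorem nf {y g : D8.isom} {x : V8} (h1 : ∀ k < 5, g.1 ((y ^ k).1 x) = (Y ^ k).1 u)
    (h2 : ∀ w, (∀ k : Fin 4, D8.B w ((y ^ k.1).1 x) = 0) → y.1 w = w) : g * y * g⁻¹ = Y := by
  refine N.ext (fun v => ?_) fun k => ?_
  · rw [Form.isom_mul_apply, Form.isom_mul_apply, h2 _ fun k => ?_, (N.fix _).2 ⟨v, rfl⟩]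
    · simp
    · rw [← g.2.B_map, h1 k (by omega)]
      have := N.fix' (k.1 : ℕ) v
      rw [zpow_natCast] at this
      simp only [Form.isom_apply_inv]
      rw [← this, (Y ^ k.1).2.B_map, N.perp]
  · have a1 := h1 k (by omega)
    have a2 := h1 (k + 1) (by omega)
    rw [pow_succ', pow_succ'] at a2
    rw [← a1, Form.isom_mul_apply, Form.isom_mul_apply, Form.isom_inv_apply, a1]
    exact a2

theorem ex (k : D.isom) : ∃ g : D8.isom, g * Y = Y * g ∧ (∀ v, f (k.1 v) = g.1 (f v)) ∧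
    Form.dickson N.nd k = Form.dickson nd8 g := by
  let S : Subgroup D.isom :=
    { carrier := {k | ∃ g : D8.isom, g * Y = Y * g ∧ (∀ v, f (k.1 v) = g.1 (f v)) ∧
        Form.dickson N.nd k = Form.dickson nd8 g}
      one_mem' := ⟨1, by simp, fun _ => rfl, by simp⟩
      mul_mem' := fun ⟨g, a1, a2, a3⟩ ⟨g', b1, b2, b3⟩ => ⟨g * g', Commute.mul_left a1 b1, fun v => by
        rw [Form.isom_mul_apply, Form.isom_mul_apply, a2, b2], by rw [map_mul, map_mul, a3, b3]⟩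
      inv_mem' := fun {k} ⟨g, a1, a2, a3⟩ => ⟨g⁻¹, Commute.inv_left a1, fun v => by
        rw [eq_comm, Form.isom_inv_apply_eq, ← a2]; simp, by rw [map_inv, map_inv, a3]⟩ }
  refine (show k ∈ S from N.nd.eq_top_of_refl N.good S (fun v hv => ?_) ▸ mem_top k)
  have h1 : D.Q v = 1 := (z2 _).resolve_left hv
  refine ⟨D8.refl (f v), ?_, fun w => by rw [rf h1, rf ((N.Q v).trans h1), map_add, map_smul, N.B], ?_⟩
  · rw [eq_comm, ← mul_inv_eq_iff_eq_mul, Form.conj_refl, (N.fix _).2 ⟨v, rfl⟩]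
  · rw [Form.dickson_refl _ hv, Form.dickson_refl _ (by rwa [N.Q])]

theorem mem_c {k : D.isom} : k ∈ commutator D.isom ↔ Form.dickson N.nd k = 1 := by
  rw [N.nd.commutator_eq_ker_of_two_eq_zero N.good rfl]; rfl

end ND

theorem mcz {y x : G} : x ∈ centralizer (zpowers y : Set G) ↔ x * y = y * x := mem_cent_zpowers

section
variable [Finite G] (F : FG Q z ν a) {p : ℕ} (hp : p.Prime) (h2 : ¬ p ∣ 2) {y : centralizer ({z} : Set G)}
  (hy : y ^ p = 1)
include F hp h2 hy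

omit [Finite G] in
theorem cz (h : G) (_ : h ∈ centralizer (zpowers (y : G) : Set G)) (e : h * z * h⁻¹ * z⁻¹ ∈ zpowers (y : G)) :
    h * z = z * h := by
  obtain ⟨n, e⟩ := e
  have e : (y : G) ^ n * z = h * z * h⁻¹ := (eq_mul_inv_iff_mul_eq.1 e)
  have c : Commute ((y : G) ^ n) z := Commute.zpow_left (mem_cent_single.1 y.2) n
  have h1 : ((y : G) ^ n) ^ 2 = 1 := by
    have : ((y : G) ^ n * z) ^ 2 = 1 := by rw [e, conj_pow, pow_two, F.sq]; simp
    rwa [c.mul_pow, pow_two z, F.sq, mul_one] at this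
  have h3 : ((y : G) ^ n) ^ p = 1 := by
    rw [← zpow_natCast, ← zpow_mul, mul_comm, zpow_mul, zpow_natCast, show (y : G) ^ p = 1 from
      congrArg Subtype.val hy, one_zpow]
  rw [(pow_eq_one_iff_of_coprime ((Nat.Prime.coprime_iff_not_dvd hp).2 h2)).1 ⟨h3, h1⟩, one_mul] at e
  exact mul_inv_eq_iff_eq_mul.1 e.symm

omit F hp h2 hy [Finite G] in
theorem zH (y : centralizer ({z} : Set G)) : z ∈ centralizer (zpowers (y : G) : Set G) :=
  mcz.2 (mem_cent_single.1 y.2).symm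

omit [Finite G] in
theorem qn [((zpowers (y : G)).subgroupOf (centralizer (zpowers (y : G) : Set G))).Normal] :
    (qQ Q (centralizer (zpowers (y : G) : Set G)) (zpowers (y : G)) (zH y)).Normal :=
  qQ_normal _ (cz F hp h2 hy) fun h hh _ hx => nm F ⟨h, hh⟩ hx

variable (N : ND (A F y) D f u)
include N

theorem mem_R {x : G} (hx : x ∈ Q) : x ∈ centralizer (zpowers (y : G) : Set G) ↔ ∃ v, f v = ν x :=
  mcz.trans ((fix_iff F hp h2 hy hx).trans (N.fix _))

theorem ex_R (v : ι → ZMod 2) : ∃ x ∈ Q ⊓ centralizer (zpowers (y : G) : Set G), ν x = f v :=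
  let ⟨x, hx, e⟩ := F.surj (f v); ⟨x, ⟨hx, (mem_R F hp h2 hy N hx).2 ⟨v, e.symm⟩⟩, e⟩

theorem weak (hw : ∃ g, g * z * g⁻¹ ∈ Q ∧ g * z * g⁻¹ ≠ z) :
    ∃ g ∈ centralizer (zpowers (y : G) : Set G), g * z * g⁻¹ ∈ Q ∧ g * z ≠ z * g := by
  obtain ⟨g, h3, h4⟩ := hw
  obtain ⟨v, hv, hv'⟩ := N.sing
  obtain ⟨k, hk, e⟩ := trans0 (v := ν (g * z * g⁻¹)) (w := f v)
    (fun e => ((F.zero _ h3).1 e).elim (fun e => F.ne (by simpa using e)) h4)
    (fun e => hv (N.inj (e.trans (map_zero f).symm)))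
    (by rw [N.Q, hv', ← F.sq' _ h3, conj_mul, F.sq]; simp)
  obtain ⟨c, rfl⟩ := A_sur F hk
  rw [← act F c h3] at e
  have m := nm F c h3
  rw [show c * (g * z * g⁻¹) * (c : G)⁻¹ = c * g * z * (c * g)⁻¹ by group] at e m
  generalize (c : G) * g = k at e m
  have L := F.toLS.lp m (fun a => hv (N.inj (by rw [← e, a, map_zero]; exact (F.zero z F.mem).2 (.inr rfl))))
    (by rw [F.card]; norm_num)
  have c0 : Nat.card (cj k Q) = 2 ^ 9 := by rw [card_cj, F.card]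
  have sy := mcz.1 ((mem_R F hp h2 hy N m).2 ⟨v, e.symm⟩)
  generalize k * z * k⁻¹ = s at *
  generalize cj k Q = Q1 at *
  obtain ⟨x, hx, -, xz⟩ := L.symm.exists_y
  have c1 := card_two L.r.toES le_rfl L.zQ hx fun e => L.symm.zb_ne_b (xz.symm.trans (conj_eq_of_comm e.symm))
  have yz := mem_cent_single.1 y.2
  have hy2 : (y : G) ^ p = 1 := congrArg Subtype.val hy
  obtain ⟨l, h5, h6⟩ := fp (S := (Q1 : Set G) \ ↑(Q1 ⊓ centralizer {z})) hp hy2 hy2 (fun w hw =>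
    ⟨L.r.norm _ sy.symm w hw.1, fun b => hw.2 ⟨hw.1, by
      have := mul_mem (mul_mem (inv_mem y.2) b.2) y.2
      simpa [mul_assoc] using this⟩⟩) (by
    rw [Nat.card_coe_set_eq, Set.ncard_sdiff (SetLike.coe_subset_coe.2 inf_le_left), ← Nat.card_coe_set_eq,
      ← Nat.card_coe_set_eq, SetLike.coe_sort_coe, SetLike.coe_sort_coe,
      show Nat.card Q1 - Nat.card ↥(Q1 ⊓ centralizer {z}) = 2 ^ 8 by omega]
    exact fun e => h2 (hp.dvd_of_dvd_pow e))
  have n : l * z ≠ z * l := fun e => h5.2 ⟨h5.1, mem_cent_single.2 e⟩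
  exact ⟨l, mcz.2 h6, by rw [L.r.conj_anti h5.1 L.zQ n]; exact mul_mem F.mem L.bQ, n⟩

theorem odd [((zpowers (y : G)).subgroupOf (centralizer (zpowers (y : G) : Set G))).Normal]
    [(qQ Q (centralizer (zpowers (y : G) : Set G)) (zpowers (y : G)) (zH y)).Normal]
    (hw : ∃ g, g * z * g⁻¹ ∈ Q ∧ g * z * g⁻¹ ≠ z) (hO : pCore 2 (commutator D.isom) = ⊥) {w : ℕ}
    (hc : Fintype.card ι = 2 * w) :
    IsExtraspecialCentralizerSetting (qbar _ (zpowers (y : G)) (zH y)) (qQ Q _ (zpowers (y : G)) (zH y)) w ∧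
      Nonempty (_ ⧸ qQ Q _ (zpowers (y : G)) (zH y) ≃* commutator D.isom) := by
  have hy2 : (y : G) ^ p = 1 := congrArg Subtype.val hy
  let j : ↥(centralizer (zpowers (y : G) : Set G) ⊓ centralizer {z}) →* centralizer ({z} : Set G) :=
    inclusion inf_le_right
  have jc : ∀ l, A F (j l) * A F y = A F y * A F (j l) := fun l => by
    rw [← map_mul, ← map_mul]; exact congrArg _ (Subtype.ext (mcz.1 l.2.1))
  obtain ⟨ρ, hρ⟩ := exists_hom_of_embed D (fun l => ((A F (j l)).1 : V8 →ₗ[ZMod 2] V8)) (fun w => by simp)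
    (fun g k w => by simp) f N.inj (fun l x => (N.fix _).1 (by
      show (A F y * A F (j l)).1 _ = _
      rw [← jc, Form.isom_mul_apply, (N.fix _).2 ⟨x, rfl⟩]; rfl))
    (fun l x w e => by rw [← N.Q, ← N.Q, e]; exact mem_isom_quad.1 (A F (j l)).2 _)
  replace hρ : ∀ l x, f ((ρ l).1 x) = (A F (j l)).1 (f x) := hρ
  have hm : ∀ l, ρ l ∈ commutator D.isom := fun l => by
    obtain ⟨g, a1, a2, a3⟩ := N.ex (ρ l)
    have := zpowers_le.2 (A_mem F y) (N.ker (g := (A F (j l))⁻¹ * g)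
      (Commute.mul_left (Commute.inv_left (jc l)) a1) fun v => by
        rw [Form.isom_mul_apply, ← a2, hρ, Form.isom_inv_apply])
    rw [N.mem_c, a3, ← mem_om]
    exact (mul_mem_cancel_left (inv_mem (A_mem F _))).1 this
  have one : ∀ l, ρ.codRestrict _ hm l = 1 ↔ ∀ v, (A F (j l)).1 (f v) = f v := fun l =>
    Subtype.ext_iff.trans ⟨fun e v => by rw [← hρ, show ρ l = 1 from e]; rfl,
      fun e => Form.isom_ext fun v => N.inj ((hρ l v).trans (e v))⟩
  have hcen : ∀ x ∈ Q ⊓ centralizer (zpowers (y : G) : Set G),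
      (∀ r ∈ Q ⊓ centralizer (zpowers (y : G) : Set G), x * r = r * x) → x = 1 ∨ x = z := fun x hx h => by
    obtain ⟨v, e⟩ := (mem_R F hp h2 hy N hx.1).1 hx.2
    rw [← F.zero x hx.1, ← e, N.nd v fun w => ?_, map_zero]
    obtain ⟨r, hr, e'⟩ := ex_R F hp h2 hy N w
    rw [← N.B, e, ← e', ← F.comm' x hx.1 r hr.1, h r hr]
  have hw' := weak F hp h2 hy N hw
  obtain ⟨hS, e, -⟩ := quot_setting (τ := ρ.codRestrict _ hm) (zH y) F.toES
    (fun e => F.ne (inf_one F hp h2 hy2 e F.mem)) (cz F hp h2 hy)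
    (fun x hx h => (hcen x hx h).imp (fun a => by rw [a]; exact one_mem _) fun a => by
      rw [a, F.sq]; exact one_mem _)
    (by
      obtain ⟨h, hh, a1, a2⟩ := hw'
      by_contra hn
      push Not at hn
      have hm : h * z * h⁻¹ ∈ Q ⊓ centralizer (zpowers (y : G) : Set G) :=
        mem_inf.2 ⟨a1, mul_mem (mul_mem hh (zH y)) (inv_mem hh)⟩
      rcases hcen _ hm (hn _ hm) with a | a
      · exact F.ne (by simpa using a)
      · exact a2 (mul_inv_eq_iff_eq_mul.1 a))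
    (fun k => by
      obtain ⟨g, a1, a2, a3⟩ := N.ex k
      obtain ⟨l, b1, b2⟩ := lift F hp h2 hy hy (mem_om.2 (a3.symm.trans (N.mem_c.1 k.2))) a1
      exact ⟨⟨l, mcz.2 (congrArg Subtype.val b1), l.2⟩, Subtype.ext (Form.isom_ext fun v => N.inj
        ((hρ _ v).trans (by rw [a2, ← b2]; rfl)))⟩)
    (fun l => by
      rw [qth_mem_qQ _ F.le_cent, one]
      constructor
      · intro h
        obtain ⟨m, hm⟩ := N.ker (jc l) h
        have : (((y ^ m)⁻¹ * j l : centralizer ({z} : Set G)) : G) ∈ Q := (A_one F).1 (by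
          rw [map_mul, map_inv, map_zpow, inv_mul_eq_one]; exact hm)
        refine ⟨_, mem_inf.2 ⟨this, mul_mem (inv_mem (zpow_mem (mcz.2 rfl) m)) l.2.1⟩, m, ?_⟩
        show (y : G) ^ m = l * (((y : G) ^ m)⁻¹ * l)⁻¹
        group
      · rintro ⟨x, hx, m, hm⟩ v
        rw [show j l = y ^ m * ⟨x, F.le_cent hx.1⟩ from Subtype.ext (eq_mul_inv_iff_mul_eq.1 hm).symm,
          map_mul, (A_one F (c := ⟨x, _⟩)).2 hx.1, mul_one, map_zpow, N.fix'])
    hO
    (fun l hl => (one l).2 fun v => by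
      obtain ⟨x, hx, e⟩ := ex_R F hp h2 hy N v
      have := inf_one F hp h2 hy2 (hl x hx) (mul_mem (nm F (j l) hx.1) (inv_mem hx.1))
      rw [← e, ← act F _ hx.1]
      exact congrArg ν (mul_inv_eq_one.1 this))
    (w := w) (by
      have h0 : zpowers (y : G) ⊓ (Q ⊓ centralizer (zpowers (y : G) : Set G)) = ⊥ :=
        (Subgroup.eq_bot_iff_forall _).2 fun x hx => inf_one F hp h2 hy2 hx.1 hx.2.1
      rw [h0, card_bot, mul_one, card_nu F inf_le_left ⟨F.mem, zH y⟩, show ν '' _ = Set.range f from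
        Set.ext fun v => ⟨fun ⟨x, hx, e⟩ => e ▸ (mem_R F hp h2 hy N hx.1).1 hx.2, fun ⟨w, e⟩ =>
          e ▸ ex_R F hp h2 hy N w⟩, Set.ncard_range_of_injective N.inj, Nat.card_fun, Nat.card_zmod,
        Nat.card_eq_fintype_card, hc, pow_succ'])
    hw'
  exact ⟨hS, ⟨e⟩⟩

end

end Cfsg.Lib.Small.CoD
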