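import Cfsg.Agent.Lib.Small.CoD0

/-! Normal forms of elements of order 3 and 5 in the orthogonal group of plus type in dimension 8. -/

set_option autoImplicit false

namespace Cfsg.Lib.Small.CoD

open Cfsg.Lib.Forms Subgroup Cfsg.Lib.Small.Co1Z Cfsg.Lib.Known2 Cfsg.Agent.S5405 Cfsg.Lib.Small.CoT
  Cfsg.Lib.Leech Cfsg.Lib.Core

abbrev q8 : V8 → ZMod 2 := quadFormPlus 4 (ZMod 2)
abbrev I6 := (Fin 2 ⊕ Fin 2) ⊕ Fin 2
abbrev I4 := (Fin 1 ⊕ Fin 1) ⊕ Fin 2
abbrev D6 := fMinus 2 (1 : ZMod 2) 1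
abbrev D4 := fMinus 1 (1 : ZMod 2) 1

theorem rq_eq {n : V8} (h : q8 n = 1) (x : V8) : (D8.refl n).1 x = rq n x := by rw [rf h, rq, hB]

theorem pow_eq {Y : D8.isom} {y : V8 → V8} (h : ∀ x, Y.1 x = y x) (k : ℕ) (x : V8) : (Y ^ k).1 x = y^[k] x := by
  induction k with
  | zero => rfl
  | succ k ih => rw [pow_succ', Form.isom_mul_apply, ih, h, Function.iterate_succ_apply']

theorem ND.mk' {Y : D8.isom} {y : V8 → V8} (h : ∀ x, Y.1 x = y x) {ι : Type} [Fintype ι] [DecidableEq ι]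
    {D : Form (quadKind (ZMod 2)) (ι → ZMod 2)} (nd : D.Nondeg) (good : D.Good) (b : ι → V8) (u : V8)
    (h1 : ∀ v : ι → ZMod 2, (∑ j, v j • b j = 0 → v = 0) ∧ q8 (∑ j, v j • b j) = D.Q v ∧
      y (∑ j, v j • b j) = ∑ j, v j • b j)
    (h2 : ∀ w, y w = w → ∃ v : ι → ZMod 2, ∑ j, v j • b j = w) (h3 : ∀ j, Bq q8 (b j) u = 0) (h4 : u ≠ 0)
    (h5 : ∀ w, (∀ j, Bq q8 (b j) w = 0) → q8 w = q8 u → w ≠ 0 → ∃ i : Fin 5, w = y^[i.1] u)
    (h6 : ∀ i, ∃ v : ι → ZMod 2, ∃ c : Fin 4 → ZMod 2, Pi.single i 1 = ∑ j, v j • b j + ∑ k, c k • y^[k.1] u)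
    (h7 : ∃ v ≠ 0, D.Q v = 0) : ND Y D (Fintype.linearCombination (ZMod 2) b) u where
  nd := nd
  good := good
  inj := (injective_iff_map_eq_zero _).2 fun v e => (h1 v).1 e
  Q v := (h1 v).2.1
  fix w := ⟨fun e => h2 w ((h w).symm.trans e), fun ⟨v, e⟩ => e ▸ (h _).trans (h1 v).2.2⟩
  perp v := by
    rw [Fintype.linearCombination_apply, map_sum, LinearMap.sum_apply]
    exact Finset.sum_eq_zero fun j _ => by rw [D8.B_smul_left, ← hB, h3, mul_zero]
  ne := h4
  orb w a1 a2 a3 := by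
    obtain ⟨i, e⟩ := h5 w (fun j => by
      have := a1 (Pi.single j 1)
      rwa [Fintype.linearCombination_apply_single, one_smul, ← hB] at this) a2 a3
    exact ⟨i, by rw [pow_eq h, ← e]⟩
  span i := by simpa only [pow_eq h, Fintype.linearCombination_apply] using h6 i
  sing := h7

noncomputable def Y3 : D8.isom := D8.refl (vv 68) * D8.refl (vv 140)
noncomputable def Z3 : D8.isom := D8.refl (vv 136) * D8.refl (vv 76)
noncomputable def Y5 : D8.isom := D8.refl (vv 34) * D8.refl (vv 70) * (D8.refl (vv 200) * D8.refl (vv 68))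
def y3 (x : V8) : V8 := rq (vv 68) (rq (vv 140) x)
def z3 (x : V8) : V8 := rq (vv 136) (rq (vv 76) x)
def y5 (x : V8) : V8 := rq (vv 34) (rq (vv 70) (rq (vv 200) (rq (vv 68) x)))
noncomputable def b6 (j : I6) : V8 := vv (Golay.getL [1, 2, 16, 32, 136, 76] 0 (ixM 2 j))
noncomputable def b4 (j : I4) : V8 := vv (Golay.getL [1, 16, 136, 76] 0 (ixM 1 j))

theorem qs : ∀ n ∈ [68, 140, 136, 76, 34, 70, 200, 17], q8 (vv n) = 1 := by decide +kernel

theorem Y3_eq (x : V8) : Y3.1 x = y3 x := by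
  rw [Y3, Form.isom_mul_apply, rq_eq (qs _ (by simp)), rq_eq (qs _ (by simp)), y3]
theorem Z3_eq (x : V8) : Z3.1 x = z3 x := by
  rw [Z3, Form.isom_mul_apply, rq_eq (qs _ (by simp)), rq_eq (qs _ (by simp)), z3]
theorem Y5_eq (x : V8) : Y5.1 x = y5 x := by
  rw [Y5, Form.isom_mul_apply, Form.isom_mul_apply, Form.isom_mul_apply, rq_eq (qs _ (by simp)),
    rq_eq (qs _ (by simp)), rq_eq (qs _ (by simp)), rq_eq (qs _ (by simp)), y5]

theorem N3 : ND Y3 D6 (Fintype.linearCombination (ZMod 2) b6) (vv 68) :=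
  ND.mk' Y3_eq (fMinus_nondeg 2 an2) (Form.good_of_finrank (by rw [finrank_minus]; norm_num)) _ _
    (by simp only [fMinus_Q]; decide +kernel) (by decide +kernel) (by decide +kernel) (by decide +kernel)
    (by decide +kernel) (by decide +kernel) (by simp only [fMinus_Q]; decide +kernel)

theorem N5 : ND Y5 D4 (Fintype.linearCombination (ZMod 2) b4) (vv 2) :=
  ND.mk' Y5_eq (fMinus_nondeg 1 an2) (Or.inr (Or.inr (fMinus_not_hasTS 1 an2))) _ _
    (by simp only [fMinus_Q]; decide +kernel) (by decide +kernel) (by decide +kernel) (by decide +kernel)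
    (by decide +kernel) (by decide +kernel) (by simp only [fMinus_Q]; decide +kernel)

theorem perpU {y : D8.isom} {x : V8} (h : ∀ v, D8.B x (y.1 v + v) = 0) : y.1 x = x := by
  have : x + (y⁻¹).1 x = 0 := nd8 _ fun v => by
    have := h v
    rw [D8.B_add_right, ← Form.isom_apply_inv y x, y.2.B_map, Form.isom_apply_inv] at this
    rw [D8.B_add_left, add_comm, this]
  rw [add_eq_zero_iff_eq_neg, neg_eq_of_add_eq_zero_left (aa (D := D8) _), eq_comm,
    Form.isom_inv_apply_eq] at this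
  exact this

theorem li {n : ℕ} {v : Fin n → V8} (h : ∀ c : Fin n → ZMod 2, (∀ i, ∑ j, c j * D8.B (v j) (v i) = 0) → c = 0) :
    LinearIndependent (ZMod 2) v :=
  Fintype.linearIndependent_iff.2 fun c e => congrFun (h c fun i => by
    have := congrArg (fun x => D8.B x (v i)) e
    simpa [D8.B_smul_left] using this)

theorem nf3 {y : D8.isom} {u : V8} (h1 : D8.Q u = 1) (h2 : D8.B u (y.1 u) = 1) (h3 : y.1 (y.1 u) = u + y.1 u)
    (h4 : ∀ v, D8.B v u = 0 → D8.B v (y.1 u) = 0 → y.1 v = v) : ∃ g : D8.isom, g * y * g⁻¹ = Y3 := by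
  have b1 : ∀ i j, D8.B (![u, y.1 u] i) (![u, y.1 u] j) = if i = j then 0 else 1 := by
    intro i j; fin_cases i <;> fin_cases j <;> simp [Cfsg.Agent.S5405.Bs, h2, quad_symm D8 (y.1 u)]
  have b2 : ∀ i j, D8.B (![vv 68, vv 140] i) (![vv 68, vv 140] j) = if i = j then 0 else 1 := by
    simp only [← hB]; decide +kernel
  obtain ⟨g, hg⟩ := nd8.witt_family (v := ![u, y.1 u]) (w := ![vv 68, vv 140])
    (li (by simp only [b1]; decide +kernel)) (li (by simp only [b2]; decide +kernel))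
    (fun i j => by rw [b1, b2]) fun i => by
      fin_cases i
      · exact (qs 68 (by simp)).trans h1.symm
      · exact (qs 140 (by simp)).trans ((mem_isom_quad.1 y.2 u).trans h1).symm
  have g0 : g.1 u = vv 68 := hg 0
  have g1 : g.1 (y.1 u) = vv 140 := hg 1
  have h5 : y.1 (y.1 (y.1 u)) = u := by rw [h3, map_add, h3, add_comm u, ← add_assoc, aa (D := D8), zero_add]
  refine ⟨g, N3.nf (x := u) (fun k hk => ?_) fun w hw => h4 w (hw 0) (by simpa using hw 1)⟩
  rw [pow_eq Y3_eq, pow_eq (Y := y) (fun _ => rfl)]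
  interval_cases k <;> simp only [Function.iterate_succ_apply', Function.iterate_zero_apply, h5] <;>
    simp only [h3, map_add, g0, g1] <;> decide +kernel

def tc (c : Fin 4 → ZMod 2) : Fin 4 → ZMod 2 := ![c 3, c 0 + c 3, c 1 + c 3, c 2 + c 3]

theorem tc_ok : ∀ c : Fin 4 → ZMod 2, (tc c + c = 0 → c = 0) ∧
    (c = 0 ∨ ∃ d : Fin 4 → ZMod 2, ∑ k, d k • tc^[k.1] c = Pi.single 0 1) := by decide +kernel

theorem nf5 {y : D8.isom} (h5 : y ^ 5 = 1) (h1 : y ≠ 1) (hw : ∃ w ≠ 0, y.1 w = w) :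
    ∃ g : D8.isom, g * y * g⁻¹ = Y5 := by
  classical
  let L : V8 →ₗ[ZMod 2] V8 := (y.1 : V8 →ₗ[ZMod 2] V8) + LinearMap.id
  have hL : ∀ v, L v = y.1 v + v := fun _ => rfl
  have hK : ∀ v, v ∈ LinearMap.ker L ↔ y.1 v = v := fun v => by
    rw [LinearMap.mem_ker, hL, add_eq_zero_iff_eq_neg, neg_eq_of_add_eq_zero_left (aa (D := D8) _)]
  have p5 : ∀ v, y.1 (y.1 (y.1 (y.1 (y.1 v)))) = v := fun v => by
    have := congrArg (fun g : D8.isom => g.1 v) h5
    simpa [pow_succ] using this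
  have r1 : Module.finrank (ZMod 2) (LinearMap.range L) + Module.finrank (ZMod 2) (LinearMap.ker L) = 8 :=
    L.finrank_range_add_finrank_ker.trans (by simp)
  have r2 : Module.finrank (ZMod 2) (LinearMap.ker L) = 4 := by
    have := Fact.mk Nat.prime_five
    have a1 := Equiv.Perm.card_fixedPoints_modEq (f := (y.1 : V8 → V8)) (p := 5) (n := 1) (funext p5)
    have a2 : Fintype.card (Function.fixedPoints (y.1 : V8 → V8)) =
        2 ^ Module.finrank (ZMod 2) (LinearMap.ker L) := by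
      rw [← Nat.card_eq_fintype_card]
      refine (Nat.card_congr (β := LinearMap.ker L) (Equiv.subtypeEquivRight fun v => (hK v).symm)).trans ?_
      rw [Module.natCard_eq_pow_finrank (K := ZMod 2), Nat.card_zmod]
    rw [a2, show Fintype.card V8 = 256 by simp] at a1
    have a3 : Module.finrank (ZMod 2) (LinearMap.ker L) ≠ 0 := fun e => by
      obtain ⟨w, b1, b2⟩ := hw
      exact b1 ((Submodule.eq_bot_iff _).1 (Submodule.finrank_eq_zero.1 e) w ((hK w).2 b2))
    have a4 : Module.finrank (ZMod 2) (LinearMap.range L) ≠ 0 := fun e => h1 (Form.isom_ext fun v =>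
      (hK v).1 ((Submodule.eq_bot_iff _).1 (Submodule.finrank_eq_zero.1 e) _ ⟨v, rfl⟩))
    generalize Module.finrank (ZMod 2) (LinearMap.ker L) = k at *
    have : k < 8 := by omega
    interval_cases k <;> simp_all [Nat.ModEq]
  have key : ∀ u ∈ LinearMap.range L, u ≠ 0 → y.1 (y.1 (y.1 (y.1 u))) = u + y.1 u + y.1 (y.1 u) + y.1 (y.1 (y.1 u)) ∧
      y.1 u ≠ u ∧ ∀ w, (∀ k : Fin 4, D8.B w ((y ^ k.1).1 u) = 0) → y.1 w = w := by
    rintro _ ⟨v, rfl⟩ hu
    have s : y.1 (y.1 (y.1 (y.1 (L v)))) = L v + y.1 (L v) + y.1 (y.1 (L v)) + y.1 (y.1 (y.1 (L v))) := by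
      simp only [hL, map_add, p5]
      rw [← add_zero (v + _), ← aa (D := D8) (y.1 v + y.1 (y.1 v) + y.1 (y.1 (y.1 v)))]; abel
    have m : ∀ k : ℕ, (y ^ k).1 (L v) ∈ LinearMap.range L := fun k => ⟨(y ^ k).1 v, by
      rw [hL, hL, map_add, ← Form.isom_mul_apply, ← Form.isom_mul_apply, pow_mul_comm']⟩
    generalize L v = u at hu s m
    let φ := Fintype.linearCombination (ZMod 2) fun k : Fin 4 => (y ^ k.1).1 u
    have e1 : ∀ c, φ (tc c) = y.1 (φ c) := fun c => by
      simp [φ, Fintype.linearCombination_apply, Fin.sum_univ_four, tc, pow_succ, s, add_smul]; abel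
    have e0 : φ (Pi.single 0 1) = u := by simp [φ]
    have inj : ∀ c, φ c = 0 → c = 0 := fun c e => (tc_ok c).2.resolve_right fun ⟨d, hd⟩ => hu (by
      have : ∀ k : ℕ, φ (tc^[k] c) = 0 := fun k => by
        induction k with
        | zero => exact e
        | succ k ih => rw [Function.iterate_succ_apply', e1, ih, map_zero]
      rw [← e0, ← hd, map_sum]
      exact Finset.sum_eq_zero fun k _ => by rw [map_smul, this, smul_zero])
    have r3 : LinearMap.range φ = LinearMap.range L := Submodule.eq_of_le_of_finrank_eq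
      (by rintro _ ⟨c, rfl⟩; rw [Fintype.linearCombination_apply]
          exact Submodule.sum_mem _ fun k _ => Submodule.smul_mem _ _ (m k.1))
      (by
        rw [LinearMap.finrank_range_of_inj ((injective_iff_map_eq_zero _).2 inj), Module.finrank_fin_fun]
        rw [r2] at r1; exact (Nat.add_right_cancel (m := 4) r1).symm)
    refine ⟨s, fun e => ?_, fun w h => perpU fun x => ?_⟩
    · exact absurd ((tc_ok _).1 (inj _ (by rw [map_add, e1, e0, e, aa (D := D8)]))) (by decide)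
    · obtain ⟨c, hc⟩ := r3.ge ⟨x, rfl⟩
      rw [← hL, ← hc, Fintype.linearCombination_apply, map_sum]
      exact Finset.sum_eq_zero fun k _ => by rw [map_smul, h, smul_zero]
  have hU : ∀ u ∈ LinearMap.range L, y.1 u ∈ LinearMap.range L := by
    rintro _ ⟨v, rfl⟩; exact ⟨y.1 v, by rw [hL, hL, map_add]⟩
  have gram : ∀ u, D8.B u (y.1 (y.1 (y.1 u))) = D8.B u (y.1 (y.1 u)) := fun u => by
    rw [← y.2.B_map, ← y.2.B_map, p5, quad_symm]
  obtain ⟨u, hu, b1, b2⟩ : ∃ u ∈ LinearMap.range L, D8.B u (y.1 u) = 1 ∧ D8.B u (y.1 (y.1 u)) = 1 := by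
    obtain ⟨v, hv⟩ : ∃ v, L v ≠ 0 := by
      by_contra hc
      push Not at hc
      exact h1 (Form.isom_ext fun v => (hK v).1 (hc v))
    have m : L v ∈ LinearMap.range L := ⟨v, rfl⟩
    generalize L v = u at hv m
    have g4 : D8.B u (y.1 (y.1 (y.1 (y.1 u)))) = D8.B u (y.1 u) := by rw [← y.2.B_map, p5, quad_symm]
    rcases z2 (D8.B u (y.1 u)) with e1 | e1 <;> rcases z2 (D8.B u (y.1 (y.1 u))) with e2 | e2
    · refine absurd ((key u m hv).2.2 u fun k => ?_) (key u m hv).2.1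
      fin_cases k <;> simp [pow_succ, gram, e1, e2, Cfsg.Agent.S5405.Bs]
    · refine ⟨u + y.1 u, add_mem m (hU _ m), ?_, ?_⟩ <;>
        simp only [map_add, LinearMap.add_apply, y.2.B_map, gram, e1, e2, Cfsg.Agent.S5405.Bs] <;> rfl
    · refine ⟨u + y.1 (y.1 u), add_mem m (hU _ (hU _ m)), ?_, ?_⟩ <;>
        simp only [map_add, LinearMap.add_apply, y.2.B_map, gram, g4, e1, e2, Cfsg.Agent.S5405.Bs,
          quad_symm D8 (y.1 u) u] <;> rfl
    · exact ⟨u, m, e1, e2⟩
  obtain ⟨s, -, hf⟩ := key u hu fun e => by simp [e] at b1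
  have q0 : D8.Q u = 0 := by
    have := congrArg D8.Q s
    simp only [quad_Q_add, mem_isom_quad.1 y.2, map_add, LinearMap.add_apply, y.2.B_map, gram, b1, b2] at this
    revert this; generalize D8.Q u = t; revert t; decide
  have c1 : ∀ i j : Fin 4, D8.B ((y ^ i.1).1 u) ((y ^ j.1).1 u) = if i = j then 0 else 1 := by
    intro i j
    fin_cases i <;> fin_cases j <;> simp [pow_succ, y.2.B_map, gram, b1, b2, Cfsg.Agent.S5405.Bs,
      quad_symm D8 (y.1 _) u]
  have c2 : ∀ i j : Fin 4, D8.B (y5^[i.1] (vv 2)) (y5^[j.1] (vv 2)) = if i = j then 0 else 1 := by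
    simp only [← hB]; decide +kernel
  obtain ⟨g, hg⟩ := nd8.witt_family (v := fun i : Fin 4 => (y ^ i.1).1 u) (w := fun i => y5^[i.1] (vv 2))
    (li (by simp only [c1]; decide +kernel)) (li (by simp only [c2]; decide +kernel))
    (fun i j => by rw [c1, c2]) fun i => by
      rw [mem_isom_quad.1 (y ^ i.1).2, q0, fPlus_Q]; revert i; decide +kernel
  refine ⟨g, N5.nf (x := u) (fun k hk => ?_) hf⟩
  rw [pow_eq Y5_eq]
  by_cases h4 : k < 4
  · exact hg ⟨k, h4⟩
  obtain rfl : k = 4 := by omega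
  have g0 : g.1 u = _ := hg 0
  have g1 : g.1 (y.1 u) = _ := hg 1
  have g2 : g.1 (y.1 (y.1 u)) = _ := hg 2
  have g3 : g.1 (y.1 (y.1 (y.1 u))) = _ := hg 3
  rw [show (y ^ 4).1 u = y.1 (y.1 (y.1 (y.1 u))) from rfl, s, map_add, map_add, map_add, g0, g1, g2, g3]
  decide +kernel

end Cfsg.Lib.Small.CoD
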