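import Cfsg.Agent.Lib.Small.CoD

/-! Elements of order 3 centralising the involution in a group of Conway type. -/

set_option autoImplicit false

namespace Cfsg.Lib.Small.CoD

open Cfsg.Lib.Forms Subgroup Cfsg.Lib.Small.Co1Z Cfsg.Lib.Known2 Cfsg.Agent.S5405 Cfsg.Lib.Small.CoT
  Cfsg.Lib.Leech Cfsg.Lib.Core
open scoped commutatorElement

variable {G : Type*} [Group G]

theorem perf {x x' : G} (hx : x ∈ centralizer (zpowers x' : Set G))
    [((zpowers x').subgroupOf (centralizer (zpowers x' : Set G))).Normal]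
    (hp : Group.IsPerfect (centralizer (zpowers (qbar _ (zpowers x') hx) :
      Set (_ ⧸ (zpowers x').subgroupOf (centralizer (zpowers x' : Set G))))))
    (h : x' ∈ ⁅centralizer (zpowers x : Set G), centralizer (zpowers x : Set G)⁆) :
    x ∈ ⁅centralizer (zpowers x : Set G), centralizer (zpowers x : Set G)⁆ := by
  let π := QuotientGroup.mk' ((zpowers x').subgroupOf (centralizer (zpowers x' : Set G)))
  let E := (centralizer (zpowers (qbar _ (zpowers x') hx) : Set _)).comap π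
  have h1 : ∀ e ∈ E, ∃ d ∈ ⁅E, E⁆, ∃ s ∈ zpowers x', (e : G) = d * s := fun e he => by
    have : π e ∈ ⁅E, E⁆.map π := by
      rw [map_commutator, map_comap_eq_self_of_surjective (QuotientGroup.mk'_surjective _), isPerfect_iff.1 hp]
      exact he
    obtain ⟨d, hd, k⟩ := this
    exact ⟨d, hd, _, (QuotientGroup.eq (a := d) (b := e)).1 k, by simp⟩
  have h2 : ∀ a ∈ E, ∃ s ∈ zpowers x', (a : G)⁻¹ * x * a = x * s := fun a ha => by
    have k : π (a * ⟨x, hx⟩) = π (⟨x, hx⟩ * a) := mcz.1 ha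
    exact ⟨_, (QuotientGroup.eq (s := (zpowers x').subgroupOf _)).1 k, by simp [mul_assoc]⟩
  have cs : ∀ a : centralizer (zpowers x' : Set G), ∀ s ∈ zpowers x', s * a = a * s := fun a => a.2
  have h3 : ⁅E, E⁆ ≤ (centralizer (zpowers x : Set G)).comap (Subgroup.subtype _) := commutator_le.2 fun a ha b hb => by
    obtain ⟨s, hs, e⟩ := h2 a ha
    obtain ⟨t, ht, e'⟩ := h2 b hb
    have k : ∀ a b : centralizer (zpowers x' : Set G), ∀ s ∈ zpowers x', ∀ t, (a : G)⁻¹ * x * a = x * s →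
        (b : G)⁻¹ * x * b = x * t → (b : G)⁻¹ * (a : G)⁻¹ * x * a * b = x * t * s := fun a b s hs t e e' => by
      rw [← e', mul_assoc _ _ s, ← cs b s hs, mul_assoc _ _ x, mul_assoc _ _ (a : G), e]; group
    have k1 := k a b s hs t e e'
    rw [mul_assoc x, ← cs ⟨t, zpowers_le.2 (mcz.2 rfl) ht⟩ s hs, ← mul_assoc, ← k b a t ht s e' e] at k1
    refine mcz.2 ?_
    show (a : G) * b * (a : G)⁻¹ * (b : G)⁻¹ * x = x * ((a : G) * b * (a : G)⁻¹ * (b : G)⁻¹)
    rw [show (a : G) * b * (a : G)⁻¹ * (b : G)⁻¹ * x = a * b * ((a : G)⁻¹ * (b : G)⁻¹ * x * b * a) * (a : G)⁻¹ * (b : G)⁻¹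
      by group, ← k1]; group
  have h4 : E.map (Subgroup.subtype _) ≤ centralizer (zpowers x : Set G) := by
    rintro _ ⟨a, ha, rfl⟩
    obtain ⟨d, hd, s, hs, e⟩ := h1 a ha
    exact Set.mem_of_eq_of_mem e (mul_mem (h3 hd) (mcz.2 (cs ⟨x, hx⟩ s hs)))
  obtain ⟨d, hd, s, hs, e⟩ := h1 ⟨x, hx⟩ (mcz.2 rfl)
  exact Set.mem_of_eq_of_mem e (mul_mem (commutator_mono h4 h4 ((map_commutator E E (Subgroup.subtype _)).le (mem_map_of_mem _ hd)))
    (zpowers_le.2 h hs))

theorem pc6 : pCore 2 (commutator D6.isom) = ⊥ := by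
  classical
  have := Module.finite_of_finite (ZMod 2) (M := I6 → ZMod 2)
  have := Form.finite_isom (D := D6)
  have hn := finrank_minus (F := ZMod 2) 2
  have h := (fMinus_nondeg 2 an2).card_center_omega N3.good (by omega)
  rw [if_neg fun a => a.1 rfl] at h
  refine pc_bot (fun N hN => ?_) ?_
  · have := ((fMinus_nondeg 2 an2).omega_normal_and_simple (by omega)).1 N hN
    rwa [eq_bot_of_card_eq _ h, le_bot_iff] at this
  · have h1 := Quad.card_isom_minus (fMinus_nondeg 2 an2) (m := 2) hn (fMinus_not_hasTS 2 an2)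
    have h3 := (commutator D6.isom).card_mul_index
    rw [(fMinus_nondeg 2 an2).index_commutator_even N3.good rfl (by omega), h1, Nat.card_zmod] at h3
    norm_num [Finset.prod_range_succ] at h3
    omega

variable [Finite G] {Q : Subgroup G} {z : G} {ν : G → V8} {a : G → D8.isom} (F : FG Q z ν a)
include F

theorem n3 {x : centralizer ({z} : Set G)} (h3 : orderOf x = 3) {B : Subgroup G} (hB : B ≤ Q) (c : Nat.card B = 8)
    (na : ∃ s ∈ B, ∃ t ∈ B, s * t ≠ t * s) (hc : ∀ q ∈ Q, q * x * q⁻¹ * (x : G)⁻¹ ∈ B) :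
    (∃ g, g * A F x * g⁻¹ = Y3) ∧ ∀ b ∈ B, ∃ w, ν b = (A F x).1 w + w := by
  have p3 : x ^ 3 = 1 := h3 ▸ pow_orderOf_eq_one x
  have y1 : A F x ≠ 1 := fun e => by
    rw [show x = 1 from Subtype.ext (inf_one F Nat.prime_three (by norm_num) (congrArg Subtype.val p3) (mem_zpowers _)
      ((A_one F).1 e)), orderOf_one] at h3
    omega
  have hS : ∀ w, (A F x).1 w + w ∈ ν '' B := fun w => by
    obtain ⟨q, hq, rfl⟩ := F.surj w
    refine ⟨_, hc q⁻¹ (inv_mem hq), ?_⟩
    have := F.add _ hq _ (inv_mem hq)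
    rw [mul_inv_cancel, (F.zero 1 (one_mem _)).2 (.inl rfl), eq_comm, add_eq_zero_iff_eq_neg,
      neg_eq_of_add_eq_zero_left (aa (D := D8) _)] at this
    rw [inv_inv, mul_assoc, mul_assoc, ← mul_assoc (x : G), F.add _ (inv_mem hq) _ (nm F x hq), act F x hq, ← this, add_comm]
  obtain ⟨s, hs, t, ht, n⟩ := na
  have c4 := card_nu F hB (by
    have := mul_mem (inv_mem (mul_mem ht hs)) (mul_mem hs ht)
    rwa [F.anti (hB hs) (hB ht) n, inv_mul_cancel_left] at this)
  have y3 : ∀ v, (A F x).1 ((A F x).1 ((A F x).1 v)) = v := fun v => by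
    have := congrArg (fun g : D8.isom => g.1 v) ((map_pow _ _ _).symm.trans (congrArg (A F) p3))
    simpa [pow_succ] using this
  generalize A F x = y at *
  obtain ⟨v, hv⟩ : ∃ v, y.1 v + v ≠ 0 := by
    by_contra hn
    push Not at hn
    exact y1 (Form.isom_ext fun v => by
      have := hn v
      rwa [add_eq_zero_iff_eq_neg, neg_eq_of_add_eq_zero_left (aa (D := D8) _)] at this)
  have e1 : y.1 (y.1 (y.1 v + v)) = y.1 v + v + y.1 (y.1 v + v) := by
    simp only [map_add, y3]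
    rw [← add_zero (v + _), ← aa (D := D8) (y.1 v)]; abel
  have r : ∀ w ∈ ({0, y.1 v + v, y.1 (y.1 v + v), y.1 v + v + y.1 (y.1 v + v)} : Set V8), ∃ w', w = y.1 w' + w' := by
    rintro _ (rfl | rfl | rfl | rfl)
    exacts [⟨0, by simp⟩, ⟨v, rfl⟩, ⟨y.1 v, map_add _ _ _⟩, ⟨v + y.1 v, by simp only [map_add]; abel⟩]
  generalize y.1 v + v = u at *
  have n1 : y.1 u ≠ 0 := fun e => hv (y.1.map_eq_zero_iff.1 e)
  have n2 : u + y.1 u ≠ 0 := fun e => n1 (y.1.map_eq_zero_iff.1 (e1.trans e))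
  have eS : ({0, u, y.1 u, u + y.1 u} : Set V8) = ν '' B := Set.eq_of_subset_of_ncard_le
    (fun w hw => let ⟨w', e⟩ := r w hw; e ▸ hS w') (by
      rw [Set.ncard_insert_of_notMem (by simp [hv.symm, n1.symm, n2.symm]), Set.ncard_insert_of_notMem (by
        simp only [Set.mem_insert_iff, Set.mem_singleton_iff, left_eq_add, n1, or_false]
        exact fun e => n2 (by rw [← e, aa (D := D8)])), Set.ncard_pair (by simpa using hv)]
      omega)
  have mS : ∀ w ∈ ν '' B, w = 0 ∨ w = u ∨ w = y.1 u ∨ w = u + y.1 u := fun w hw => eS.ge hw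
  have b1 : D8.B u (y.1 u) = 1 := (z2 _).resolve_left fun e => n ((F.comm' s (hB hs) t (hB ht)).2 (by
    rcases mS _ ⟨s, hs, rfl⟩ with a | a | a | a <;> rcases mS _ ⟨t, ht, rfl⟩ with b | b | b | b <;> rw [a, b] <;>
      simp [e, Cfsg.Agent.S5405.Bs, quad_symm D8 (y.1 u) u]))
  refine ⟨nf3 ?_ b1 e1 (fun w a1 a2 => perpU fun w' => ?_), fun b hb => r _ (eS.ge ⟨b, hb, rfl⟩)⟩
  · have := congrArg D8.Q e1
    simp only [quad_Q_add, mem_isom_quad.1 y.2, b1] at this
    revert this; generalize D8.Q u = t; revert t; decide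
  · rcases mS _ (hS w') with a | a | a | a <;> rw [a] <;> simp [a1, a2]

omit F in
theorem dr {m n : ℕ} (hm : q8 (vv m) = 1) (hn : q8 (vv n) = 1) :
    D8.refl (vv m) * D8.refl (vv n) ∈ commutator D8.isom := mem_om.2 (by
  rw [map_mul, Form.dickson_refl nd8 (hm.trans_ne one_ne_zero), Form.dickson_refl nd8 (hn.trans_ne one_ne_zero)]; rfl)

omit F in
theorem Z3_conj : ∃ g, g * Z3 * g⁻¹ = Y3 :=
  nf3 (u := vv 136) (qs _ (by simp)) (by rw [Z3_eq, ← hB]; decide +kernel) (by simp only [Z3_eq]; decide +kernel)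
    (by simp only [Z3_eq, ← hB]; decide +kernel)

omit F in
theorem zfacts : Z3 * Y3 = Y3 * Z3 ∧ Z3 ^ 3 = 1 ∧ ∃ r ∈ commutator D8.isom, r * Y3 = Y3 * r ∧ Z3 * r * Z3 = r := by
  have a1 := qs 136 (by simp)
  have a2 := qs 17 (by simp)
  refine ⟨Form.isom_ext ?_, Form.isom_ext fun v => (pow_eq Z3_eq 3 v).trans (by
    show _ = v; revert v; decide +kernel), _, dr a1 a2, Form.isom_ext ?_, Form.isom_ext ?_⟩ <;>
  simp only [Form.isom_mul_apply, Y3_eq, Z3_eq, rq_eq a1, rq_eq a2] <;> decide +kernel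

theorem exZ {x : centralizer ({z} : Set G)} (p3 : x ^ 3 = 1) (hY : A F x = Y3) :
    ∃ x' : centralizer ({z} : Set G), x' ^ 3 = 1 ∧ A F x' = Z3 ∧ (x : G) * x' = x' * x ∧
      (x' : G) ∈ ⁅centralizer (zpowers (x : G) : Set G), centralizer (zpowers (x : G) : Set G)⁆ := by
  obtain ⟨a1, z3, r, a2, a3, a4⟩ := zfacts
  obtain ⟨l, b1, b2⟩ := lift F Nat.prime_three (by norm_num) p3 p3 (g := Z3)
    (dr (qs 136 (by simp)) (qs 76 (by simp))) (by rw [hY, a1])
  obtain ⟨t, c1, c2⟩ := lift F Nat.prime_three (by norm_num) p3 p3 a2 (by rw [hY, a3])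
  have d1 : (l ^ 4) ^ 3 = 1 := Subtype.ext (by
    rw [← pow_mul, mul_comm, pow_mul]; exact F.pow_four ((A_one F).1 (by rw [map_pow, b2, z3])))
  have d2 : A F (l ^ 4) = Z3 := by rw [map_pow, b2, pow_succ, z3, one_mul]
  have d3 : ((l ^ 4 : centralizer ({z} : Set G)) : G) ∈ centralizer (zpowers (x : G) : Set G) :=
    pow_mem (mcz.2 (congrArg Subtype.val b1)) 4
  generalize l ^ 4 = x' at d1 d2 d3
  refine ⟨x', d1, d2, (mcz.1 d3).symm, ?_⟩
  have d4 := F.pow_four ((A_one F (c := x' * t * x' * t⁻¹)).1 (by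
    rw [map_mul, map_inv, mul_inv_eq_one, map_mul, map_mul, d2, c2, a4]))
  let t' : centralizer (zpowers (x : G) : Set G) := ⟨t, mcz.2 (congrArg Subtype.val c1)⟩
  have d5 := congrArg Abelianization.of (show (⟨x', d3⟩ * t' * ⟨x', d3⟩ * t'⁻¹) ^ 2 ^ 2 = 1 from Subtype.ext d4)
  have d6 := congrArg Abelianization.of (show (⟨x', d3⟩ : centralizer (zpowers (x : G) : Set G)) ^ 3 = 1 from
    Subtype.ext (congrArg Subtype.val d1 :))
  rw [map_pow, map_mul, map_mul, map_mul, map_inv, mul_right_comm _ _ (_⁻¹), mul_inv_cancel_right, ← pow_two, ← pow_mul,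
    map_one] at d5
  rw [map_pow, map_one] at d6
  rw [← map_subtype_commutator, ← Abelianization.ker_of]
  exact ⟨_, (pow_eq_one_iff_of_coprime (by norm_num)).1 ⟨d5, d6⟩, rfl⟩

end Cfsg.Lib.Small.CoD
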