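import Cfsg.Agent.Lib.Small.CoU1
import Cfsg.Agent.Lib.Leech.Simple

/-! Identification of a group of Conway type with `Co1`, given a homomorphism from `Co1` extending the
embedding of the involution centraliser, the involution classes of `Co1` and a generation criterion. -/

set_option autoImplicit false

namespace Cfsg.Lib.Small.CoU

open Cfsg.Lib.Leech Cfsg.Lib.Golay Cfsg.Spor Cfsg.Lib.Forms Subgroup Cfsg.Lib.Small.Co1Z Cfsg.Lib.Known2
  Cfsg.Lib.Core Cfsg.Agent.S5388 Function Cfsg.Lib.Small.CoT Cfsg.Agent.S5397 Cfsg.Lib.Amalg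
open scoped Pointwise symmDiff

/-- the three involution classes of `Co1` -/
def Inv3 : Prop := ∃ t u : Co1, orderOf t = 2 ∧ orderOf u = 13 ∧ Commute u t ∧
    ∀ x : Co1, orderOf x = 2 → IsConj (mk1 ep) x ∨ IsConj (mk1 w0) x ∨ IsConj t x

/-- products of commuting central involutions of `Co1` -/
def Prod2 : Prop := ∀ {x y : Co1}, IsConj (mk1 ep) x → IsConj (mk1 ep) y → Commute x y →
    x = y ∨ IsConj (mk1 ep) (x * y) ∨ IsConj (mk1 w0) (x * y)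

/-- the centraliser of a dodecad sign change is monomial -/
def CentW : Prop := ∀ {g : Co0}, Commute (mk1 g) (mk1 w0) → g ∈ Mono

/-- `Co1` as a completion of the amalgam of `LL` and `Mono` -/
def Pres (Γ : Type*) [Group Γ] : Prop := ∀ (Φ : LL →* Γ) (Ψ : Mono →* Γ)
    (_ : ∀ x (a : x ∈ LL) (b : x ∈ Mono), Φ ⟨x, a⟩ = Ψ ⟨x, b⟩)
    (_ : ∀ b : negOne ∈ Mono, Ψ ⟨negOne, b⟩ = 1)
    (_ : ∀ (b : sg ∈ Mono) (l m : LL), Odd (orderOf l) → sg * l = m * sg → Ψ ⟨sg, b⟩ * Φ l = Φ m * Ψ ⟨sg, b⟩),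
    ∃ φ : Co1 →* Γ, (∀ l : LL, φ (mk1 l) = Φ l) ∧ ∀ n : Mono, φ (mk1 n) = Ψ n

/-- the generation criterion -/
def Onto (G : Type*) [Group G] : Prop := ∀ [IsSimpleGroup G] (H A W : Subgroup G) (z w : G)
    (_ : orderOf z = 2) (_ : ∃ S : Sylow 2 G, z ∈ S ∧ ∀ s ∈ S, Commute s z)
    (_ : A ≤ H) (_ : z ∈ A) (_ : w ∈ A) (_ : w ≠ 1) (_ : ¬ IsConj z w)
    (_ : ∀ a ∈ A, a * a = 1) (_ : Nat.card A = 2 ^ 11)
    (_ : ∀ g, g * z * g⁻¹ ∈ H → g ∈ H)
    (_ : ∀ g, Commute z (g * z * g⁻¹) → g * z * g⁻¹ ≠ z →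
      ∃ h ∈ H, h * (z * (g * z * g⁻¹)) * h⁻¹ = z ∨ h * (z * (g * z * g⁻¹)) * h⁻¹ = w)
    (_ : ∀ g ∈ H, Commute g w → g ∈ normalizer (A : Set G))
    (_ : Nat.card {a : A // IsConj z (a : G)} = 759)
    (_ : W ≤ A) (_ : Nat.card W = 8) (_ : ∀ a ∈ W, a ≠ 1 → IsConj z a), H = ⊤

variable {G : Type*} [Group G] [Finite G] {Q : Subgroup G} {z g : G} {ρ : LL →* D8.isom} {Φ : LL →* G}

omit [Finite G] in
theorem XT.not13 (h : XT Q z) {c : G} (hc : Commute c z) : orderOf c ≠ 13 := fun e => by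
  obtain ⟨τ, -, h2⟩ := h.quo
  have := Module.finite_of_finite (ZMod 2) (M := V8)
  have := Form.finite_isom (D := D8)
  have e3 := h.pow_four ((h2 (⟨_, mem_cent_single.2 hc⟩ ^ 174182400)).1
    (by rw [map_pow, ← card_om8, pow_card_eq_one']))
  rw [coe_pow, ← pow_mul, coe_mk, ← orderOf_dvd_iff_pow_eq_one, e] at e3
  norm_num at e3

omit [Finite G] in
theorem conj13 {t u x : G} (hu : orderOf u = 13) (h : Commute u t) (hx : IsConj t x) :
    ∃ v, orderOf v = 13 ∧ Commute v x := by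
  obtain ⟨c, rfl⟩ := isConj_iff.1 hx
  exact ⟨c * u * c⁻¹, ((MulAut.conj c).orderOf_eq u).trans hu, h.map (MulAut.conj c)⟩

def wl : List ℕ := [0x82402f, 0xc12017, 0xea0031]

variable (H : PH ρ Φ Q z g) (hρ : ∀ (g : LL) v, Lm v → (ρ g).1 (cl v) = cl ((g : Co0) • v))
include H hρ

theorem oct_conj {c : Finset GolayPt} (hc : c ∈ octads) : IsConj z (Φ (S c)) := by
  obtain ⟨σ, hσ, e⟩ := exists_M24_octad O0_mem hc
  obtain ⟨n, hn⟩ := Ac_sur H hρ ⟨σ, hσ⟩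
  exact isConj_iff.2 ⟨n, by rw [← H.zo, hn _ cw_oo, e]⟩

theorem not_conj {d : Finset GolayPt} (hd : d ∈ dodecads) : ¬ IsConj z (Φ (S d)) := fun h =>
  let ⟨n, e⟩ := isConj_iff.1 h; nofuse H hρ n hd e

theorem c759 : Nat.card {a : AA Φ // IsConj z (a : G)} = 759 := by
  rw [← ncard_octads, ← Nat.card_coe_set_eq]
  symm
  refine Nat.card_congr (Equiv.ofBijective (fun o => ⟨⟨Φ (S o), mem_AA.2 ⟨_, o.2.1, rfl⟩⟩, oct_conj H hρ o.2⟩)
    ⟨fun o o' e => ?_, ?_⟩)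
  · rcases (H.S_eq o.2.1 o'.2.1).1 (congrArg (fun x => x.1.1) e) with e | e
    · exact Subtype.ext e
    · have := congrArg Finset.card e
      rw [Finset.card_compl, Lib.Golay.card_golayPt, o.2.2, o'.2.2] at this
      omega
  · rintro ⟨⟨x, hx⟩, h⟩
    obtain ⟨c, hc, rfl⟩ := mem_AA.1 hx
    have h1 : Φ (S c) ≠ 1 := fun e => H.ne (isConj_one_left.1 (e ▸ h))
    rw [← map_one Φ, ← S_empty, Ne, H.S_eq hc cw_empty] at h1
    rcases card_cw hc with e | e | e | e | e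
    · exact absurd (.inl (Finset.card_eq_zero.1 e)) h1
    · exact ⟨⟨c, hc, e⟩, rfl⟩
    · exact absurd h (not_conj H hρ ⟨hc, e⟩)
    · exact ⟨⟨cᶜ, cw_compl hc, by rw [Finset.card_compl, e, Lib.Golay.card_golayPt]⟩,
        Subtype.ext (Subtype.ext ((H.S_eq (cw_compl hc) hc).2 (.inr rfl)))⟩
    · exact absurd (.inr (by simpa using Finset.eq_univ_of_card c (e.trans Lib.Golay.card_golayPt.symm))) h1

theorem exists_W : ∃ W ≤ AA Φ, Nat.card W = 8 ∧ ∀ a ∈ W, a ≠ 1 → IsConj z a := by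
  have cw : ∀ i : Fin 8, Cw (om (sp wl i)) := fun i => om_mem_cw (by revert i; decide +kernel)
  let f : Fin 8 → G := fun i => Φ (S (om (sp wl i)))
  have f0 : f 0 = 1 := by
    show Φ (S (om 0)) = 1
    rw [show om 0 = ∅ from gc.ofMask_zero, S_empty, map_one]
  let W : Subgroup G :=
    { carrier := Set.range f
      one_mem' := ⟨0, f0⟩
      mul_mem' := by
        rintro _ _ ⟨i, rfl⟩ ⟨j, rfl⟩
        obtain ⟨k, e⟩ : ∃ k : Fin 8, sp wl k = sp wl i ^^^ sp wl j := by revert i j; decide +kernel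
        exact ⟨k, by simp only [f]; rw [e, om_xor, ← S_mul (cw i) (cw j), map_mul]⟩
      inv_mem' := by
        rintro _ ⟨i, rfl⟩
        exact ⟨i, by simp only [f]; rw [← map_inv, S_inv (cw i)]⟩ }
  refine ⟨W, ?_, ?_, ?_⟩
  · rintro _ ⟨i, rfl⟩; exact mem_AA.2 ⟨_, cw i, rfl⟩
  · refine (Nat.card_range_of_injective fun i j e => ?_).trans (by simp)
    by_contra n
    exact om_ne (by clear e; revert i j; decide +kernel) ((H.S_eq (cw i) (cw j)).1 e)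
  · rintro _ ⟨i, rfl⟩ h
    have : i ≠ 0 := fun e => h (e ▸ f0)
    exact oct_conj H hρ (om_mem_octads (by clear h; revert i; decide +kernel))

variable (hQ : Q = pCoreOf 2 (centralizer ({z} : Set G))) (hne : g * z * g⁻¹ ≠ z)
  {φ : Co1 →* G} (hφ : ∀ l : LL, φ (mk1 l) = Φ l)
include hφ

omit [Finite G] H hρ in
theorem φ_S {c : Finset GolayPt} (hc : Cw c) : φ (mk1 (sgn c hc)) = Φ (S c) := by
  rw [S_eq hc]; exact hφ (sL hc)

omit [Finite G] hρ in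
theorem φ_ep : φ (mk1 ep) = z := (φ_S hφ cw_oo).trans H.zo

omit [Finite G] hρ in
theorem φ_inj : Injective φ := by
  have := simple_Co1
  refine φ.ker_eq_bot_iff.1 (φ.normal_ker.eq_bot_or_eq_top.resolve_right fun e => H.ne ?_)
  rw [← φ_ep H hφ]; exact (e ▸ mem_top _ : mk1 ep ∈ φ.ker)

omit [Finite G] hρ in
theorem cent_le {c : G} (hc : c * z = z * c) : c ∈ φ.range :=
  let ⟨l, e⟩ := (H.rng c).1 hc; ⟨_, (hφ l).trans e⟩

include hQ hne in
theorem simpleG : IsSimpleGroup G := by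
  have := simple_Co1
  have hb : g * z * g⁻¹ ∈ Q := (H.memQ _).2 ⟨_, S_ker hρ G1, H.s2⟩
  have h1 := H.toLS.conj g
  have hzQ := H.toLS.sym hb (by rw [H.card]; norm_num)
  refine H.toLS.simple (H.toLS.odd_eq_bot hb h1.ne hne h1.sq fun c hc =>
    ⟨2, h1.toES.pow_four (mul_mem (h1.norm c hc _ hzQ) (inv_mem hzQ))⟩) hQ fun c hc => ?_
  obtain ⟨x, rfl⟩ := cent_le H hφ (mem_cent_single.1 hc)
  rcases (inferInstance : ((normalClosure ({z} : Set G)).comap φ).Normal).eq_bot_or_eq_top with e | e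
  · have : mk1 ep ∈ (normalClosure ({z} : Set G)).comap φ := by
      rw [mem_comap, φ_ep H hφ]; exact subset_normalClosure rfl
    rw [e, mem_bot] at this
    exact absurd (by rw [← φ_ep H hφ, this, map_one]) H.ne
  · exact (e ▸ mem_top _ : x ∈ (normalClosure ({z} : Set G)).comap φ)

theorem fus (i3 : Inv3) (k : G) (hk : k * z * k⁻¹ ∈ φ.range) : k ∈ φ.range := by
  obtain ⟨x, e⟩ := hk
  obtain ⟨t, u, -, hu, ut, h⟩ := i3
  have hz : orderOf z = 2 := orderOf_eq_prime (by rw [pow_two, H.sq]) H.ne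
  have zx : IsConj z (φ x) := isConj_iff.2 ⟨k, e.symm⟩
  rcases h x (by rw [← orderOf_injective φ (φ_inj H hφ), e, ← hz]; exact (MulAut.conj k).orderOf_eq z) with h | h | h
  · obtain ⟨y, rfl⟩ := isConj_iff.1 h
    rw [map_mul, map_mul, map_inv, φ_ep H hφ] at e
    have := cent_le H hφ (c := (φ y)⁻¹ * k) (comm_of_conj_eq (by
      calc _ = (φ y)⁻¹ * (k * z * k⁻¹) * φ y := by group
        _ = z := by rw [← e]; group))
    simpa using mul_mem (⟨y, rfl⟩ : φ y ∈ φ.range) this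
  · exact absurd (zx.trans (φ_S hφ _ ▸ φ.map_isConj h).symm) (not_conj H hρ D0_mem)
  · obtain ⟨v, hv, c⟩ := conj13 ((orderOf_injective φ (φ_inj H hφ) u).trans hu) (ut.map φ)
      ((φ.map_isConj h).trans zx.symm)
    exact absurd hv (XT.not13 H.toXT c)

include hQ hne in
theorem φ_bij (i3 : Inv3) (p2 : Prod2) (cw : CentW) (ot : Onto G) : Bijective φ := by
  have := simpleG H hρ hQ hne hφ
  have inj := φ_inj H hφ
  obtain ⟨W, w1, w2, w3⟩ := exists_W H hρ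
  obtain ⟨T, hT, t1, t2⟩ := H.toLS.exists_syl
  refine ⟨inj, φ.range_eq_top.1 (ot φ.range (AA Φ) W z (Φ (S (om 0x5335f)))
    (orderOf_eq_prime (by rw [pow_two, H.sq]) H.ne) ⟨hT.toSylowTop, t1 H.mem, fun s hs => mem_cent_single.1 (t2 hs)⟩
    ?_ (mem_AA.2 ⟨_, cw_oo, H.zo⟩) (mem_AA.2 ⟨_, D0_mem.1, rfl⟩) (fun e => ?_) (not_conj H hρ D0_mem)
    (fun a => AA_sq) (card_AA H) (fus H hρ hφ i3) (fun k hk n => ?_) ?_ (c759 H hρ) w1 w2 w3)⟩
  · rintro _ ⟨l, -, rfl⟩; exact ⟨_, hφ l⟩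
  · rw [← map_one Φ, ← S_empty, H.S_eq D0_mem.1 cw_empty, ← gc.ofMask_zero] at e
    exact om_ne (by decide +kernel) e
  · obtain ⟨y, rfl⟩ := fus H hρ hφ i3 k (cent_le H hφ hk.symm)
    rw [← φ_S hφ D0_mem.1]
    rw [← φ_ep H hφ, ← map_inv, ← map_mul, ← map_mul] at hk n
    have a : ∀ {w : Co1}, IsConj w (mk1 ep * (y * mk1 ep * y⁻¹)) →
        ∃ h ∈ φ.range, h * (z * (φ y * z * (φ y)⁻¹)) * h⁻¹ = φ w := fun {w} h => by
      obtain ⟨c, e⟩ := isConj_iff.1 h.symm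
      exact ⟨φ c, ⟨c, rfl⟩, by simp only [← e, map_mul, map_inv, φ_ep H hφ]⟩
    rcases p2 (IsConj.refl _) (isConj_iff.2 ⟨y, rfl⟩) (hk.of_map inj) with e | e | e
    · exact absurd (congrArg φ e.symm) n
    · obtain ⟨h, h1, h2⟩ := a e; exact ⟨h, h1, .inl (h2.trans (φ_ep H hφ))⟩
    · obtain ⟨h, h1, h2⟩ := a e; exact ⟨h, h1, .inr h2⟩
  · rintro _ ⟨x, rfl⟩ hc
    obtain ⟨y, rfl⟩ := mk1_surjective x
    rw [← φ_S hφ D0_mem.1] at hc
    have hy : y ∈ Mono := cw (hc.of_map inj)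
    refine mem_normalizer_of_conj_mem fun a ha => ?_
    obtain ⟨c, hc, rfl⟩ := mem_AA.1 ha
    obtain ⟨d, hd, e⟩ := Sgn_conj hy (sgn_mem_Sgn c hc)
    exact mem_AA.2 ⟨d, hd, by simp only [← φ_S hφ hc, ← φ_S hφ hd, ← e, map_mul, map_inv]⟩

theorem three (i3 : Inv3) (cw : CentW) (hs : Surjective φ) : ∃ a b c : G, orderOf a = 2 ∧ orderOf b = 2 ∧
    orderOf c = 2 ∧ ¬ IsConj a b ∧ ¬ IsConj a c ∧ ¬ IsConj b c ∧
    ∀ x : G, orderOf x = 2 → IsConj x a ∨ IsConj x b ∨ IsConj x c := by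
  have inj := φ_inj H hφ
  obtain ⟨t, u, ht, hu, ut, h⟩ := i3
  have hu' := (orderOf_injective φ inj u).trans hu
  refine ⟨z, Φ (S (om 0x5335f)), φ t, orderOf_eq_prime (by rw [pow_two, H.sq]) H.ne,
    orderOf_eq_prime (by rw [pow_two, ← map_mul, S_sq D0_mem.1, map_one]) fun e => ?_,
    (orderOf_injective φ inj t).trans ht, not_conj H hρ D0_mem, fun e => ?_, fun e => ?_, fun x hx => ?_⟩
  · rw [← map_one Φ, ← S_empty, H.S_eq D0_mem.1 cw_empty, ← gc.ofMask_zero] at e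
    exact om_ne (by decide +kernel) e
  · obtain ⟨v, hv, c⟩ := conj13 hu' (ut.map φ) e.symm
    exact XT.not13 H.toXT c hv
  · obtain ⟨v, hv, c⟩ := conj13 hu' (ut.map φ) e.symm
    obtain ⟨y, rfl⟩ := (hs.comp mk1_surjective) v
    rw [← φ_S hφ D0_mem.1] at c
    have := (orderOf_map_dvd (φ.comp mk1) y).trans (Mono.orderOf_dvd_natCard (cw (c.of_map inj)))
    rw [card_Mono, show orderOf (φ.comp mk1 y) = 13 from hv] at this
    norm_num at this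
  · obtain ⟨y, rfl⟩ := hs x
    rw [← φ_S hφ D0_mem.1, ← φ_ep H hφ]
    exact (h y ((orderOf_injective φ inj y).symm.trans hx)).imp (fun e => (φ.map_isConj e).symm)
      (Or.imp (fun e => (φ.map_isConj e).symm) fun e => (φ.map_isConj e).symm)

omit H hρ hφ in
theorem glue (pr : Pres G) (i3 : Inv3) (p2 : Prod2) (cw : CentW) (ot : Onto G) (z : G) (hz : orderOf z = 2)
    (Q : Subgroup (centralizer ({z} : Set G))) [Q.Normal]
    (hF : generalizedFittingSubgroup (centralizer ({z} : Set G)) = Q) (hQ : IsExtraspecial 2 Q)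
    (hcard : Nat.card Q = 2 ^ 9)
    (e : (centralizer ({z} : Set G)) ⧸ Q ≃* Omega (ZMod 2) (quadFormPlus 4 (ZMod 2)))
    (hnwc : ∃ g : G, (∃ hq : g * z * g⁻¹ ∈ centralizer ({z} : Set G),
      (⟨g * z * g⁻¹, hq⟩ : centralizer ({z} : Set G)) ∈ Q) ∧ g * z * g⁻¹ ≠ z) :
    IsoCo1 G ∧ ∃ a b c : G, orderOf a = 2 ∧ orderOf b = 2 ∧ orderOf c = 2 ∧ ¬ IsConj a b ∧ ¬ IsConj a c ∧
      ¬ IsConj b c ∧ ∀ x : G, orderOf x = 2 → IsConj x a ∨ IsConj x b ∨ IsConj x c := by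
  have h := XT.of hz hF hQ hcard (e.trans (omegaIso D8 fPlus_Q))
  have hO := (ls_of_fstar hz (Q := Q.map (centralizer ({z} : Set G)).subtype) (by rw [hF])
    (Cfsg.Agent.S1784.xs_eqv (equivMapOfInjective _ _ (subtype_injective _)) hQ)).2
  obtain ⟨g, ⟨hq, hg⟩, hne⟩ := hnwc
  obtain ⟨ρ, hρ⟩ := exists_rho
  obtain ⟨Φ, H⟩ := exists_PH hρ h ⟨_, hg, rfl⟩ hne
  obtain ⟨Ψ, hΨ⟩ := exists_psi H hρ
  obtain ⟨φ, hφ, -⟩ := pr Φ Ψ hΨ (fun b => by
    have a : negOne ∈ LL := S_univ ▸ (S Finset.univ).2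
    rw [← hΨ _ a b, ← map_one Φ, H.inj, θ_eq]
    exact .inr (mul_one _).symm) (R2 H hρ hΨ)
  have hb := φ_bij H hρ hO hne hφ i3 p2 cw ot
  exact ⟨⟨(MulEquiv.ofBijective φ hb).symm⟩, three H hρ hφ i3 cw hb.2⟩

end Cfsg.Lib.Small.CoU
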