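import Cfsg.Agent.Lib.Small.CoT6

/-! Two elements of `Co0` used in the identification of groups of Conway type. -/

set_option autoImplicit false

namespace Cfsg.Lib.Small.CoU

open Cfsg.Lib.Leech Cfsg.Lib.Golay Cfsg.Spor Subgroup Cfsg.Lib.Small.Co1Z Cfsg.Lib.Small.CoT

/-- involution of M24 fixing the octad `o2` pointwise, swapping `oo` and `o3` -/
noncomputable def sg : Co0 := prm ⟨gc.dec sg1, sg1_M.2⟩
/-- a dodecad sign change -/
noncomputable def w0 : Co0 := sgn (om 0x5335f) (om_mem_cw (by decide +kernel))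

end Cfsg.Lib.Small.CoU
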