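import Cfsg.Agent.Lib.Small.CoJa
import Cfsg.Agent.Lib.Small.CoU0
import Cfsg.Agent.S5388
import Cfsg.Agent.Lib.Comp.J2x.Main
import Cfsg.Agent.Lib.Comp.Subst
import Cfsg.Agent.Lib.Linear.Triangle

/-! The subgroup `A₅ × J₂` of `Co1`. -/

set_option autoImplicit false
set_option maxRecDepth 100000
set_option Elab.async false

namespace Cfsg.Lib.Small.CoU

open Cfsg.Lib.Leech Cfsg.Lib.Golay Cfsg.Spor Subgroup Cfsg.Lib.Small.Co1Z Cfsg.Lib.Small.CoT
open Cfsg.Lib.Comp (ev ev_map ev_congr ev_mem ev_append ev_nil ev_single Rels IvOK mem_cl cl_le)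

namespace J5

/-- the automorphisms. -/
noncomputable def G (x : ℕ) : Co0 := elt (W x)

theorem impl_G (x : ℕ) (h : x < 11) : Impl (G x) (W x) := impl_elt (okW_W x h)

theorem eq_sgn {x m : ℕ} (hx : x < 11) (hm : Cw (om m)) (h : allN 24 (fun j => Nat.beq
    (apW (W x) (e8C j)) (bif' (tb m j) (Nat.sub 0x101010101010101010101010101010101010101010101010
      (e8C j)) (e8C j))) = true) : G x = sgn (om m) hm := co0_ext_e8 fun i => by
  have h1 := beq_iff.1 (allN_iff.1 h _ (gc.idx_lt i))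
  have h2 : i ∈ om m ↔ tb m (gc.idx i) = true := by
    rw [← pt_mem_om (gc.idx_lt i), gc.pt_idx]
  rw [sgn_smul_e8]
  split_ifs with e
  · rw [h2.1 e] at h1
    exact ((impl_G x hx).smul_eq (rep_e8 i) (sqNorm_e8 i).le
      (rep_neg (rep_e8 i) (sqNorm_e8 i).le)).2 h1
  · rw [Bool.eq_false_iff.2 fun a => e (h2.2 a)] at h1
    exact ((impl_G x hx).smul_eq (rep_e8 i) (sqNorm_e8 i).le (rep_e8 i)).2 h1

theorem G1 : G 1 = ep := eq_sgn (by norm_num) _ (by decide +kernel)
theorem G9 : G 9 = sgn o2 Cfsg.Agent.S5388.G1.1 := eq_sgn (by norm_num) _ (by decide +kernel)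
theorem G8 : G 8 = negOne :=
  Impl.ext (impl_G 8 (by norm_num)) (fun n v h hv => by rw [negOne_smul]; exact rep_neg h hv)
    (by decide +kernel)

theorem ev_eq {w w' : List ℕ} (e : eqW W 11 w w' = true) : ev G w = ev G w' := eq_of_eqW impl_G e

theorem comm {x y : ℕ} (e : eqW W 11 [x, y] [y, x] = true) : G x * G y = G y * G x := by
  simpa [ev] using ev_eq e

theorem comm_ok : ∀ x < 6, eqW W 11 [x, 6] [6, x] = true ∧ eqW W 11 [x, 7] [7, x] = true := by
  decide +kernel

/-- the words differ modulo sign. -/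
noncomputable def neB (w w' : List ℕ) : Bool :=
  band (allL (w ++ w') fun x => Nat.ble (Nat.succ x) 11)
    (band (bnot (Nat.beq (evW W w v0) (evW W w' v0))) (bnot (Nat.beq (evW W w v0) (evW W (8 :: w') v0))))

theorem rep_v0 : Rep v0 (vec v0) ∧ sqNorm (vec v0 : GolayPt → ℤ) ≤ 64 :=
  rep_of_shB (by decide +kernel)

theorem mk_ne {w w' : List ℕ} (e : neB w w' = true) : mk1 (ev G w) ≠ mk1 (ev G w') := fun h => by
  simp only [neB, band_eq, Bool.and_eq_true, allL_iff, ble_iff, bnot_iff, beq_iff] at e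
  have h1 : ∀ x ∈ w, x < 11 := fun x hx => e.1 x (by simp [hx])
  have h2 : ∀ x ∈ w', x < 11 := fun x hx => e.1 x (by simp [hx])
  have r1 := rep_evW impl_G h1 _ _ rep_v0.1 rep_v0.2
  rcases mk1_eq_iff.1 h with a | a
  · exact e.2.1 (r1.eq_left ((show ev G w = _ from a) ▸ rep_evW impl_G h2 _ _ rep_v0.1 rep_v0.2 :
      Rep _ (ev G w • vec v0)))
  · have r2 := rep_evW impl_G (w := 8 :: w') (by simpa using h2) _ _ rep_v0.1 rep_v0.2
    rw [List.map_cons, List.prod_cons, G8] at r2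
    exact e.2.2 (r1.eq_left ((show ev G w = _ from a) ▸ r2 : Rep _ (ev G w • vec v0)))

theorem ne_one {x : ℕ} (e : neB [x] [] = true) : mk1 (G x) ≠ 1 := by
  have := mk_ne e
  rwa [ev_single, ev_nil, map_one] at this

theorem rel_ok : allN 19 (fun i => band (allL (getL D [] i) fun x => Nat.beq x 8)
    (band (allL (getL Comp.J2x.R ([], 0) i).1 fun x => band (Nat.ble 1 x) (Nat.ble x 5))
      (eqW W 11 (List.replicate ((getL Comp.J2x.R ([], 0) i).2 + 1)
        (getL Comp.J2x.R ([], 0) i).1).flatten (getL D [] i)))) = true := by decide +kernel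

theorem mem_R : ∀ r ∈ Comp.J2x.R, ∃ i < 19, getL Comp.J2x.R ([], 0) i = r := by decide +kernel

theorem ev_rep {Γ : Type*} [Monoid Γ] (γ : ℕ → Γ) (w : List ℕ) (k : ℕ) :
    ev γ (List.replicate k w).flatten = ev γ w ^ k := by
  induction k with
  | zero => rw [pow_zero]; rfl
  | succ k ih => rw [List.replicate_succ, List.flatten_cons, ev_append, ih, pow_succ']

theorem rel_center : ∀ r ∈ Comp.J2x.R, (∀ x ∈ r.1, 1 ≤ x ∧ x ≤ 5) ∧
    ev G r.1 ^ (r.2 + 1) ∈ center Co0 := fun r hr => by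
  obtain ⟨i, hi, e⟩ := mem_R r hr
  have h := allN_iff.1 rel_ok i hi
  rw [e] at h
  simp only [band_eq, Bool.and_eq_true, allL_iff, ble_iff, beq_iff] at h
  refine ⟨h.2.1, ?_⟩
  rw [← ev_rep, ev_eq h.2.2]
  exact ev_mem fun x hx => by rw [h.1 x hx, G8]; exact negOne_mem_center

/-- the generators in `Co1`. -/
noncomputable def δ (x : ℕ) : Co1 := if 1 ≤ x ∧ x ≤ 5 then mk1 (G x) else 1

theorem δ_eq {x : ℕ} (h : 1 ≤ x ∧ x ≤ 5) : δ x = mk1 (G x) := if_pos h

theorem δ_rel : Rels δ Comp.J2x.R := fun r hr => by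
  rw [ev_congr δ fun x hx => δ_eq ((rel_center r hr).1 x hx), ← ev_map, ← map_pow]
  exact (QuotientGroup.eq_one_iff _).2 (rel_center r hr).2

theorem δ_iv : IvOK δ Comp.J2x.iv := by
  refine ⟨if_neg (by norm_num), fun x hx => ⟨hx, ?_⟩⟩
  show δ x = (δ x)⁻¹
  by_cases h : 1 ≤ x ∧ x ≤ 5
  · have := δ_rel ([x], 1) (by
      obtain ⟨h1, h2⟩ := h
      interval_cases x <;> decide +kernel)
    rw [ev_single, pow_succ, pow_one] at this
    exact eq_inv_of_mul_eq_one_left this
  · rw [δ, if_neg h, inv_one]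

/-- the subgroup `J₂`. -/
noncomputable def K : Subgroup Co1 := Comp.cl δ Comp.J2x.L

theorem mem_L {x : ℕ} (h : x ∈ Comp.J2x.L) : 1 ≤ x ∧ x ≤ 5 := by
  revert x; decide

theorem mem_K {x : ℕ} (h : 1 ≤ x ∧ x ≤ 5) : mk1 (G x) ∈ K := by
  rw [← δ_eq h]
  obtain ⟨h1, h2⟩ := h
  refine mem_cl ?_
  interval_cases x <;> decide

theorem K_iso : Nonempty (Comp.cl (Comp.gp Comp.J2x.nets) Comp.J2x.L ≃* K) :=
  (Comp.embed_of_rels Comp.J2x.simple Comp.J2x.nets_iv Comp.J2x.nets_rel Comp.J2x.ord Comp.J2x.lb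
    δ_iv δ_rel (x := 2) (by decide) (by
      rw [δ_eq (by norm_num)]
      exact ne_one (x := 2) (by decide +kernel))).nonempty

theorem K_le {y : ℕ} (h : ∀ x < 6, eqW W 11 [x, y] [y, x] = true) : K ≤ centralizer {mk1 (G y)} :=
  cl_le.2 fun x hx => by
    rw [δ_eq (mem_L hx), mem_centralizer_singleton_iff, ← map_mul, ← map_mul,
      comm (h x (by have := mem_L hx; omega))]

theorem comm_of {m : Co0} (hm : mk1 m ∈ centralizer (K : Set Co1)) {x : ℕ} (hx : 1 ≤ x ∧ x ≤ 5) :
    G x ∈ centralizer {m} := by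
  let N := (centralizer {mk1 m}).comap mk1
  have hN : ∀ x, 1 ≤ x ∧ x ≤ 5 → G x ∈ N := fun x hx =>
    mem_centralizer_singleton_iff.2 (hm _ (mem_K hx))
  have sq : ∀ u ∈ N, u * u ∈ centralizer {m} := fun u hu => by
    have h := mem_centralizer_singleton_iff.1 hu
    rw [← map_mul, ← map_mul] at h
    rw [mem_centralizer_singleton_iff, mul_assoc]
    rcases mk1_eq_iff.1 h with a | a
    · rw [a, ← mul_assoc, a, mul_assoc]
    · rw [a, ← mul_assoc, negOne_comm, mul_assoc, ← mul_assoc u, a, ← mul_assoc, ← mul_assoc,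
        negOne_mul_self, one_mul, mul_assoc]
  have cu : ∀ w, (w, 2) ∈ Comp.J2x.R → ev G w ∈ centralizer {m} := fun w hw => by
    obtain ⟨h1, h2⟩ := rel_center _ hw
    have h3 := sq _ (ev_mem fun x hx => hN x (h1 x hx))
    have h4 : ev G w ^ (2 + 1) ∈ centralizer {m} := center_le_centralizer _ h2
    rwa [pow_succ, pow_two, mul_mem_cancel_left h3] at h4
  have a12 := cu [1, 2] (by decide +kernel)
  have a13 := cu [1, 3] (by decide +kernel)
  have a24 := cu [2, 4] (by decide +kernel)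
  have a35 := cu [3, 5] (by decide +kernel)
  have a5 := cu [1, 2, 3, 2, 3] (by decide +kernel)
  have a6 := sq _ (mul_mem (hN 2 (by norm_num)) (hN 3 (by norm_num)))
  simp only [ev, List.map_cons, List.map_nil, List.prod_cons, List.prod_nil, mul_one]
    at a12 a13 a24 a35 a5
  have b1 : G 1 ∈ centralizer {m} :=
    (mul_mem_cancel_right a6).1 (by simpa only [mul_assoc] using a5)
  have b2 := (mul_mem_cancel_left b1).1 a12
  have b3 := (mul_mem_cancel_left b1).1 a13
  have b4 := (mul_mem_cancel_left b2).1 a24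
  have b5 := (mul_mem_cancel_left b3).1 a35
  obtain ⟨h1, h2⟩ := hx
  interval_cases x
  exacts [b1, b2, b3, b4, b5]

theorem eq_one_of {m : Co0} (hm : ∀ x, 1 ≤ x ∧ x ≤ 5 → G x ∈ centralizer {m})
    (h : m • vec v0 = vec v0) : m = 1 := by
  have h1 : ∀ j < 24, Rep (U j) (ev G (wd j) • vec v0) := fun j hj => (U_ok j hj).1 ▸
    rep_evW impl_G (fun x hx => by have := (U_ok j hj).2 x hx; omega) _ _ rep_v0.1 rep_v0.2
  have h2 : ∀ j < 24, m • ev G (wd j) • vec v0 = ev G (wd j) • vec v0 := fun j hj => by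
    rw [← mul_smul, ← mem_centralizer_singleton_iff.1 (ev_mem fun x hx => hm x ((U_ok j hj).2 x hx)),
      mul_smul, h]
  refine co0_ext_e8 fun i => ?_
  have h3 : e8 i = ∑ j ∈ Finset.range 24, cf (gc.idx i) j • ev G (wd j) • vec v0 := by
    ext l
    have := cf_ok _ (gc.idx_lt i) _ (gc.idx_lt l)
    rw [e8_apply, AddSubgroup.val_finsetSum, Finset.sum_apply, Finset.sum_congr rfl fun j hj =>
      show ((cf (gc.idx i) j • ev G (wd j) • vec v0 : leechLattice) : GolayPt → ℤ) l =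
        cf (gc.idx i) j * ((app (U j) (gc.idx l) : ℤ) - 8) by
        rw [← (h1 j (Finset.mem_range.1 hj)).apply l]; rfl, this]
    simp only [gc.idx_injective.eq_iff]
  rw [one_smul, h3, co0_smul_sum]
  exact Finset.sum_congr rfl fun j hj => by rw [co0_smul_zsmul, h2 j (Finset.mem_range.1 hj)]

theorem card_le : Nat.card (centralizer (K : Set Co1)) ≤ 60 := by
  have h0 := (ncard_min_two (fun v => G 1 • v = -v ∧ ip v (G 10 • v) = 8) (fun _ => False) pB
    (fun _ => false) (fun y v h hv => by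
      have hv' : sqNorm (v : GolayPt → ℤ) ≤ 64 := by rw [show sqNorm _ = 32 from hv]; norm_num
      rw [pB, band_iff, beq_iff, dotB_iff, (impl_G 1 (by norm_num)).smul_eq h hv' (rep_neg h hv'),
        ip, ← (impl_G 10 (by norm_num) _ _ h hv').2, ← h.2]
      rfl) (fun _ _ _ _ => by simp) (by norm_num) cnt).1
  have h10 : G 10 = ev G [5, 4, 3] := (ev_single G 10).symm.trans (ev_eq (by decide +kernel))
  have hv0 : vec v0 ∈ MinV ∧ G 1 • vec v0 = -vec v0 ∧ ip (vec v0) (G 10 • vec v0) = 8 := by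
    refine ⟨?_, ((impl_G 1 (by norm_num)).smul_eq rep_v0.1 rep_v0.2
      (rep_neg rep_v0.1 rep_v0.2)).2 (by decide +kernel), ?_⟩
    · show sqNorm _ = 32
      rw [← rep_v0.1.2, ← dotInt_self]
      exact dotB_iff.1 (show dotB v0 v0 32 0 = true by decide +kernel)
    · rw [ip, ← (impl_G 10 (by norm_num) _ _ rep_v0.1 rep_v0.2).2, ← rep_v0.1.2]
      exact dotB_iff.1 (show dotB v0 (apW (W 10) v0) 8 0 = true by decide +kernel)
  have h1 := card_comap_mk1 (centralizer (K : Set Co1))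
  have : Finite {v | v ∈ MinV ∧ G 1 • v = -v ∧ ip v (G 10 • v) = 8} :=
    finite_MinV.subset fun _ h => h.1
  have h2 := Nat.card_le_card_of_injective
    (fun m : (centralizer (K : Set Co1)).comap mk1 => (⟨(m : Co0) • vec v0, by
      have c1 := mem_centralizer_singleton_iff.1 (comm_of m.2 (x := 1) (by norm_num))
      have c2 : G 10 * m = m * G 10 := mem_centralizer_singleton_iff.1 (h10 ▸ ev_mem fun x hx =>
        comm_of m.2 (by revert x; decide))
      refine ⟨(smul_mem_MinV _).2 hv0.1, ?_, ?_⟩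
      · rw [← mul_smul, c1, mul_smul, hv0.2.1, co0_smul_neg]
      · rw [← mul_smul, c2, mul_smul, ip_smul_smul, hv0.2.2]⟩ :
      {v | v ∈ MinV ∧ G 1 • v = -v ∧ ip v (G 10 • v) = 8})) fun m n e => by
    have e' : (m : Co0) • vec v0 = (n : Co0) • vec v0 := congrArg Subtype.val e
    refine Subtype.ext (inv_mul_eq_one.1 (eq_one_of (fun x hx =>
      comm_of (mul_mem (inv_mem m.2) n.2 : _ ∈ (centralizer (K : Set Co1)).comap mk1) hx) ?_))
    rw [mul_smul, ← e', inv_smul_smul]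
  rw [Nat.card_coe_set_eq, h0] at h2
  omega

theorem mem_cent {y : ℕ} (h : ∀ x < 6, eqW W 11 [x, y] [y, x] = true) :
    mk1 (G y) ∈ centralizer (K : Set Co1) := fun _ hk => mem_centralizer_singleton_iff.1 (K_le h hk)

theorem mk_eq_one {w : List ℕ} (e : eqW W 11 w [8] = true) : mk1 (ev G w) = 1 := by
  rw [ev_eq e, ev_single, G8, mk1_negOne]

theorem b_pow : G 6 ^ 5 = 1 := by
  simpa [ev, pow_succ'] using ev_eq (w := [6, 6, 6, 6, 6]) (w' := []) (by decide +kernel)

theorem cent_iso : Nonempty (centralizer (K : Set Co1) ≃* alternatingGroup (Fin 5)) := by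
  let a : centralizer (K : Set Co1) := ⟨_, mem_cent fun x hx => (comm_ok x hx).2⟩
  let b : centralizer (K : Set Co1) := ⟨_, mem_cent fun x hx => (comm_ok x hx).1⟩
  have h1 : a * a = 1 := Subtype.ext (by
    have := mk_eq_one (w := [7, 7]) (by decide +kernel)
    simp only [ev, List.map_cons, List.map_nil, List.prod_cons, List.prod_nil, mul_one,
      map_mul] at this
    exact this)
  obtain ⟨φ, e, -⟩ := Linear.exists_hom_A5 (x := a) (y := a * b) h1 (Subtype.ext (by
    have := mk_eq_one (w := [7, 6, 7, 6, 7, 6]) (by decide +kernel)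
    simp only [ev, List.map_cons, List.map_nil, List.prod_cons, List.prod_nil, mul_one,
      map_mul] at this
    show (mk1 (G 7) * mk1 (G 6)) ^ 3 = 1
    rw [pow_succ', pow_two]
    simpa only [mul_assoc] using this))
    (by rw [← mul_assoc, h1, one_mul]; exact Subtype.ext (by
      show mk1 (G 6) ^ 5 = 1
      rw [← map_pow, b_pow, map_one]))
  have h2 := Linear.injective_of_simple φ (v := Linear.a5x) (by
    rw [e]
    exact fun h => ne_one (x := 7) (by decide +kernel) (congrArg Subtype.val h))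
  exact ⟨(MulEquiv.ofBijective φ (h2.bijective_of_nat_card_le (Linear.card_A5 ▸ card_le))).symm⟩

end J5

open J5 in
theorem mod5 : ∃ (b : Co0) (K : Subgroup Co1), orderOf (mk1 b) = 5 ∧ b * ep = ep * b ∧
    b * sgn o2 Cfsg.Agent.S5388.G1.1 = sgn o2 Cfsg.Agent.S5388.G1.1 * b ∧ K ≤ centralizer {mk1 b} ∧ mk1 b ∉ K ∧
    604800 ≤ Nat.card K ∧ Nonempty (centralizer (K : Set Co1) ≃* alternatingGroup (Fin 5)) := by
  have : Fact (Nat.Prime 5) := ⟨by norm_num⟩
  have hb : mk1 (G 6) ≠ 1 := ne_one (by decide +kernel)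
  have hK := K_le fun x hx => (comm_ok x hx).1
  obtain ⟨e⟩ := K_iso
  refine ⟨G 6, K, orderOf_eq_prime (by rw [← map_pow, b_pow, map_one]) hb,
    G1 ▸ comm (by decide +kernel), G9 ▸ comm (by decide +kernel), hK, fun h => ?_,
    ((Nat.card_congr e.toEquiv).symm.trans Comp.J2x.card).ge, cent_iso⟩
  have := Comp.J2x.simple
  have := e.symm.isSimpleGroup
  rcases (inferInstance : (center K).Normal).eq_bot_or_eq_top with a | a
  · exact hb (congrArg Subtype.val ((Subgroup.eq_bot_iff_forall _).1 a ⟨_, h⟩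
      (Subgroup.mem_center_iff.2 fun k => Subtype.ext (mem_centralizer_singleton_iff.1 (hK k.2)))))
  · refine mk_ne (w := [1, 2]) (w' := [2, 1]) (by decide +kernel) ?_
    have h2 : (⟨_, mem_K (x := 2) (by norm_num)⟩ : K) ∈ center K := a ▸ mem_top _
    have h3 : mk1 (G 1) * mk1 (G 2) = mk1 (G 2) * mk1 (G 1) := congrArg Subtype.val
      (Subgroup.mem_center_iff.1 h2 ⟨_, mem_K (x := 1) (by norm_num)⟩)
    simp only [ev, List.map_cons, List.map_nil, List.prod_cons, List.prod_nil, mul_one, map_mul]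
    exact h3

end Cfsg.Lib.Small.CoU
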