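import Cfsg.Agent.Lib.Small.CoMa

/-! The classes of involutions of `Co1`, products of commuting 2-central involutions, and the
centraliser of the sign change on a dodecad. -/

set_option autoImplicit false

namespace Cfsg.Lib.Small.CoM

open Cfsg.Lib.Leech Cfsg.Lib.Golay Cfsg.Spor Subgroup Cfsg.Lib.Small.Co1Z Cfsg.Lib.Small.CoU
  Cfsg.Agent.S5388
open scoped Pointwise symmDiff

theorem bif_case (p q : Bool) (x y : ℕ)
    (h : bif' (Nat.beq p.toNat q.toNat) (Nat.beq x y) (Nat.beq (Nat.add x y) 16) = true) :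
    (if p = true then -((x : ℤ) - 8) else x - 8) = if q = true then -((y : ℤ) - 8) else y - 8 := by
  cases p <;> cases q <;> have := beq_iff.1 h <;> simp at this ⊢ <;> omega

theorem of_chk {W c s d t : ℕ} (hs : gc.InH M24 s) (ht : gc.InH M24 t) (hc : Cw (om c))
    (hd : Cw (om d)) (h : chk W c s d t = true) :
    elt W * (sgn _ hc * prm ⟨_, hs.2⟩) = sgn _ hd * prm ⟨_, ht.2⟩ * elt W := by
  obtain ⟨h1, h2⟩ := band_iff.1 h
  have hW := impl_elt h1
  refine co0_ext_e8 fun i => Subtype.ext (funext fun j => ?_)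
  obtain ⟨j, rfl⟩ := (gc.dec t).surjective j
  have r1 := (hW _ _ (rep_e8 i) (sqNorm_e8 i).le).apply j
  have r2 := (hW _ _ (rep_e8 (gc.dec s i)) (sqNorm_e8 _).le).apply (gc.dec t j)
  have h3 := allN_iff.1 h2 _ (gc.idx_lt i)
  rw [forceN_eq, forceN_eq] at h3
  have h4 := allN_iff.1 h3 _ (gc.idx_lt j)
  rw [← hs.1.idx_dec, ← ht.1.idx_dec, bitN_eq, bitN_eq] at h4
  have e1 : ((prm ⟨_, ht.2⟩ • elt W • e8 i : leechLattice) : GolayPt → ℤ) (gc.dec t j) =
      ((elt W • e8 i : leechLattice) : GolayPt → ℤ) j := prm_smul_apply ⟨_, ht.2⟩ _ j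
  rw [mul_smul, mul_smul _ (elt W), sgn_prm_smul_e8, mul_smul, sgn_smul, e1, r1]
  simp only [Coding.mem_ofMask]
  refine Eq.trans ?_ (bif_case _ _ _ _ h4)
  rw [← r2]
  split_ifs
  · rw [co0_smul_neg]; rfl
  · rfl

theorem cw1 : Cw (om 0x6fdd) := om_mem_cw (by decide +kernel)

/-- an automorphism with square `-1`. -/
noncomputable def tt : Co0 := sgn _ cw1 * prm ⟨_, inH_z2B.2⟩

theorem sq_eq {c : Finset GolayPt} (hc : Cw c) (σ : M24) : sgn c hc * prm σ * (sgn c hc * prm σ) =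
    sgn (c ∆ (σ.1 • c)) (cw_symmDiff hc (cw_smul σ.2 hc)) * prm (σ * σ) := by
  rw [mul_assoc, ← mul_assoc (prm σ), prm_mul_sgn, mul_assoc, ← prm_mul, ← mul_assoc, sgn_mul_sgn]

theorem sgn_congr {c d : Finset GolayPt} {hc : Cw c} {hd : Cw d} (h : c = d) : sgn c hc = sgn d hd := by
  subst h; rfl

theorem tt_sq : tt * tt = negOne := by
  have h : (⟨_, inH_z2B.2⟩ * ⟨_, inH_z2B.2⟩ : M24) = 1 :=
    Subtype.ext ((pow_two _).symm.trans (orderOf_z2B ▸ pow_orderOf_eq_one _))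
  rw [tt, sq_eq, h, prm_one, mul_one]
  refine sgn_congr ?_
  rw [inH_z2B.1.smul_ofMask, ← gc.ofMask_xor, ← om_full]
  exact congrArg om (by decide +kernel)

/-- the identity and the three classes. -/
def R (x : Co1) : Prop := x = 1 ∨ IsConj (mk1 ep) x ∨ IsConj (mk1 w0) x ∨ IsConj (mk1 tt) x

theorem R.conj {x y : Co1} (h : R x) (e : IsConj x y) : R y :=
  h.imp (fun h => by rwa [h, isConj_one_right] at e)
    (Or.imp (·.trans e) (Or.imp (·.trans e) (·.trans e)))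

theorem cj {a b k : Co0} (h : k * a = b * k) : IsConj (mk1 a) (mk1 b) :=
  mk1.map_isConj (isConj_iff.2 ⟨k, mul_inv_eq_iff_eq_mul.2 h⟩)

theorem mk_compl {c : Finset GolayPt} (hc : Cw c) (g : Co0) :
    mk1 (sgn cᶜ (cw_compl hc) * g) = mk1 (sgn c hc * g) := by
  rw [← neg_sgn, mul_assoc, map_mul, mk1_negOne, one_mul]

theorem D_mem : om 0x5335f ∈ dodecads := om_mem_dodecads (by decide +kernel)

theorem R_sgn {c : Finset GolayPt} (hc : Cw c) : R (mk1 (sgn c hc)) := by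
  have k8 : ∀ {c} (hc : Cw c), c.card = 8 → R (mk1 (sgn c hc)) := fun hc e => by
    obtain ⟨σ, hσ, rfl⟩ := exists_M24_octad O0_mem ⟨hc, e⟩
    exact Or.inr (Or.inl (cj (prm_mul_sgn ⟨σ, hσ⟩ cw_oo)))
  rcases cw_card hc with e | e | e | e | e
  · left; rw [sgn_congr (hd := cw_empty) (Finset.card_eq_zero.1 e), sgn_empty, map_one]
  · exact k8 hc e
  · obtain ⟨σ, hσ, rfl⟩ := exists_M24_dodecad D_mem ⟨hc, e⟩
    exact Or.inr (Or.inr (Or.inl (cj (prm_mul_sgn ⟨σ, hσ⟩ D_mem.1))))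
  · have := k8 (cw_compl hc) (by rw [Finset.card_compl, Leech.card_golayPt, e])
    rwa [← mul_one (sgn _ _), mk_compl hc, mul_one] at this
  · left
    rw [sgn_congr (hd := cw_univ) (Finset.eq_univ_of_card c (e.trans Leech.card_golayPt.symm))]
    exact mk1_negOne

theorem inH_id : gc.InH M24 0x17161514131211100f0e0d0c0b0a09080706050403020100 :=
  inH_of_inM24 (by decide +kernel)

theorem R_chk {W c s d : ℕ} (hs : gc.InH M24 s) (hc : Cw (om c)) (hd : isCw d = true)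
    (h : chk W c s d 0x17161514131211100f0e0d0c0b0a09080706050403020100 = true) :
    R (mk1 (sgn _ hc * prm ⟨_, hs.2⟩)) := by
  have e := of_chk hs inH_id hc (om_mem_cw hd) h
  rw [show (⟨_, inH_id.2⟩ : M24) = 1 from Subtype.ext ((congrArg gc.dec (by decide +kernel)).trans
    Coding.dec_one), prm_one, mul_one] at e
  exact (R_sgn _).conj (cj e).symm

theorem R_cov {E : List (ℕ × ℕ)} {cs : List ℕ} {s : ℕ} (hs : gc.InH M24 s) (h : cov E cs s = true)
    (h2 : ∀ c ∈ cs, ∃ hc : Cw (om c), R (mk1 (sgn _ hc * prm ⟨_, hs.2⟩))) {c : Finset GolayPt} (hc : Cw c)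
    (h3 : gc.dec s • c = c ∨ gc.dec s • c = cᶜ) : R (mk1 (sgn c hc * prm ⟨_, hs.2⟩)) := by
  obtain ⟨m, hm, rfl⟩ := exists_isCw hc
  obtain ⟨h4, h5⟩ := band_iff.1 h
  have h6 := allCw h5 hm
  rw [hs.1.smul_ofMask, ← om_compl, om_inj (hs.1.imgN_lt _) (isCw_lt hm), om_inj (b := Nat.xor m 16777215)
    (hs.1.imgN_lt _) (Nat.xor_lt_two_pow (isCw_lt hm) (by norm_num))] at h3
  rw [gc_n] at h3
  rw [forceN_eq, bif'_pos (bor_iff.2 (h3.imp beq_iff.2 beq_iff.2))] at h6
  obtain ⟨c, hc', h7⟩ := anyL_iff.1 h6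
  obtain ⟨p, hp, h8⟩ := anyL_iff.1 h7
  obtain ⟨h9, h10⟩ := band_iff.1 (allL_iff.1 h4 p hp)
  obtain ⟨hc2, r⟩ := h2 c hc'
  have key : ∀ (d : ℕ) (hd : Cw (om d)), d = Nat.xor c p.2 → R (mk1 (sgn _ hd * prm ⟨_, hs.2⟩)) := by
    rintro _ hd rfl
    refine r.conj (cj (k := sgn _ (om_mem_cw h9)) ?_)
    rw [mul_assoc, prm_mul_sgn, ← mul_assoc, ← mul_assoc, sgn_mul_sgn, sgn_mul_sgn]
    congr 1
    refine sgn_congr ?_
    have a1 : ∀ a b, om (Nat.xor a b) = om a ∆ om b := gc.ofMask_xor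
    have a2 : gc.dec s • om p.1 = om (imgN 24 s p.1) := hs.1.smul_ofMask _
    show _ = _ ∆ (gc.dec s • _)
    rw [← beq_iff.1 h10, a1, a1, a2, symmDiff_assoc, symmDiff_symmDiff_cancel_right, symmDiff_comm]
  rcases bor_iff.1 h8 with e | e
  · exact key m hc (beq_iff.1 e)
  · have := key _ (om_compl m ▸ cw_compl hc) (beq_iff.1 e)
    rwa [sgn_congr (hd := cw_compl hc) (om_compl m), mk_compl] at this

theorem R_A {c : Finset GolayPt} (hc : Cw c) (h : gc.dec z2A • c = c ∨ gc.dec z2A • c = cᶜ) :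
    R (mk1 (sgn c hc * prm ⟨_, inH_z2A.2⟩)) := by
  refine R_cov inH_z2A covA (fun c hc => ?_) hc h
  obtain ⟨p, hp, rfl⟩ := List.mem_map.1 (show c ∈ TA.map Prod.fst from hc)
  obtain ⟨h1, h2⟩ := band_iff.1 (allL_iff.1 TA_ok p hp)
  exact ⟨om_mem_cw h1, R_chk inH_z2A _ (band_iff.1 h2).1 (band_iff.1 h2).2⟩

theorem R_B {c : Finset GolayPt} (hc : Cw c) (h : gc.dec z2B • c = c ∨ gc.dec z2B • c = cᶜ) :
    R (mk1 (sgn c hc * prm ⟨_, inH_z2B.2⟩)) := by
  refine R_cov inH_z2B covB (fun c hc => ?_) hc h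
  rcases List.mem_pair.1 hc with rfl | rfl
  · exact ⟨om_mem_cw (by decide +kernel), R_chk inH_z2B _ (by decide +kernel) WB_ok⟩
  · exact ⟨cw1, Or.inr (Or.inr (Or.inr (IsConj.refl _)))⟩

theorem R_all {x : Co1} (h : x * x = 1) : R x := by
  obtain ⟨g, rfl⟩ := mk1_surjective x
  have h4 : g ^ 2 ^ 2 = 1 := by
    rw [show g ^ 2 ^ 2 = g * g * (g * g) by rw [pow_two, pow_mul, pow_two, pow_two]]
    rcases mk1_eq_one.1 ((map_mul mk1 g g).trans h) with e | e <;> rw [e]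
    exacts [one_mul _, negOne_mul_self]
  obtain ⟨k, -, hk⟩ := exists_conj_mem (H := ⊤) Nat.prime_two (S := Mono) le_top (n := 8292375)
    (by rw [card_top, card_Co0, card_Mono]) (by norm_num) (mem_top g) h4
  obtain ⟨c, hc, σ, e⟩ := exists_sgn_prm hk
  have main : ∀ {c : Finset GolayPt} (hc : Cw c) (σ : M24), IsConj (mk1 (sgn c hc * prm σ)) (mk1 g) →
      σ * σ = 1 ∧ (σ.1 • c = c ∨ σ.1 • c = cᶜ) := fun {c} hc σ e => by
    obtain ⟨a, ha⟩ := isConj_iff.1 e.symm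
    have : mk1 (sgn c hc * prm σ * (sgn c hc * prm σ)) = 1 := by
      rw [map_mul, ← ha, conj_mul, h, mul_one, mul_inv_cancel]
    rw [mk1_eq_one, sq_eq, ← sgn_empty, negOne, ← mul_one (sgn ∅ _), ← mul_one (sgn Finset.univ _),
      ← prm_one] at this
    rcases this with e | e <;> obtain ⟨e1, e2⟩ := sgn_prm_inj e <;> refine ⟨e2, ?_⟩
    · exact Or.inl (symmDiff_eq_bot.1 e1).symm
    · exact Or.inr (by rw [← symmDiff_symmDiff_cancel_left c (σ.1 • c), e1]; exact symmDiff_top c)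
  have e0 : IsConj (mk1 (sgn c hc * prm σ)) (mk1 g) := cj (k := k) (by rw [← e]; group)
  by_cases h1 : σ = 1
  · refine R.conj ?_ e0
    rw [h1, prm_one, mul_one]; exact R_sgn hc
  have h2 : orderOf σ.1 = 2 := orderOf_eq_prime (by
    rw [pow_two]; exact congrArg Subtype.val (main hc σ e0).1) fun e => h1 (Subtype.ext e)
  have red : ∀ {z : ℕ} (hz : gc.InH M24 z), (∃ k ∈ M24, σ.1 = k * gc.dec z * k⁻¹) →
      ∃ (d : Finset GolayPt) (hd : Cw d), IsConj (mk1 (sgn d hd * prm ⟨_, hz.2⟩)) (mk1 g) := by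
    rintro z hz ⟨l, hl, e⟩
    refine ⟨_, cw_smul (inv_mem hl) hc, (cj (k := prm ⟨l, hl⟩⁻¹) ?_).symm.trans e0⟩
    rw [← mul_assoc, prm_mul_sgn, mul_assoc, mul_assoc, ← prm_mul, ← prm_mul]
    congr 2
    exact Subtype.ext (by simp [e, mul_assoc])
  rcases M24_invol σ.2 h2 with e | e
  · obtain ⟨d, hd, e⟩ := red inH_z2A e
    exact (R_A hd (main hd _ e).2).conj e
  · obtain ⟨d, hd, e⟩ := red inH_z2B e
    exact (R_B hd (main hd _ e).2).conj e

theorem sq_of_tt {g : Co0} (h : IsConj (mk1 tt) (mk1 g)) : g * g = negOne := by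
  obtain ⟨a, ha⟩ := isConj_iff.1 h
  obtain ⟨a, rfl⟩ := mk1_surjective a
  rw [← map_inv, ← map_mul, ← map_mul, eq_comm, mk1_eq_iff] at ha
  have : a * tt * a⁻¹ * (a * tt * a⁻¹) = negOne := by
    rw [conj_mul, tt_sq, negOne_comm, mul_inv_cancel_right]
  rcases ha with rfl | rfl
  · exact this
  · rw [mul_assoc, ← mul_assoc _ negOne, negOne_comm, mul_assoc, this, ← mul_assoc, negOne_mul_self,
      one_mul]

theorem rep_itr {g : Co0} {W : ℕ} (h : Impl g W) (k : ℕ) {n : ℕ} {v : leechLattice}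
    (hn : Rep n v) (hv : sqNorm (v : GolayPt → ℤ) ≤ 64) : Rep (itr W k n) (g ^ k • v) := by
  induction k with
  | zero => rw [pow_zero, one_smul]; exact hn
  | succ k ih =>
    rw [pow_succ', mul_smul, show itr W (k + 1) n = forceN (itr W k n) (apW W) from rfl, forceN_eq]
    exact h _ _ ih (by rwa [sqNorm_smul])

theorem ord_u {W : ℕ} (h1 : okW W = true) (h2 : allN 24 (fun j => Nat.beq (itr W 13 (e8C j)) (e8C j)) = true)
    (h3 : apW W (e8C (gc.idx none)) ≠ e8C (gc.idx none)) : orderOf (mk1 (elt W)) = 13 := by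
  have hW := impl_elt h1
  have h13 : elt W ^ 13 = 1 := co0_ext_e8 fun i => by
    have := rep_itr hW 13 (rep_e8 i) (sqNorm_e8 i).le
    rw [beq_iff.1 (allN_iff.1 h2 _ (gc.idx_lt i))] at this
    rw [one_smul]
    exact this.eq_right (rep_e8 i)
  have := Fact.mk (by norm_num : Nat.Prime 13)
  refine orderOf_eq_prime (by rw [← map_pow, h13, map_one]) fun e => ?_
  rcases mk1_eq_one.1 e with e | e
  · exact h3 ((hW.smul_eq (rep_e8 none) (sqNorm_e8 _).le (rep_e8 none)).1 (by rw [e, one_smul]))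
  · rw [e, show 13 = 2 * 6 + 1 from rfl, pow_succ, pow_mul, pow_two, negOne_mul_self, one_pow,
      one_mul] at h13
    exact negOne_ne_one h13

theorem sup_iff {E : Finset GolayPt} (hE : Cw E) {v : leechLattice} :
    (∀ l ∉ E, (v : GolayPt → ℤ) l = 0) ↔ sgn E hE • v = -v := by
  constructor
  · intro h
    refine Subtype.ext (funext fun l => ?_)
    rw [sgn_smul]; split_ifs with hl
    · rfl
    · simp [h l hl]
  · intro h l hl
    have := congrArg (fun w : leechLattice => (w : GolayPt → ℤ) l) h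
    simp only [sgn_smul, if_neg hl, AddSubgroup.coe_neg, Pi.neg_apply] at this
    omega

theorem four_dvd {E : Finset GolayPt} (hE : E ∈ dodecads) {m : leechLattice}
    (hm : sqNorm (m : GolayPt → ℤ) = 32) (h0 : ∀ l ∉ E, (m : GolayPt → ℤ) l = 0) (i : GolayPt) :
    4 ∣ (m : GolayPt → ℤ) i := by
  obtain ⟨r, s, hr, hs, h4, -⟩ := exists_mod_four m.2
  have h12 : E.card = 12 := hE.2
  obtain ⟨l, hl⟩ : Eᶜ.Nonempty := Finset.card_pos.1 (by
    rw [Finset.card_compl, Leech.card_golayPt, h12]; norm_num)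
  obtain rfl : r = 0 := by
    have := h4 l
    rw [h0 l (Finset.mem_compl.1 hl)] at this
    split_ifs at this <;> omega
  have h1 : s ∩ E = s := Finset.inter_eq_left.2 fun j hj => by
    by_contra hn
    have := h4 j
    rw [h0 j hn, if_pos hj] at this
    omega
  have h2 := card_mul_le_sqNorm (x := m) (s := s) (a := 4) fun j hj => by
    have := h4 j
    rw [if_pos hj] at this
    rcases (by omega : 2 ≤ (m : GolayPt → ℤ) j ∨ (m : GolayPt → ℤ) j ≤ -2) with e | e <;> nlinarith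
  have h3 := Leech.card_symmDiff_add s E
  have h5 := cw_card (cw_symmDiff hs hE.1)
  have h6 := cw_card hs
  rw [h1] at h3
  have h7 : s = ∅ := Finset.card_eq_zero.1 (by omega)
  have := h4 i
  rw [h7, if_neg (Finset.notMem_empty _)] at this
  omega

theorem mono_of {E F : Finset GolayPt} (hE : E ∈ dodecads) (hF : F ∈ dodecads) {g : Co0}
    (h : g * sgn E hE.1 = sgn F hF.1 * g) : g ∈ Mono := by
  obtain ⟨i, hi⟩ : E.Nonempty := Finset.card_pos.1 (by rw [hE.2]; norm_num)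
  have hn : sqNorm ((g • e8 i : leechLattice) : GolayPt → ℤ) = 64 := by rw [sqNorm_smul, sqNorm_e8]
  have h0 := (sup_iff hF.1 (v := g • e8 i)).2 (by
    rw [← mul_smul, ← h, mul_smul, sgn_smul_e8, if_pos hi, co0_smul_neg])
  have h8 : ∀ j ∈ F, ∀ k ∈ F, j ≠ k → ∀ b : ℤ, b = 1 ∨ b = -1 → 8 ∣
      ((g • e8 i : leechLattice) : GolayPt → ℤ) j + b * ((g • e8 i : leechLattice) : GolayPt → ℤ) k := by
    intro j hj k hk hjk b hb
    have hb2 : 2 ∣ 1 + b := by omega
    have h1 := (sup_iff hF.1 (v := v44 j k 1 b hb2)).1 fun l hl => by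
      rw [v44_apply, if_neg (by rintro rfl; exact hl hj), if_neg (by rintro rfl; exact hl hk)]; rfl
    have h2 := four_dvd hE (m := g⁻¹ • v44 j k 1 b hb2)
      (by rw [sqNorm_smul, sqNorm_v44 hjk]; rcases hb with rfl | rfl <;> norm_num)
      ((sup_iff hE.1).2 (by
        rw [← (MulAction.injective g).eq_iff, ← mul_smul, h, mul_smul, co0_smul_neg, smul_inv_smul, h1])) i
    have h3 := dot_smul g (e8 i) (g⁻¹ • v44 j k 1 b hb2)
    rw [smul_inv_smul, dot_v44, dotInt_comm, dot_e8] at h3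
    rcases hb with rfl | rfl <;> omega
  generalize hv : g • e8 i = v at hn h0 h8
  have h9 : ∀ j, 8 ∣ (v : GolayPt → ℤ) j := by
    intro j
    by_contra hj
    have hjF : j ∈ F := by by_contra e; exact hj (by rw [h0 j e]; exact dvd_zero _)
    obtain ⟨k, hk, hkj⟩ := Finset.exists_mem_ne (s := F) (by rw [hF.2]; norm_num) j
    have a1 := h8 j hjF k hk hkj.symm 1 (Or.inl rfl)
    have a2 := h8 j hjF k hk hkj.symm (-1) (Or.inr rfl)
    have := card_mul_le_sqNorm (x := v) (s := F) (a := 16) fun l hl => by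
      have : 4 ≤ (v : GolayPt → ℤ) l ∨ (v : GolayPt → ℤ) l ≤ -4 := by
        by_cases e : j = l
        · subst e; omega
        · have := h8 j hjF l hl e 1 (Or.inl rfl)
          omega
      rcases this with e | e <;> nlinarith
    rw [hF.2, hn] at this
    omega
  obtain ⟨j, hj⟩ : ∃ j, (v : GolayPt → ℤ) j ≠ 0 := by
    by_contra hc
    push Not at hc
    rw [show (v : GolayPt → ℤ) = 0 from funext hc, sqNorm_zero] at hn
    omega
  refine mem_Mono_of (i := i) (j := j) (hv ▸ eq_e8_of_support hn fun l hl => ?_)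
  by_contra hc
  have := card_mul_le_sqNorm (x := v) (s := {l, j}) (a := 64) fun k hk => by
    have := h9 k
    have : (v : GolayPt → ℤ) k ≠ 0 := by rcases Finset.mem_insert.1 hk with rfl | e; exact hc; rwa [Finset.mem_singleton.1 e]
    rcases (by omega : 8 ≤ (v : GolayPt → ℤ) k ∨ (v : GolayPt → ℤ) k ≤ -8) with e | e <;> nlinarith
  rw [Finset.card_pair hl, hn] at this
  omega

end Cfsg.Lib.Small.CoM

namespace Cfsg.Lib.Small.CoU

open Cfsg.Lib.Leech Cfsg.Lib.Golay Cfsg.Spor Subgroup Cfsg.Lib.Small.Co1Z Cfsg.Lib.Small.CoT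
  Cfsg.Lib.Small.CoM Cfsg.Agent.S5388

theorem inv3 : ∃ t u : Co1, orderOf t = 2 ∧ orderOf u = 13 ∧ Commute u t ∧
    ∀ x : Co1, orderOf x = 2 → IsConj (mk1 ep) x ∨ IsConj (mk1 w0) x ∨ IsConj t x := by
  refine ⟨mk1 tt, mk1 (elt WU), orderOf_eq_prime (by rw [pow_two, ← map_mul, tt_sq, mk1_negOne]) fun e => ?_,
    ord_u WU_ok.1 WU_ok.2.2.1 WU_ok.2.2.2, Commute.map (of_chk inH_z2B inH_z2B cw1 cw1 WU_ok.2.1) mk1, fun x hx =>
    (R_all (by rw [← pow_two, ← hx, pow_orderOf_eq_one])).resolve_left fun e => by simp [e] at hx⟩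
  have := tt_sq
  rcases mk1_eq_one.1 e with e | e <;> rw [e] at this
  · exact negOne_ne_one (this.symm.trans (one_mul _))
  · exact negOne_ne_one (this.symm.trans negOne_mul_self)

theorem prod2 {x y : Co1} (hx : IsConj (mk1 ep) x) (hy : IsConj (mk1 ep) y) (h : Commute x y) :
    x = y ∨ IsConj (mk1 ep) (x * y) ∨ IsConj (mk1 w0) (x * y) := by
  obtain ⟨a, rfl⟩ := isConj_iff.1 hx
  obtain ⟨b, hb⟩ := isConj_iff.1 (hy.trans (isConj_iff.2 ⟨a⁻¹, rfl⟩))
  obtain ⟨b, rfl⟩ := mk1_surjective b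
  obtain rfl : y = a * mk1 (b * ep * b⁻¹) * a⁻¹ := by rw [map_mul, map_mul, map_inv, hb]; group
  have ee : ep * ep = 1 := sgn_mul_self _
  have gg : b * ep * b⁻¹ * (b * ep * b⁻¹) = 1 := by rw [conj_mul, ee, mul_one, mul_inv_cancel]
  generalize b * ep * b⁻¹ = g at h gg
  have h1 : mk1 g * mk1 ep = mk1 ep * mk1 g := by
    have := h.eq
    rw [conj_mul, conj_mul, mul_left_inj, mul_right_inj] at this
    exact this.symm
  obtain ⟨l, hl⟩ := θ_surj ⟨_, mem_centralizer_singleton_iff.2 h1⟩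
  have h2 : g * ep = ep * g := by
    have : LL.subtype l * ep = ep * LL.subtype l := mem_centralizer_singleton_iff.1 l.2
    rcases mk1_eq_iff.1 (congrArg Subtype.val hl).symm with e | e <;> rw [e]
    · exact this
    · rw [mul_assoc, this, ← mul_assoc, ← mul_assoc, negOne_comm]
  have h3 : ep * g * (ep * g) = 1 := by rw [mul_assoc, ← mul_assoc g, h2, mul_assoc, gg, mul_one, ee]
  have e0 : IsConj (mk1 (ep * g)) (a * mk1 ep * a⁻¹ * (a * mk1 g * a⁻¹)) :=
    isConj_iff.2 ⟨a, by rw [conj_mul, map_mul]⟩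
  rcases R_all (x := mk1 (ep * g)) (by rw [← map_mul, h3, map_one]) with e | e | e | e
  · left
    rw [map_mul, mul_eq_one_iff_inv_eq, ← map_inv, inv_eq_of_mul_eq_one_right ee] at e
    rw [e]
  · exact Or.inr (Or.inl (e.trans e0))
  · exact Or.inr (Or.inr (e.trans e0))
  · exact absurd ((sq_of_tt e).symm.trans h3) negOne_ne_one

theorem cent_w {g : Co0} (h : Commute (mk1 g) (mk1 w0)) : g ∈ Mono := by
  have := h.eq
  rw [← map_mul, ← map_mul, mk1_eq_iff] at this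
  rcases this with e | e
  · exact mono_of D_mem D_mem e
  · refine mono_of D_mem (F := (om 0x5335f)ᶜ) ⟨cw_compl D_mem.1, by
      rw [Finset.card_compl, Leech.card_golayPt, D_mem.2]⟩ ?_
    rw [← neg_sgn D_mem.1, mul_assoc]; exact e

end Cfsg.Lib.Small.CoU
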