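import Cfsg.Agent.S1175
import Cfsg.Agent.S1225

set_option autoImplicit false

namespace Cfsg.Lib.Small.CoU

open Subgroup

section
variable {G : Type*} [Group G]

theorem onto_flip {b r : G} (h : b * r * b⁻¹ = r⁻¹) (j : ℕ) : b * r ^ j = (r ^ j)⁻¹ * b := by
  have : b * r ^ j * b⁻¹ = (r ^ j)⁻¹ := by rw [← conj_pow, h, inv_pow]
  rw [← this]; group

theorem onto_flip2 {b c : G} (h : b * c = c⁻¹ * b) : c * b * c⁻¹ = c * c * b :=
  calc c * b * c⁻¹ = c * (c * (c⁻¹ * b) * c⁻¹) := by group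
    _ = c * (c * (b * c) * c⁻¹) := by rw [h]
    _ = c * c * b := by group

theorem onto_fb {b a : G} (hb : b * b = 1) (ha : a * a = 1) : b * (b * a) * b⁻¹ = (b * a)⁻¹ := by
  have hb' : b⁻¹ = b := inv_eq_of_mul_eq_one_right hb
  have ha' : a⁻¹ = a := inv_eq_of_mul_eq_one_right ha
  rw [mul_inv_rev, ha', hb', ← mul_assoc, hb, one_mul]

theorem onto_odd {b a : G} (hb : b * b = 1) (ha : a * a = 1) (j : ℕ) :
    b * (b * a) ^ (2 * j + 1) = ((b * a) ^ j)⁻¹ * a * (b * a) ^ j := by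
  have e : 2 * j + 1 = j + (1 + j) := by ring
  rw [e, pow_add, ← mul_assoc, onto_flip (onto_fb hb ha), pow_add, pow_one, mul_assoc, mul_assoc, ← mul_assoc b,
    hb, one_mul, mul_assoc]

theorem onto_refl {b a : G} (hb : b * b = 1) (ha : a * a = 1) (m : ℕ) :
    ∃ j : ℕ, b * (b * a) ^ m = ((b * a) ^ j)⁻¹ * b * (b * a) ^ j ∨
      b * (b * a) ^ m = ((b * a) ^ j)⁻¹ * a * (b * a) ^ j := by
  obtain ⟨j, rfl | rfl⟩ := Nat.even_or_odd' m
  · exact ⟨j, Or.inl (by rw [two_mul, pow_add, ← mul_assoc, onto_flip (onto_fb hb ha)])⟩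
  · exact ⟨j, Or.inr (onto_odd hb ha j)⟩

theorem onto_fix [Finite G] {A : Subgroup G} {z x : G} (hx : x ∈ normalizer (A : Set G)) (h2 : x * x = 1)
    (hodd : ¬ 2 ∣ Nat.card {a : A // IsConj z (a : G)}) : ∃ a ∈ A, IsConj z a ∧ Commute x a := by
  classical
  haveI := Fintype.ofFinite {a : A // IsConj z (a : G)}
  let f : {a : A // IsConj z (a : G)} → {a : A // IsConj z (a : G)} := fun a =>
    ⟨⟨x * a.1 * x⁻¹, (mem_normalizer_iff.1 hx _).1 a.1.2⟩, a.2.trans (isConj_iff.2 ⟨x, rfl⟩)⟩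
  have hx' : x⁻¹ = x := inv_eq_of_mul_eq_one_right h2
  have hf : Function.Involutive f := by
    intro a
    apply Subtype.ext; apply Subtype.ext
    show x * (x * a.1 * x⁻¹) * x⁻¹ = a.1
    rw [hx']
    calc x * (x * a.1 * x) * x = (x * x) * a.1 * (x * x) := by simp only [mul_assoc]
      _ = a.1 := by rw [h2, one_mul, mul_one]
  rw [Nat.card_eq_fintype_card] at hodd
  have hs : (hf.toPerm f) ^ 2 ^ 1 = 1 := by
    ext a : 1
    rw [pow_one, pow_two]
    exact hf a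
  obtain ⟨a, ha⟩ := Equiv.Perm.exists_fixed_point_of_prime hodd hs
  refine ⟨a.1, a.1.2, a.2, ?_⟩
  have : x * a.1 * x⁻¹ = a.1 := congrArg (fun t : {a : A // IsConj z (a : G)} => ((t.1 : A) : G)) ha
  exact mul_inv_eq_iff_eq_mul.1 this

theorem onto_count [Finite G] {A U : Subgroup G} {z : G} (hUA : U ≤ A) (hzA : z ∈ A)
    (hU : ∀ u ∈ U, ¬ IsConj z u) [(U.subgroupOf A).Normal]
    (htr : ∀ b ∈ A, b ∉ U → ∃ e ∈ normalizer (A : Set G), (∀ u ∈ U, Commute e u) ∧ z⁻¹ * (e * b * e⁻¹) ∈ U) :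
    (Nat.card (A ⧸ U.subgroupOf A) - 1) ∣ Nat.card {a : A // IsConj z (a : G)} := by
  classical
  haveI := Fintype.ofFinite A
  haveI := Fintype.ofFinite (A ⧸ U.subgroupOf A)
  let s : Finset A := Finset.univ.filter fun a => IsConj z (a : G)
  have hs : Nat.card {a : A // IsConj z (a : G)} = s.card := by
    rw [Nat.card_eq_fintype_card, Fintype.card_subtype]
  let f : A → A ⧸ U.subgroupOf A := QuotientGroup.mk
  let k := (s.filter fun a => f a = f ⟨z, hzA⟩).card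
  have h1 : s.card = ∑ q : A ⧸ U.subgroupOf A, (s.filter fun a => f a = q).card :=
    Finset.card_eq_sum_card_fiberwise (fun _ _ => Finset.mem_univ _)
  have h0 : (s.filter fun a => f a = 1).card = 0 := by
    rw [Finset.card_eq_zero, Finset.filter_eq_empty_iff]
    intro a ha h
    exact hU a ((QuotientGroup.eq_one_iff a).1 h) (Finset.mem_filter.1 ha).2
  have h2 : ∀ q : A ⧸ U.subgroupOf A, q ≠ 1 → (s.filter fun a => f a = q).card = k := by
    intro q hq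
    obtain ⟨b, rfl⟩ := QuotientGroup.mk_surjective q
    obtain ⟨e, heN, heU, he⟩ := htr b b.2 (fun h => hq ((QuotientGroup.eq_one_iff b).2 h))
    have hcU : ∀ u ∈ U, e * u * e⁻¹ = u := fun u hu => by rw [(heU u hu).eq]; group
    have hcU' : ∀ u ∈ U, e⁻¹ * u * e = u := fun u hu => by
      rw [mul_assoc, ← (heU u hu).eq]; group
    refine Finset.card_bij' (fun a _ => ⟨e * a * e⁻¹, (mem_normalizer_iff.1 heN _).1 a.2⟩)
      (fun a _ => ⟨e⁻¹ * a * e⁻¹⁻¹, (mem_normalizer_iff.1 (inv_mem heN) _).1 a.2⟩) ?_ ?_ ?_ ?_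
    · intro a ha
      simp only [s, f, Finset.mem_filter, Finset.mem_univ, true_and] at ha ⊢
      refine ⟨ha.1.trans (isConj_iff.2 ⟨e, rfl⟩), ?_⟩
      have h3 : (a : G)⁻¹ * b ∈ U := (QuotientGroup.eq (s := U.subgroupOf A)).1 ha.2
      symm
      apply QuotientGroup.eq.2
      show z⁻¹ * (e * a * e⁻¹) ∈ U
      have : z⁻¹ * (e * a * e⁻¹) = z⁻¹ * (e * b * e⁻¹) * (e * ((a : G)⁻¹ * b)⁻¹ * e⁻¹) := by group
      rw [this, hcU _ (inv_mem h3)]
      exact mul_mem he (inv_mem h3)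
    · intro a ha
      simp only [s, f, Finset.mem_filter, Finset.mem_univ, true_and] at ha ⊢
      refine ⟨ha.1.trans (isConj_iff.2 ⟨e⁻¹, rfl⟩), ?_⟩
      have h3 : (a : G)⁻¹ * z ∈ U := (QuotientGroup.eq (s := U.subgroupOf A)).1 ha.2
      apply QuotientGroup.eq.2
      show (e⁻¹ * a * e⁻¹⁻¹)⁻¹ * b ∈ U
      have : (e⁻¹ * a * e⁻¹⁻¹)⁻¹ * b = e⁻¹ * ((a : G)⁻¹ * z * (z⁻¹ * (e * b * e⁻¹))) * e := by group
      rw [this, hcU' _ (mul_mem h3 he)]
      exact mul_mem h3 he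
    · intro a _
      apply Subtype.ext
      show e⁻¹ * (e * a * e⁻¹) * e⁻¹⁻¹ = a
      group
    · intro a _
      apply Subtype.ext
      show e * (e⁻¹ * a * e⁻¹⁻¹) * e⁻¹ = a
      group
  rw [hs, h1, ← Finset.add_sum_erase _ _ (Finset.mem_univ 1), h0, zero_add,
    Finset.sum_congr rfl (fun q hq => h2 q (Finset.ne_of_mem_erase hq)), Finset.sum_const,
    Finset.card_erase_of_mem (Finset.mem_univ _), Finset.card_univ, Nat.card_eq_fintype_card, smul_eq_mul]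
  exact Dvd.intro _ rfl

theorem onto_key [Finite G] (H A W : Subgroup G) (z w : G)
    (hAH : A ≤ H) (hzA : z ∈ A) (hwA : w ∈ A)
    (hsq : ∀ a ∈ A, a * a = 1) (hcard : Nat.card A = 2 ^ 11)
    (hf : ∀ g, g * z * g⁻¹ ∈ H → g ∈ H)
    (hN : ∀ g ∈ H, Commute g w → g ∈ normalizer (A : Set G))
    (h759 : Nat.card {a : A // IsConj z (a : G)} = 759)
    (hW : W ≤ A) (hW8 : Nat.card W = 8) (hWz : ∀ a ∈ W, a ≠ 1 → IsConj z a) :
    ∀ g, Commute g w → g ∈ H := by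
  classical
  have hf' : ∀ x k : G, IsConj z x → x ∈ H → k * x * k⁻¹ ∈ H → k ∈ H := by
    intro x k hx hxH hk
    obtain ⟨g, rfl⟩ := isConj_iff.1 hx
    have h1 := hf g hxH
    have h2 := hf (k * g) (by rw [show k * g * z * (k * g)⁻¹ = k * (g * z * g⁻¹) * k⁻¹ by group]; exact hk)
    simpa using mul_mem h2 (inv_mem h1)
  have hinv : ∀ a ∈ A, a⁻¹ = a := fun a ha => inv_eq_of_mul_eq_one_right (hsq a ha)
  have hab : ∀ a ∈ A, ∀ b ∈ A, Commute a b := by
    intro a ha b hb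
    have := hinv _ (mul_mem ha hb)
    rw [mul_inv_rev, hinv a ha, hinv b hb] at this
    exact this.symm
  by_contra hcon
  push Not at hcon
  let P : Subgroup G → Prop := fun U => U ≤ A ∧ w ∈ U ∧ ∃ g, (∀ u ∈ U, Commute g u) ∧ g ∉ H
  have hP : P (zpowers w) := by
    obtain ⟨g, hg, hgH⟩ := hcon
    refine ⟨(zpowers_le).2 hwA, mem_zpowers w, g, ?_, hgH⟩
    rintro u ⟨n, rfl⟩
    exact hg.zpow_right n
  obtain ⟨U, -, hU⟩ := Finite.exists_le_maximal hP
  obtain ⟨hUA, hwU, g, hgU, hgH⟩ := hU.1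
  -- `U` has no conjugate of `z`
  have hUz : ∀ u ∈ U, ¬ IsConj z u := by
    intro u hu h
    refine hgH (hf' u g h (hAH (hUA hu)) ?_)
    rw [(hgU u hu).eq, mul_inv_cancel_right]
    exact hAH (hUA hu)
  have hzU : z ∉ U := fun h => hUz z h (IsConj.refl z)
  -- (1)
  have s1 : ∀ b ∈ A, b ∉ U → ∀ d, (∀ u ∈ U, Commute d u) → Commute d b → d ∈ H := by
    intro b hb hbU d hd hdb
    by_contra hdH
    have hP' : P (U ⊔ zpowers b) := by
      refine ⟨sup_le hUA ((zpowers_le).2 hb), mem_sup_left hwU, d, ?_, hdH⟩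
      have : U ⊔ zpowers b ≤ centralizer {d} := by
        refine sup_le (fun u hu => ?_) ((zpowers_le).2 ?_)
        · exact mem_centralizer_singleton_iff.2 (hd u hu).eq.symm
        · exact mem_centralizer_singleton_iff.2 hdb.eq.symm
      intro u hu
      exact (mem_centralizer_singleton_iff.1 (this hu)).symm
    exact hbU (hU.2 hP' le_sup_left (mem_sup_right (mem_zpowers b)))
  have cD : ∀ {d e : G}, (∀ u ∈ U, Commute d u) → (∀ u ∈ U, Commute e u) → ∀ u ∈ U, Commute (d * e) u :=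
    fun hd he u hu => (hd u hu).mul_left (he u hu)
  have iD : ∀ {d : G}, (∀ u ∈ U, Commute d u) → ∀ u ∈ U, Commute d⁻¹ u :=
    fun hd u hu => (hd u hu).inv_left
  have aD : ∀ {a : G}, a ∈ A → ∀ u ∈ U, Commute a u := fun ha u hu => hab _ ha _ (hUA hu)
  -- (2)
  have s2 : ∀ b ∈ A, b ∉ U → ∀ d, (∀ u ∈ U, Commute d u) → d * b * d⁻¹ ∈ H → d ∈ H := by
    intro b hb hbU d hd hdb
    have hD : ∀ u ∈ U, Commute (d * b * d⁻¹) u := cD (cD hd (aD hb)) (iD hd)
    have h2 : d * b * d⁻¹ * (d * b * d⁻¹) = 1 := by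
      rw [show d * b * d⁻¹ * (d * b * d⁻¹) = d * (b * b) * d⁻¹ by group, hsq b hb]; group
    obtain ⟨a, ha, hza, hc⟩ := onto_fix (z := z) (hN _ hdb (hD w hwU)) h2 (by rw [h759]; norm_num)
    have h3 : d⁻¹ * a * d ∈ H := by
      refine s1 b hb hbU _ (cD (cD (iD hd) (aD ha)) hd) ?_
      have := hc.eq
      rw [Commute, SemiconjBy]
      calc d⁻¹ * a * d * b = d⁻¹ * (a * (d * b * d⁻¹)) * d := by group
        _ = d⁻¹ * (d * b * d⁻¹ * a) * d := by rw [this]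
        _ = b * (d⁻¹ * a * d) := by group
    have := hf' a d⁻¹ hza (hAH ha) (by rw [inv_inv]; exact h3)
    simpa using this
  have s2' : ∀ b ∈ A, b ∉ U → ∀ d, (∀ u ∈ U, Commute d u) → d * b * d⁻¹ ∈ H → d * b * d⁻¹ ∈ A := by
    intro b hb hbU d hd hdb
    exact (mem_normalizer_iff.1 (hN d (s2 b hb hbU d hd hdb) (hd w hwU)) b).1 hb
  -- (3)
  have s3 : ∀ b ∈ A, b ∉ U → ∃ e, (∀ u ∈ U, Commute e u) ∧ z⁻¹ * (e * b * e⁻¹) ∈ U := by
    intro b hb hbU
    set a := g * z * g⁻¹ with ha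
    have ha2 : a * a = 1 := by
      rw [show a * a = g * (z * z) * g⁻¹ by rw [ha]; group, hsq z hzA]; group
    have hb2 := hsq b hb
    have hb' := hinv b hb
    have ha' : a⁻¹ = a := inv_eq_of_mul_eq_one_right ha2
    have haD : ∀ u ∈ U, Commute a u := cD (cD hgU (aD hzA)) (iD hgU)
    have hrD : ∀ j : ℕ, ∀ u ∈ U, Commute ((b * a) ^ j) u := fun j u hu =>
      (cD (aD hb) haD u hu).pow_left j
    have hex : ∃ n : ℕ, 0 < n ∧ (b * a) ^ n ∈ U :=
      ⟨orderOf (b * a), orderOf_pos _, by rw [pow_orderOf_eq_one]; exact one_mem _⟩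
    have hn := Nat.find_spec hex
    have hmin := fun m => @Nat.find_min _ _ hex m
    have fa : a * (b * a) * a⁻¹ = (b * a)⁻¹ := by
      rw [mul_inv_rev b a, ha', hb', mul_assoc a, mul_assoc b, ha2, mul_one]
    -- reflections lying in `H` lie in `A`
    have hre : ∀ m : ℕ, ∃ x ∈ A, x ∉ U ∧ ∃ d, (∀ u ∈ U, Commute d u) ∧ b * (b * a) ^ m = d * x * d⁻¹ := by
      intro m
      obtain ⟨j, h | h⟩ := onto_refl hb2 ha2 m
      · exact ⟨b, hb, hbU, ((b * a) ^ j)⁻¹, iD (hrD j), by rw [h, inv_inv]⟩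
      · exact ⟨z, hzA, hzU, ((b * a) ^ j)⁻¹ * g, cD (iD (hrD j)) hgU, by rw [h]; nth_rewrite 2 [ha]; group⟩
    obtain ⟨k, hk | hk⟩ := Nat.even_or_odd' (Nat.find hex)
    · exfalso
      rw [hk] at hn hmin
      have hk0 : 0 < k := by omega
      have hcU : (b * a) ^ k ∉ U := fun h => hmin k (by omega) ⟨hk0, h⟩
      have hc2 : (b * a) ^ k * (b * a) ^ k ∈ U := by rw [← pow_add, ← two_mul]; exact hn.2
      set c := (b * a) ^ k with hc
      have hcD : ∀ u ∈ U, Commute c u := hrD k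
      have e1 : c * b * c⁻¹ = c * c * b := onto_flip2 (onto_flip (onto_fb hb2 ha2) k)
      have e2 : c * a * c⁻¹ = c * c * a := onto_flip2 (onto_flip fa k)
      have hcH : c ∈ H := s2 b hb hbU c hcD (by rw [e1]; exact mul_mem (hAH (hUA hc2)) (hAH hb))
      have hcA : c ∈ A := by
        obtain ⟨x, hx, hxU, d, hd, he⟩ := hre k
        have := s2' x hx hxU d hd (by rw [← he]; exact mul_mem (hAH hb) hcH)
        rw [← he] at this
        simpa using mul_mem (inv_mem hb) this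
      have hc'D : ∀ u ∈ U, Commute (g⁻¹ * c * g) u := cD (cD (iD hgU) hcD) hgU
      have hc'H : g⁻¹ * c * g ∈ H := by
        refine s2 z hzA hzU _ hc'D ?_
        have : g⁻¹ * c * g * z * (g⁻¹ * c * g)⁻¹ = g⁻¹ * (c * a * c⁻¹) * g := by rw [ha]; group
        rw [this, e2, show g⁻¹ * (c * c * a) * g = g⁻¹ * (c * c) * g * z by rw [ha]; group,
          mul_assoc g⁻¹, ← (hgU _ hc2).eq, inv_mul_cancel_left]
        exact mul_mem (hAH (hUA hc2)) (hAH hzA)
      have := s2 c hcA hcU g⁻¹ (iD hgU) (by rw [inv_inv]; exact hc'H)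
      exact hgH (by simpa using this)
    · rw [hk] at hn
      refine ⟨g⁻¹ * (b * a) ^ k, cD (iD hgU) (hrD k), ?_⟩
      have h1 := onto_odd hb2 ha2 k
      have h2 := (hrD k _ hn.2).eq
      have h3 := (hgU _ hn.2).eq
      have h4 := hn.2
      generalize (b * a) ^ (2 * k + 1) = u at h1 h2 h3 h4
      generalize (b * a) ^ k = c at h1 h2
      have : z⁻¹ * (g⁻¹ * c * b * (g⁻¹ * c)⁻¹) = u⁻¹ :=
        calc z⁻¹ * (g⁻¹ * c * b * (g⁻¹ * c)⁻¹) = z⁻¹ * g⁻¹ * c * (b * u) * (c * u)⁻¹ * g := by group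
          _ = z⁻¹ * g⁻¹ * c * (c⁻¹ * (g * z * g⁻¹) * c) * (u * c)⁻¹ * g := by rw [h1, h2]
          _ = (u * g)⁻¹ * g := by group
          _ = u⁻¹ := by rw [← h3]; group
      rw [this]
      exact inv_mem h4
  haveI : (U.subgroupOf A).Normal := ⟨fun n hn x => by
    have : x * n * x⁻¹ = n := by
      apply Subtype.ext
      show (x : G) * n * (x : G)⁻¹ = n
      rw [(hab _ x.2 _ n.2).eq, mul_inv_cancel_right]
    rw [this]; exact hn⟩
  have hdv := onto_count hUA hzA hUz (fun b hb hbU => by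
    obtain ⟨e, he, h⟩ := s3 b hb hbU
    refine ⟨e, hN e (s2 b hb hbU e he ?_) (he w hwU), he, h⟩
    simpa using mul_mem (hAH hzA) (hAH (hUA h)))
  rw [h759] at hdv
  have hq : Nat.card (A ⧸ U.subgroupOf A) ∣ 2 ^ 11 := by
    rw [← hcard, card_eq_card_quotient_mul_card_subgroup (U.subgroupOf A)]
    exact Dvd.intro _ rfl
  obtain ⟨n, hn, hn'⟩ := (Nat.dvd_prime_pow Nat.prime_two).1 hq
  have hle : Nat.card (A ⧸ U.subgroupOf A) < Nat.card W := by
    rw [hn'] at hdv ⊢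
    rw [hW8]
    interval_cases n <;> simp_all
  haveI := Fintype.ofFinite W
  haveI := Fintype.ofFinite (A ⧸ U.subgroupOf A)
  rw [Nat.card_eq_fintype_card, Nat.card_eq_fintype_card] at hle
  obtain ⟨x, y, hxy, h⟩ := Fintype.exists_ne_map_eq_of_card_lt
    (fun x : W => (QuotientGroup.mk ⟨x, hW x.2⟩ : A ⧸ U.subgroupOf A)) hle
  have h1 : (x : G)⁻¹ * y ∈ U := (QuotientGroup.eq (s := U.subgroupOf A)).1 h
  refine hUz _ h1 (hWz _ (mul_mem (inv_mem x.2) y.2) ?_)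
  intro h2
  exact hxy (Subtype.ext (inv_mul_eq_one.1 h2))

end

theorem onto {G : Type*} [Group G] [Finite G] [IsSimpleGroup G] (H A W : Subgroup G) (z w : G)
    (hz : orderOf z = 2) (hS : ∃ S : Sylow 2 G, z ∈ S ∧ ∀ s ∈ S, Commute s z)
    (hAH : A ≤ H) (hzA : z ∈ A) (hwA : w ∈ A) (hw1 : w ≠ 1) (hzw : ¬ IsConj z w)
    (hsq : ∀ a ∈ A, a * a = 1) (hcard : Nat.card A = 2 ^ 11)
    (hf : ∀ g, g * z * g⁻¹ ∈ H → g ∈ H)
    (hp : ∀ g, Commute z (g * z * g⁻¹) → g * z * g⁻¹ ≠ z →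
      ∃ h ∈ H, h * (z * (g * z * g⁻¹)) * h⁻¹ = z ∨ h * (z * (g * z * g⁻¹)) * h⁻¹ = w)
    (hN : ∀ g ∈ H, Commute g w → g ∈ normalizer (A : Set G))
    (h759 : Nat.card {a : A // IsConj z (a : G)} = 759)
    (hW : W ≤ A) (hW8 : Nat.card W = 8) (hWz : ∀ a ∈ W, a ≠ 1 → IsConj z a) : H = ⊤ := by
  by_contra hH
  have key := onto_key H A W z w hAH hzA hwA hsq hcard hf hN h759 hW hW8 hWz
  have kz : ∀ g, Commute g z → g ∈ H := fun g hg =>
    hf g (by rw [hg.eq, mul_inv_cancel_right]; exact hAH hzA)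
  obtain ⟨K, hK⟩ := Cfsg.Agent.S1175.result H hH z hz (hAH hzA) hS hf (by
    intro g h1 h2 x hx
    obtain ⟨h, hh, h3⟩ := hp g h1 h2
    have hx' := mem_centralizer_singleton_iff.1 hx
    have hc : Commute (h * x * h⁻¹) (h * (z * (g * z * g⁻¹)) * h⁻¹) := by
      rw [Commute, SemiconjBy]
      calc h * x * h⁻¹ * (h * (z * (g * z * g⁻¹)) * h⁻¹) = h * (x * (z * (g * z * g⁻¹))) * h⁻¹ := by group
        _ = h * ((z * (g * z * g⁻¹)) * x) * h⁻¹ := by rw [hx']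
        _ = _ := by group
    have : h * x * h⁻¹ ∈ H := by
      rcases h3 with h3 | h3
      · exact kz _ (h3 ▸ hc)
      · exact key _ (h3 ▸ hc)
    simpa [mul_assoc] using mul_mem (mul_mem (inv_mem hh) this) hh)
  haveI : Fact (Nat.Prime 2) := ⟨Nat.prime_two⟩
  obtain ⟨s, hs⟩ := exists_prime_orderOf_dvd_card' (G := K) 2 hK.2.1.two_dvd
  have hs' : orderOf (s : G) = 2 := by rw [Subgroup.orderOf_coe, hs]
  obtain ⟨g, hg⟩ : ∃ g, g ∉ K := by
    by_contra h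
    push Not at h
    exact hK.1 (eq_top_iff.2 fun x _ => h x)
  have hu : orderOf (g * s * g⁻¹) = 2 := by
    rw [← hs']; exact (MulAut.conj g).orderOf_eq (s : G)
  have huK : g * s * g⁻¹ ∉ K := by
    intro h
    have hm : g * s * g⁻¹ ∈ K ⊓ K.map (MulAut.conj g).toMonoidHom := ⟨h, s, s.2, rfl⟩
    have h2 := orderOf_dvd_natCard (⟨_, hm⟩ : ↥(K ⊓ K.map (MulAut.conj g).toMonoidHom))
    rw [← Subgroup.orderOf_coe, hu] at h2
    exact (Nat.not_even_iff_odd.2 (hK.2.2 g hg)) (even_iff_two_dvd.2 h2)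
  have hw : orderOf w = 2 := orderOf_eq_prime (by rw [pow_two]; exact hsq w hwA) hw1
  exact hzw ((Cfsg.Agent.S1225.result K hK _ hu huK s s hs' s.2 hs' s.2).2 z w hz hw)

end Cfsg.Lib.Small.CoU
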