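import Cfsg.Agent.Lib.Small.CoF5a
import Cfsg.Agent.Lib.Small.CoG
import Cfsg.Agent.Lib.Small.CoM
import Cfsg.Agent.Lib.Small.CoO
import Cfsg.Agent.Lib.Small.CoQ
import Cfsg.Agent.Lib.Small.CoD
import Cfsg.Agent.Lib.Small.CoJ
import Cfsg.Agent.Lib.Leech.Order
import Cfsg.Agent.Lib.J2.Iso

/-! A group of Conway type is `Co1`, with the involution and a conjugate of it in the extraspecial group
prescribed; the centraliser of an element of order `5`. -/

set_option autoImplicit false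

namespace Cfsg.Lib.Small.CoF5

open Cfsg.Lib.Leech Cfsg.Lib.Golay Cfsg.Spor Cfsg.Lib.Forms Subgroup Cfsg.Lib.Small.Co1Z Cfsg.Lib.Known2
  Cfsg.Lib.Core Cfsg.Agent.S5388 Function Cfsg.Lib.Small.CoT Cfsg.Agent.S5397 Cfsg.Lib.Small.CoU

variable {G : Type*} [Group G] [Finite G]

/-- the isomorphism with `Co1`, with the images of `ep` and of the sign change on `o2` prescribed -/
theorem exists_iso (z : G) (hz : orderOf z = 2) (Q : Subgroup (centralizer ({z} : Set G))) [Q.Normal]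
    (hF : generalizedFittingSubgroup (centralizer ({z} : Set G)) = Q) (hQ : IsExtraspecial 2 Q)
    (hcard : Nat.card Q = 2 ^ 9)
    (e : (centralizer ({z} : Set G)) ⧸ Q ≃* Omega (ZMod 2) (quadFormPlus 4 (ZMod 2))) {g : G}
    (hg : g * z * g⁻¹ ∈ Q.map (centralizer ({z} : Set G)).subtype) (hne : g * z * g⁻¹ ≠ z) :
    XT (Q.map (centralizer ({z} : Set G)).subtype) z ∧ ∃ φ : Co1 ≃* G, φ (mk1 ep) = z ∧
      φ (mk1 (sgn o2 G1.1)) = g * z * g⁻¹ := by
  have h := XT.of hz hF hQ hcard (e.trans (omegaIso D8 fPlus_Q))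
  have hO := (ls_of_fstar hz (Q := Q.map (centralizer ({z} : Set G)).subtype) (by rw [hF])
    (Cfsg.Agent.S1784.xs_eqv (equivMapOfInjective _ _ (subtype_injective _)) hQ)).2
  obtain ⟨ρ, hρ⟩ := exists_rho
  obtain ⟨Φ, H⟩ := exists_PH hρ h hg hne
  obtain ⟨Ψ, hΨ⟩ := exists_psi H hρ
  obtain ⟨φ, hφ, -⟩ := pres Φ Ψ hΨ (fun b => by
    have a : negOne ∈ LL := S_univ ▸ (S Finset.univ).2
    rw [← hΨ _ a b, ← map_one Φ, H.inj, θ_eq]
    exact .inr (mul_one _).symm) (R2 H hρ hΨ)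
  have hb := φ_bij H hρ hO hne hφ inv3 prod2 cent_w onto
  exact ⟨h, MulEquiv.ofBijective φ hb, φ_ep H hφ, (φ_S hφ G1.1).trans H.s2⟩

/-- the model of the element of order `5` -/
def Mod5 : Prop := ∃ (b : Co0) (K : Subgroup Co1), orderOf (mk1 b) = 5 ∧ b * ep = ep * b ∧
    b * sgn o2 G1.1 = sgn o2 G1.1 * b ∧ K ≤ centralizer {mk1 b} ∧ mk1 b ∉ K ∧ 604800 ≤ Nat.card K ∧
    Nonempty (centralizer (K : Set Co1) ≃* alternatingGroup (Fin 5))

/-- the section `C(y) / ⟨y⟩` -/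
def Odd5 (G : Type*) [Group G] : Prop := ∀ {Q : Subgroup G} {z y : G} (_ : XT Q z)
    (_ : ∃ g, g * z * g⁻¹ ∈ Q ∧ g * z * g⁻¹ ≠ z) (_ : orderOf y = 5) (_ : y * z = z * y)
    (_ : ∃ q ∈ Q, q ≠ 1 ∧ q ≠ z ∧ q * y = y * q) (_ : ¬ 19 ∣ Nat.card G)
    [((zpowers y).subgroupOf (centralizer (zpowers y : Set G))).Normal],
    IsoJ2 (centralizer (zpowers y : Set G) ⧸ (zpowers y).subgroupOf _)

/-- conjugacy in the involution centraliser -/
def Conj5 (G : Type*) [Group G] : Prop := ∀ {Q : Subgroup G} {z y y' : G} (_ : XT Q z)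
    (_ : orderOf y = 5) (_ : y * z = z * y) (_ : ∃ q ∈ Q, q ≠ 1 ∧ q ≠ z ∧ q * y = y * q)
    (_ : orderOf y' = 5) (_ : y' * z = z * y') (_ : ∃ q ∈ Q, q ≠ 1 ∧ q ≠ z ∧ q * y' = y' * q),
    ∃ c, c * z = z * c ∧ c * y * c⁻¹ = y'

theorem J2_nc : ¬ IsMulCommutative J2 := fun h => by
  haveI := Cfsg.Lib.J2.simple_J2
  letI : CommGroup J2 := { (inferInstance : Group J2) with mul_comm := h.1.1 }
  haveI : Finite J2 := Nat.finite_of_card_ne_zero (by rw [Cfsg.Lib.J2.card_J2]; norm_num)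
  have := IsSimpleGroup.prime_card (α := J2)
  rw [Cfsg.Lib.J2.card_J2] at this
  norm_num at this

theorem fin (m5 : Mod5) (o5 : Odd5 G) (c5 : Conj5 G) (z : G) (hz : orderOf z = 2)
    (Q : Subgroup (centralizer ({z} : Set G))) [Q.Normal]
    (hF : generalizedFittingSubgroup (centralizer ({z} : Set G)) = Q) (hQ : IsExtraspecial 2 Q)
    (hcard : Nat.card Q = 2 ^ 9)
    (e : (centralizer ({z} : Set G)) ⧸ Q ≃* Omega (ZMod 2) (quadFormPlus 4 (ZMod 2)))
    (hnwc : ∃ g : G, (∃ hq : g * z * g⁻¹ ∈ centralizer ({z} : Set G),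
      (⟨g * z * g⁻¹, hq⟩ : centralizer ({z} : Set G)) ∈ Q) ∧ g * z * g⁻¹ ≠ z)
    (B : Subgroup (centralizer ({z} : Set G))) (hB : Nat.card B = 5)
    (hc : Nat.card ↥(Q ⊓ centralizer (B : Set (centralizer ({z} : Set G)))) = 32) :
    IsoJ2 ↥(layer ↥(centralizer ((B.map (Subgroup.subtype (centralizer ({z} : Set G)))) : Set G))) ∧
      Nonempty (↥(centralizer (((layer ↥(centralizer ((B.map (Subgroup.subtype
        (centralizer ({z} : Set G)))) : Set G))).map (Subgroup.subtype _)) : Set G)) ≃*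
        alternatingGroup (Fin 5)) := by
  obtain ⟨g, ⟨hq, hg⟩, hne⟩ := hnwc
  have hg' : g * z * g⁻¹ ∈ Q.map (centralizer ({z} : Set G)).subtype := ⟨_, hg, rfl⟩
  obtain ⟨h, φ, e1, e2⟩ := exists_iso z hz Q hF hQ hcard e hg' hne
  obtain ⟨b, K, b5, bz, bs, kb, nb, cK, ⟨a5⟩⟩ := m5
  haveI : Fact (Nat.Prime 5) := ⟨by norm_num⟩
  haveI := isCyclic_of_prime_card hB
  obtain ⟨y, hy⟩ := IsCyclic.exists_generator (α := B)
  have y5 : orderOf (y : G) = 5 := by
    rw [orderOf_coe, orderOf_coe, orderOf_eq_card_of_forall_mem_zpowers hy, hB]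
  have eB : B.map (Subgroup.subtype _) = zpowers (y : G) := by
    refine le_antisymm ?_ (zpowers_le.2 ⟨_, y.2, rfl⟩)
    rintro _ ⟨x, hx, rfl⟩
    obtain ⟨n, hn⟩ := hy ⟨x, hx⟩
    exact ⟨n, congrArg (fun t : B => ((t : centralizer ({z} : Set G)) : G)) hn⟩
  have yz : (y : G) * z = z * y := mem_centralizer_singleton_iff.1 y.1.2
  have yq : ∃ q ∈ Q.map (centralizer ({z} : Set G)).subtype, q ≠ 1 ∧ q ≠ z ∧ q * y = y * q := by
    by_contra n
    push Not at n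
    have : Nat.card ↥(Q ⊓ centralizer (B : Set (centralizer ({z} : Set G)))) ≤ Nat.card (zpowers z) := by
      refine Nat.card_le_card_of_injective (fun x => ⟨x.1.1, ?_⟩) fun x x' e =>
        Subtype.ext (Subtype.ext (congrArg (fun t : zpowers z => (t : G)) e))
      by_cases h1 : x.1.1 = 1
      · rw [h1]; exact one_mem _
      by_cases h2 : x.1.1 = z
      · rw [h2]; exact mem_zpowers z
      exact absurd (congrArg Subtype.val (x.2.2 _ y.2)).symm (n _ ⟨_, x.2.1, rfl⟩ h1 h2)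
    rw [hc, Nat.card_zpowers, hz] at this
    omega
  have s1 : g * z * g⁻¹ ≠ 1 := fun e => by
    rw [conj_eq_one_iff.1 e, orderOf_one] at hz
    omega
  obtain ⟨c, -, ec⟩ := c5 h (y := φ (mk1 b)) ((φ.orderOf_eq _).trans b5)
    (by rw [← e1, ← map_mul, ← map_mul, ← map_mul, ← map_mul, bz])
    ⟨_, hg', s1, hne, by rw [← e2, ← map_mul, ← map_mul, ← map_mul, ← map_mul, bs]⟩ y5 yz yq
  let ψ : Co1 ≃* G := φ.trans (MulAut.conj c)
  have eψ : ψ (mk1 b) = y := ec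
  haveI : ((zpowers (y : G)).subgroupOf (centralizer (zpowers (y : G) : Set G))).Normal :=
    ⟨fun n hn x => by
      have : x * n * x⁻¹ = n := Subtype.ext (by
        have e0 : (n : G) * x = x * n := x.2 _ hn
        rw [coe_mul, coe_mul, ← e0, coe_inv, mul_inv_cancel_right])
      rwa [this]⟩
  obtain ⟨j⟩ := o5 h ⟨g, hg', hne⟩ y5 yz yq (by rw [← Nat.card_congr φ.toEquiv, card_Co1]; norm_num)
  haveI := Cfsg.Lib.J2.simple_J2
  have key := cent J2_nc Fact.out y5 (K := K.map ψ.toMonoidHom) (by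
      rintro _ ⟨k, hk, rfl⟩
      rw [mem_centralizer_singleton_iff, ← eψ]
      exact (Commute.map (mem_centralizer_singleton_iff.1 (kb hk)) ψ).eq)
    (by
      rintro ⟨k, hk, ek⟩
      exact nb (ψ.injective (ek.trans eψ.symm) ▸ hk))
    (by rw [Cfsg.Lib.J2.card_J2]; exact cK.trans (Nat.card_congr (ψ.subgroupMap K).toEquiv).le) j
  rw [eB, key.2]
  refine ⟨key.1, ⟨MulEquiv.trans ?_ a5⟩⟩
  refine (MulEquiv.subgroupCongr ?_).trans (ψ.subgroupMap _).symm
  ext x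
  refine Iff.trans ?_ (mem_map_equiv (f := ψ)).symm
  rw [mem_centralizer_iff, mem_centralizer_iff]
  constructor
  · intro hx k hk
    apply ψ.injective
    rw [map_mul, map_mul, MulEquiv.apply_symm_apply]
    exact hx _ ⟨k, hk, rfl⟩
  · rintro hx _ ⟨k, hk, rfl⟩
    have := congrArg ψ (hx k hk)
    rwa [map_mul, map_mul, MulEquiv.apply_symm_apply] at this

theorem odd5' : Odd5 G := fun h hw hy hz hq h19 _ => CoD.odd5 h hw hy hz hq h19

theorem conj5' : Conj5 G := fun h hy hz hq hy' hz' hq' => CoD.conj5 h hy hz hq hy' hz' hq'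

end Cfsg.Lib.Small.CoF5
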