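import Cfsg.Agent.Lib.Layer.Component

/-! The layer of the centraliser of an element of prime order with a simple complement. -/

set_option autoImplicit false

namespace Cfsg.Lib.Small.CoF5

open Subgroup Cfsg.Lib.Layer
open scoped commutatorElement

/-- a central subgroup `Z` with a complement `K` and simple quotient: the layer is `K` -/
theorem layer_eq {H J : Type*} [Group H] [Finite H] [Group J] [IsSimpleGroup J]
    (hJ : ¬ IsMulCommutative J) {Z K : Subgroup H} [Z.Normal] (hZ : Z ≤ center H) (hd : Disjoint K Z)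
    (e : H ⧸ Z ≃* J) (hc : Nat.card J ≤ Nat.card K) : layer H = K ∧ Nonempty (K ≃* J) := by
  have fJ : Finite J := Finite.of_equiv _ e.toEquiv
  let f : K →* J := (e.toMonoidHom.comp (QuotientGroup.mk' Z)).comp K.subtype
  have fi : Function.Injective f := by
    rw [injective_iff_map_eq_one]
    intro k hk
    have h1 : (k : H) ∈ Z := (QuotientGroup.eq_one_iff _).1 (e.map_eq_one_iff.1 hk)
    exact Subtype.ext (mem_bot.1 (hd.le_bot ⟨k.2, h1⟩))
  have fb : Function.Bijective f := fi.bijective_of_nat_card_le hc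
  have dec : ∀ h : H, ∃ k ∈ K, ∃ z ∈ Z, h = k * z := fun h => by
    obtain ⟨k, hk⟩ := fb.2 (e (QuotientGroup.mk h))
    have h1 : (QuotientGroup.mk (k : H) : H ⧸ Z) = QuotientGroup.mk h := e.injective hk
    exact ⟨k, k.2, (k : H)⁻¹ * h, QuotientGroup.eq.1 h1, by group⟩
  have ek := MulEquiv.ofBijective f fb
  have cm : ∀ a b : H, ⁅a, b⁆ ∈ K := fun a b => by
    obtain ⟨k, hk, z, hz, rfl⟩ := dec a
    obtain ⟨l, hl, w, hw, rfl⟩ := dec b
    have z1 := mem_center_iff.1 (hZ hz)
    have w1 := mem_center_iff.1 (hZ hw)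
    have : ⁅k * z, l * w⁆ = ⁅k, l⁆ := by
      simp only [commutatorElement_def, mul_inv_rev]
      calc k * z * (l * w) * (z⁻¹ * k⁻¹) * (w⁻¹ * l⁻¹)
          = k * (z * (l * w)) * z⁻¹ * (k⁻¹ * w⁻¹) * l⁻¹ := by group
        _ = k * (l * w * z) * z⁻¹ * (w * k)⁻¹ * l⁻¹ := by rw [z1 (l * w), mul_inv_rev]
        _ = k * (l * w * z) * z⁻¹ * (k * w)⁻¹ * l⁻¹ := by rw [w1 k]
        _ = _ := by group
    rw [this]
    exact K.mul_mem (K.mul_mem (K.mul_mem hk hl) (K.inv_mem hk)) (K.inv_mem hl)
  have kn : K.Normal := ⟨fun n hn g => by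
    have := K.mul_mem (cm g n) hn
    simpa [commutatorElement_def] using this⟩
  have kq : IsQuasisimple K := IsQuasisimple.of_mulEquiv (isQuasisimple_of_isSimpleGroup hJ) ek.symm
  refine ⟨le_antisymm ?_ (IsComponent.le_layer ⟨kn.isSubnormal, kq⟩), ⟨ek⟩⟩
  rw [← layer_commutator_self]
  exact commutator_le.2 fun a _ b _ => cm a b

/-- the centraliser of an element of prime order -/
theorem cent {G J : Type*} [Group G] [Finite G] [Group J] [IsSimpleGroup J] (hJ : ¬ IsMulCommutative J)
    {y : G} {p : ℕ} (hp : p.Prime) (hy : orderOf y = p) {K : Subgroup G} (hK : K ≤ centralizer {y})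
    (hyK : y ∉ K) (hc : Nat.card J ≤ Nat.card K)
    [((zpowers y).subgroupOf (centralizer (zpowers y : Set G))).Normal]
    (e : centralizer (zpowers y : Set G) ⧸ (zpowers y).subgroupOf _ ≃* J) :
    Nonempty (layer (centralizer (zpowers y : Set G)) ≃* J) ∧
      (layer (centralizer (zpowers y : Set G))).map (Subgroup.subtype _) = K := by
  have hK' : K ≤ centralizer (zpowers y : Set G) := fun k hk => by
    rintro _ ⟨n, rfl⟩
    exact (Commute.zpow_left (mem_centralizer_singleton_iff.1 (hK hk)).symm n).eq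
  have h := layer_eq (K := K.subgroupOf _) hJ (Z := (zpowers y).subgroupOf _) (fun z hz => by
      rw [mem_center_iff]
      exact fun g => Subtype.ext (g.2 _ hz).symm) (by
      rw [disjoint_iff, eq_bot_iff]
      rintro ⟨x, hx⟩ ⟨h1, h2⟩
      by_contra n
      have hx1 : x ≠ 1 := fun e => n (mem_bot.2 (Subtype.ext e))
      haveI := Fact.mk hp
      have : zpowers x = zpowers y := by
        have h3 : zpowers x ≤ zpowers y := zpowers_le.2 h2
        refine eq_of_le_of_card_ge h3 ?_
        have h4 : orderOf x ∣ p := hy ▸ orderOf_dvd_of_mem_zpowers h2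
        rw [Nat.card_zpowers, Nat.card_zpowers, hy]
        exact (((Nat.dvd_prime hp).1 h4).resolve_left fun e => hx1 (orderOf_eq_one_iff.1 e)).ge
      exact hyK (zpowers_le.2 (show x ∈ K from h1) (this ▸ mem_zpowers y))) e
    (by rwa [Nat.card_congr (subgroupOfEquivOfLe hK').toEquiv])
  rw [h.1]
  exact ⟨h.2, map_subgroupOf_eq_of_le hK'⟩

end Cfsg.Lib.Small.CoF5
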