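import Cfsg.Agent.Lib.Small.CoD1

/-! Centralisers of elements of odd order in `Co0` and `Co1`. -/

set_option autoImplicit false

namespace Cfsg.Lib.Small.CoJq

open Cfsg.Lib.Leech Cfsg.Lib.Golay Cfsg.Spor Cfsg.Lib.Forms Subgroup Cfsg.Lib.Small.Co1Z
  Cfsg.Lib.Small.CoT Cfsg.Lib.Small.CoD Cfsg.Agent.S5388

theorem normZ {G : Type*} [Group G] (b : G) :
    ((zpowers b).subgroupOf (centralizer (zpowers b : Set G))).Normal :=
  ⟨fun n hn g => by
    rw [mem_subgroupOf] at hn ⊢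
    show (g : G) * n * (g : G)⁻¹ ∈ _
    rwa [← g.2 n hn, mul_inv_cancel_right]⟩

theorem normS {G : Type*} [Group G] (b : G) :
    ((zpowers b ⊔ center G).subgroupOf (centralizer (zpowers b : Set G))).Normal :=
  ⟨fun n hn g => by
    rw [mem_subgroupOf] at hn ⊢
    show (g : G) * n * (g : G)⁻¹ ∈ _
    have : zpowers b ⊔ center G ≤ centralizer {(g : G)} := sup_le
      (fun x hx => mem_centralizer_singleton_iff.2 (g.2 x hx)) (center_le_centralizer _)
    rwa [← mem_centralizer_singleton_iff.1 (this hn), mul_inv_cancel_right]⟩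

theorem lift_comm {b m : Co0} {p : ℕ} (hp : Odd p) (hb : b ^ p = 1)
    (h : mk1 m * mk1 b = mk1 b * mk1 m) : m * b = b * m := by
  rw [← map_mul, ← map_mul] at h
  refine (mk1_eq_iff.1 h).resolve_right fun e => ?_
  have h1 : m * b * m⁻¹ = negOne * b := by rw [e, mul_assoc, mul_assoc, mul_inv_cancel, mul_one]
  have h2 := congrArg (· ^ p) h1
  obtain ⟨k, rfl⟩ := hp
  simp only [conj_pow, hb, mul_one, mul_inv_cancel] at h2
  rw [(show Commute negOne b from (negOne_comm b).symm).mul_pow, hb, mul_one, pow_succ, pow_mul, pow_two,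
    negOne_mul_self, one_pow, one_mul] at h2
  exact negOne_ne_one h2.symm

theorem transfer {b : Co0} {p : ℕ} (hp : Odd p) (hb : b ^ p = 1)
    [((zpowers (mk1 b)).subgroupOf (centralizer (zpowers (mk1 b) : Set Co1))).Normal]
    [((zpowers b ⊔ center Co0).subgroupOf (centralizer (zpowers b : Set Co0))).Normal] :
    Nonempty ((centralizer (zpowers (mk1 b) : Set Co1) ⧸ (zpowers (mk1 b)).subgroupOf _) ≃*
      centralizer (zpowers b : Set Co0) ⧸ (zpowers b ⊔ center Co0).subgroupOf _) := by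
  let j : centralizer (zpowers b : Set Co0) →* centralizer (zpowers (mk1 b) : Set Co1) :=
    (mk1.comp (Subgroup.subtype _)).codRestrict _ fun m => mcz.2 ((map_mul mk1 _ _).symm.trans
      ((congrArg mk1 (mcz.1 m.2)).trans (map_mul mk1 _ _)))
  have hj : Function.Surjective j := fun ⟨x, hx⟩ => by
    obtain ⟨m, rfl⟩ := mk1_surjective x
    exact ⟨⟨m, mcz.2 (lift_comm hp hb (mcz.1 hx))⟩, rfl⟩
  obtain ⟨e, -⟩ := exists_quot_equiv hj (Q := (zpowers (mk1 b)).subgroupOf _)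
    (QuotientGroup.mk'_surjective ((zpowers b ⊔ center Co0).subgroupOf _)) fun l => by
      have h : zpowers b ⊔ center Co0 = (zpowers (mk1 b)).comap mk1 := by
        rw [← MonoidHom.map_zpowers, comap_map_eq, QuotientGroup.ker_mk']
      rw [QuotientGroup.mk'_apply, QuotientGroup.eq_one_iff, mem_subgroupOf, mem_subgroupOf]
      exact (congrArg ((l : Co0) ∈ ·) h).to_iff
  exact ⟨e⟩

theorem base : ∃ (Q : Subgroup Co1) (ν : Co1 → V8) (a : Co1 → D8.isom), FG Q (mk1 ep) ν a ∧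
    mk1 (sgn o2 G1.1) ∈ Q ∧ ν (mk1 (sgn o2 G1.1)) ≠ 0 ∧
    ∃ g, g * mk1 ep * g⁻¹ ∈ Q ∧ g * mk1 ep * g⁻¹ ≠ mk1 ep := by
  obtain ⟨ρ, hρ⟩ := exists_rho
  have h0 := xt0 hρ
  have m0 : mk1 (sgn o2 G1.1) ∈ Q0 ρ := (mem_Q0 hρ (l := sL G1.1)).2 (sL_ker hρ G1)
  obtain ⟨σ, hσ, e⟩ := exists_M24_octad O0_mem (om_mem_octads (m := 0x149f00) (by decide +kernel))
  have e0' : mk1 (prm ⟨σ, hσ⟩) * mk1 ep * (mk1 (prm ⟨σ, hσ⟩))⁻¹ = mk1 (sgn o2 G1.1) := by
    rw [← map_inv, ← map_mul, ← map_mul, prm_sgn_conj]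
    simp only [e]
  generalize mk1 (prm ⟨σ, hσ⟩) = g at e0'
  have n0 : mk1 (sgn o2 G1.1) ≠ mk1 ep := fun e =>
    om_ne (by decide +kernel) ((θ_sL (hc := G1.1) (hd := cw_oo)).1 (Subtype.ext e))
  have n1 : mk1 (sgn o2 G1.1) ≠ 1 := fun e => h0.ne (by simpa using e0'.trans e)
  obtain ⟨M, hP, -⟩ := h0.exists_M m0 n1 n0 (by rw [← e0', conj_mul, h0.sq, mul_one, mul_inv_cancel])
    (v := e0) (by decide) (by show quadFormPlus 4 (ZMod 2) _ = 0; decide)
  have F := h0.fg M hP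
  exact ⟨_, _, _, F, m0, fun e => ((F.zero _ m0).1 e).elim n1 n0, g, e0' ▸ m0, e0' ▸ n0⟩

end Cfsg.Lib.Small.CoJq
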