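import Cfsg.Agent.Lib.Small.CoPr2

/-! `Co1` is the universal completion of the amalgam of `2^11:M24` and the centraliser of an octad involution. -/

set_option autoImplicit false
set_option maxRecDepth 100000

namespace Cfsg.Lib.Small.CoPr

open Cfsg.Lib.Leech Cfsg.Lib.Golay Cfsg.Spor Subgroup Cfsg.Lib.Small.CoU
open Cfsg.Lib.Small.Co1Z (LL)

theorem n1 : okN 1 S1 G1 F1 = true := by decide +kernel
theorem n2 : okN 2 S2 G2 F2 = true := by decide +kernel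
theorem n3 : okN 3 S3 G3 F3 = true := by decide +kernel
theorem n4 : okN 4 S4 G4 F4 = true := by decide +kernel
theorem n5 : okN 5 S5 G5 F5 = true := by decide +kernel

variable {Γ : Type*} [Group Γ] {M L : Subgroup (Γ × Co0)} {e : Γ × Co0} {t : ℕ → Γ × Co0} (H : Am M L e t)
include H

theorem Am.step {y : Γ × Co0} (h : DD M e t y) : DD M e t (y * e) := by
  obtain ⟨j, hj, a, ha, b⟩ := h
  have : DD M e t (ev e t (ws j) * ((a * ev e t (ws j))⁻¹ * y) * e) := by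
    generalize (a * ev e t (ws j))⁻¹ * y = y at b
    interval_cases j
    · refine ⟨1, by norm_num, _, mul_mem b (inv_mem (H.tM xq)), ?_⟩
      rw [show ev e t (ws 1) = t xq * e * 1 from ev_cons _ _, show ev e t (ws 0) = 1 from rfl]
      simp
    exacts [H.node hj n1 b, H.node hj n2 b, H.node hj n3 b, H.node hj n4 b, H.node hj n5 b]
  convert this.left ha using 1
  group

theorem Am.main {y : Γ × Co0} (h : y ∈ closure (insert e (M : Set (Γ × Co0)))) (h1 : y.2 = 1) : y = 1 := by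
  have : DD M e t y := by
    clear h1
    induction h using closure_induction_right with
    | one => exact ⟨0, by norm_num, 1, one_mem _, by simp [show ev e t (ws 0) = 1 from rfl]⟩
    | mul_right x _ z hz ih =>
      rcases hz with rfl | hz
      exacts [H.step ih, ih.right (by simpa using hz)]
    | mul_inv_cancel x _ z hz ih =>
      rcases hz with rfl | hz
      · rw [inv_eq_of_mul_eq_one_right H.e3, ← mul_assoc]; exact H.step (H.step ih)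
      · exact ih.right (by simpa using hz)
  obtain ⟨j, hj, a, ha, b⟩ := this
  rcases T_ok.2.2.2.2.1 j hj with rfl | c
  · rw [show ev e t (ws 0) = 1 from rfl, mul_one, mul_mem_cancel_left (inv_mem ha)] at b
    exact H.inj y b h1
  · have d := H.M2 _ b
    rw [Prod.snd_mul, h1, mul_one, Prod.snd_inv, inv_mem_iff, Prod.snd_mul, mul_mem_cancel_left (H.M2 a ha)] at d
    have r := (H.pth (allL_iff.1 (T_ok.2.2.2.1 j hj)) (x := 1) imp_id).2 _ _ (rep_e8 none) (sqNorm_e8 _).le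
    obtain ⟨k, f | f⟩ := Mono_smul_e8 d none <;> rw [one_mul, f] at r
    · exact absurd (r.eq_left (rep_e8 k)) (c _ (gc.idx_lt k)).1
    · exact absurd (r.eq_left (rep_neg (rep_e8 k) (sqNorm_e8 _).le)) (c _ (gc.idx_lt k)).2

theorem Am.le (L2 : ∀ y ∈ L, y.2 ∈ LL) (Ls : ∀ g ∈ LL, ∃ y ∈ L, y.2 = g) (Li : ∀ y ∈ L, y.2 = 1 → y = 1) :
    L ≤ closure (insert e (M : Set (Γ × Co0))) := by
  set K := closure (insert e (M : Set (Γ × Co0)))
  have hM : M ≤ K := fun y hy => subset_closure (.inr hy)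
  have : LL ≤ (L ⊓ K).map (MonoidHom.snd _ _) := LL_le (fun g hg => by
    obtain ⟨y, hy, rfl⟩ := Ls g hg.1
    exact ⟨y, ⟨hy, hM (H.ML y hy hg.2)⟩, rfl⟩) (by
    obtain ⟨y, hy, c⟩ := Ls _ (J_le xi_J)
    have a := T_ok.2.2.2.2.2
    have b := H.evL (w := [xq]) (by simpa using a.1)
    have d : ev e t [xq] = t xq * e := by simp [ev]
    have f : ev e t [xq] ∈ K := d ▸ K.mul_mem (hM (H.tM xq)) (subset_closure (.inl rfl))
    refine ⟨y, ⟨hy, (K.mul_mem_cancel_left (inv_mem f)).1 (hM (H.ML _ (mul_mem (inv_mem b) hy) ?_))⟩, c⟩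
    rw [d, Prod.snd_mul, Prod.snd_inv, Prod.snd_mul, H.t2, H.e2, c]
    exact ((cz_e (band_iff.1 a.1).1).cg a.2).mono (Imp.cz (f := apW xiW) (impl_elt xi_ok.1)))
  intro y hy
  obtain ⟨z, hz, c⟩ := this (L2 y hy)
  have := Li _ (mul_mem (inv_mem hz.1) hy) (by rw [Prod.snd_mul, Prod.snd_inv, inv_mul_eq_one]; exact c)
  exact inv_mul_eq_one.1 this ▸ hz.2

end Cfsg.Lib.Small.CoPr

namespace Cfsg.Lib.Small.CoU

open Cfsg.Lib.Leech Cfsg.Lib.Golay Cfsg.Spor Subgroup Cfsg.Lib.Small.CoPr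
open Cfsg.Lib.Small.Co1Z (LL)

theorem pres {Γ : Type*} [Group Γ] [Finite Γ] (Φ : LL →* Γ) (Ψ : Mono →* Γ)
    (h1 : ∀ x (a : x ∈ LL) (b : x ∈ Mono), Φ ⟨x, a⟩ = Ψ ⟨x, b⟩)
    (h2 : ∀ b : negOne ∈ Mono, Ψ ⟨negOne, b⟩ = 1)
    (h3 : ∀ (b : sg ∈ Mono) (l m : LL), Odd (orderOf l) → sg * l = m * sg → Ψ ⟨sg, b⟩ * Φ l = Φ m * Ψ ⟨sg, b⟩) :
    ∃ φ : Co1 →* Γ, (∀ l : LL, φ (mk1 l) = Φ l) ∧ ∀ n : Mono, φ (mk1 n) = Ψ n := by
  have e3 : (⟨ee, e_LL⟩ * (⟨ee, e_LL⟩ * ⟨ee, e_LL⟩) : LL) = 1 := Subtype.ext e_cube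
  have H : Am (Ψ.prod Mono.subtype).range (Φ.prod LL.subtype).range (Φ.prod LL.subtype ⟨ee, e_LL⟩)
      fun q => Ψ.prod Mono.subtype ⟨mo q, mo_mem q⟩ :=
    { tM := fun _ => ⟨_, rfl⟩
      t2 := fun _ => rfl
      M2 := by rintro _ ⟨n, rfl⟩; exact n.2
      ML := by rintro _ ⟨l, rfl⟩ h; exact ⟨⟨l, h⟩, Prod.ext (h1 _ l.2 h).symm rfl⟩
      LM := by rintro _ ⟨l, rfl⟩ h; exact ⟨⟨l, h⟩, Prod.ext (h1 _ h l.2) rfl⟩
      eL := ⟨_, rfl⟩
      e2 := rfl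
      e3 := by rw [← map_mul, ← map_mul, e3, map_one]
      inj := by rintro _ ⟨n, rfl⟩ h; rw [show n = 1 from Subtype.ext h, map_one]
      sgc := by
        have b : sg ∈ Mono := prm_mem_Mono _
        rw [show (⟨mo sgq, mo_mem _⟩ : Mono) = ⟨sg, b⟩⁻¹ from Subtype.ext mo_sg, map_inv]
        refine (Commute.inv_left (Prod.ext (h3 b _ _ ((by decide : Odd 3).of_dvd_nat (orderOf_dvd_of_pow_eq_one ?_))
          sg_e) sg_e)).eq
        rw [pow_succ', pow_two, e3] }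
  have hL := H.le (by rintro _ ⟨l, rfl⟩; exact l.2) (fun g h => ⟨_, ⟨⟨g, h⟩, rfl⟩, rfl⟩)
    (by rintro _ ⟨n, rfl⟩ h; rw [show n = 1 from Subtype.ext h, map_one])
  have hI := fun y => H.main (y := y)
  have hM : (Ψ.prod Mono.subtype).range ≤ _ := fun y hy => subset_closure
    (Set.mem_insert_of_mem (Φ.prod LL.subtype ⟨ee, e_LL⟩) hy)
  generalize (Subgroup.closure _ : Subgroup (Γ × Co0)) = K at hL hI hM
  let p : K →* Co0 := (MonoidHom.snd _ _).comp K.subtype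
  let E := MulEquiv.ofBijective p ⟨(injective_iff_map_eq_one p).2 fun y h => Subtype.ext (hI _ y.2 h),
    MonoidHom.range_eq_top.1 (top_of (fun g h => ⟨⟨_, hM ⟨⟨g, h⟩, rfl⟩⟩, rfl⟩) fun g h => ⟨⟨_, hL ⟨⟨g, h⟩, rfl⟩⟩, rfl⟩)⟩
  let f : Co0 →* Γ := ((MonoidHom.fst _ _).comp K.subtype).comp E.symm.toMonoidHom
  have hf : ∀ y : K, f y.1.2 = y.1.1 := fun y => congrArg (fun z : K => z.1.1) (E.symm_apply_apply y)
  refine ⟨QuotientGroup.lift _ f fun g hg => ?_, fun l => hf ⟨_, hL ⟨l, rfl⟩⟩, fun n => hf ⟨_, hM ⟨n, rfl⟩⟩⟩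
  rcases Leech.mem_center_iff.1 hg with rfl | rfl
  exacts [map_one f, (hf ⟨_, hM ⟨⟨_, sgn_mem_Mono _ _⟩, rfl⟩⟩).trans (h2 _)]

end Cfsg.Lib.Small.CoU
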