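import Cfsg.Agent.Lib.Leech.Co3Orb
import Cfsg.Agent.Lib.Leech.Pairs
import Cfsg.Agent.Lib.Golay.Trio

/-! Counts of minimal vectors of the rank-24 lattice by shape. -/

set_option autoImplicit false

namespace Cfsg.Lib.Small.MaxA

open Cfsg.Lib.Leech Cfsg.Lib.Golay Cfsg.Spor

/-- all digits divisible by four -/
noncomputable def four (n : ℕ) : Bool := allN 24 fun i => Nat.beq (Nat.mod (app n i) 4) 0

theorem four_iff {n : ℕ} {v : leechLattice} (h : Rep n v) :
    (∀ l, 4 ∣ (v : GolayPt → ℤ) l) ↔ four n = true := by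
  rw [four, allN_iff]
  constructor
  · intro H i hi
    have := H (gc.pt i)
    rw [h.apply_pt hi] at this
    rw [beq_iff]
    show app n i % 4 = 0
    omega
  · intro H l
    have := H (gc.idx l) (gc.idx_lt l)
    rw [beq_iff] at this
    change app n (gc.idx l) % 4 = 0 at this
    rw [h.apply]
    omega

def SA : Set leechLattice := {v | v ∈ MinV ∧ ∀ l, 4 ∣ (v : GolayPt → ℤ) l}
def SB : Set leechLattice :=
  {v | v ∈ MinV ∧ 2 ∣ (v : GolayPt → ℤ) none ∧ ¬ ∀ l, 4 ∣ (v : GolayPt → ℤ) l}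
def SC : Set leechLattice := {v | v ∈ MinV ∧ ¬ 2 ∣ (v : GolayPt → ℤ) none}

set_option maxRecDepth 100000 in
theorem cntAC : SA.ncard = 1104 ∧ SC.ncard = 98304 :=
  ncard_min_two _ _ four (fun n => Nat.beq (Nat.mod (app n 23) 2) 1)
    (fun y v h _ => four_iff h)
    (fun y v h _ => by
      rw [h.at_inf, beq_iff]; show _ ↔ app y 23 % 2 = 1; omega)
    (by norm_num) (by decide +kernel)

/-- orthogonal to `U`, with value `±k` at the extra point -/
def DK (k : ℤ) : Set leechLattice :=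
  {v | v ∈ MinV ∧ ip leechU v = 0 ∧ ((v : GolayPt → ℤ) none = k ∨ (v : GolayPt → ℤ) none = -k)}
def D0a : Set leechLattice :=
  {v | v ∈ MinV ∧ ip leechU v = 0 ∧ (v : GolayPt → ℤ) none = 0 ∧ ∀ l, 4 ∣ (v : GolayPt → ℤ) l}
def D0b : Set leechLattice :=
  {v | v ∈ MinV ∧ ip leechU v = 0 ∧ (v : GolayPt → ℤ) none = 0 ∧ ¬ ∀ l, 4 ∣ (v : GolayPt → ℤ) l}

set_option maxRecDepth 100000 in
theorem cnt12 : (DK 1).ncard = 45056 ∧ (DK 2).ncard = 4928 :=
  ncard_min_two _ _
    (fun n => band (Nat.beq (dU n) 16) (bor (Nat.beq (app n 23) 9) (Nat.beq (app n 23) 7)))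
    (fun n => band (Nat.beq (dU n) 16) (bor (Nat.beq (app n 23) 10) (Nat.beq (app n 23) 6)))
    (fun y v h _ => by
      rw [band_iff, bor_iff, ip, h.dot_U, h.at_inf, beq_iff, beq_iff, beq_iff]; omega)
    (fun y v h _ => by
      rw [band_iff, bor_iff, ip, h.dot_U, h.at_inf, beq_iff, beq_iff, beq_iff]; omega)
    (by norm_num) (by decide +kernel)

set_option maxRecDepth 100000 in
theorem cnt40 : (DK 4).ncard = 2 ∧ D0a.ncard = 924 :=
  ncard_min_two _ _
    (fun n => band (Nat.beq (dU n) 16) (bor (Nat.beq (app n 23) 12) (Nat.beq (app n 23) 4)))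
    (fun n => band (Nat.beq (dU n) 16) (band (Nat.beq (app n 23) 8) (four n)))
    (fun y v h _ => by
      rw [band_iff, bor_iff, ip, h.dot_U, h.at_inf, beq_iff, beq_iff, beq_iff]; omega)
    (fun y v h _ => by
      rw [band_iff, band_iff, ip, h.dot_U, h.at_inf, beq_iff, beq_iff, four_iff h]
      refine and_congr (by omega) (and_congr (by omega) Iff.rfl))
    (by norm_num) (by decide +kernel)

end Cfsg.Lib.Small.MaxA
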