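import Cfsg.Agent.Lib.Small.CoU0
import Cfsg.Agent.Lib.Comp.Pres
import Cfsg.Agent.Lib.Leech.Orb
import Cfsg.Agent.S1572

/-! Legal relators for the amalgam of the monomial group and an involution centraliser of `Co0`. -/

set_option autoImplicit false

namespace Cfsg.Lib.Small.CoU

open Cfsg.Lib.Leech Cfsg.Lib.Golay Cfsg.Spor Subgroup Cfsg.Lib.Small.CoT
open Cfsg.Lib.Small.Co1Z (LL ep oo cw_oo sgn_LL prm_LL)
open Cfsg.Lib.Comp (ev cl Idx Rels IvOK ev_nil ev_cons ev_single ev_map ev_mem ev_prod cl_le mem_cl cl_map cl_mono)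
open scoped Pointwise

universe u

/-! ### words in packed matrices -/

section
variable (mw : ℕ → ℕ)

noncomputable def me (x : ℕ) : Co0 := bif' (okW (mw x)) (elt (mw x)) 1
noncomputable def apL (u : List ℕ) (n : ℕ) : ℕ := List.rec (motive := fun _ => ℕ) n (fun x _ m => apW (mw x) m) u
noncomputable def apP (u : List ℕ) (e n : ℕ) : ℕ := Nat.rec (motive := fun _ => ℕ) n (fun _ m => apL mw u m) e
def ng (n : ℕ) : ℕ := Nat.sub 0x101010101010101010101010101010101010101010101010 n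
noncomputable def oneB (r : List ℕ × ℕ) : Bool := allN 24 fun j => Nat.beq (apP mw r.1 (r.2 + 1) (e8C j)) (e8C j)
noncomputable def pmB (r : List ℕ × ℕ) : Bool :=
  bif' (oneB mw r) true (allN 24 fun j => Nat.beq (apP mw r.1 (r.2 + 1) (e8C j)) (ng (e8C j)))
/-- all letters are good matrices -/
def OK (L : List ℕ) : Prop := ∀ x ∈ L, okW (mw x) = true

variable {mw}

theorem impl_me {x : ℕ} (h : okW (mw x) = true) : Impl (me mw x) (mw x) := by
  rw [me, bif'_pos h]; exact impl_elt h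

theorem impl_ev {u : List ℕ} (hu : OK mw u) {n : ℕ} {v : leechLattice} (h : Rep n v)
    (hv : sqNorm (v : GolayPt → ℤ) ≤ 64) : Rep (apL mw u n) (ev (me mw) u • v) := by
  induction u with
  | nil => rw [ev_nil, one_smul]; exact h
  | cons x t ih =>
    rw [ev_cons, mul_smul]
    exact impl_me (hu x (by simp)) _ _ (ih fun y hy => hu y (by simp [hy])) (by rw [sqNorm_smul]; exact hv)

theorem impl_pow {u : List ℕ} (hu : OK mw u) (e : ℕ) {n : ℕ} {v : leechLattice} (h : Rep n v)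
    (hv : sqNorm (v : GolayPt → ℤ) ≤ 64) : Rep (apP mw u e n) (ev (me mw) u ^ e • v) := by
  induction e with
  | zero => rw [pow_zero, one_smul]; exact h
  | succ e ih => rw [pow_succ', mul_smul]; exact impl_ev hu ih (by rw [sqNorm_smul]; exact hv)

theorem one_of_oneB {r : List ℕ × ℕ} (hu : OK mw r.1) (h : oneB mw r = true) : ev (me mw) r.1 ^ (r.2 + 1) = 1 :=
  co0_ext_e8 fun i => by
    rw [one_smul]
    exact (impl_pow hu (r.2 + 1) (rep_e8 i) (sqNorm_e8 i).le).eq_right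
      (by rw [beq_iff.1 (allN_iff.1 h _ (gc.idx_lt i))]; exact rep_e8 i)

theorem pm_of_pmB {r : List ℕ × ℕ} (hu : OK mw r.1) (h : pmB mw r = true) :
    mk1 (ev (me mw) r.1 ^ (r.2 + 1)) = 1 := by
  rw [mk1_eq_one]
  by_cases h1 : oneB mw r = true
  · exact .inl (one_of_oneB hu h1)
  · rw [pmB, bif'_neg h1] at h
    refine .inr (co0_ext_e8 fun i => ?_)
    rw [negOne_smul]
    exact (impl_pow hu (r.2 + 1) (rep_e8 i) (sqNorm_e8 i).le).eq_right (by
      rw [beq_iff.1 (allN_iff.1 h _ (gc.idx_lt i))]; exact rep_neg (rep_e8 i) (sqNorm_e8 i).le)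

/-- the word `w` is the coordinate permutation with code `k` -/
theorem ev_eq_prm {w : List ℕ} (hu : OK mw w) {k : ℕ} (hk : gc.InH M24 k)
    (h : allN 24 (fun j => Nat.beq (apL mw w (e8C j)) (e8C (app k j))) = true) :
    ev (me mw) w = prm ⟨_, hk.2⟩ := co0_ext_e8 fun i => by
  rw [prm_smul_e8]
  refine (impl_ev hu (rep_e8 i) (sqNorm_e8 i).le).eq_right ?_
  rw [beq_iff.1 (allN_iff.1 h _ (gc.idx_lt i)), ← hk.1.idx_dec]; exact rep_e8 _

/-- the word `w` is the sign change with mask `m` -/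
theorem ev_eq_sgn {w : List ℕ} (hu : OK mw w) {m : ℕ} (hm : Cw (om m))
    (h : allN 24 (fun j => Nat.beq (apL mw w (e8C j)) (bif' (tb m j) (ng (e8C j)) (e8C j))) = true) :
    ev (me mw) w = sgn _ hm := co0_ext_e8 fun i => by
  rw [sgn_smul_e8]
  refine (impl_ev hu (rep_e8 i) (sqNorm_e8 i).le).eq_right ?_
  rw [beq_iff.1 (allN_iff.1 h _ (gc.idx_lt i)), bif'_eq, tb_eq]
  simp only [Coding.mem_ofMask]
  split_ifs
  exacts [rep_neg (rep_e8 i) (sqNorm_e8 i).le, rep_e8 i]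

end

/-! ### tests for single matrices -/

noncomputable def pW (W i : ℕ) : ℕ := findN 24 fun j => bnot (Nat.beq (app (apW W (e8C i)) j) 8)
noncomputable def monoB (W : ℕ) : Bool :=
  bor (Nat.beq (apW W (e8C 23)) (e8C (pW W 23 % 24))) (Nat.beq (apW W (e8C 23)) (ng (e8C (pW W 23 % 24))))
/-- block diagonal for the partition with block numbers `t` -/
noncomputable def blk (t : ℕ → ℕ) (W : ℕ) : Bool := allN 24 fun i => forceN (apW W (e8C i)) fun y => allN 24 fun k =>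
  bor (Nat.beq (t i) (t k)) (Nat.beq (app y k) 8)
def tetN : ℕ := 0x504030402010503010502020303020404010501000000
def tet (i : GolayPt) : ℕ := app tetN (gc.idx i)
noncomputable def ntB (W : ℕ) : Bool := band (monoB W) (forceN (packN 8 (fun i => app tetN (pW W i)) 24) fun y =>
  allN 24 fun i => allN 24 fun k => Nat.beq (bif' (Nat.beq (app y i) (app y k)) 1 0)
    (bif' (Nat.beq (app tetN i) (app tetN k)) 1 0))

variable {g : Co0} {W : ℕ}

theorem mono_of (h : Impl g W) (h2 : monoB W = true) : g ∈ Mono := by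
  have r : Leech.Rep (apW W (e8C 23)) _ := h _ _ (rep_e8 none) (sqNorm_e8 _).le
  have r2 := rep_e8 (gc.pt (pW W 23 % 24))
  rw [gc.idx_pt _ (Nat.mod_lt _ (by norm_num) : _ < 24)] at r2
  refine mem_Mono_of (i := none) (j := gc.pt (pW W 23 % 24))
    ((bor_iff.1 h2).imp (fun e => r.eq_right ?_) fun e => r.eq_right ?_)
  · rw [beq_iff.1 e]; exact r2
  · rw [beq_iff.1 e]; exact rep_neg r2 (sqNorm_e8 _).le

theorem comm_of_blk {t : ℕ → ℕ} (h : Impl g W) (h2 : blk t W = true) {c : Finset GolayPt} (hc : Cw c)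
    (ht : ∀ i k, t (gc.idx i) = t (gc.idx k) → (i ∈ c ↔ k ∈ c)) : sgn c hc * g = g * sgn c hc := by
  refine co0_ext_e8 fun i => ?_
  have r := h _ _ (rep_e8 i) (sqNorm_e8 i).le
  have h3 := allN_iff.1 h2 _ (gc.idx_lt i)
  rw [forceN_eq, allN_iff] at h3
  have key : ∀ k, (i ∈ c ↔ k ∈ c) ∨ ((g • e8 i : leechLattice) : GolayPt → ℤ) k = 0 := fun k =>
    (bor_iff.1 (h3 _ (gc.idx_lt k))).imp (fun e => ht _ _ (beq_iff.1 e)) fun e => by rw [r.apply, beq_iff.1 e]; rfl
  rw [mul_smul, mul_smul, sgn_smul_e8]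
  refine Subtype.ext (funext fun k => ?_)
  rw [sgn_smul]
  rcases key k with e | e
  · by_cases hi : i ∈ c
    · rw [if_pos hi, if_pos (e.1 hi), co0_smul_neg]; rfl
    · rw [if_neg hi, if_neg (e.not.1 hi)]
  · split_ifs <;> simp [co0_smul_neg, e]

theorem comm_of_bit {m : ℕ} (h : Impl g W) (h2 : blk (bitN m) W = true) (hc : Cw (om m)) :
    sgn _ hc * g = g * sgn _ hc := comm_of_blk h h2 hc fun i k e => by
  rw [bitN_eq, bitN_eq] at e
  simp only [Coding.mem_ofMask]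
  revert e
  generalize Nat.testBit _ (gc.idx i) = a
  generalize Nat.testBit _ (gc.idx k) = b
  revert a b; decide

theorem pW_eq (h : Impl g W) (hg : g ∈ Mono) (i : GolayPt) :
    pW W (gc.idx i) = gc.idx ((monoPerm ⟨g, hg⟩).1 i) := by
  obtain ⟨c, hc, e⟩ := exists_sgn_monoPerm ⟨g, hg⟩
  have r := h _ _ (rep_e8 i) (sqNorm_e8 i).le
  refine findN_eq (gc.idx_lt _) fun j hj => ?_
  have := r.apply_pt hj
  rw [show g • e8 i = _ from (congrArg (· • e8 i) e).trans (sgn_prm_smul_e8 _ _ _ _)] at this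
  rw [bnot_iff, beq_iff]
  generalize (monoPerm ⟨g, hg⟩).1 i = l at *
  have a : gc.pt j = l ↔ j = gc.idx l := ⟨fun e => by rw [← e, gc.idx_pt j hj], fun e => by rw [e, gc.pt_idx]⟩
  rw [← a]
  split_ifs at this <;> simp only [NegMemClass.coe_neg, Pi.neg_apply, e8_apply] at this <;>
    split_ifs at this with b <;> simp only [b, iff_true, iff_false] <;> omega

/-! ### the sextet -/

def Tq (c : Finset GolayPt) : Prop := ∀ i k, tet i = tet k → (i ∈ c ↔ k ∈ c)
def J : Subgroup Co0 := centralizer {g | ∃ c hc, Tq c ∧ g = sgn c hc}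
def NP : Subgroup (Equiv.Perm GolayPt) where
  carrier := {σ | ∀ i k, tet (σ i) = tet (σ k) ↔ tet i = tet k}
  one_mem' := fun _ _ => Iff.rfl
  mul_mem' := fun ha hb i k => (ha _ _).trans (hb i k)
  inv_mem' := fun {a} ha i k => by simpa using (ha (a⁻¹ i) (a⁻¹ k)).symm
noncomputable def NT : Subgroup Co0 := ((NP.subgroupOf M24).comap monoPerm).map Mono.subtype

theorem mem_NT {m : Co0} : m ∈ NT ↔ ∃ h : m ∈ Mono, (monoPerm ⟨m, h⟩).1 ∈ NP :=
  ⟨fun ⟨a, h, e⟩ => e ▸ ⟨a.2, h⟩, fun ⟨h, e⟩ => ⟨⟨m, h⟩, e, rfl⟩⟩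

theorem NT_le : NT ≤ Mono := map_subtype_le _

theorem tq_oo : Tq oo := by simp only [Tq, Coding.mem_ofMask]; decide +kernel

theorem J_le : J ≤ LL := centralizer_le (by rintro _ rfl; exact ⟨_, _, tq_oo, rfl⟩)

theorem J_of (h : Impl g W) (h2 : blk (app tetN) W = true) : g ∈ J := by
  rintro _ ⟨c, hc, ht, rfl⟩; exact comm_of_blk h h2 hc ht

theorem NT_of (h : Impl g W) (h2 : ntB W = true) : g ∈ NT := by
  rw [ntB, band_iff, forceN_eq] at h2
  have hg := mono_of h h2.1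
  refine mem_NT.2 ⟨hg, fun i k => ?_⟩
  have := beq_iff.1 (allN_iff.1 (allN_iff.1 h2.2 _ (gc.idx_lt i)) _ (gc.idx_lt k))
  rw [app_packN _ 24 (fun i _ => app_lt _ _) _ (gc.idx_lt i), app_packN _ 24 (fun i _ => app_lt _ _) _ (gc.idx_lt k),
    pW_eq h hg, pW_eq h hg, bif'_eq, bif'_eq] at this
  simp only [beq_iff] at this
  unfold tet
  split_ifs at this <;> simp_all

theorem conj_sgn {m : Co0} (hm : m ∈ Mono) {c : Finset GolayPt} (hc : Cw c) :
    m * sgn c hc * m⁻¹ = sgn _ (cw_smul (monoPerm ⟨m, hm⟩).2 hc) := by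
  obtain ⟨d, hd, e⟩ := exists_sgn_monoPerm ⟨m, hm⟩
  replace e : m = _ := e
  generalize monoPerm ⟨m, hm⟩ = σ at *
  rw [e, mul_inv_rev, mul_assoc, mul_assoc, ← mul_assoc (sgn c hc), ← mul_assoc (prm σ),
    ← mul_assoc (prm σ), prm_sgn_conj, Sgn_comm (sgn_mem_Sgn _ _) (inv_mem (sgn_mem_Sgn _ _)), mul_inv_cancel_left]

theorem Tq.smul {c : Finset GolayPt} (h : Tq c) {σ : Equiv.Perm GolayPt} (hσ : σ ∈ NP) : Tq (σ • c) := fun i k e => by
  rw [mem_perm_smul, mem_perm_smul]; exact h _ _ ((inv_mem hσ i k).2 e)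

theorem NT_J {m l : Co0} (hm : m ∈ NT) (hl : l ∈ J) : m * l * m⁻¹ ∈ J := by
  rintro _ ⟨c, hc, ht, rfl⟩
  obtain ⟨h, e⟩ := mem_NT.1 (inv_mem hm)
  have := hl _ ⟨_, _, ht.smul e, conj_sgn h hc⟩
  calc _ = m * (m⁻¹ * sgn c hc * m⁻¹⁻¹ * l) * m⁻¹ := by group
    _ = _ := by rw [this]; group

theorem prm_NT {k : ℕ} (hk : gc.InH M24 k) (h : ∀ i < 24, ∀ j < 24, app tetN (app k i) = app tetN (app k j) ↔
    app tetN i = app tetN j) : prm ⟨_, hk.2⟩ ∈ NT := mem_NT.2 ⟨prm_mem_Mono _, fun i j => by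
  rw [monoPerm_eq (c := ∅) (hc := cw_empty) (σ := ⟨_, hk.2⟩) (by rw [sgn_empty, one_mul])]
  unfold tet
  rw [hk.1.idx_dec, hk.1.idx_dec]; exact h _ (gc.idx_lt i) _ (gc.idx_lt j)⟩

def gT : List ℕ := [0x30806101314171216000c0f090d040a0715020b0111050e, 0x13100a040b11060f0515080c140912160d0e0703170201]
noncomputable def uw (w : List ℕ) : ℕ := List.rec (idN 24) (fun x _ r => mulN 24 ((gT ++ [sg1]).getD x 0) r) w
def uws : List (List ℕ) := [[], [2], [0, 2], [0, 0, 2], [1, 0, 2], [2, 0, 2], [1, 0, 0, 2], [2, 0, 0, 2], [0, 1, 0, 2],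
  [2, 1, 0, 2], [0, 2, 0, 2], [0, 2, 0, 0, 2], [0, 0, 2, 0, 2], [1, 0, 2, 0, 0, 2], [1, 0, 0, 2, 0, 2]]

set_option maxRecDepth 100000 in
theorem oct15 {c : Finset GolayPt} (hc : Cw c) (ht : Tq c) (h8 : c.card = 8) :
    ∃ w ∈ uws, om (imgN 24 (uw w) 0x82402f) = c := by
  obtain ⟨m, hm, rfl⟩ := exists_isCw hc
  have := allCw (q := fun m => bif' (allN 24 fun i => Nat.beq (bitN m i)
    (bitN m (app 0x406090608030409030408080909080606030403000000 i))) (bif' (Nat.beq (popN 24 m) 8)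
    (bnot (allL uws fun w => bnot (Nat.beq (imgN 24 (uw w) 0x82402f) m))) true) true) (by decide +kernel) hm
  rw [bif'_pos (allN_iff.2 fun i hi => ?_), bif'_pos (beq_iff.2 (show popN 24 m = 8 from (gc.card_ofMask m).symm.trans h8)), bnot_iff,
    allL_iff] at this
  · push Not at this
    obtain ⟨w, hw, e⟩ := this
    exact ⟨w, hw, congrArg om (by simpa [bnot_iff, beq_iff] using e)⟩
  · have a : app 0x406090608030409030408080909080606030403000000 i < 24 ∧
      app tetN i = app tetN (app 0x406090608030409030408080909080606030403000000 i) := by revert i; decide +kernel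
    have := ht (gc.pt i) (gc.pt (app 0x406090608030409030408080909080606030403000000 i)) (by unfold tet; rw [gc.idx_pt _ hi, gc.idx_pt _ a.1]; exact a.2)
    simp only [Coding.mem_ofMask, gc.idx_pt _ hi, gc.idx_pt _ a.1] at this
    rw [beq_iff, bitN_eq, bitN_eq, Bool.eq_iff_iff.2 this]

end Cfsg.Lib.Small.CoU
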