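import Cfsg.Agent.Lib.Small.CoPT

/-! Graph subgroups for the amalgam of the monomial group and an involution centraliser of `Co0`. -/

set_option autoImplicit false

namespace Cfsg.Lib.Small.CoU

open Cfsg.Lib.Leech Cfsg.Lib.Golay Cfsg.Spor Subgroup Cfsg.Lib.Small.CoT Function
open Cfsg.Lib.Small.Co1Z (LL ep oo cw_oo sgn_LL prm_LL)
open Cfsg.Lib.Comp (ev cl Idx Rels IvOK ev_nil ev_cons ev_single ev_map ev_mem ev_prod cl_le mem_cl cl_map cl_mono
  cl_eq_clw mem_clw)
open scoped Pointwise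

universe u

variable {Γ : Type u} [Group Γ] (Φ : LL →* Γ) (Ψ : Mono →* Γ)

structure Am : Prop where
  h1 : ∀ x (a : x ∈ LL) (b : x ∈ Mono), Φ ⟨x, a⟩ = Ψ ⟨x, b⟩
  h2 : ∀ b : negOne ∈ Mono, Ψ ⟨negOne, b⟩ = 1
  h3 : ∀ (b : sg ∈ Mono) (l m : LL), Odd (orderOf l) → sg * l = m * sg → Ψ ⟨sg, b⟩ * Φ l = Φ m * Ψ ⟨sg, b⟩

open Classical in
noncomputable def ψ (g : Co0) : Γ := if h : g ∈ Mono then Ψ ⟨g, h⟩ else if h : g ∈ LL then Φ ⟨g, h⟩ else 1
/-- graph point -/
noncomputable abbrev gr (g : Co0) : Co0 × Γ := (g, ψ Φ Ψ g)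
noncomputable def μ (mw : ℕ → ℕ) (x : ℕ) : Co1 := mk1 (me mw x)
noncomputable def δ (mw : ℕ → ℕ) (x : ℕ) : Co1 × Γ := (μ mw x, ψ Φ Ψ (me mw x))
def Gr (mw : ℕ → ℕ) (L : List ℕ) : Prop := ∀ a ∈ cl (δ Φ Ψ mw) L, a.1 = 1 → a.2 = 1
def SJ : Set (Co0 × Γ) := {p | p.1 ∈ J ∧ p.2 = ψ Φ Ψ p.1 ∧ (Odd (orderOf p.1) ∨ p.1 ∈ Mono)}
def Zp (m : Co0) : Prop := ∀ l ∈ J, Odd (orderOf l) → ψ Φ Ψ (m * l * m⁻¹) = ψ Φ Ψ m * ψ Φ Ψ l * (ψ Φ Ψ m)⁻¹
abbrev GM : Subgroup (Co0 × Γ) := (Mono.subtype.prod Ψ).range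
abbrev GLL : Subgroup (Co0 × Γ) := (LL.subtype.prod Φ).range

variable {Φ Ψ} {mw : ℕ → ℕ} {L L' : List ℕ} {g : Co0}

theorem ψ_M (h : g ∈ Mono) : ψ Φ Ψ g = Ψ ⟨g, h⟩ := dif_pos h

theorem mem_GM {p : Co0 × Γ} : p ∈ GM Ψ ↔ p.1 ∈ Mono ∧ p.2 = ψ Φ Ψ p.1 :=
  ⟨fun ⟨a, e⟩ => e ▸ ⟨a.2, (ψ_M a.2).symm⟩, fun ⟨h, e⟩ => ⟨⟨_, h⟩, Prod.ext rfl ((ψ_M h).symm.trans e.symm)⟩⟩

theorem mulM {a b : Co0} (ha : a ∈ Mono) (hb : b ∈ Mono) : ψ Φ Ψ (a * b) = ψ Φ Ψ a * ψ Φ Ψ b :=
  (mem_GM.1 (mul_mem ((mem_GM (p := gr Φ Ψ a)).2 ⟨ha, rfl⟩) ((mem_GM (p := gr Φ Ψ b)).2 ⟨hb, rfl⟩))).2.symm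

theorem ψ_one : ψ Φ Ψ 1 = 1 := (mem_GM.1 (one_mem (GM Ψ))).2.symm

theorem n_M : negOne ∈ Mono := Sgn_le_Mono negOne_mem_Sgn
theorem n_L : negOne ∈ LL := mem_centralizer_singleton_iff.2 (negOne_comm _).symm

theorem gr_of (D : Subgroup (Co0 × Γ)) (hD : ∀ p ∈ D, p.1 = 1 ∨ p.1 = negOne → p.2 = 1)
    (hL : ∀ x ∈ L, gr Φ Ψ (me mw x) ∈ D) : Gr Φ Ψ mw L := fun a ha e => by
  obtain ⟨p, hp, rfl⟩ := (cl_le (H := D.map (mk1.prodMap (MonoidHom.id Γ)))).2 (fun x hx => ⟨_, hL x hx, rfl⟩) ha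
  exact hD p hp (mk1_eq_one.1 e)

theorem Gr.mono (h : Gr Φ Ψ mw L) (hL : ∀ x ∈ L', x ∈ L) : Gr Φ Ψ mw L' := fun a ha => h a (cl_mono hL ha)

theorem Gr.rel (h : Gr Φ Ψ mw L) (ok : OK mw L) {r : List ℕ × ℕ} (hr : ∀ x ∈ r.1, x ∈ L) (e : pmB mw r = true) :
    ev (δ Φ Ψ mw) r.1 ^ (r.2 + 1) = 1 := by
  have e1 : (ev (δ Φ Ψ mw) r.1 ^ (r.2 + 1)).1 = 1 := by
    rw [← pm_of_pmB (fun x hx => ok x (hr x hx)) e, map_pow, ev_map]
    exact (map_pow (MonoidHom.fst Co1 Γ) _ _).trans (congrArg (· ^ _) (ev_map _ (MonoidHom.fst Co1 Γ) _))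
  exact Prod.ext e1 (h _ (pow_mem (ev_mem fun x hx => mem_cl (hr x hx)) _) e1)

/-- all relators of `R` over the letters of `L` that hold in `Co1` -/
theorem Gr.rels (h : Gr Φ Ψ mw L) (ok : OK mw L) {R : List (List ℕ × ℕ)}
    (hR : allL R (fun r => band (Lib.Comp.subB r.1 L) (pmB mw r)) = true) : Rels (δ Φ Ψ mw) R := fun r hr =>
  have := band_iff.1 (allL_iff.1 hR r hr)
  h.rel ok (Lib.Comp.sub_of_subB this.1) this.2

theorem map_fst : (cl (δ Φ Ψ mw) L).map (MonoidHom.fst _ _) = cl (μ mw) L := cl_map _ _ _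

theorem card_eq [Finite Γ] : Nat.card (cl (δ Φ Ψ mw) L) =
    Nat.card ((MonoidHom.fst _ _).comp (cl (δ Φ Ψ mw) L).subtype).ker * Nat.card (cl (μ mw) L) := by
  rw [← card_mul_index ((MonoidHom.fst _ _).comp (cl (δ Φ Ψ mw) L).subtype).ker, index_ker, ← MonoidHom.map_range,
    range_subtype, map_fst]

theorem gr_iff : Gr Φ Ψ mw L ↔ ((MonoidHom.fst _ _).comp (cl (δ Φ Ψ mw) L).subtype).ker = ⊥ := by
  rw [eq_bot_iff_forall]
  exact ⟨fun h a e => Subtype.ext (Prod.ext e (h a a.2 e)), fun h a ha e => congrArg (·.1.2) (h ⟨a, ha⟩ e)⟩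

theorem Gr.step [Finite Γ] (h : Gr Φ Ψ mw L') {iv : ℕ → ℕ} {R : List (List ℕ × ℕ)} {n m : ℕ}
    (hI : Idx.{u} iv R (L'.map fun x => [x]) L n) (hiv : IvOK (δ Φ Ψ mw) iv) (hR : Rels (δ Φ Ψ mw) R)
    (lb : m * Nat.card (cl (μ mw) L') ≤ Nat.card (cl (μ mw) L)) (hn : n < 2 * m) : Gr Φ Ψ mw L := by
  have h1 := (hI.card_le (cl (δ Φ Ψ mw) L') hiv hR fun w hw => by rw [← cl_eq_clw]; exact mem_clw hw).2
  rw [card_eq, card_eq (L := L'), gr_iff.1 h, card_bot, one_mul] at h1
  rw [gr_iff, ← card_le_one_iff_eq_bot]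
  have := Nat.card_pos (α := cl (μ mw) L')
  by_contra c
  nlinarith

theorem card_mu {v : leechLattice} {n : ℕ} (ok : OK mw L) (hv : Leech.Rep n v) (h32 : sqNorm (v : GolayPt → ℤ) = 32)
    (h : allL L (fun x => Nat.beq (apW (mw x) n) n) = true) :
    cl (me mw) L ≤ MulAction.stabilizer Co0 v ∧ Nat.card (cl (μ mw) L) = Nat.card (cl (me mw) L) := by
  have a : cl (me mw) L ≤ MulAction.stabilizer Co0 v := cl_le.2 fun x hx =>
    ((impl_me (ok x hx)).smul_eq hv (by omega) hv).2 (beq_iff.1 (allL_iff.1 h x hx))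
  refine ⟨a, ?_⟩
  rw [show cl (μ mw) L = _ from (cl_map _ mk1 _).symm, ← range_subtype (cl (me mw) L), MonoidHom.map_range,
    ← index_ker, (MonoidHom.ker_eq_bot_iff _).2, index_bot, range_subtype]
  refine (injective_iff_map_eq_one _).2 fun g e => Subtype.ext ((mk1_eq_one.1 e).resolve_right fun e => ?_)
  have := a g.2
  rw [show g.1 = _ from e, MulAction.mem_stabilizer_iff, negOne_smul] at this
  have e2 : v = 0 := by
    refine Subtype.ext (funext fun i => ?_)
    have := congrArg (fun w : leechLattice => (w : GolayPt → ℤ) i) this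
    simp only [NegMemClass.coe_neg, Pi.neg_apply] at this
    simp only [ZeroMemClass.coe_zero, Pi.zero_apply]; omega
  rw [e2, ZeroMemClass.coe_zero, sqNorm_zero] at h32
  omega

/-- the letters `L` fix the vector `n`, those of `L'` fix `x0`, whose orbit has at least `m` points -/
theorem lb_orb (hL : ∀ x ∈ L', x ∈ L) (ok : OK mw L) {v w : leechLattice} {n x0 p d a m : ℕ} (hv : Leech.Rep n v)
    (h32 : sqNorm (v : GolayPt → ℤ) = 32) (hw : Leech.Rep x0 w) (h32' : sqNorm (w : GolayPt → ℤ) = 32)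
    (h : allL L (fun x => Nat.beq (apW (mw x) n) n) = true) (h' : allL L' (fun x => Nat.beq (apW (mw x) x0) x0) = true)
    (ho : orb (mapL mw L) p d a x0 (fun l => Nat.ble m (lenL l)) = true) :
    m * Nat.card (cl (μ mw) L') ≤ Nat.card (cl (μ mw) L) := by
  obtain ⟨a1, a2⟩ := card_mu (fun x hx => ok x (hL x hx)) hw h32' h'
  obtain ⟨l, b1, b2⟩ := sub_of_orb (H := cl (me mw) L) (fun W hW => by
    rw [mapL_eq, List.mem_map] at hW
    obtain ⟨x, hx, rfl⟩ := hW
    exact ⟨_, mem_cl hx, impl_me (ok x hx)⟩) hw (by omega) ho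
  rw [a2, (card_mu ok hv h32 h).2, card_eq_ncard_mul (cl (me mw) L) w]
  refine Nat.mul_le_mul ((ble_iff.1 b1).trans ((b2.mono ?_).le_ncard ?_)) (card_le_of_le (le_inf (cl_mono hL) a1))
  · rintro _ ⟨g, rfl⟩; exact ⟨g, g.2, rfl⟩
  · exact (Set.finite_range fun g : Co0 => g • w).subset (by rintro _ ⟨g, -, rfl⟩; exact ⟨g, rfl⟩)

theorem lb_top {L' : List ℕ} (ok : OK mw L') {v : leechLattice} {n : ℕ} (hv : Leech.Rep n v)
    (h32 : sqNorm (v : GolayPt → ℤ) = 32) (h : allL L' (fun x => Nat.beq (apW (mw x) n) n) = true)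
    (ht : cl (μ mw) L = ⊤) : 98280 * Nat.card (cl (μ mw) L') ≤ Nat.card (cl (μ mw) L) := by
  obtain ⟨a1, a2⟩ := card_mu ok hv h32 h
  have := card_le_of_le a1
  rw [card_stabilizer_32 h32] at this
  rw [ht, card_top, card_Co1, a2]; omega

theorem mono_le {K : Subgroup Co0} (hn : negOne ∈ K) (hp : ∀ k ∈ gM24p, ∀ h : gc.InH M24 k, prm ⟨_, h.2⟩ ∈ K)
    {c : Finset GolayPt} {hc : Cw c} (h0 : c ≠ ∅) (h1 : c ≠ Finset.univ) (hs : sgn c hc ∈ K) : Mono ≤ K := by
  have a : ∀ σ : M24, prm σ ∈ K := fun σ => by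
    have : M24 ≤ (K.comap prmHom).map M24.subtype := by
      conv_lhs => rw [← gen_gM24p]
      exact Coding.gen_le fun k hk => have h := inH_gM24p k hk
        ⟨h.1, ⟨_, h.2⟩, hp k hk h, rfl⟩
    obtain ⟨τ, e, e'⟩ := this σ.2
    exact (Subtype.ext e' : τ = σ) ▸ e
  intro m hm
  obtain ⟨d, hd, σ, rfl⟩ := exists_sgn_prm hm
  obtain ⟨_, e⟩ := cw_irred (W := fun c => ∃ hc, sgn c hc ∈ K) (fun _ h => h.1)
    (fun _ _ ⟨a, b⟩ ⟨a', b'⟩ => ⟨_, sgn_mul_sgn a a' ▸ mul_mem b b'⟩) ⟨_, hn⟩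
    (fun σ hσ _ ⟨a', b⟩ => ⟨_, prm_sgn_conj ⟨σ, hσ⟩ a' ▸ mul_mem (mul_mem (a _) b) (inv_mem (a _))⟩) ⟨hc, hs⟩ h0 h1 d hd
  exact mul_mem e (a σ)

theorem o3 {a b : ℕ} (h1 : okW a = true) (h2 : okW b = true) (h : oneB (Lib.Comp.nth 0 [a, b]) ([0, 1], 2) = true) :
    (elt a * elt b) ^ 3 = 1 := by
  have e := one_of_oneB (by simp [OK, Lib.Comp.nth, h1, h2]) h
  rwa [ev_cons, ev_single, me, me, show Lib.Comp.nth 0 [a, b] 0 = a from rfl, show Lib.Comp.nth 0 [a, b] 1 = b from rfl,
    bif'_pos h1, bif'_pos h2] at e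

def xW : ℕ := nat_lit 0x8000000000000000000000000000000000000000008080800000000000000000fbfffffffffffffffffffffffffffffffffffffffffbfc040000000000000000fbfffffffffffffffffffffffffffffffffffffffffc03fc0000000000000000fc000000000000000000000000000000000000000003fbfc000000000000000000000000000004000004000000000000000003fffc00000000000000000000000004000000000004000003fffffffffffffffffc00000000000000000000000000000000000004000003fffffffffffffffffc000400000000000000000000000000040004000000000000000000000003fc00000000000000000000000000000000040003fffffffffffffffffffffffc04000000000000000000000000000000000000000400000000000403fffffc000000000000000000000000000000000000000400000000040000000003fc0000000000000000000000000000000000000000040000000003fffffffffc040000000000000000000000000000000000000000000004000000000003fc00000400000000000000000000000000000000000000000003fffffffffffc04000004000000000000000000000000000000000004000000000003fffffc000000000000000004000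00000000000000000000000000000000003fffffc0000000000000000040004000000000000000000000000000003fffffffffc00000000040400000000000000000000000000000000000003fffffffffffc000004000000000000000004000000000000000000000000fffffffffffffc00000400000000000000000400040000000000000000000000fffffffffffc0000000000040400000400000000000000000000000000000000000003fffc000000000000000000000004040000000000000000000000000000fffffffc00000000040000000004040000000000000000000000000000000000fffffc0004000000000000000000000004040000000000000000000000000000fffc00000000000400000400000000000000000400000000000000000000000003fffffffffffffffffffffffffffffffffffffffffbfbfc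
def aW : ℕ := nat_lit 0x800080000080000080808080800000000000000000fffffffffffffffffffffffffffffffffffffffffffffff80000000000000000fffffffffffffffffffffffffffffffffffffffffffff8000000000000000000fffffffffffffffffffffffffffffffffffffffffff800000000000000000000fffffffffffffffffffffffffffffffffffffffff80000000000000000000000fffffffffffffffffffffffffffffffffffffff800000000000000000000000000000000000000000000000000000000000008000000000000000000000000000000000000000000000000000000000000080000000000000000000000000000fffffffffffffffffffffffffffffffff800000000000000000000000000000000000000000000000000000000000008000000000000000000000000000000000000000000000000000000000000080000000000000000000000000000000000fffffffffffffffffffffffffff80000000000000000000000000000000000000000000000000000000000000800000000000000000000000000000000000000fffffffffffffffffffffff80000000000000000000000000000000000000000000000000000000000000800000000000000000000000000000000000000000000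0000000000000000080000000000000000000000000000000000000000000000000000000000000800000000000000000000000000000000000000000000000000000000000008000000000000000000000000000000000000000000000000000000000000080000000000000000000000000000000000000000000000000000000000000800000000000000000000000000000000000000000000000000000000000008000000000000000000000000000000000000000000000000000000000000080000000000000000000000000000000000000000000000000000000000000800000000000000000000000000000000000000000000000000000000000008000000000000000000000000000000000000000000000000000000000000080000000000000000000000000000000000000000000000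
def cW : ℕ := nat_lit 0x80808080800080800080008000808000800000808080800000000000000000fffffffffffffffffffffffffffffffffffffffffffffff80000000000000000fffffffffffffffffffffffffffffffffffffffffffff8000000000000000000fffffffffffffffffffffffffffffffffffffffffff800000000000000000000fffffffffffffffffffffffffffffffffffffffff8000000000000000000000000000000000000000000000000000000000000080000000000000000000000000000000000000000000000000000000000000800000000000000000000000000fffffffffffffffffffffffffffffffffff800000000000000000000000000000000000000000000000000000000000008000000000000000000000000000000fffffffffffffffffffffffffffffff800000000000000000000000000000000fffffffffffffffffffffffffffff800000000000000000000000000000000000000000000000000000000000008000000000000000000000000000000000000fffffffffffffffffffffffff8000000000000000000000000000000000000000000000000000000000000080000000000000000000000000000000000000000fffffffffffffffffffff8000000000000000000000000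0000000000000000000000000000000000000800000000000000000000000000000000000000000000fffffffffffffffff80000000000000000000000000000000000000000000000fffffffffffffff80000000000000000000000000000000000000000000000000000000000000800000000000000000000000000000000000000000000000000fffffffffff80000000000000000000000000000000000000000000000000000fffffffff8000000000000000000000000000000000000000000000000000000fffffff800000000000000000000000000000000000000000000000000000000fffff80000000000000000000000000000000000000000000000000000000000fff8000000000000000000000000000000000000000000000000000000000000080000000000000000000000000000000000000000000000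
def sW' : ℕ := nat_lit 0x808080808000808000808080808080808000800000000000000000000000000000000000000000000000000000000000000000000800000000000000000000000000000000000000000000000000000000000008000000000000000000fffffffffffffffffffffffffffffffffffffffffff8000000000000000000000000000000000000000000000000000000000000080000000000000000000000fffffffffffffffffffffffffffffffffffffff8000000000000000000000000fffffffffffffffffffffffffffffffffffff800000000000000000000000000fffffffffffffffffffffffffffffffffff80000000000000000000000000000fffffffffffffffffffffffffffffffff8000000000000000000000000000000fffffffffffffffffffffffffffffff800000000000000000000000000000000fffffffffffffffffffffffffffff80000000000000000000000000000000000fffffffffffffffffffffffffff8000000000000000000000000000000000000fffffffffffffffffffffffff8000000000000000000000000000000000000000000000000000000000000080000000000000000000000000000000000000000fffffffffffffffffffff8000000000000000000000000000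000000000000000fffffffffffffffffff8000000000000000000000000000000000000000000000000000000000000080000000000000000000000000000000000000000000000fffffffffffffff8000000000000000000000000000000000000000000000000fffffffffffff800000000000000000000000000000000000000000000000000fffffffffff80000000000000000000000000000000000000000000000000000fffffffff8000000000000000000000000000000000000000000000000000000fffffff80000000000000000000000000000000000000000000000000000000000000800000000000000000000000000000000000000000000000000000000000008000000000000000000000000000000000000000000000000000000000000080000000000000000000000000000000000000000000000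

set_option maxRecDepth 100000 in
theorem x_ok : okW xW = true ∧ blk (app tetN) xW = true ∧ okW sW' = true ∧ blk (app tetN) sW' = true ∧
    monoB sW' = true ∧ oneB (Lib.Comp.nth 0 [xW, sW']) ([0, 1], 2) = true ∧
    allL [aW, cW] (fun W => band (okW W) (band (monoB W) (blk (bitN 0x82402f) W))) = true ∧
    oneB (Lib.Comp.nth 0 [xiW, cW, xW, aW]) ([0, 1, 2, 3], 0) = true := by decide +kernel

theorem o4 {a b c d : ℕ} (h1 : okW a = true) (h2 : okW b = true) (h3 : okW c = true) (h4 : okW d = true)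
    (h : oneB (Lib.Comp.nth 0 [a, b, c, d]) ([0, 1, 2, 3], 0) = true) : elt a * (elt b * (elt c * elt d)) = 1 := by
  have e := one_of_oneB (by simp only [OK, List.forall_mem_cons]; exact ⟨h1, h2, h3, h4, by simp⟩) h
  rwa [ev_cons, ev_cons, ev_cons, ev_single, me, me, me, me, show Lib.Comp.nth 0 [a, b, c, d] 0 = a from rfl,
    show Lib.Comp.nth 0 [a, b, c, d] 1 = b from rfl, show Lib.Comp.nth 0 [a, b, c, d] 2 = c from rfl,
    show Lib.Comp.nth 0 [a, b, c, d] 3 = d from rfl, bif'_pos h1, bif'_pos h2, bif'_pos h3, bif'_pos h4, zero_add,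
    pow_one] at e

theorem x_J : elt xW ∈ J := J_of (impl_elt x_ok.1) x_ok.2.1

theorem LL_le' {K : Subgroup Co0} (h1 : LL ⊓ Mono ≤ K) (h2 : elt xW ∈ K) : LL ≤ K := by
  have k : ∀ W ∈ [aW, cW], okW W = true ∧ elt W ∈ K := fun W hW => by
    have := allL_iff.1 x_ok.2.2.2.2.2.2.1 W hW
    rw [band_iff, band_iff] at this
    have i := impl_elt this.1
    exact ⟨this.1, h1 ⟨mem_centralizer_singleton_iff.2 (comm_of_bit i this.2.2 cw_oo).symm, mono_of i this.2.1⟩⟩
  have a := k _ List.mem_cons_self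
  have c := k _ (List.mem_cons_of_mem _ List.mem_cons_self)
  refine LL_le h1 ?_
  rw [eq_inv_of_mul_eq_one_left (o4 xi_ok.1 c.1 x_ok.1 a.1 x_ok.2.2.2.2.2.2.2)]
  exact inv_mem (mul_mem c.2 (mul_mem h2 a.2))

variable (A : Am Φ Ψ)
include A

theorem Am.ψ_L (h : g ∈ LL) : ψ Φ Ψ g = Φ ⟨g, h⟩ := by
  by_cases m : g ∈ Mono
  · rw [ψ_M m, A.h1]
  · rw [ψ, dif_neg m, dif_pos h]

theorem Am.mem_GL {p : Co0 × Γ} : p ∈ GLL Φ ↔ p.1 ∈ LL ∧ p.2 = ψ Φ Ψ p.1 :=
  ⟨fun ⟨a, e⟩ => e ▸ ⟨a.2, (A.ψ_L a.2).symm⟩, fun ⟨h, e⟩ => ⟨⟨_, h⟩, Prod.ext rfl ((A.ψ_L h).symm.trans e.symm)⟩⟩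

theorem Am.pm {p : Co0 × Γ} (h : p.2 = ψ Φ Ψ p.1) (e : p.1 = 1 ∨ p.1 = negOne) : p.2 = 1 := by
  rcases e with e | e <;> rw [h, e]
  exacts [ψ_one, (ψ_M n_M).trans (A.h2 _)]

theorem Am.inv {a b : Co0} (e : mk1 (a * b) = 1) : ψ Φ Ψ b = (ψ Φ Ψ a)⁻¹ := by
  have m : ∀ K : Subgroup Co0, negOne ∈ K → (b ∈ K ↔ a ∈ K) := fun K h =>
    have : a * b ∈ K := (mk1_eq_one.1 e).elim (· ▸ one_mem K) (· ▸ h)
    ⟨fun hb => (mul_mem_cancel_right hb).1 this, fun ha => (mul_mem_cancel_left ha).1 this⟩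
  have k : ψ Φ Ψ (a * b) = 1 := A.pm (p := gr Φ Ψ (a * b)) rfl (mk1_eq_one.1 e)
  by_cases h1 : a ∈ Mono
  · exact eq_inv_of_mul_eq_one_right ((mulM h1 ((m _ n_M).2 h1)).symm.trans k)
  by_cases h2 : a ∈ LL
  · have h3 := (m _ n_L).2 h2
    rw [A.ψ_L (mul_mem h2 h3)] at k
    rw [A.ψ_L h2, A.ψ_L h3, eq_inv_iff_mul_eq_one, mul_eq_one_comm, ← map_mul]; exact k
  · simp only [ψ, dif_neg h1, dif_neg h2, dif_neg ((m _ n_M).not.2 h1), dif_neg ((m _ n_L).not.2 h2), inv_one]

theorem Am.ivOK {iv : ℕ → ℕ} (h0 : okW (mw 0) = false) (h : allN 64 (fun x => band (Nat.ble (iv x) 63)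
    (bif' (okW (mw x)) (band (okW (mw (iv x))) (pmB mw ([x, iv x], 0))) (bnot (okW (mw (iv x)))))) = true) :
    IvOK (δ Φ Ψ mw) iv := by
  have one : ∀ x, ¬ okW (mw x) = true → δ Φ Ψ mw x = 1 := fun x h => by
    rw [δ, μ, me, bif'_neg h, map_one, ψ_one]; rfl
  refine ⟨one 0 (by simp [h0]), fun x hx => ?_⟩
  obtain ⟨a, b⟩ := band_iff.1 (allN_iff.1 h x hx)
  refine ⟨Nat.lt_succ_of_le (ble_iff.1 a), ?_⟩
  by_cases c : okW (mw x) = true
  · rw [bif'_pos c, band_iff] at b
    have := pm_of_pmB (r := ([x, iv x], 0)) (by simp [OK, c, b.1]) b.2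
    rw [zero_add, pow_one, ev_cons, ev_single] at this
    exact Prod.ext (eq_inv_of_mul_eq_one_right (by rw [← this, map_mul]; rfl)) (A.inv this)
  · rw [bif'_neg c, bnot_iff] at b
    rw [one _ b, one _ c, inv_one]

theorem Am.gr_mono (ok : OK mw L) (h : allL L (fun x => monoB (mw x)) = true) : Gr Φ Ψ mw L :=
  gr_of (GM Ψ) (fun _ hp => A.pm (mem_GM.1 hp).2) fun x hx =>
    mem_GM.2 ⟨mono_of (impl_me (ok x hx)) (allL_iff.1 h x hx), rfl⟩

theorem Am.gr_LL (ok : OK mw L) (h : allL L (fun x => blk (bitN 0x82402f) (mw x)) = true) : Gr Φ Ψ mw L :=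
  gr_of (GLL Φ) (fun _ hp => A.pm (A.mem_GL.1 hp).2) fun x hx => A.mem_GL.2 ⟨mem_centralizer_singleton_iff.2
    (comm_of_bit (impl_me (ok x hx)) (allL_iff.1 h x hx) cw_oo).symm, rfl⟩

theorem Am.Zp_LL (h : g ∈ LL) : Zp Φ Ψ g := fun l hl _ =>
  have a := (A.mem_GL (p := gr Φ Ψ g)).2 ⟨h, rfl⟩
  (A.mem_GL.1 (mul_mem (mul_mem a ((A.mem_GL (p := gr Φ Ψ l)).2 ⟨J_le hl, rfl⟩)) (inv_mem a))).2.symm

omit A in
theorem Zp.mul {a b : Co0} (ha : a ∈ NT) (hb : b ∈ NT) (h1 : Zp Φ Ψ a) (h2 : Zp Φ Ψ b) : Zp Φ Ψ (a * b) :=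
  fun l hl ho => by
    rw [mulM (NT_le ha) (NT_le hb), show a * b * l * (a * b)⁻¹ = a * (b * l * b⁻¹) * a⁻¹ by group,
      h1 _ (NT_J hb hl) (by rwa [← MulAut.conj_apply, MulEquiv.orderOf_eq]), h2 l hl ho]
    group

theorem Am.Zp_uw (w : List ℕ) (hw : ∀ x ∈ w, x < 3) :
    ∃ h : gc.InH M24 (uw w), prm ⟨_, h.2⟩ ∈ NT ∧ Zp Φ Ψ (prm ⟨_, h.2⟩) := by
  induction w with
  | nil =>
    refine ⟨gc.inH_one _, ?_⟩
    rw [show (⟨gc.dec (uw []), (gc.inH_one M24).2⟩ : M24) = 1 from Subtype.ext Coding.dec_one, prm_one]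
    exact ⟨one_mem _, A.Zp_LL (one_mem _)⟩
  | cons x w ih =>
    obtain ⟨h, a, b⟩ := ih fun y hy => hw y (by simp [hy])
    obtain ⟨h', a', b'⟩ : ∃ h : gc.InH M24 ((gT ++ [sg1]).getD x 0), prm ⟨_, h.2⟩ ∈ NT ∧ Zp Φ Ψ (prm ⟨_, h.2⟩) := by
      have t := inH_inf_om (gs := gT) (inH_of_allL (by decide +kernel)) 0x82402f (by decide +kernel)
      have := hw x (by simp)
      interval_cases x
      · have := t _ List.mem_cons_self
        exact ⟨this.mono inf_le_left, prm_NT (this.mono inf_le_left) (by decide +kernel), A.Zp_LL (prm_LL this.2)⟩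
      · have := t _ (List.mem_cons_of_mem _ List.mem_cons_self)
        exact ⟨this.mono inf_le_left, prm_NT (this.mono inf_le_left) (by decide +kernel), A.Zp_LL (prm_LL this.2)⟩
      · have n : sg ∈ NT := prm_NT sg1_M (by decide +kernel)
        refine ⟨sg1_M, n, fun l hl ho => ?_⟩
        have := A.h3 (NT_le n) ⟨l, J_le hl⟩ ⟨_, J_le (NT_J n hl)⟩ (by rwa [← orderOf_coe]) (by simp)
        rw [← A.ψ_L, ← A.ψ_L, ← ψ_M (Φ := Φ)] at this
        exact eq_mul_inv_of_mul_eq this.symm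
    refine ⟨h'.mul h, ?_⟩
    rw [show (⟨gc.dec (uw (x :: w)), (h'.mul h).2⟩ : M24) = ⟨_, h'.2⟩ * ⟨_, h.2⟩ from Subtype.ext (h'.1.dec_mul h.1), prm_mul]
    exact ⟨mul_mem a' a, Zp.mul a' a b' b⟩

theorem Am.exists_u {c : Finset GolayPt} (hc : Cw c) (ht : Tq c) (h8 : c.card = 8) :
    ∃ u ∈ NT, Zp Φ Ψ u ∧ u * ep * u⁻¹ = sgn c hc := by
  obtain ⟨w, hw, rfl⟩ := oct15 hc ht h8
  obtain ⟨h, a, b⟩ := A.Zp_uw w ((by decide : ∀ w ∈ uws, ∀ x ∈ w, x < 3) w hw)
  exact ⟨_, a, b, (prm_sgn_conj _ _).trans (by simp only [smul_om h.1])⟩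

theorem Am.conj_DJ {m : Co0} (hm : m ∈ NT) {p : Co0 × Γ} (hp : p ∈ closure (SJ Φ Ψ)) :
    gr Φ Ψ m * p * (gr Φ Ψ m)⁻¹ ∈ closure (SJ Φ Ψ) := by
  have z : Zp Φ Ψ m := by
    obtain ⟨h, e⟩ := mem_NT.1 hm
    obtain ⟨u, a, b, c⟩ := A.exists_u _ (tq_oo.smul e) ((Finset.card_smul_finset _ _).trans O0_mem.2)
    rw [← mul_inv_cancel_left u m]
    refine Zp.mul a (mul_mem (inv_mem a) hm) b (A.Zp_LL (mem_centralizer_singleton_iff.2 ?_))
    rw [← conj_sgn h] at c
    calc _ = u⁻¹ * (m * ep * m⁻¹) * m := by group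
      _ = _ := by rw [← c]; group
  refine (closure_le (K := (closure (SJ Φ Ψ)).comap (MulAut.conj (gr Φ Ψ m)).toMonoidHom)).2 ?_ hp
  rintro ⟨l, b⟩ ⟨h1, h2, h3⟩
  obtain rfl : b = ψ Φ Ψ l := h2
  refine subset_closure ⟨NT_J hm h1, ?_, h3.imp (fun h => ?_) fun h => ?_⟩
  · refine h3.elim (fun h => (z l h1 h).symm) fun h => ?_
    have a := (mem_GM (p := gr Φ Ψ m)).2 ⟨NT_le hm, rfl⟩
    exact (mem_GM.1 (mul_mem (mul_mem a ((mem_GM (p := gr Φ Ψ l)).2 ⟨h, rfl⟩)) (inv_mem a))).2
  · exact (MulEquiv.orderOf_eq (MulAut.conj m) l).symm ▸ h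
  · exact mul_mem (mul_mem (NT_le hm) h) (inv_mem (NT_le hm))

theorem Am.DJ_le : closure (SJ Φ Ψ) ≤ GLL Φ := (closure_le _).2 fun _ h => A.mem_GL.2 ⟨J_le h.1, h.2.1⟩

theorem Am.xi_DJ : gr Φ Ψ (elt xW) ∈ closure (SJ Φ Ψ) := by
  obtain ⟨a1, -, a3, a4, a5, a6, -⟩ := x_ok
  have i := impl_elt a3
  have e := o3 a1 a3 a6
  have j := x_J
  generalize elt xW = x at *
  generalize elt sW' = y at *
  have s : gr Φ Ψ y ∈ closure (SJ Φ Ψ) := subset_closure ⟨J_of i a4, rfl, .inr (mono_of i a5)⟩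
  have t : gr Φ Ψ (x * y) ∈ closure (SJ Φ Ψ) := subset_closure ⟨mul_mem j (J_of i a4), rfl,
    .inl (Odd.of_dvd_nat (by decide) (orderOf_dvd_of_pow_eq_one e))⟩
  have := mul_mem t (inv_mem s)
  rwa [show _ * _ = gr Φ Ψ x from Prod.ext (by simp) ((A.mem_GL.1 (A.DJ_le this)).2.trans (by simp))] at this

omit A in
theorem me_xi {x : ℕ} (h : Nat.beq (mw x) xW = true) : me mw x = elt xW := by
  rw [me, beq_iff.1 h, bif'_pos x_ok.1]

/-- letters in the stabiliser of the sextet -/
theorem Am.gr_P [Finite Γ] (ok : OK mw L) (h : allL L (fun x => bor (Nat.beq (mw x) xW) (ntB (mw x))) = true) :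
    Gr Φ Ψ mw L := by
  refine gr_of ((GM Ψ ⊓ NT.comap (MonoidHom.fst _ _)) ⊔ closure (SJ Φ Ψ)) (fun p hp e => ?_) fun x hx => ?_
  · rw [← SetLike.mem_coe, coe_mul_of_left_le_normalizer_right] at hp
    · obtain ⟨q, ⟨q1, -⟩, r, hr, rfl⟩ := hp
      have r1 := A.mem_GL.1 (A.DJ_le hr)
      have : r.1 ∈ Mono := (mul_mem_cancel_left (mem_GM (Φ := Φ).1 q1).1).1
        (e.elim (fun e => (show q.1 * r.1 = _ from e) ▸ one_mem _) fun e => (show q.1 * r.1 = _ from e) ▸ n_M)
      exact A.pm (mem_GM.1 (mul_mem q1 (mem_GM.2 ⟨this, r1.2⟩))).2 e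
    · rintro ⟨m, b⟩ ⟨h1, h2⟩
      obtain rfl : b = ψ Φ Ψ m := ((mem_GM (Φ := Φ)).1 h1).2
      exact Lib.Core.mem_normalizer_of_conj_mem fun p hp => A.conj_DJ h2 hp
  · rcases bor_iff.1 (allL_iff.1 h x hx) with e | e
    · rw [me_xi e]; exact mem_sup_right A.xi_DJ
    · have := NT_of (impl_me (ok x hx)) e
      exact mem_sup_left ⟨mem_GM.2 ⟨NT_le this, rfl⟩, this⟩

omit A in
theorem top_cl {LM : List ℕ} (hL : ∀ x ∈ LM, x ∈ L) (hM : Mono ≤ (cl (μ mw) LM).comap mk1) {x : ℕ} (hx : x ∈ L)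
    (e : Nat.beq (mw x) xW = true) : cl (μ mw) L = ⊤ := by
  have a := hM.trans (comap_mono (cl_mono (γ := μ mw) hL))
  exact comap_injective mk1_surjective (top_of a (LL_le' (inf_le_right.trans a) (me_xi e ▸ mem_cl (γ := μ mw) hx)))

theorem Am.pres_of (h : Gr Φ Ψ mw L) {LM : List ℕ} (hL : ∀ x ∈ LM, x ∈ L) (ok : OK mw LM)
    (hm : allL LM (fun x => monoB (mw x)) = true) (hM : Mono ≤ (cl (μ mw) LM).comap mk1) {x : ℕ} (hx : x ∈ L)
    (e : Nat.beq (mw x) xW = true) :
    ∃ φ : Co1 →* Γ, (∀ l : LL, φ (mk1 l) = Φ l) ∧ ∀ n : Mono, φ (mk1 n) = Ψ n := by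
  let E := MulEquiv.ofBijective ((MonoidHom.fst _ _).comp (cl (δ Φ Ψ mw) L).subtype)
    ⟨(MonoidHom.ker_eq_bot_iff _).1 (gr_iff.1 h), MonoidHom.range_eq_top.1 (by
      rw [← MonoidHom.map_range, range_subtype, map_fst, top_cl hL hM hx e])⟩
  let φ : Co1 →* Γ := ((MonoidHom.snd _ _).comp (cl (δ Φ Ψ mw) L).subtype).comp E.symm.toMonoidHom
  have k : ∀ y ∈ L, φ (mk1 (me mw y)) = ψ Φ Ψ (me mw y) := fun y hy =>
    congrArg (·.1.2) (E.symm_apply_apply ⟨_, mem_cl hy⟩)
  have k2 : ∀ n : Mono, φ (mk1 n) = Ψ n := fun n => by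
    obtain ⟨_, ⟨m, hm, rfl⟩, e⟩ := (cl_le (H := (((φ.comp (mk1.comp Mono.subtype)).eqLocus Ψ).map
      Mono.subtype).map mk1)).2 (fun y hy => have := mono_of (impl_me (ok y hy)) (allL_iff.1 hm y hy)
        ⟨_, ⟨⟨_, this⟩, (k y (hL y hy)).trans (ψ_M this), rfl⟩, rfl⟩) (hM n.2)
    rw [← e]
    refine hm.trans ?_
    rcases mk1_eq_iff.1 e with e | e
    · exact congrArg Ψ (Subtype.ext e)
    · rw [show m = ⟨_, n_M⟩ * n from Subtype.ext e, map_mul, A.h2, one_mul]
  refine ⟨φ, fun l => ?_, k2⟩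
  obtain ⟨l', a, b⟩ := LL_le' (K := ((φ.comp (mk1.comp LL.subtype)).eqLocus Φ).map LL.subtype)
    (fun y hy => ⟨⟨y, hy.1⟩, (k2 ⟨y, hy.2⟩).trans (A.h1 _ _ _).symm, rfl⟩)
    ⟨⟨_, J_le x_J⟩, by have := k x hx; rw [me_xi e, A.ψ_L (J_le x_J)] at this; exact this, rfl⟩ l.2
  exact (Subtype.ext b : l' = l) ▸ a

end Cfsg.Lib.Small.CoU
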