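import Cfsg.Agent.Lib.Small.CoPT
import Cfsg.Agent.Lib.Small.CoPrD

/-! Monomial letters, congruences modulo `2Λ` and the neighbours of the standard frame. -/

set_option autoImplicit false
set_option maxRecDepth 100000

namespace Cfsg.Lib.Small.CoPr

open Cfsg.Lib.Leech Cfsg.Lib.Golay Cfsg.Spor Subgroup Cfsg.Lib.Small.CoU
open Cfsg.Lib.Small.Co1Z (LL ep oo cw_oo sgn_LL prm_LL)
open scoped Pointwise

def kq (q : ℕ) : ℕ := Nat.shiftRight q 24
def cq (q : ℕ) : ℕ := Nat.land q 16777215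
noncomputable def okq (q : ℕ) : Bool := band (isCw (cq q)) (forceN (kq q) inM24)

theorem okq_c {q : ℕ} (h : okq q = true) : Cw (om (cq q)) := om_mem_cw (band_iff.1 h).1
theorem okq_k {q : ℕ} (h : okq q = true) : gc.InH M24 (kq q) :=
  inH_of_inM24 (by have := (band_iff.1 h).2; rwa [forceN_eq] at this)

noncomputable def mo (q : ℕ) : Co0 :=
  if h : okq q = true then sgn _ (okq_c h) * (prm ⟨_, (okq_k h).2⟩)⁻¹ else 1

theorem mo_eq {q : ℕ} (h : okq q = true) : mo q = sgn _ (okq_c h) * (prm ⟨_, (okq_k h).2⟩)⁻¹ := dif_pos h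

theorem mo_mem (q : ℕ) : mo q ∈ Mono := by
  unfold mo; split_ifs
  exacts [mul_mem (sgn_mem_Mono _ _) (inv_mem (prm_mem_Mono _)), one_mem _]

theorem mo_smul {q : ℕ} (h : okq q = true) (v : leechLattice) (i : GolayPt) :
    ((mo q • v : leechLattice) : GolayPt → ℤ) i = if i ∈ om (cq q) then -(v : GolayPt → ℤ) (gc.dec (kq q) i)
      else (v : GolayPt → ℤ) (gc.dec (kq q) i) := by
  rw [mo_eq h, ← prm_inv, sgn_prm_smul]; rfl

theorem mo_conj {q : ℕ} (h : okq q = true) {c : Finset GolayPt} (hc : Cw c) :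
    (mo q)⁻¹ * sgn c hc * mo q = sgn _ (cw_smul (okq_k h).2 hc) := by
  rw [mo_eq h, ← prm_sgn_conj ⟨_, (okq_k h).2⟩ hc, mul_inv_rev, inv_inv, mul_assoc, mul_assoc, ← mul_assoc (sgn c hc),
    Sgn_comm (sgn_mem_Sgn c hc) (sgn_mem_Sgn _ _), mul_assoc, inv_mul_cancel_left, mul_assoc]

noncomputable def apM (q n : ℕ) : ℕ := forceN n fun n => forceN (kq q) fun k => forceN (cq q) fun c =>
  packN 8 (fun i => forceN (app n (app k i)) fun d => bif' (tb c i) (Nat.sub 16 d) d) 24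

noncomputable def dg (n : ℕ) : Bool := allN 24 fun i => Nat.ble (app n i) 16

theorem dec_apM {q n : ℕ} (h : okq q = true) (hd : dg n = true) : apM q n < 2 ^ 192 ∧ ∀ i, decV (apM q n) i =
    if i ∈ om (cq q) then -decV n (gc.dec (kq q) i) else decV n (gc.dec (kq q) i) := by
  have b : ∀ i < 24, (forceN (app n (app (kq q) i)) fun d => bif' (tb (cq q) i) (Nat.sub 16 d) d) < 256 := fun i _ => by
    have := app_lt n (app (kq q) i)
    rw [forceN_eq, bif'_eq, Nat.sub_eq]; split_ifs <;> omega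
  rw [apM, forceN_eq, forceN_eq, forceN_eq]
  refine ⟨packN_lt 8 _ 24 b, fun i => ?_⟩
  have a := ble_iff.1 (allN_iff.1 hd _ (gc.idx_lt (gc.dec (kq q) i)))
  simp only [decV, app_packN _ 24 b _ (gc.idx_lt i), Coding.mem_ofMask]
  rw [forceN_eq, bif'_eq, tb_eq, ← (okq_k h).1.idx_dec, Nat.sub_eq]
  split_ifs <;> omega

def Imp (f : ℕ → ℕ) (g : Co0) : Prop :=
  ∀ n v, Leech.Rep n v → sqNorm (v : GolayPt → ℤ) ≤ 64 → Leech.Rep (f n) (g • v)

theorem Imp.comp {f f' : ℕ → ℕ} {g g' : Co0} (h : Imp f g) (h' : Imp f' g') : Imp (fun n => f (f' n)) (g * g') :=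
  fun n v a b => by rw [mul_smul]; exact h _ _ (h' n v a b) (by rwa [sqNorm_smul])

theorem imp_id : Imp (fun n => n) 1 := fun _ _ a _ => by rwa [one_smul]

theorem imp_mo {q : ℕ} (h : okq q = true) : Imp (apM q) (mo q) := fun n v a b => by
  obtain ⟨h1, h2⟩ := dec_apM (n := n) h (allN_iff.2 fun i hi => ble_iff.2 (by
    have := a.apply_pt hi
    have := abs_le_of_sqNorm (a := 8) (by norm_num) b (gc.pt i)
    omega))
  exact ⟨h1, funext fun i => by rw [h2, mo_smul h, a.2]⟩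

theorem Imp.ext {f f' : ℕ → ℕ} {g g' : Co0} (h : Imp f g) (h' : Imp f' g')
    (e : allN 24 (fun j => Nat.beq (f (e8C j)) (f' (e8C j))) = true) : g = g' :=
  co0_ext_e8 fun i => (h _ _ (rep_e8 i) (sqNorm_e8 i).le).eq_right
    (beq_iff.1 (allN_iff.1 e _ (gc.idx_lt i)) ▸ h' _ _ (rep_e8 i) (sqNorm_e8 i).le)

/-- congruence of a lattice vector and a code -/
def Cz (v : leechLattice) (n : ℕ) : Prop :=
  ∃ u : leechLattice, ∀ i, (v : GolayPt → ℤ) i - decV n i = 2 * (u : GolayPt → ℤ) i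

noncomputable def cgB (n m : ℕ) : Bool := forceN n fun n => forceN m fun m =>
  forceN (Nat.div (Nat.sub (Nat.add n 0x101010101010101010101010101010101010101010101010) m) 2) fun h =>
    band (inL h) (allN 24 fun i => Nat.beq (Nat.add (app n i) 16) (Nat.add (app m i) (Nat.mul 2 (app h i))))

theorem cz_rep {n : ℕ} {v : leechLattice} (h : Leech.Rep n v) : Cz v n := ⟨0, fun i => by simp [h.2]⟩

theorem Cz.cg {n m : ℕ} {v : leechLattice} (h : Cz v n) (e : cgB n m = true) : Cz v m := by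
  obtain ⟨u, hu⟩ := h
  rw [cgB, forceN_eq, forceN_eq, forceN_eq, band_iff, allN_iff] at e
  generalize Nat.div _ 2 = k at e
  refine ⟨u + ⟨_, mem_of_inL e.1⟩, fun i => ?_⟩
  have a : app n (gc.idx i) + 16 = app m (gc.idx i) + 2 * app k (gc.idx i) := beq_iff.1 (e.2 _ (gc.idx_lt i))
  have b := hu i
  simp only [decV, AddSubgroup.coe_add, Pi.add_apply] at b ⊢
  omega

theorem Cz.mono {n : ℕ} {g g' : Co0} (h : Cz (g • e8 none) n) (h' : Cz (g' • e8 none) n) : g⁻¹ * g' ∈ Mono := by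
  obtain ⟨u, hu⟩ := h
  obtain ⟨w, hw⟩ := h'
  refine ⟨g⁻¹ • (w - u), ?_⟩
  rw [← co0_smul_nsmul, show 2 • (w - u) = g' • e8 none - g • e8 none from Subtype.ext (funext fun i => by
    have := hu i
    have := hw i
    simp only [AddSubmonoidClass.coe_nsmul, AddSubgroupClass.coe_sub, Pi.smul_apply, Pi.sub_apply, nsmul_eq_mul]
    push_cast; omega), co0_smul_sub, inv_smul_smul, mul_smul]

theorem Imp.cz {f : ℕ → ℕ} {g : Co0} (h : Imp f g) : Cz (g • e8 none) (f (e8C 23)) :=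
  cz_rep (h _ _ (rep_e8 none) (sqNorm_e8 _).le)

noncomputable def ee : Co0 := elt eW

theorem e_ok : okW eW = true ∧ blk (app tetN) eW = true ∧ apW eW (e8C 23) = eC ∧ okq sgq = true ∧
    allN 24 (fun j => Nat.beq (apW eW (apW eW (apW eW (e8C j)))) (e8C j)) = true ∧
    allN 24 (fun j => Nat.beq (apM sgq (apW eW (e8C j))) (apW eW (apM sgq (e8C j)))) = true ∧
    ∀ i < 24, ∀ k < 24, app tetN i = app tetN k → app (apW eW (e8C i)) k ≠ 8 := by decide +kernel

theorem imp_e : Imp (apW eW) ee := impl_elt e_ok.1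
theorem e_LL : ee ∈ LL := J_le (J_of (impl_elt e_ok.1) e_ok.2.1)
theorem e_cube : ee * (ee * ee) = 1 := (imp_e.comp (imp_e.comp imp_e)).ext imp_id e_ok.2.2.2.2.1
theorem cz_e {q : ℕ} (h : okq q = true) : Cz ((mo q * ee) • e8 none) (apM q eC) :=
  e_ok.2.2.1 ▸ ((imp_mo h).comp imp_e).cz

theorem mo_sg : mo sgq = sg⁻¹ := by
  rw [mo_eq e_ok.2.2.2.1]
  have : ∀ c hc, c = ∅ → sgn c hc = 1 := by rintro _ _ rfl; exact sgn_empty
  rw [this (om (cq sgq)) _ gc.ofMask_zero, one_mul]; rfl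

theorem sg_e : sg * ee = ee * sg := by
  have := ((imp_mo e_ok.2.2.2.1).comp imp_e).ext (imp_e.comp (imp_mo e_ok.2.2.2.1)) e_ok.2.2.2.2.2.1
  rw [mo_sg] at this
  exact (Commute.inv_left_iff.1 this).eq

noncomputable def okl (q : ℕ) : Bool := band (okq q) (Nat.beq (imgN 24 (kq q) 0x82402f) 0x82402f)

theorem mo_LL {q : ℕ} (h : okl q = true) : mo q ∈ LL := by
  obtain ⟨h1, h2⟩ := band_iff.1 h
  rw [mo_eq h1]
  refine mul_mem (sgn_LL _) (inv_mem (prm_LL (σ := gc.dec (kq q)) ⟨(okq_k h1).2, ?_⟩))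
  show gc.dec (kq q) • om _ = om _
  rw [(okq_k h1).1.smul_ofMask]; exact congrArg om (beq_iff.1 h2)

theorem tq_of {c : Finset GolayPt} {hc : Cw c} {d : Co0} (hd : d ∈ Sgn) (h : sgn c hc * ee = ee * d) : Tq c := by
  intro i k e
  obtain ⟨b, hb, rfl⟩ := hd
  have r := imp_e _ _ (rep_e8 i) (sqNorm_e8 i).le
  have a1 := e_ok.2.2.2.2.2.2 _ (gc.idx_lt i) _ (gc.idx_lt i) rfl
  have a2 := e_ok.2.2.2.2.2.2 _ (gc.idx_lt i) _ (gc.idx_lt k) e
  have a3 := r.apply i
  have a4 := r.apply k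
  have a5 := fun l => congrArg (fun g : Co0 => ((g • e8 i : leechLattice) : GolayPt → ℤ) l) h
  simp only [mul_smul, sgn_smul, sgn_smul_e8] at a5
  have a6 := a5 i
  have a7 := a5 k
  by_cases b1 : i ∈ b <;> simp only [b1, if_true, if_false, co0_smul_neg, NegMemClass.coe_neg, Pi.neg_apply] at a6 a7 <;>
    split_ifs at a6 a7 <;> first | omega | simp [*]

/-! ### the neighbours -/

noncomputable def cd (x : ℕ) : ℕ := forceN x fun x => packN 8 (fun i => Nat.add (Nat.add 8 (Nat.mul 4 (bitN (cq x) i)))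
  (bif' (Nat.beq i 23) (Nat.mul 8 (bitN x 24)) 0)) 24

theorem dec_cd (x : ℕ) (i : GolayPt) :
    decV (cd x) i = (if i ∈ om (cq x) then 4 else 0) + if i = none then 8 * (bitN x 24 : ℤ) else 0 := by
  have a : ∀ m j, bitN m j ≤ 1 := fun m j => by rw [bitN_eq]; exact Bool.toNat_le _
  rw [decV, cd, forceN_eq, app_packN _ 24 (fun j _ => by
    have := a (cq x) j
    have := a x 24
    simp only [bif'_eq, Nat.add_eq, Nat.mul_eq]; split_ifs <;> omega) _ (gc.idx_lt i)]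
  have b : Nat.beq (gc.idx i) 23 = true ↔ i = none := by revert i; decide +kernel
  simp only [bif'_eq, b, Coding.mem_ofMask, Nat.add_eq, Nat.mul_eq, bitN_eq (cq x)]
  cases (cq x).testBit (gc.idx i) <;> split_ifs <;> simp_all <;> omega

noncomputable def nbB (q x y : ℕ) : Bool := forceN (kq q) fun k => forceN (imgT k (cq y)) fun z =>
  forceN (Nat.xor z (cq x)) fun d => band (isCw d) (band (Nat.beq (Nat.mod (pop24 (Nat.land z d)) 2) 0)
    (Nat.beq (Nat.mod (Nat.add (Nat.add (bitN x 24) (bitN y 24)) (pop24 (Nat.land (cq q) (cq y)))) 2) 0))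

theorem Cz.nb {q x y : ℕ} {v : leechLattice} (h : Cz v (cd x)) (hq : okq q = true) (e : nbB q x y = true) :
    Cz (mo q • v) (cd y) := by
  obtain ⟨u, hu⟩ := h
  simp only [nbB, forceN_eq, band_iff, beq_iff, ← card_om_inter] at e
  obtain ⟨e1, e2, e3⟩ := e
  have e4 := om_mem_cw e1
  have e5 : (om (imgT (kq q) (cq y)) ∩ om (Nat.xor (imgT (kq q) (cq y)) (cq x))).card % 2 = 0 := e2
  have e6 : (bitN x 24 + bitN y 24 + (om (cq q) ∩ om (cq y)).card) % 2 = 0 := e3
  rw [show om (Nat.xor _ _) = symmDiff (om _) (om _) from gc.ofMask_xor _ _, ← (okq_k hq).1.smul_om] at e4 e5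
  have s := mo_smul hq
  simp only [dec_cd] at hu
  unfold Cz
  simp only [dec_cd]
  generalize gc.dec (kq q) = σ at *
  generalize om (cq q) = C at *
  generalize om (cq x) = A at *
  generalize om (cq y) = B at *
  refine ⟨mo q • (u + ⟨_, twoInd_mem e4⟩ - ⟨fun i => 4 * if i ∈ σ • B ∩ symmDiff (σ • B) A then 1 else 0,
    four_mul_mem ?_⟩) + ⟨fun i => 4 * ((if i ∈ C ∩ B then -1 else 0) + (if i = σ.symm none then
      (if σ.symm none ∈ C then -1 else 1) * (bitN x 24 : ℤ) else 0) - if i = none then (bitN y 24 : ℤ) else 0),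
      four_mul_mem ?_⟩, fun i => ?_⟩
  rotate_left
  · rw [sum_ite_mem_const, Finset.univ_inter]; omega
  · rw [Finset.sum_sub_distrib, Finset.sum_add_distrib, sum_ite_mem_const, Finset.univ_inter]
    simp only [Finset.sum_ite_eq', Finset.mem_univ, if_true]
    split_ifs <;> omega
  · have a := hu (σ i)
    have b : σ i ∈ σ • B ↔ i ∈ B := Finset.smul_mem_smul_finset_iff σ
    have c : i = σ.symm none ↔ σ i = none := Equiv.eq_symm_apply σ
    simp only [AddSubgroup.coe_add, AddSubgroupClass.coe_sub, Pi.add_apply, Pi.sub_apply, s, twoInd, Finset.mem_inter,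
      Finset.mem_symmDiff, b, c]
    by_cases d : σ i = none
    on_goal 1 => rw [← c.2 d]; simp only [eq_true d, if_true] at a ⊢
    on_goal 2 => simp only [eq_false d, if_false] at a ⊢
    all_goals
      by_cases h1 : i ∈ C <;> by_cases h2 : i ∈ B <;> by_cases h3 : σ i ∈ A <;> simp only [h1, h2, h3, if_true,
        if_false, and_true, and_false, not_true, not_false_iff, or_false, or_true] at a ⊢ <;> split_ifs <;> omega

def Px (p : ℕ) : ℕ := ent 25 33554431 PT p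
noncomputable def Pv (p : ℕ) : ℕ := cd (Px p)

theorem P_ok : allL CL (fun z => allN 3542 fun p => forceN (ent 12 4095 z.2 p) fun r =>
    band (Nat.ble r 3541) (nbB z.1 (Px p) (Px r))) = true ∧
    allL CL (fun z => okq z.1) = true ∧ cgB eC (Pv 0) = true ∧
    CL.map (fun z => (kq z.1, cq z.1)) = gM24p.map (fun k => (k, 0)) ++ [(idN 24, 0x82402f)] := by decide +kernel

theorem cover {g : Co0} (hg : g ∈ Mono) : ∃ p < 3542, Cz ((g * ee) • e8 none) (Pv p) := by
  let K : Subgroup Co0 :=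
    { carrier := {g | ∀ v, (∃ p < 3542, Cz v (Pv p)) → ∃ p < 3542, Cz (g • v) (Pv p)}
      one_mem' := fun v h => by rwa [one_smul]
      mul_mem' := fun ha hb v h => by rw [mul_smul]; exact ha _ (hb _ h)
      inv_mem' := fun {a} ha => by
        have : ∀ n : ℕ, ∀ v, (∃ p < 3542, Cz v (Pv p)) → ∃ p < 3542, Cz (a ^ n • v) (Pv p) := fun n => by
          induction n with
          | zero => exact fun v h => by rwa [pow_zero, one_smul]
          | succ n ih => exact fun v h => by rw [pow_succ, mul_smul]; exact ih _ (ha _ h)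
        rw [show a⁻¹ = a ^ (orderOf a - 1) from inv_eq_of_mul_eq_one_left (by
          rw [← pow_succ, Nat.sub_add_cancel (orderOf_pos a), pow_orderOf_eq_one])]
        exact this _ }
  have k1 : ∀ z ∈ CL, mo z.1 ∈ K := fun z hz v ⟨p, hp, h⟩ => by
    have a := allN_iff.1 (allL_iff.1 P_ok.1 z hz) p hp
    rw [forceN_eq, band_iff, ble_iff] at a
    exact ⟨_, Nat.lt_succ_of_le a.1, h.nb (allL_iff.1 P_ok.2.1 z hz) a.2⟩
  have k2 : ∀ y ∈ gM24p.map (fun k => (k, 0)) ++ [(idN 24, 0x82402f)], ∃ h : gc.InH M24 y.1, ∃ h', 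
      sgn (om y.2) h' * (prm ⟨_, h.2⟩)⁻¹ ∈ K := by
    rw [← P_ok.2.2.2]
    intro y hy
    obtain ⟨z, hz, rfl⟩ := List.mem_map.1 hy
    have a := allL_iff.1 P_ok.2.1 z hz
    exact ⟨okq_k a, okq_c a, mo_eq a ▸ k1 z hz⟩
  have k3 : ∀ σ : M24, prm σ ∈ K := fun σ => by
    have : gc.gen gM24p ≤ (K.comap prmHom).map M24.subtype := Coding.gen_le fun k hk => by
      obtain ⟨h, h', a⟩ := k2 (k, 0) (List.mem_append_left _ (List.mem_map_of_mem hk))
      have : ∀ c hc, c = ∅ → sgn c hc = 1 := by rintro _ _ rfl; exact sgn_empty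
      rw [this (om _) _ gc.ofMask_zero, one_mul, inv_mem_iff] at a
      exact ⟨h.1, ⟨_, h.2⟩, a, rfl⟩
    obtain ⟨τ, a, b⟩ := this (gen_gM24p.ge σ.2)
    rwa [← show τ = σ from Subtype.ext b]
  have k4 : ∀ c, Cw c → ∃ h, sgn c h ∈ K := by
    refine cw_irred (fun c h => h.1) (fun c d ⟨a, b⟩ ⟨a', b'⟩ => ⟨_, sgn_mul_sgn a a' ▸ mul_mem b b'⟩)
      ⟨cw_univ, fun v ⟨p, hp, u, hu⟩ => ⟨p, hp, u - v, fun i => ?_⟩⟩
      (fun σ hσ c ⟨a, b⟩ => ⟨_, prm_sgn_conj ⟨σ, hσ⟩ a ▸ mul_mem (mul_mem (k3 _) b) (inv_mem (k3 _))⟩) (c := oo) ?_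
      (fun e => by have := O0_mem.2; rw [show om 0x82402f = ∅ from e] at this; simp at this)
      (fun e => by
        have := O0_mem.2
        rw [show om 0x82402f = Finset.univ from e, Finset.card_univ, Leech.card_golayPt] at this; simp at this)
    · have := hu i
      simp only [sgn_smul, Finset.mem_univ, if_true, AddSubgroupClass.coe_sub, Pi.sub_apply]
      omega
    · obtain ⟨h, h', a⟩ := k2 (idN 24, 0x82402f) (by simp)
      exact ⟨h', (mul_mem_cancel_right (inv_mem (k3 _))).1 a⟩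
  obtain ⟨c, hc, σ, rfl⟩ := exists_sgn_prm hg
  rw [mul_smul]
  exact mul_mem (k4 c hc).2 (k3 σ) _ ⟨0, by norm_num, Cz.cg (e_ok.2.2.1 ▸ imp_e.cz) P_ok.2.2.1⟩

end Cfsg.Lib.Small.CoPr
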