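import Cfsg.Agent.Lib.Small.CoPr1

/-! Lifting paths in the graph of frames to a completion of the amalgam. -/

set_option autoImplicit false
set_option maxRecDepth 100000

namespace Cfsg.Lib.Small.CoPr

open Cfsg.Lib.Leech Cfsg.Lib.Golay Cfsg.Spor Subgroup Cfsg.Lib.Small.CoU Cfsg.Lib.Small.CoT
open Cfsg.Lib.Small.Co1Z (LL ep oo cw_oo sgn_LL prm_LL)
open scoped Pointwise

noncomputable def frs (w : List ℕ) : (ℕ → ℕ) → List ℕ :=
  List.rec (fun _ => []) (fun q _ r f => f (apM q eC) :: r fun n => f (apM q (apW eW n))) w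
noncomputable def endF (w : List ℕ) : (ℕ → ℕ) → ℕ → ℕ :=
  List.rec (fun f => f) (fun q _ r f => r fun n => f (apM q (apW eW n))) w
noncomputable def cgL (F : List ℕ) : List ℕ → Bool :=
  List.rec (fun G => List.rec true (fun _ _ _ => false) G)
    (fun n _ r G => List.rec false (fun m G _ => band (cgB n m) (r G)) G) F
noncomputable def old (d : Mv) : List ℕ :=
  frs d.1 (fun n => n) ++ (frs d.2.2.1 (fun n => endF d.1 (fun n => n) (apM d.2.1 n)) ++ d.2.2.2.2)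
noncomputable def new (d : Mv) : List ℕ :=
  frs d.1 (fun n => n) ++ (frs d.2.2.2.1 (fun n => endF d.1 (fun n => n) (apM d.2.1 n)) ++ d.2.2.2.2)
noncomputable def okd (d : Mv) : Bool := band (allL (d.2.1 :: d.1) okq) (band (allL (d.2.2.1 ++ d.2.2.2.1) okl)
  (cgB (endF d.2.2.1 (fun n => n) (e8C 23)) (endF d.2.2.2.1 (fun n => n) (e8C 23))))
noncomputable def run (ds : List Mv) (G : List ℕ) : List ℕ → Bool :=
  List.rec (fun F => cgL F G) (fun d _ r F => band (cgL F (old d)) (band (okd d) (r (new d)))) ds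
noncomputable def ws (i : ℕ) : List ℕ := getL WL [] i
noncomputable def okS (i : ℕ) (s : ℕ × ℕ × List Mv) : Bool := band (okq s.1) (band (okq s.2.1)
  (band (run s.2.2 (frs (ws i) (apM s.2.1)) (frs (ws i) fun n => n))
    (allN 24 fun j => Nat.beq (endF (ws i) (fun n => n) (apM s.1 (e8C j))) (endF (ws i) (apM s.2.1) (e8C j)))))
noncomputable def okG (i : ℕ) (s : ℕ × ℕ × ℕ × List Mv) : Bool := band (okq s.1) (band (okq s.2.1)
  (band (Nat.ble s.2.2.1 5) (run s.2.2.2 (frs (ws s.2.2.1) (apM s.2.1)) (frs (ws i ++ [s.1]) fun n => n))))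
noncomputable def okF (S G : List ℕ) (T p : ℕ) : Bool := forceN (ent 24 16777215 T p) fun x =>
  forceN (Nat.land x 4095) fun r => bif' (Nat.beq (ent 4 15 x 3) 15)
    (band (Nat.ble (Nat.succ r) (lenL G)) (cgB (apM (getL G sgq r) eC) (Pv p)))
    (band (Nat.ble (Nat.succ (ent 4 15 x 3)) (lenL S)) (band (Nat.ble r 3541)
      (band (Nat.ble (Nat.succ (app (ent 24 16777215 T r) 2)) (app x 2))
        (nbB (getL S sgq (ent 4 15 x 3)) (Px p) (Px r)))))
noncomputable def okN (i : ℕ) (S : List (ℕ × ℕ × List Mv)) (G : List (ℕ × ℕ × ℕ × List Mv)) (T : ℕ) : Bool :=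
  band (allL S (okS i)) (band (allL G (okG i)) (allN 3542 (okF (mapL Prod.fst S) (mapL Prod.fst G) T)))

theorem frs_cons (q : ℕ) (w : List ℕ) (f : ℕ → ℕ) :
    frs (q :: w) f = f (apM q eC) :: frs w fun n => f (apM q (apW eW n)) := rfl
theorem endF_cons (q : ℕ) (w : List ℕ) (f : ℕ → ℕ) :
    endF (q :: w) f = endF w fun n => f (apM q (apW eW n)) := by delta endF; rfl

theorem Imp.cz' {f : ℕ → ℕ} {q : ℕ} {g : Co0} (h : Imp (fun n => f (apM q (apW eW n))) g) :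
    Cz (g • e8 none) (f (apM q eC)) := by
  have := h.cz
  beta_reduce at this
  rwa [e_ok.2.2.1] at this

theorem getL_mem {α : Type*} {l : List α} {d : α} {i : ℕ} (h : i < l.length) : getL l d i ∈ l := by
  induction l generalizing i with
  | nil => simp at h
  | cons a l ih =>
    cases i with
    | zero => exact List.mem_cons_self
    | succ j => exact List.mem_cons_of_mem _ (ih (by simpa using h))

theorem T_ok : (∀ q ∈ TG, okq q = true ∧ (q = sgq ∨ okl q = true ∧ cgB (apM q eC) eC = true)) ∧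
    (∀ z ∈ TW, (∀ x ∈ z.2, x < 5) ∧ z.2.foldl (fun a x => imgN 24 (kq (getL TG 0 x)) a) z.1 = 0x82402f) ∧
    (∀ w ∈ uws, imgN 24 (uw w) 0x82402f ∈ TW.map Prod.fst) ∧ (∀ i < 6, allL (ws i) okq = true) ∧
    (∀ i < 6, i = 0 ∨ ∀ j < 24, endF (ws i) (fun n => n) (e8C 23) ≠ e8C j ∧
      endF (ws i) (fun n => n) (e8C 23) ≠ ng (e8C j)) ∧ okl xq = true ∧
    cgB (apM xq eC) (apW xiW (e8C 23)) = true := by decide +kernel

structure Am {Γ : Type*} [Group Γ] (M L : Subgroup (Γ × Co0)) (e : Γ × Co0) (t : ℕ → Γ × Co0) : Prop where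
  tM : ∀ q, t q ∈ M
  t2 : ∀ q, (t q).2 = mo q
  M2 : ∀ y ∈ M, y.2 ∈ Mono
  ML : ∀ y ∈ L, y.2 ∈ Mono → y ∈ M
  LM : ∀ y ∈ M, y.2 ∈ LL → y ∈ L
  eL : e ∈ L
  e2 : e.2 = ee
  e3 : e * (e * e) = 1
  inj : ∀ y ∈ M, y.2 = 1 → y = 1
  sgc : t sgq * e = e * t sgq

variable {Γ : Type*} [Group Γ] {M L : Subgroup (Γ × Co0)} {e : Γ × Co0} {t : ℕ → Γ × Co0}

def Pth (M : Subgroup (Γ × Co0)) (e : Γ × Co0) : List ℕ → Γ × Co0 → Γ × Co0 → Prop
  | [], x, z => x⁻¹ * z ∈ M
  | n :: F, x, z => ∃ y ∈ M, Cz ((x * y * e).2 • e8 none) n ∧ Pth M e F (x * y * e) z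

def ev (e : Γ × Co0) (t : ℕ → Γ × Co0) (w : List ℕ) : Γ × Co0 := (w.map fun q => t q * e).prod

theorem ev_cons (q : ℕ) (w : List ℕ) : ev e t (q :: w) = t q * e * ev e t w := by simp [ev]

theorem sm_trans {x y z : Γ × Co0} (a : x⁻¹ * y ∈ M) (b : y⁻¹ * z ∈ M) : x⁻¹ * z ∈ M := by
  simpa [mul_assoc] using mul_mem a b

theorem sm_symm {x y : Γ × Co0} (a : x⁻¹ * y ∈ M) : y⁻¹ * x ∈ M := by simpa using inv_mem a

theorem Pth.left {F : List ℕ} {x x' z : Γ × Co0} (h : Pth M e F x z) (a : x'⁻¹ * x ∈ M) : Pth M e F x' z := by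
  cases F with
  | nil => exact sm_trans a h
  | cons n F =>
    obtain ⟨y, hy, b⟩ := h
    exact ⟨_, mul_mem a hy, by rwa [show x' * (x'⁻¹ * x * y) = x * y by group]⟩

theorem Pth.right {F : List ℕ} {x z z' : Γ × Co0} (h : Pth M e F x z) (a : z⁻¹ * z' ∈ M) : Pth M e F x z' := by
  induction F generalizing x with
  | nil => exact sm_trans h a
  | cons n F ih => obtain ⟨y, hy, b, c⟩ := h; exact ⟨y, hy, b, ih c⟩

theorem pth_app {F G : List ℕ} {x z : Γ × Co0} : Pth M e (F ++ G) x z ↔ ∃ w, Pth M e F x w ∧ Pth M e G w z := by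
  induction F generalizing x with
  | nil => exact ⟨fun h => ⟨x, by simp [Pth], h⟩, fun ⟨w, a, b⟩ => b.left a⟩
  | cons n F ih =>
    exact ⟨fun ⟨y, hy, b, c⟩ => let ⟨w, c1, c2⟩ := ih.1 c; ⟨w, ⟨y, hy, b, c1⟩, c2⟩,
      fun ⟨w, ⟨y, hy, b, c1⟩, c2⟩ => ⟨y, hy, b, ih.2 ⟨w, c1, c2⟩⟩⟩

theorem Pth.cg {F G : List ℕ} {x z : Γ × Co0} (h : Pth M e F x z) (a : cgL F G = true) : Pth M e G x z := by
  induction F generalizing x G with
  | nil =>
    cases G with
    | nil => exact h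
    | cons m G => exact absurd a Bool.false_ne_true
  | cons n F ih =>
    cases G with
    | nil => exact absurd a Bool.false_ne_true
    | cons m G =>
      obtain ⟨y, hy, b, c⟩ := h
      have a' := band_iff.1 (show band (cgB n m) (cgL F G) = true from a)
      exact ⟨y, hy, b.cg a'.1, ih c a'.2⟩

variable (H : Am M L e t)
include H

theorem Am.k0 {y : Γ × Co0} (hy : y ∈ M) (a : y.2 ∈ LL) (b : (e⁻¹ * y * e).2 ∈ Mono) : e⁻¹ * y * e ∈ M :=
  H.ML _ (mul_mem (mul_mem (inv_mem H.eL) (H.LM y hy a)) H.eL) b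

theorem Am.k1 {y : Γ × Co0} (hy : y ∈ M) (b : (e⁻¹ * y * e).2 ∈ Mono) : e⁻¹ * y * e ∈ M := by
  have a1 : ∀ q ∈ TG, e⁻¹ * t q * e ∈ M := fun q hq => by
    obtain ⟨c, rfl | ⟨c1, c2⟩⟩ := T_ok.1 q hq
    · rw [mul_assoc, H.sgc, inv_mul_cancel_left]; exact H.tM _
    · refine H.k0 (H.tM q) (H.t2 q ▸ mo_LL c1) ?_
      have := Cz.mono (e_ok.2.2.1 ▸ imp_e.cz) ((cz_e c).cg c2)
      rwa [← H.t2, ← H.e2, ← mul_assoc] at this
  have a2 : ∀ (w : List ℕ) a, (∀ x ∈ w, x < 5) → w.foldl (fun a x => imgN 24 (kq (getL TG 0 x)) a) a = 0x82402f →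
      ∀ y ∈ M, (e⁻¹ * y * e).2 ∈ Mono → ∀ h, y.2 * ep * y.2⁻¹ = sgn (om a) h → e⁻¹ * y * e ∈ M := fun w => by
    induction w with
    | nil =>
      rintro _ _ rfl y hy b h c
      exact H.k0 hy (mem_centralizer_singleton_iff.2 (mul_inv_eq_iff_eq_mul.1 c)) b
    | cons x w ih =>
      intro a hw c y hy b h d
      have m : getL TG 0 x ∈ TG := getL_mem (hw x (by simp))
      rw [List.foldl_cons] at c
      generalize getL TG 0 x = q at m c
      have k := (T_ok.1 q m).1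
      have e1 : e⁻¹ * ((t q)⁻¹ * y) * e = (e⁻¹ * t q * e)⁻¹ * (e⁻¹ * y * e) := by group
      refine (mul_mem_cancel_left (inv_mem (a1 q m))).1 (e1 ▸ ih _ (fun z hz => hw z (by simp [hz])) c _
        (mul_mem (inv_mem (H.tM q)) hy) (e1 ▸ mul_mem (inv_mem (H.M2 _ (a1 q m))) b)
        (by have := cw_smul (okq_k k).2 h; rwa [smul_om (okq_k k).1] at this) ?_)
      have := mo_conj k h
      simp only [smul_om (okq_k k).1] at this
      rw [← this, ← d, Prod.snd_mul, Prod.snd_inv, H.t2]; group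
  have c := conj_sgn (H.M2 y hy) cw_oo
  obtain ⟨w, hw, d⟩ := oct15 (cw_smul (monoPerm ⟨_, H.M2 y hy⟩).2 cw_oo) (tq_of (hc := cw_smul (monoPerm ⟨_, H.M2 y hy⟩).2 cw_oo)
    (Sgn_conj b (sgn_mem_Sgn _ cw_oo)) (by
      have := mem_centralizer_singleton_iff.1 e_LL
      rw [← c, Prod.snd_mul, Prod.snd_mul, Prod.snd_inv, H.e2]
      calc _ = y.2 * (ep * ee) * ee⁻¹ * y.2⁻¹ * ee := by group
        _ = _ := by rw [← this]; group)) (by rw [Finset.card_smul_finset]; exact O0_mem.2)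
  obtain ⟨z, hz, f⟩ := List.mem_map.1 (T_ok.2.2.1 w hw)
  refine a2 z.2 z.1 (T_ok.2.1 z hz).1 (T_ok.2.1 z hz).2 y hy b (by rw [f, d]; exact cw_smul (monoPerm _).2 cw_oo) ?_
  simp only [f, d]; exact c

theorem Am.k2 {x y y' : Γ × Co0} (hy : y ∈ M) (hy' : y' ∈ M) {n : ℕ} (a : Cz ((x * y * e).2 • e8 none) n)
    (b : Cz ((x * y' * e).2 • e8 none) n) : (x * y * e)⁻¹ * (x * y' * e) ∈ M := by
  have e1 : (x * y * e)⁻¹ * (x * y' * e) = e⁻¹ * (y⁻¹ * y') * e := by group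
  exact e1 ▸ H.k1 (mul_mem (inv_mem hy) hy') (e1 ▸ a.mono b)

theorem Am.uniq {F : List ℕ} {x z z' : Γ × Co0} (a : Pth M e F x z) (b : Pth M e F x z') : z⁻¹ * z' ∈ M := by
  induction F generalizing x with
  | nil => exact sm_trans (sm_symm a) b
  | cons n F ih =>
    obtain ⟨y, hy, a1, a2⟩ := a
    obtain ⟨y', hy', b1, b2⟩ := b
    exact ih a2 (b2.left (H.k2 hy hy' a1 b1))

theorem Am.pth {w : List ℕ} (hw : ∀ q ∈ w, okq q = true) {f : ℕ → ℕ} {x : Γ × Co0} (h : Imp f x.2) :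
    Pth M e (frs w f) x (x * ev e t w) ∧ Imp (endF w f) (x * ev e t w).2 := by
  induction w generalizing f x with
  | nil => exact ⟨show x⁻¹ * (x * 1) ∈ M by simp, show Imp f (x * 1).2 by rwa [mul_one]⟩
  | cons q w ih =>
    have a : Imp (fun n => f (apM q (apW eW n))) (x * t q * e).2 := by
      rw [mul_assoc, Prod.snd_mul, Prod.snd_mul, H.t2, H.e2]
      exact h.comp (f' := fun n => apM q (apW eW n)) ((imp_mo (hw q (by simp))).comp imp_e)
    have b := ih (fun z hz => hw z (by simp [hz])) a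
    rw [ev_cons, ← mul_assoc, ← mul_assoc, frs_cons, endF_cons]
    exact ⟨⟨_, H.tM q, a.cz', b.1⟩, b.2⟩

theorem Am.evL {w : List ℕ} (hw : ∀ q ∈ w, okl q = true) : ev e t w ∈ L :=
  list_prod_mem fun _ h => by
    obtain ⟨q, hq, rfl⟩ := List.mem_map.1 h
    exact mul_mem (H.LM _ (H.tM q) (H.t2 q ▸ mo_LL (hw q hq))) H.eL

theorem Am.mv {d : Mv} (h : okd d = true) {z : Γ × Co0} (a : Pth M e (old d) 1 z) : Pth M e (new d) 1 z := by
  obtain ⟨A, n, U, U', B⟩ := d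
  simp only [okd, band_iff, allL_iff, List.forall_mem_cons, List.forall_mem_append] at h
  obtain ⟨⟨h1, h2⟩, ⟨h3, h4⟩, h5⟩ := h
  obtain ⟨z1, a1, a⟩ := pth_app.1 a
  obtain ⟨z2, a2, a3⟩ := pth_app.1 a
  obtain ⟨b1, b2⟩ := H.pth h2 (x := 1) imp_id
  have b3 : Imp (fun v => endF A (fun n => n) (apM n v)) (1 * ev e t A * t n).2 := by
    rw [Prod.snd_mul _ (t n), H.t2]; exact b2.comp (imp_mo h1)
  have b4 : z1⁻¹ * (1 * ev e t A * t n) ∈ M := by rw [← mul_assoc]; exact mul_mem (H.uniq a1 b1) (H.tM n)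
  have u := fun q hq => (band_iff.1 (h3 q hq)).1
  have u' := fun q hq => (band_iff.1 (h4 q hq)).1
  have b5 := H.ML _ (mul_mem (inv_mem (H.evL h4)) (H.evL h3)) (by
    have := (H.pth u' (x := 1) imp_id).2.cz.mono ((H.pth u (x := 1) imp_id).2.cz.cg h5)
    rwa [one_mul, one_mul] at this)
  refine pth_app.2 ⟨z1, a1, pth_app.2 ⟨z2, ((H.pth u' b3).1.left b4).right
    (sm_trans ?_ (H.uniq ((H.pth u b3).1.left b4) a2)), a3⟩⟩
  rwa [mul_inv_rev _ (ev e t U'), mul_assoc, inv_mul_cancel_left]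

theorem Am.runs {ds : List Mv} {G F : List ℕ} (h : run ds G F = true) {z : Γ × Co0} (a : Pth M e F 1 z) :
    Pth M e G 1 z := by
  induction ds generalizing F with
  | nil => exact a.cg h
  | cons d ds ih =>
    obtain ⟨h1, h2⟩ := band_iff.1 (show band (cgL F (old d)) (band (okd d) (run ds G (new d))) = true from h)
    exact ih (band_iff.1 h2).2 (H.mv (band_iff.1 h2).1 (a.cg h1))

theorem Am.cert {ds : List Mv} {w w' : List ℕ} {n : ℕ} (hw : ∀ q ∈ w, okq q = true) (hw' : ∀ q ∈ w', okq q = true)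
    (hn : okq n = true) (h : run ds (frs w' (apM n)) (frs w fun n => n) = true) :
    (t n * ev e t w')⁻¹ * ev e t w ∈ M := by
  have := H.uniq ((H.pth hw' (x := t n) (H.t2 n ▸ imp_mo hn)).1.left (x' := 1) (by simpa using H.tM n))
    (H.runs h (H.pth hw (x := 1) imp_id).1)
  rwa [one_mul] at this

omit H in
def DD (M : Subgroup (Γ × Co0)) (e : Γ × Co0) (t : ℕ → Γ × Co0) (y : Γ × Co0) : Prop :=
  ∃ j < 6, ∃ a ∈ M, (a * ev e t (ws j))⁻¹ * y ∈ M

omit H in
theorem DD.left {y a : Γ × Co0} (h : DD M e t y) (ha : a ∈ M) : DD M e t (a * y) := by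
  obtain ⟨j, hj, b, hb, c⟩ := h
  exact ⟨j, hj, _, mul_mem ha hb, by rwa [show (a * b * _)⁻¹ * (a * y) = (b * ev e t (ws j))⁻¹ * y by group]⟩

omit H in
theorem DD.right {y a : Γ × Co0} (h : DD M e t y) (ha : y⁻¹ * a ∈ M) : DD M e t a := by
  obtain ⟨j, hj, b, hb, c⟩ := h
  exact ⟨j, hj, b, hb, sm_trans c ha⟩

theorem Am.node {i : ℕ} (hi : i < 6) {S : List (ℕ × ℕ × List Mv)} {G : List (ℕ × ℕ × ℕ × List Mv)} {T : ℕ}
    (h : okN i S G T = true) {y : Γ × Co0} (hy : y ∈ M) : DD M e t (ev e t (ws i) * y * e) := by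
  rw [okN, band_iff, band_iff, allL_iff, allL_iff, allN_iff, mapL_eq, mapL_eq] at h
  obtain ⟨h1, h2, h3⟩ := h
  have w := fun i hi => allL_iff.1 (T_ok.2.2.2.1 i hi)
  have key : ∀ k, ∀ p < 3542, app (ent 24 16777215 T p) 2 = k → ∀ y ∈ M, Cz ((y * e).2 • e8 none) (Pv p) →
      DD M e t (ev e t (ws i) * y * e) := fun k => by
    induction k using Nat.strong_induction_on with
    | _ k ih =>
      intro p hp hk y hy c
      have a1 := h3 p hp
      rw [okF, forceN_eq, forceN_eq] at a1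
      by_cases b : Nat.beq (ent 4 15 (ent 24 16777215 T p) 3) 15 = true
      swap
      · rw [bif'_neg b, band_iff, ble_iff, lenL_eq] at a1
        obtain ⟨s, hs, e1⟩ := List.mem_map.1 (getL_mem (d := sgq) a1.1)
        replace a1 := a1.2
        rw [band_iff, band_iff, ble_iff, ble_iff, ← e1] at a1
        have a3 := h1 s hs
        rw [okS, band_iff, band_iff, band_iff] at a3
        have a4 := H.inj _ (mul_mem (H.cert (w i hi) (w i hi) a3.2.1 a3.2.2.1) (H.tM s.1)) (by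
          have := ((H.pth (w i hi) (x := 1) imp_id).2.comp (imp_mo a3.1)).ext
            (H.pth (w i hi) (x := t s.2.1) (H.t2 _ ▸ imp_mo a3.2.1)).2 a3.2.2.2
          rw [mul_assoc, Prod.snd_mul, Prod.snd_inv, ← this, one_mul, Prod.snd_mul, H.t2, inv_mul_cancel])
        have a5 := (ih _ (hk ▸ a1.2.1) _ (Nat.lt_succ_of_le a1.1) rfl _ (mul_mem (H.tM s.1) hy) (by
          rw [mul_assoc, Prod.snd_mul, mul_smul, H.t2]; exact c.nb a3.1 a1.2.2)).left
            (inv_mem (H.tM s.2.1))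
        rwa [show (t s.2.1)⁻¹ * (ev e t (ws i) * (t s.1 * y) * e) = ev e t (ws i) *
          ((t s.2.1 * ev e t (ws i))⁻¹ * ev e t (ws i) * t s.1) * y * e by group, a4, mul_one] at a5
      · rw [bif'_pos b, band_iff, ble_iff, lenL_eq] at a1
        obtain ⟨s, hs, e1⟩ := List.mem_map.1 (getL_mem (d := sgq) a1.1)
        replace a1 := a1.2
        rw [← e1] at a1
        have a3 := h2 s hs
        rw [okG, band_iff, band_iff, band_iff, ble_iff] at a3
        have a4 := H.cert (w := ws i ++ [s.1]) (List.forall_mem_append.2 ⟨w i hi, by simpa using a3.1⟩)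
          (w _ (Nat.lt_succ_of_le a3.2.2.1)) a3.2.1 a3.2.2.2
        refine DD.right ⟨_, Nat.lt_succ_of_le a3.2.2.1, _, H.tM _, a4⟩ ?_
        have := H.k2 (x := 1) (H.tM s.1) hy (by
          rw [one_mul, Prod.snd_mul, H.t2, H.e2]; exact (cz_e a3.1).cg a1) (by rwa [one_mul])
        rwa [show (1 * t s.1 * e)⁻¹ * (1 * y * e) = (ev e t (ws i ++ [s.1]))⁻¹ * (ev e t (ws i) * y * e) by
          simp only [ev, List.map_append, List.prod_append, List.map_cons, List.map_nil, List.prod_cons, List.prod_nil]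
          group] at this
  obtain ⟨p, hp, c⟩ := cover (H.M2 y hy)
  exact key _ p hp rfl y hy (by rwa [Prod.snd_mul, H.e2])

end Cfsg.Lib.Small.CoPr
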