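import Cfsg.Agent.Lib.Small.CoT2
import Cfsg.Agent.Lib.Leech.MonQ
import Cfsg.Agent.Lib.Known2.LE4
import Cfsg.Agent.S1784

/-! Centralisers of elements of odd prime order in groups with centraliser `2^{1+8}.Ω₈⁺(2)`. -/

set_option autoImplicit false

namespace Cfsg.Lib.Small.CoS

open Cfsg.Lib.Forms Subgroup Cfsg.Lib.Small.Co1Z Cfsg.Lib.Known2 Cfsg.Lib.PGrp Cfsg.Agent.S5405
  Cfsg.Lib.Core Cfsg.Lib.Amalg Cfsg.Lib.Small.CoT Cfsg.Lib.Leech

variable {G : Type*} [Group G]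

theorem fixp {p : ℕ} [Fact p.Prime] {K : Subgroup G} [Finite K] (hK : ¬ p ∣ Nat.card K) {u v x : G} (hu : u ^ p = 1)
    (hv : v ^ p = 1) (h : ∀ k ∈ K, x⁻¹ * (u * (x * k) * v⁻¹) ∈ K) : ∃ k ∈ K, u * (x * k) = x * k * v := by
  classical
  have := Fintype.ofFinite K
  let f : Function.End K := fun k => ⟨_, h k k.2⟩
  have e : ∀ n k, ((f ^ n) k : G) = x⁻¹ * (u ^ n * (x * k) * v⁻¹ ^ n) := fun n => by
    induction n with
    | zero => intro k; simp [Function.End.one_def]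
    | succ n ih => intro k; rw [pow_succ]; refine (ih (f k)).trans ?_; simp only [f, pow_succ, pow_succ' v⁻¹, mul_assoc, mul_inv_cancel_left]
  have m := Equiv.Perm.card_fixedPoints_modEq (f := f) (p := p) (n := 1) (funext fun k => Subtype.ext (by
    rw [pow_one, e, hu, inv_pow, hv]; simp [Function.End.one_def]))
  obtain ⟨⟨k, hk⟩⟩ : Nonempty f.fixedPoints := Fintype.card_pos_iff.1 (Nat.pos_of_ne_zero fun e => hK (by
    rw [e] at m; rw [Nat.card_eq_fintype_card]; exact Nat.modEq_zero_iff_dvd.1 m))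
  exact ⟨k, k.2, mul_inv_eq_iff_eq_mul.1 (inv_mul_eq_iff_eq_mul.1 (congrArg Subtype.val hk))⟩

/-- the large extraspecial hypothesis -/
def LXH {S : Type*} [Group S] (z : S) (Q : Subgroup (centralizer ({z} : Set S))) (n : ℕ) (T : Type) [Group T] : Prop :=
  orderOf z = 2 ∧ ∃ _ : Q.Normal, generalizedFittingSubgroup (centralizer ({z} : Set S)) = Q ∧ IsExtraspecial 2 Q ∧
    Nat.card Q = n ∧ Nonempty (centralizer ({z} : Set S) ⧸ Q ≃* T) ∧ ∃ g : S,
      (∃ hq : g * z * g⁻¹ ∈ centralizer ({z} : Set S), (⟨g * z * g⁻¹, hq⟩ : centralizer ({z} : Set S)) ∈ Q) ∧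
        g * z * g⁻¹ ≠ z

variable {Q : Subgroup G} {z : G} {ν : G → V8} {a : G → D8.isom} (F : FG Q z ν a)
include F

theorem a_mul {c d : G} (hc : c * z = z * c) (hd : d * z = z * d) : a (c * d) = a c * a d := Form.isom_ext fun v => by
  obtain ⟨x, hx, rfl⟩ := F.surj v
  rw [Form.isom_mul_apply, ← F.act d hd x hx, ← F.act c hc _ (F.norm d hd x hx),
    ← F.act _ (Commute.mul_left hc hd) x hx]
  congr 1; group

/-- the action as a homomorphism -/
def AH : centralizer ({z} : Set G) →* D8.isom :=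
  MonoidHom.mk' (fun c => a c) fun c d => a_mul F (mem_cent_single.1 c.2) (mem_cent_single.1 d.2)

theorem a_inv {c : G} (hc : c * z = z * c) : a c⁻¹ = (a c)⁻¹ := (AH F).map_inv ⟨c, mem_cent_single.2 hc⟩
theorem a_pow {c : G} (hc : c * z = z * c) (n : ℕ) : a (c ^ n) = a c ^ n := (AH F).map_pow ⟨c, mem_cent_single.2 hc⟩ n

theorem a_Q {c : G} (hc : c ∈ Q) : a c = 1 := Form.isom_ext fun v => by
  obtain ⟨x, hx, rfl⟩ := F.surj v
  rw [← F.act c (F.cen c hc) x hx]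
  rcases F.conj_eq hc hx with e | e <;> rw [e]
  exacts [rfl, F.nu_z hx]

theorem inter {y u : G} (hy : Odd (orderOf y)) (hu : u ∈ zpowers y) (h : u ∈ Q) : u = 1 :=
  eq_one_of_odd_of_two (by rwa [Nat.card_zpowers]) hu (F.pow_four h)

theorem fix_lift {y : G} (hy : Odd (orderOf y)) (yz : y * z = z * y) {v : V8} (hv : (a y).1 v = v) :
    ∃ x ∈ Q, ν x = v ∧ x * y = y * x := by
  obtain ⟨x, hx, rfl⟩ := F.surj v
  refine ⟨x, hx, rfl, ?_⟩
  have c : Commute x (y ^ 2) := by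
    rcases F.nu_eq (F.norm y yz x hx) hx ((F.act y yz x hx).trans hv) with e | e
    · exact Commute.pow_right (comm_of_conj_eq e).symm 2
    · refine (comm_of_conj_eq ?_).symm
      calc _ = y * (y * x * y⁻¹) * y⁻¹ := by rw [pow_two]; group
        _ = y * x * y⁻¹ * (y * z * y⁻¹) := by nth_rw 1 [e]; group
        _ = x := by rw [e, conj_eq_of_comm yz, mul_assoc, F.sq, mul_one]
  obtain ⟨m, e⟩ := exists_pow_eq_self_of_coprime (Nat.coprime_two_left.2 hy)
  exact e ▸ c.pow_right m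

variable [Finite G]

theorem mem_Q {c : G} (hc : c * z = z * c) (h : a c = 1) : c ∈ Q :=
  F.mem_of_inner hc fun x hx => F.nu_eq (F.norm c hc x hx) hx (by rw [F.act c hc x hx, h]; rfl)

omit [Finite G] in
theorem nd2 {p : ℕ} [Fact p.Prime] (h2 : p ≠ 2) {K : Subgroup G} (hK : K ≤ Q) : ¬ p ∣ Nat.card K := fun h =>
  h2 ((Nat.prime_dvd_prime_iff_eq Fact.out Nat.prime_two).1
    ((Fact.out : p.Prime).dvd_of_dvd_pow (F.card ▸ h.trans (card_dvd_of_le hK))))

theorem lift {p : ℕ} [Fact p.Prime] (h2 : p ≠ 2) {u v c : G} (hu : u ^ p = 1) (hv : v ^ p = 1) (uz : u * z = z * u)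
    (vz : v * z = z * v) (cz : c * z = z * c) (h : a u * a c = a c * a v) :
    ∃ x, x * z = z * x ∧ a x = a c ∧ u * x = x * v := by
  obtain ⟨k, hk, e⟩ := fixp (nd2 F h2 le_rfl) hu hv (x := c) fun k hk => by
    have kz := F.cen k hk
    have i1 : c⁻¹ * z = z * c⁻¹ := Commute.inv_left cz
    have i2 : v⁻¹ * z = z * v⁻¹ := Commute.inv_left vz
    have j1 : c * k * z = z * (c * k) := Commute.mul_left cz kz
    have j2 : u * (c * k) * z = z * (u * (c * k)) := Commute.mul_left uz j1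
    have j3 : u * (c * k) * v⁻¹ * z = z * (u * (c * k) * v⁻¹) := Commute.mul_left j2 i2
    refine mem_Q F (Commute.mul_left i1 j3) ?_
    rw [a_mul F i1 j3, a_mul F j2 i2, a_mul F uz j1, a_mul F cz kz, a_Q F hk, mul_one, h, a_inv F cz, a_inv F vz]
    group
  exact ⟨c * k, Commute.mul_left cz (F.cen k hk), by rw [a_mul F cz (F.cen k hk), a_Q F hk, mul_one], e⟩

theorem nwc {p : ℕ} [Fact p.Prime] (h2 : p ≠ 2) {y : G} (hy : orderOf y = p) (yz : y * z = z * y)
    (hw : ∃ g, g * z * g⁻¹ ∈ Q ∧ g * z * g⁻¹ ≠ z) {v : V8} (v0 : v ≠ 0) (vq : D8.Q v = 0) (hv : (a y).1 v = v) :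
    ∃ g, g * y = y * g ∧ g * z * g⁻¹ ∈ Q ∧ g * z * g⁻¹ ≠ z := by
  obtain ⟨g, g1, g2⟩ := hw
  obtain ⟨x, hx, rfl, xy⟩ := fix_lift F (hy ▸ (Fact.out : p.Prime).odd_of_ne_two h2) yz hv
  obtain ⟨k, hk, e⟩ := (fPlus_nondeg (F := ZMod 2) 4).exists_mem_E_map (by rw [finrank_plus]; norm_num)
    (fun e => ((F.zero _ g1).1 e).elim (F.toLS.conj g).ne g2) v0 (((F.sq' _ g1).1 (F.toLS.conj g).sq).trans vq.symm)
  obtain ⟨c, cz, rfl⟩ := F.rng k ((fPlus_nondeg 4).commutator_eq_E good8 (by rw [finrank_plus]; norm_num) ▸ hk)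
  have m := F.norm c cz _ g1
  have sy : Commute y (c * (g * z * g⁻¹) * c⁻¹) := by
    rcases F.nu_eq m hx ((F.act c cz _ g1).trans e) with e | e <;> rw [e]
    exacts [xy.symm, Commute.mul_right xy.symm yz]
  rw [show c * (g * z * g⁻¹) * c⁻¹ = c * g * z * (c * g)⁻¹ by group] at m sy
  have h := F.toLS.lp m (fun e => g2 (by
    rw [show g * z * g⁻¹ = c⁻¹ * (c * g * z * (c * g)⁻¹) * c by group, e, mul_assoc, ← cz, inv_mul_cancel_left]))
    (by rw [F.card]; norm_num)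
  generalize cj (c * g) Q = Q1 at h
  generalize c * g * z * (c * g)⁻¹ = s at h sy
  obtain ⟨w, hw, -, wz⟩ := h.symm.exists_y
  have two : ¬ p ∣ Nat.card ↥(Q1 ⊓ centralizer {z}) := fun d => by
    have := Fact.mk Nat.prime_two
    obtain ⟨n, e⟩ := IsPGroup.iff_card.1 (h.r.isPGroup.to_le (inf_le_left (b := centralizer {z})))
    exact h2 ((Nat.prime_dvd_prime_iff_eq Fact.out Nat.prime_two).1 ((Fact.out : p.Prime).dvd_of_dvd_pow (e ▸ d)))
  have cz : ∀ k, k * z = z * k → w * k * z * (w * k)⁻¹ = s * z := fun k e => by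
    rw [← wz, mul_assoc w, e]; group
  obtain ⟨k, hk, e⟩ := fixp two (u := y) (v := y) (x := w) (hy ▸ pow_orderOf_eq_one y) (hy ▸ pow_orderOf_eq_one y)
    fun k hk => ⟨Q1.mul_mem (Q1.inv_mem hw) (h.r.norm y sy _ (mul_mem hw hk.1)), mem_cent_single.2 (comm_of_conj_eq (by
      calc _ = w⁻¹ * (y * (w * k * (y⁻¹ * (z * y)) * (w * k)⁻¹) * y⁻¹) * w := by group
        _ = w⁻¹ * (y * s * (z * y⁻¹)) * w := by rw [← yz, inv_mul_cancel_left, cz k (mem_cent_single.1 hk.2)]; group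
        _ = _ := by
          rw [sy.eq, ← (show y⁻¹ * z = z * y⁻¹ from Commute.inv_left yz), mul_assoc s, mul_inv_cancel_left, ← wz]; group))⟩
  refine ⟨w * k, e.symm, ?_⟩
  rw [cz k (mem_cent_single.1 hk.2)]
  exact ⟨mul_mem h.bQ F.mem, h.symm.zb_ne_b⟩

/-- the centraliser of `y` modulo `y` -/
theorem sect {p : ℕ} [Fact p.Prime] (h2 : p ≠ 2) {y : G} (hy : orderOf y = p) (yz : y * z = z * y)
    (hw : ∃ g, g * z * g⁻¹ ∈ Q ∧ g * z * g⁻¹ ≠ z) {W W' : Submodule (ZMod 2) V8} (hO : D8.IsOrthCompl W W')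
    (hW : ∀ v, (a y).1 v = v ↔ v ∈ W) (hL : ∀ g : D8.isom, g * a y = a y * g → ∃ k : ℕ, ∀ v ∈ W', g.1 v = (a y ^ k).1 v)
    {ι : Type} [Fintype ι] [DecidableEq ι] {D : Form (quadKind (ZMod 2)) (ι → ZMod 2)} (hI : (D8.restrict W).Iso D)
    (hG : D.Good) (hT : D.HasTS 1) (hc : pCore 2 (commutator D.isom) = ⊥) {N : Subgroup G}
    (hN : ∀ g, g ∈ N ↔ g * y = y * g) {S : Type*} [Group S] {π : N →* S} (hπ : Function.Surjective π)
    (hk : ∀ n, π n = 1 ↔ n.1 ∈ zpowers y) : ∃ R : Subgroup (centralizer ({π ⟨z, (hN z).2 yz.symm⟩} : Set S)),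
      LXH _ R (2 * 2 ^ Fintype.card ι) (Omega (ZMod 2) D.Q) ∧ ∀ x, x ∈ R ↔ ∃ q : N, q.1 ∈ Q ∧ π q = x := by
  obtain ⟨e, he⟩ := hI
  have n8 := fPlus_nondeg (F := ZMod 2) 4
  have nW := hO.nondeg_left n8
  have nD := he.nondeg nW
  have od : Odd (orderOf y) := hy ▸ (Fact.out : p.Prime).odd_of_ne_two h2
  have yp : y ^ p = 1 := hy ▸ pow_orderOf_eq_one y
  have : Finite S := Finite.of_surjective _ hπ
  let z' : N := ⟨z, (hN z).2 yz.symm⟩
  have cz : ∀ l : centralizer ({z'} : Set N), l.1.1 * z = z * l.1.1 := fun l =>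
    congrArg Subtype.val (mem_cent_single.1 l.2)
  have cy : ∀ l : centralizer ({z'} : Set N), a l.1.1 * a y = a y * a l.1.1 := fun l => by
    rw [← a_mul F (cz l) yz, (hN _).1 l.1.2, a_mul F yz (cz l)]
  have st : ∀ g : D8.isom, g * a y = a y * g → g ∈ D8.stab W := fun g h => D8.mem_stab_of_mapsTo fun v hv =>
    (hW _).1 (by rw [← Form.isom_mul_apply, ← h, Form.isom_mul_apply, (hW v).2 hv])
  have tk : ∀ (k : ℕ), ∀ v ∈ W, (a y ^ k).1 v = v := fun k v hv => by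
    induction k with
    | zero => rfl
    | succ k ih => rw [pow_succ, Form.isom_mul_apply, (hW v).2 hv, ih]
  let θ : centralizer ({z'} : Set N) →* centralizer ({π z'} : Set S) :=
    (π.comp (Subgroup.subtype _)).codRestrict _ fun l => mem_cent_single.2
      ((map_mul π _ _).symm.trans ((congrArg π (mem_cent_single.1 l.2)).trans (map_mul π _ _)))
  have eq1 : ∀ m n : N, π m = π n → m.1 * n.1⁻¹ ∈ Q → m = n := fun m n h q =>
    mul_inv_eq_one.1 (Subtype.ext (inter F od ((hk (m * n⁻¹)).1 (by rw [map_mul, map_inv, h, mul_inv_cancel])) q))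
  have hθ : Function.Surjective θ := fun d => by
    obtain ⟨n, hn⟩ := hπ d
    have u := (hk (n * z' * n⁻¹ * z'⁻¹)).1 (by
      rw [map_mul, map_mul, map_mul, map_inv, map_inv, hn, mem_cent_single.1 d.2]; group)
    have c : Commute (n * z' * n⁻¹ * z'⁻¹).1 z := by
      obtain ⟨k, hk⟩ := u; rw [← hk]; exact Commute.zpow_left yz k
    have := eq_one_of_odd_of_two (by rwa [Nat.card_zpowers]) u (n := 1) (by
      have := c.mul_pow 2
      rw [pow_two z, F.sq, mul_one] at this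
      rw [pow_one, ← this]
      change (n.1 * z * n.1⁻¹ * z⁻¹ * z) ^ 2 = 1
      rw [inv_mul_cancel_right, conj_pow, pow_two, F.sq]; group)
    exact ⟨⟨n, mem_cent_single.2 (Subtype.ext (comm_of_conj_eq (mul_inv_eq_one.1 this)))⟩, Subtype.ext hn⟩
  let A : centralizer ({z'} : Set N) →* D8.stab W := ((AH F).comp (((N.subtype).comp (Subgroup.subtype _)).codRestrict _
    fun l => mem_cent_single.2 (cz l))).codRestrict _ fun l => st _ (cy l)
  have ex : ∀ l, ∃ k : ℕ, a l.1.1 = Form.extend hO (D8.res W (A l)) * a y ^ k := fun l => by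
    obtain ⟨k, hk⟩ := hL _ (cy l)
    refine ⟨k, hO.isom_ext (fun w hw => ?_) fun w hw => ?_⟩
    · rw [Form.isom_mul_apply, tk k w hw]; exact (Form.extend_apply_left hO (D8.res W (A l)) ⟨w, hw⟩).symm
    · rw [Form.isom_mul_apply, ← hk w hw, Form.extend_apply_right]
      rw [hO.eq_perp n8] at hw ⊢
      exact (D8.stab_le_stab_perp W (A l).2 w).1 hw
  have dk : ∀ r, Form.isomCongr e he r ∈ commutator D.isom ↔ Form.extend hO r ∈ commutator D8.isom := fun r => by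
    rw [nD.commutator_eq_ker_of_two_eq_zero hG rfl, n8.commutator_eq_ker_of_two_eq_zero good8 rfl, MonoidHom.mem_ker,
      MonoidHom.mem_ker, Form.dickson_extend, Form.dickson_isomCongr nW]
  let τ : centralizer ({z'} : Set N) →* commutator D.isom :=
    ((Form.isomCongr e he).toMonoidHom.comp ((D8.res W).comp A)).codRestrict _ fun l => (dk _).2 (by
      obtain ⟨k, hk⟩ := ex l
      exact (mul_mem_cancel_right (pow_mem (F.mem_rng y yz) k)).1 (hk ▸ F.mem_rng _ (cz l)))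
  have τ1 : ∀ l, τ l = 1 ↔ ∀ v ∈ W, (a l.1.1).1 v = v := fun l =>
    (Subtype.ext_iff.trans (map_eq_one_iff _ (Form.isomCongr e he).injective)).trans
      ⟨fun h v hv => congrArg (fun r => (r.1 ⟨v, hv⟩).1) h, fun h => Form.isom_ext fun v => Subtype.ext (h v v.2)⟩
  have hτ : Function.Surjective τ := fun s => by
    obtain ⟨r, hr⟩ := (Form.isomCongr e he).surjective s
    obtain ⟨c, c1, c2⟩ := F.rng _ ((dk r).1 (hr ▸ s.2))
    obtain ⟨x, x1, x2, x3⟩ := lift F h2 yp yp yz yz c1 (by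
      rw [c2]
      refine hO.isom_ext (fun w hw => ?_) fun w hw => ?_ <;> rw [Form.isom_mul_apply, Form.isom_mul_apply]
      · rw [(hW w).2 hw, Form.extend_apply_left hO _ ⟨w, hw⟩, (hW _).2 (Subtype.mem _)]
      · rw [Form.extend_apply_right hO _ hw, Form.extend_apply_right]
        rw [hO.eq_perp n8] at hw ⊢
        exact (D8.stab_le_stab_perp W (st _ rfl) w).1 hw)
    refine ⟨⟨⟨x, (hN x).2 x3.symm⟩, mem_cent_single.2 (Subtype.ext x1)⟩, Subtype.ext
      ((congrArg (Form.isomCongr e he) (Form.isom_ext fun v => Subtype.ext ?_)).trans hr)⟩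
    change (a x).1 v = _
    rw [x2, c2, Form.extend_apply_left]
  let K : Subgroup (centralizer ({z'} : Set N)) := Q.comap (N.subtype.comp (Subgroup.subtype _))
  have Kn : K.Normal := ⟨fun k hk l => F.norm _ (cz l) _ hk⟩
  have Rn : (K.map θ).Normal := Kn.map θ hθ
  have kτ : ∀ l, τ l = 1 ↔ θ l ∈ K.map θ := fun l => by
    constructor
    · intro h
      obtain ⟨k, e⟩ := ex l
      rw [show D8.res W (A l) = 1 from Form.isom_ext fun v => Subtype.ext ((τ1 l).1 h v v.2), map_one, one_mul] at e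
      let Y : centralizer ({z'} : Set N) := ⟨⟨y, (hN y).2 rfl⟩, mem_cent_single.2 (Subtype.ext yz)⟩
      refine ⟨l * (Y ^ k)⁻¹, mem_Q F (cz (l * (Y ^ k)⁻¹)) ?_, ?_⟩
      · change a (l.1.1 * (y ^ k)⁻¹) = 1
        have := Commute.pow_left yz k
        rw [a_mul F (cz l) this.inv_left, a_inv F this, e, a_pow F yz, mul_inv_cancel]
      · rw [map_mul, map_inv, map_pow, show θ Y = 1 from Subtype.ext ((hk _).2 (mem_zpowers y))]; simp
    · rintro ⟨q, hq, e⟩
      obtain ⟨k, hk⟩ := (mem_powers_iff_mem_zpowers.2 ((hk (q⁻¹ * l).1).1 (congrArg Subtype.val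
        (show θ (q⁻¹ * l) = 1 by rw [map_mul, map_inv, e, inv_mul_cancel]))))
      refine (τ1 l).2 fun v hv => ?_
      rw [show l.1.1 = q.1.1 * y ^ k from (mul_inv_cancel_left q.1.1 l.1.1).symm.trans (congrArg _ hk.symm),
        a_mul F (cz q) (Commute.pow_left yz k), a_Q F (c := q.1.1) hq, one_mul, a_pow F yz, tk k v hv]
  obtain ⟨ε, -⟩ := exists_quot_equiv hθ hτ kτ
  have lf : ∀ v ∈ W, ∃ q ∈ K, ν q.1.1 = v := fun v hv => by
    obtain ⟨x, x1, x2, x3⟩ := fix_lift F od yz ((hW v).2 hv)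
    exact ⟨⟨⟨x, (hN x).2 x3⟩, mem_cent_single.2 (Subtype.ext (F.cen x x1))⟩, x1, x2⟩
  have mW : ∀ q ∈ K, ν q.1.1 ∈ W := fun q hq => (hW _).1 (by
    rw [← F.act y yz q.1.1 hq, conj_eq_of_comm ((hN _).1 q.1.2).symm])
  let ζ : centralizer ({z'} : Set N) := ⟨z', mem_cent_single.2 rfl⟩
  obtain ⟨v, v0, vq⟩ := Form.hasTS_one_iff.1 ((Form.Iso.hasTS_iff ⟨e, he⟩).2 hT)
  have E : ES K ζ :=
    { mem := F.mem
      ne := fun h => F.ne (congrArg (·.1.1) h)
      sq := Subtype.ext (Subtype.ext F.sq)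
      cen := fun x hx => Subtype.ext (Subtype.ext (F.cen _ hx))
      of_cen := fun x hx h => ((F.zero _ hx).1 (congrArg Subtype.val (nW ⟨_, mW x hx⟩ fun w => by
        obtain ⟨q, hq, e⟩ := lf w w.2
        rw [Form.restrict_B, ← e]
        exact (F.comm' _ hx _ hq).1 (congrArg (·.1.1) (h q hq))))).imp
          (fun e => Subtype.ext (Subtype.ext e)) fun e => Subtype.ext (Subtype.ext e)
      comm := fun x hx w hw => (F.comm _ hx _ hw).imp (fun e => Subtype.ext (Subtype.ext e))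
        fun e => Subtype.ext (Subtype.ext e)
      sq_mem := fun x hx => (F.sq_mem _ hx).imp (fun e => Subtype.ext (Subtype.ext e))
        fun e => Subtype.ext (Subtype.ext e)
      nonab := by
        obtain ⟨w, hw⟩ := nW.exists_ne_zero v0
        obtain ⟨q, hq, e⟩ := lf v v.2
        obtain ⟨r, hr, f⟩ := lf w w.2
        exact ⟨q, hq, r, hr, fun h => hw (by
          rw [Form.restrict_B, ← e, ← f]; exact (F.comm' _ hq _ hr).1 (congrArg (·.1.1) h))⟩ }
  have iK : Function.Injective (θ.subgroupMap K) := fun q r h => Subtype.ext (Subtype.ext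
    (eq1 _ _ (congrArg (·.1.1) h) (mul_mem q.2 (inv_mem r.2))))
  let ψ := MulEquiv.ofBijective _ ⟨iK, θ.subgroupMap_surjective K⟩
  have cK : Nat.card K = 2 * 2 ^ Fintype.card ι := by
    let f : K →* Multiplicative (ι → ZMod 2) := MonoidHom.mk' (fun q => .ofAdd (e ⟨_, mW q q.2⟩)) fun q r =>
      congrArg Multiplicative.ofAdd ((congrArg e (Subtype.ext (F.add _ q.2 _ r.2))).trans (map_add e _ _))
    have := f.ker.card_mul_index
    rw [index_ker, MonoidHom.range_eq_top.2 fun x => by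
        obtain ⟨q, hq, h⟩ := lf _ (e.symm x.toAdd).2
        exact ⟨⟨q, hq⟩, congrArg Multiplicative.ofAdd ((congrArg e (Subtype.ext h)).trans (e.apply_symm_apply _))⟩,
      show f.ker = (zpowers ζ).subgroupOf K from Subgroup.ext fun q => (e.map_eq_zero_iff.trans (Subtype.ext_iff.trans
        ((F.zero q.1.1.1 q.2).trans (or_congr ((Subtype.ext_iff (a1 := q.1) (a2 := 1)).trans Subtype.ext_iff)
          ((Subtype.ext_iff (a1 := q.1) (a2 := ζ)).trans Subtype.ext_iff)).symm))).trans E.mem_zp.symm,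
      Nat.card_congr (subgroupOfEquivOfLe (zpowers_le.2 E.mem)).toEquiv, card_zpowers_invol E.sq E.ne, card_top] at this
    rw [← this]; simp
  obtain ⟨g, g1, g2, g3⟩ := nwc F h2 hy yz hw (fun h => v0 (Subtype.ext h)) vq ((hW _).2 v.2)
  let g' : N := ⟨g, (hN g).2 g1⟩
  refine ⟨K.map θ, ⟨orderOf_eq_two_of (by rw [← map_mul, show z' * z' = 1 from Subtype.ext F.sq, map_one])
    fun h => F.ne (inter F od ((hk _).1 h) F.mem), Rn, fstar_eq_of ε hc (E.isPGroup.map θ) fun d hd => ?_,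
    Cfsg.Agent.S1784.xs_eqv ψ E.isExtraspecial, (Nat.card_congr ψ.toEquiv).symm.trans cK,
    ⟨ε.trans (omegaEquiv D).symm⟩, π g', ?_, fun h => g3 (congrArg Subtype.val (eq1 (g' * z' * g'⁻¹) z'
      (by rwa [map_mul, map_mul, map_inv]) (mul_mem g2 (inv_mem F.mem))))⟩, fun x => ⟨?_, ?_⟩⟩
  · obtain ⟨l, rfl⟩ := hθ d
    refine (kτ l).1 ((τ1 l).2 fun w hw => ?_)
    obtain ⟨q, hq, rfl⟩ := lf w hw
    rw [← F.act _ (cz l) q.1.1 hq, show l.1.1 * q.1.1 * l.1.1⁻¹ = q.1.1 from congrArg Subtype.val (eq1 (l * q * l⁻¹).1 q.1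
      (congrArg Subtype.val (show θ (l * q * l⁻¹) = θ q by rw [map_mul, map_mul, map_inv, ← hd _ ⟨q, hq, rfl⟩]; group))
      (mul_mem (Kn.conj_mem q hq l) (inv_mem hq)))]
  · let s : centralizer ({z'} : Set N) := ⟨g' * z' * g'⁻¹, mem_cent_single.2 (Subtype.ext (F.cen _ g2))⟩
    have : (θ s : S) = π g' * π z' * (π g')⁻¹ := by rw [← map_inv, ← map_mul, ← map_mul]; rfl
    exact ⟨this ▸ (θ s).2, s, g2, Subtype.ext this⟩
  · rintro ⟨q, hq, rfl⟩
    exact ⟨q.1, hq, rfl⟩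
  · rintro ⟨q, hq, h⟩
    exact ⟨⟨q, mem_cent_single.2 (Subtype.ext (F.cen _ hq))⟩, hq, Subtype.ext h⟩

end Cfsg.Lib.Small.CoS
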