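import Cfsg.Agent.Lib.Small.CoS1
import Cfsg.Agent.S5388

/-! The section of Suzuki type in `Co1`. -/

set_option autoImplicit false

namespace Cfsg.Lib.Small.CoS

open Cfsg.Lib.Forms Subgroup Cfsg.Lib.Small.Co1Z Cfsg.Lib.Known2 Cfsg.Lib.PGrp Cfsg.Agent.S5405
  Cfsg.Lib.Core Cfsg.Lib.Amalg Cfsg.Lib.Small.CoT Cfsg.Lib.Leech Cfsg.Spor Module

theorem lin3 {u v : V8} (hu : D8.Q u = 1) (hv : D8.Q v = 1) (h : D8.B u v = 1) :
    ∃ W W' : Submodule (ZMod 2) V8, D8.IsOrthCompl W W' ∧ (∀ x, (D8.refl u * D8.refl v).1 x = x ↔ x ∈ W) ∧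
      (∀ g : D8.isom, g * (D8.refl u * D8.refl v) = D8.refl u * D8.refl v * g →
        ∃ k : ℕ, ∀ x ∈ W', g.1 x = ((D8.refl u * D8.refl v) ^ k).1 x) ∧ (D8.restrict W).Iso (fMinus 2 1 1) := by
  have n8 := fPlus_nondeg (F := ZMod 2) 4
  have h' : D8.B v u = 1 := (quad_symm D8 v u).trans h
  have li : ∀ s t : ZMod 2, s • u + t • v = 0 → s = 0 ∧ t = 0 := fun s t e => by
    have a := congrArg (D8.B u) e
    have b := congrArg (D8.B v) e
    simp only [D8.B_add_right, D8.B_smul_right, Cfsg.Agent.S5405.Bs, h, h', map_zero] at a b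
    simpa [and_comm] using And.intro a b
  have hO := (n8.isOrthCompl (W := Submodule.span (ZMod 2) {u, v}) (Submodule.disjoint_def.2 fun x hx k => by
    obtain ⟨s, t, rfl⟩ := Submodule.mem_span_pair.1 hx
    rw [D8.mem_perp_span_pair] at k
    simp only [D8.B_add_right, D8.B_smul_right, Cfsg.Agent.S5405.Bs, h, h'] at k
    simp_all)).symm
  have hW : ∀ x, (D8.refl u * D8.refl v).1 x = x ↔ x ∈ D8.perp (Submodule.span (ZMod 2) {u, v}) := fun x => by
    rw [tt hu hv h, add_eq_left, D8.mem_perp_span_pair]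
    refine ⟨fun e => ?_, fun e => by simp [e]⟩
    obtain ⟨a, b⟩ := li (D8.B u x + D8.B v x) (D8.B v x) (by rw [← e]; module)
    exact ⟨by simpa [b] using a, b⟩
  have tu : (D8.refl u * D8.refl v).1 u = v := by
    rw [tt hu hv h, Cfsg.Agent.S5405.Bs, h', zero_smul, zero_add, one_smul, ← add_assoc, aa (D := D8), zero_add]
  have tv : (D8.refl u * D8.refl v).1 v = u + v := by
    rw [tt hu hv h, Cfsg.Agent.S5405.Bs, h, zero_smul, add_zero, one_smul, add_comm]
  have cs : ∀ x ∈ Submodule.span (ZMod 2) {u, v}, x = 0 ∨ x = u ∨ x = v ∨ x = u + v := fun x hx => by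
    obtain ⟨s, t, rfl⟩ := Submodule.mem_span_pair.1 hx
    rcases z2 s with rfl | rfl <;> rcases z2 t with rfl | rfl <;> simp
  have f2 : finrank (ZMod 2) (Submodule.span (ZMod 2) ({u, v} : Set V8)) = 2 := by
    have := finrank_span_eq_card (LinearIndependent.pair_iff.2 li)
    rwa [Matrix.range_cons_cons_empty, Fintype.card_fin] at this
  have f6 := n8.finrank_perp (Submodule.span (ZMod 2) {u, v})
  rw [f2, finrank_plus] at f6
  refine ⟨_, _, hO, hW, fun g hg => ?_, Quad.iso_fMinus (hO.nondeg_left n8) (by omega) (fun k => ?_) an2⟩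
  · generalize D8.refl u * D8.refl v = t at *
    have m : g.1 u ∈ Submodule.span (ZMod 2) {u, v} := by
      rw [hO.eq_perp n8]
      refine (D8.stab_le_stab_perp _ (D8.mem_stab_of_mapsTo fun x hx => (hW _).1 ?_) u).1
        (hO.orth (Submodule.subset_span (by simp)))
      rw [← Form.isom_mul_apply, ← hg, Form.isom_mul_apply, (hW x).2 hx]
    obtain ⟨k, hk⟩ : ∃ k : ℕ, g.1 u = (t ^ k).1 u := by
      rcases cs _ m with e | e | e | e
      · exact absurd (D8.Q_isom g u) (by rw [e, hu, D8.Q_zero]; decide)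
      · exact ⟨0, e⟩
      · exact ⟨1, by rw [pow_one, tu, e]⟩
      · exact ⟨2, by rw [pow_two, Form.isom_mul_apply, tu, tv, e]⟩
    refine ⟨k, fun x hx => ?_⟩
    obtain ⟨s, r, rfl⟩ := Submodule.mem_span_pair.1 hx
    rw [map_add, map_add, map_smul, map_smul, map_smul, map_smul, hk, ← tu, ← Form.isom_mul_apply g, hg,
      Form.isom_mul_apply, hk, ← Form.isom_mul_apply t, ← Form.isom_mul_apply _ t, pow_mul_comm']
  · obtain ⟨⟨x, hx⟩, x0, xq⟩ := Form.hasTS_one_iff.1 (((Quad.hasTS_prod_iff_iff (hO.nondeg_left n8)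
      (hO.symm.nondeg_left n8) (m := 3) (l := 1) (by omega) f2).1 (hO.iso.hasTS_iff.1 (fPlus_hasTS 4))).1 k)
    rw [Form.restrict_Q] at xq
    rcases cs x hx with rfl | rfl | rfl | rfl
    · exact x0 rfl
    · exact absurd (hu.symm.trans xq) (by decide)
    · exact absurd (hv.symm.trans xq) (by decide)
    · exact absurd ((hv.symm.trans (D8.Q_isom _ v).symm).trans ((congrArg D8.Q tv).trans xq)) one_ne_zero

theorem pc6 : pCore 2 (commutator (fMinus 2 (1 : ZMod 2) 1).isom) = ⊥ := by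
  classical
  have n := fMinus_nondeg (F := ZMod 2) 2 an2
  have f := finrank_minus (F := ZMod 2) 2
  have h := n.card_center_omega (Form.good_of_finrank (by omega)) (by omega)
  rw [if_neg fun a => a.1 rfl] at h
  have := Form.finite_isom (D := fMinus 2 (1 : ZMod 2) 1)
  have k := (n.omega_normal_and_simple (by omega)).1 (pCore 2 _) inferInstance
  rw [eq_bot_of_card_eq _ h, le_bot_iff] at k
  refine k.resolve_right fun e => ?_
  have := Fact.mk Nat.prime_two
  have p := (isPGroup_pCore 2 (commutator (fMinus 2 (1 : ZMod 2) 1).isom)).of_equiv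
    ((MulEquiv.subgroupCongr e).trans topEquiv)
  have := p.isNilpotent
  have := (n.omega_normal_and_simple (by omega)).2.toNontrivial
  have := (QuotientGroup.mk'_surjective (center (commutator (fMinus 2 (1 : ZMod 2) 1).isom))).nontrivial
  exact absurd (eq_bot_of_card_eq _ h) (p.bot_lt_center).ne'

theorem exists_fg : ∃ (Q : Subgroup Co1) (z : Co1) (ν : Co1 → V8) (a : Co1 → D8.isom), FG Q z ν a ∧
    ∃ g, g * z * g⁻¹ ∈ Q ∧ g * z * g⁻¹ ≠ z := by
  obtain ⟨z, hz, Q, hn, hF, hQ, hc, ⟨e⟩, g, ⟨g1, g2⟩, g3⟩ := Cfsg.Agent.S5388.result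
  let e' := e.trans (omegaIso D8 fPlus_Q)
  have X : XT (Q.map (centralizer ({z} : Set Co1)).subtype) z :=
    { toLS := (ls_of_fstar hz (by rw [hF])
        (Cfsg.Agent.S1784.xs_eqv (equivMapOfInjective _ _ (subtype_injective _)) hQ)).1
      card := by rw [card_subtype, hc]
      quo := ⟨e'.toMonoidHom.comp (QuotientGroup.mk' Q), e'.surjective.comp (QuotientGroup.mk'_surjective Q),
        fun c => ((map_eq_one_iff _ e'.injective).trans (QuotientGroup.eq_one_iff c)).trans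
          ⟨fun h => ⟨c, h, rfl⟩, fun ⟨_, h, e⟩ => Subtype.ext e ▸ h⟩⟩ }
  have m : g * z * g⁻¹ ∈ Q.map (centralizer ({z} : Set Co1)).subtype := ⟨_, g2, rfl⟩
  obtain ⟨M, hM, -⟩ := X.exists_M m (X.toLS.conj g).ne g3 (X.toLS.conj g).sq (v := Pi.single (.inl 0) 1)
    (by decide) (by decide)
  exact ⟨_, z, _, _, X.fg M hM, g, m, g3⟩

theorem transfer {b : Co0} {p : ℕ} (hp : Odd p) (hb : b ^ p = 1)
    [((zpowers (mk1 b)).subgroupOf (centralizer (zpowers (mk1 b) : Set Co1))).Normal] :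
    ∃ _ : ((zpowers b ⊔ center Co0).subgroupOf (centralizer (zpowers b : Set Co0))).Normal,
      Nonempty ((centralizer (zpowers (mk1 b) : Set Co1) ⧸ (zpowers (mk1 b)).subgroupOf _) ≃*
        centralizer (zpowers b : Set Co0) ⧸ (zpowers b ⊔ center Co0).subgroupOf _) := by
  let θ : centralizer (zpowers b : Set Co0) →* centralizer (zpowers (mk1 b) : Set Co1) :=
    (mk1.comp (Subgroup.subtype _)).codRestrict _ fun k => mem_cent_zpowers.2
      ((map_mul mk1 _ _).symm.trans ((congrArg mk1 (mem_cent_zpowers.1 k.2)).trans (map_mul mk1 _ _)))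
  have hθ : Function.Surjective θ := fun d => by
    obtain ⟨k, hk⟩ := mk1_surjective d
    have := mem_cent_zpowers.1 d.2
    rw [← hk, ← map_mul, ← map_mul, mk1_eq_iff] at this
    refine ⟨⟨k, mem_cent_zpowers.2 (this.resolve_right fun h => negOne_ne_one ?_)⟩, Subtype.ext hk⟩
    have e : k * b * k⁻¹ = negOne * b := by rw [h]; group
    have e2 : (negOne * b) ^ p = 1 := by rw [← e, conj_pow, hb]; simp
    obtain ⟨m, rfl⟩ := hp
    rwa [Commute.mul_pow (negOne_comm b).symm, hb, mul_one, pow_succ, pow_mul, pow_two,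
      negOne_mul_self, one_pow, one_mul] at e2
  have k : ((QuotientGroup.mk' ((zpowers (mk1 b)).subgroupOf _)).comp θ).ker = (zpowers b ⊔ center Co0).subgroupOf _ := by
    ext x
    refine (QuotientGroup.eq_one_iff _).trans ?_
    change mk1 x ∈ zpowers (mk1 b) ↔ x.1 ∈ zpowers b ⊔ center Co0
    rw [← MonoidHom.map_zpowers, ← mem_comap, comap_map_eq, QuotientGroup.ker_mk']
  have hn : ((zpowers b ⊔ center Co0).subgroupOf (centralizer (zpowers b : Set Co0))).Normal :=
    k ▸ MonoidHom.normal_ker _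
  exact ⟨hn, ⟨((QuotientGroup.quotientMulEquivOfEq k.symm).trans (QuotientGroup.quotientKerEquivOfSurjective _
    ((QuotientGroup.mk'_surjective _).comp hθ))).symm⟩⟩

theorem exists_b3 : ∃ b : Co0, orderOf b = 3 ∧ ∀ [((zpowers (mk1 b)).subgroupOf
    (centralizer (zpowers (mk1 b) : Set Co1))).Normal], ∃ (z : centralizer (zpowers (mk1 b) : Set Co1) ⧸
      (zpowers (mk1 b)).subgroupOf _) (R : Subgroup _),
      LXH z R (2 ^ 7) (Omega (ZMod 2) (quadFormMinus 2 (ZMod 2) 1 1)) := by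
  obtain ⟨Q, z, ν, a, F, hw⟩ := exists_fg
  have : Fact (Nat.Prime 3) := ⟨Nat.prime_three⟩
  have hu : D8.Q (vec (ixP 4) 68) = 1 := by decide +kernel
  have hv : D8.Q (vec (ixP 4) 140) = 1 := by decide +kernel
  have h : D8.B (vec (ixP 4) 68) (vec (ixP 4) 140) = 1 := by rw [← Bq8]; decide +kernel
  obtain ⟨W, W', h1, h2, h3, h4⟩ := lin3 hu hv h
  have c3 := cube hu hv h
  have t1 : D8.refl (vec (ixP 4) 68) * D8.refl (vec (ixP 4) 140) ≠ 1 := fun e => by
    have := tt hu hv h (vec (ixP 4) 140)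
    rw [e, h, Cfsg.Agent.S5405.Bs, Form.isom_one_apply, left_eq_add, zero_smul, add_zero, one_smul] at this
    exact absurd this (by decide +kernel)
  obtain ⟨c, cz, hc⟩ := F.rng _ (rr (fPlus_nondeg 4) hu hv)
  rw [← hc, ← pow_three] at c3
  rw [← hc] at h2 h3 t1
  obtain ⟨k, rfl⟩ := mk1_surjective c
  have k12 : mk1 k ^ 12 = 1 := by
    simpa [← pow_mul] using F.pow_four (mem_Q F (Commute.pow_left cz 3) ((a_pow F cz 3).trans c3))
  have e : a (mk1 (k ^ 16)) = a (mk1 k) := by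
    rw [map_pow, a_pow F cz, show 16 = 3 * 5 + 1 from rfl, pow_succ, pow_mul, c3, one_pow, one_mul]
  have b3 : (k ^ 16) ^ 3 = 1 := by
    rw [← pow_mul, show 16 * 3 = 12 * 2 * 2 from rfl, pow_mul, pow_mul]
    rcases mk1_eq_one.1 ((map_pow mk1 k 12).trans k12) with e | e <;> simp [e, pow_two, negOne_mul_self]
  have n1 : mk1 (k ^ 16) ≠ 1 := fun h => t1 (by rw [← e, h]; exact a_Q F (one_mem _))
  rw [← e] at h2 h3
  refine ⟨k ^ 16, orderOf_eq_prime b3 fun h => n1 (by rw [h, map_one]), ?_⟩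
  intro _
  obtain ⟨R, hR, -⟩ := sect F (p := 3) (by norm_num) (orderOf_eq_prime (by rw [← map_pow, b3, map_one]) n1)
    (by rw [map_pow]; exact Commute.pow_left cz 16) hw h1 h2 h3 h4
    (Form.good_of_finrank (by rw [finrank_minus]; norm_num)) (Form.hasTS_one_iff.2 ⟨Pi.single (.inl (.inl 0)) 1,
      by decide +kernel, by decide +kernel⟩) pc6 (fun _ => mem_cent_zpowers)
    (QuotientGroup.mk'_surjective ((zpowers (mk1 (k ^ 16))).subgroupOf _)) fun n => QuotientGroup.eq_one_iff n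
  exact ⟨_, R, hR⟩

end Cfsg.Lib.Small.CoS
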