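import Cfsg.Agent.Lib.Small.Co1Z2
import Cfsg.Agent.Lib.PGrp.CExt
import Cfsg.Agent.Lib.Known2.LE2

/-! Groups `2^{1+8}.Ω₈⁺(2)`: coordinates on the extraspecial group. -/

set_option autoImplicit false

namespace Cfsg.Lib.Small.CoT

open Cfsg.Lib.Forms Subgroup Cfsg.Lib.Small.Co1Z Cfsg.Lib.Known2 Cfsg.Lib.PGrp Cfsg.Agent.S5405

variable {G : Type*} [Group G]

structure XT (Q : Subgroup G) (z : G) : Prop extends LS Q z where
  card : Nat.card Q = 2 ^ 9
  quo : ∃ τ : centralizer ({z} : Set G) →* commutator D8.isom, Function.Surjective τ ∧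
    ∀ c, τ c = 1 ↔ c.1 ∈ Q

structure FG (Q : Subgroup G) (z : G) (ν : G → V8) (a : G → D8.isom) : Prop extends XT Q z where
  add : ∀ x ∈ Q, ∀ y ∈ Q, ν (x * y) = ν x + ν y
  zero : ∀ x ∈ Q, ν x = 0 ↔ x = 1 ∨ x = z
  surj : ∀ v, ∃ x ∈ Q, ν x = v
  sq' : ∀ x ∈ Q, x * x = 1 ↔ D8.Q (ν x) = 0
  comm' : ∀ x ∈ Q, ∀ y ∈ Q, x * y = y * x ↔ D8.B (ν x) (ν y) = 0
  act : ∀ c, c * z = z * c → ∀ x ∈ Q, ν (c * x * c⁻¹) = (a c).1 (ν x)
  rng : ∀ g ∈ commutator D8.isom, ∃ c, c * z = z * c ∧ a c = g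
  mem_rng : ∀ c, c * z = z * c → a c ∈ commutator D8.isom

variable {Q : Subgroup G} {z : G}

/-- the action of the centraliser on `Q` -/
def κ (h : LS Q z) : centralizer ({z} : Set G) →* MulAut Q :=
  Q.normalizerMonoidHom.comp (inclusion h.cent_le_norm)

theorem κ_apply (h : LS Q z) (c : centralizer ({z} : Set G)) (x : Q) :
    (κ h c x : G) = c * x * (c : G)⁻¹ := rfl

theorem perf8 : commutator (commutator D8.isom) = ⊤ :=
  (fPlus_nondeg (F := ZMod 2) 4).commutator_commutator_eq_top (by rw [finrank_plus]; norm_num)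

section
variable [Finite G] {V : Type*} [AddCommGroup V] [Module (ZMod 2) V] (M : CExt 2 Q V)
  (hN : M.alt.Nondeg)
include hN

theorem i_one (h : LS Q z) : (M.i 1 : G) = z :=
  (h.of_cen _ (M.i 1).2 fun y hy => congrArg Subtype.val (M.i_comm 1 ⟨y, hy⟩).eq).resolve_left
    fun e => one_ne_zero (M.i_eq_one.1 (Subtype.ext e))

theorem pr_eq (h : LS Q z) {x y : Q} : M.pr x = M.pr y ↔ (x : G) = y ∨ (x : G) = y * z := by
  rw [M.pr_eq_iff]
  constructor
  · rintro ⟨a, rfl⟩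
    rcases z2 a with rfl | rfl
    · left; simp [M.i_zero]
    · right; rw [coe_mul, i_one M hN h]
  · rintro (e | e)
    · exact ⟨0, by rw [M.i_zero, mul_one]; exact Subtype.ext e⟩
    · exact ⟨1, Subtype.ext (by rw [coe_mul, i_one M hN h, e])⟩

theorem ker_iff (h : LS Q z) (c : centralizer ({z} : Set G)) :
    M.autLin hN (κ h c) = 1 ↔ c.1 ∈ Q := by
  constructor
  · intro e
    refine h.mem_of_inner (mem_cent_single.1 c.2) fun x hx => ?_
    have := M.autLin_pr hN (κ h c) ⟨x, hx⟩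
    rw [e] at this
    exact (pr_eq M hN h).1 this.symm
  · intro hc
    refine LinearEquiv.ext (M.pr_surjective.forall.2 fun x => ?_)
    rw [M.autLin_pr]
    exact (pr_eq M hN h).2 (h.conj_eq hc x.2)

theorem XT.card_range (h : XT Q z) : Nat.card ((M.autLin hN).comp (κ h.toLS)).range = 174182400 := by
  obtain ⟨τ, h1, h2⟩ := h.quo
  rw [← index_ker, show ((M.autLin hN).comp (κ h.toLS)).ker = τ.ker from
    Subgroup.ext fun c => (ker_iff M hN h.toLS c).trans (h2 c).symm, index_ker,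
    MonoidHom.range_eq_top.2 h1, card_top, card_om8]

end

theorem XT.exists_M [Finite G] (h : XT Q z) {s : G} (hs : s ∈ Q) (h1 : s ≠ 1) (h2 : s ≠ z)
    (ss : s * s = 1) {v : V8} (hv : v ≠ 0) (hv' : D8.Q v = 0) :
    ∃ M : CExt 2 Q V8, (∀ v, M.P v = D8.Q v) ∧ M.pr ⟨s, hs⟩ = v := by
  obtain ⟨V, _, _, _, M, m, hN, hm⟩ := PGrp.IsExtraspecial.exists_cExt h.isExtraspecial
  have c1 := M.card_eq_pow
  rw [h.card, Nat.pow_right_inj one_lt_two, hm] at c1
  obtain rfl : m = 3 := by omega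
  have hT : M.quad.HasTS 4 := by
    by_contra hn
    have c2 := Quad.card_isom_minus (D := M.quad) hN hm hn
    have c3 := card_dvd_of_le (show ((M.autLin hN).comp (κ h.toLS)).range ≤ M.quad.isom by
      rw [← M.range_autLin hN]; rintro _ ⟨c, rfl⟩; exact ⟨_, rfl⟩)
    rw [h.card_range, c2, Nat.card_zmod] at c3
    norm_num [Finset.prod_range_succ] at c3
  obtain ⟨f, hf⟩ := Quad.iso_of_type (D := M.quad) (D' := D8) hN (fPlus_nondeg 4) hm (finrank_plus 4)
    (iff_of_true hT (fPlus_hasTS 4))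
  obtain ⟨g, hg⟩ := (fPlus_nondeg (F := ZMod 2) 4).exists_map_of_Q_eq (a := f (M.pr ⟨s, hs⟩))
    (fun e => by
      rw [f.map_eq_zero_iff, ← M.pr_one, pr_eq M hN h.toLS] at e
      simp [h1, h2] at e) hv
    (by rw [hf.2, hv']; exact M.P_eq_zero.2 (Subtype.ext (by rw [pow_two]; exact ss)))
  let F := f.trans g.1
  let M' : CExt 2 Q V8 := ⟨M.ι, F.toAddEquiv.toMultiplicative.toMonoidHom.comp M.π, M.inj,
    F.toAddEquiv.toMultiplicative.surjective.comp M.surj, by
      rw [← M.exact]; ext x; simp, M.central⟩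
  refine ⟨M', M'.pr_surjective.forall.2 fun x => ?_, hg⟩
  rw [M.i_injective ((M'.i_P x).trans (M.i_P x).symm)]
  exact ((mem_isom_quad.1 g.2 _).trans (hf.2 _)).symm

section
variable [Finite G] (M : CExt 2 Q V8) (hP : ∀ v, M.P v = D8.Q v)
include hP

omit [Finite G] in
theorem B_eq (v w : V8) : M.B v w = D8.B v w := by
  rw [quad_B_eq, ← hP, ← hP, ← hP]
  exact quad_B_eq (D := M.quad) v w

omit [Finite G] in
theorem nd : M.alt.Nondeg := fun x hx => fPlus_nondeg 4 x fun y => (B_eq M hP x y).symm.trans (hx y)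

theorem isom_eq : M.quad.isom = D8.isom := by
  ext g; rw [mem_isom_quad, mem_isom_quad]; exact forall_congr' fun x => by rw [← hP, ← hP]; rfl

/-- the action on the vector space -/
noncomputable def aM : MulAut Q →* D8.isom := (M.autLin (nd M hP)).codRestrict _ fun φ => by
  rw [← isom_eq M hP, ← M.range_autLin (nd M hP)]; exact ⟨φ, rfl⟩

theorem aM_pr (φ : MulAut Q) (x : Q) : (aM M hP φ).1 (M.pr x) = M.pr (φ x) := M.autLin_pr (nd M hP) φ x

theorem XT.range (h : XT Q z) : ((aM M hP).comp (κ h.toLS)).range = commutator D8.isom := by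
  have := Module.finite_of_finite (ZMod 2) (M := V8)
  have := Form.finite_isom (D := D8)
  obtain ⟨τ, h1, h2⟩ := h.quo
  refine eq_of_le_of_card_ge ?_ ?_
  · rintro _ ⟨c, rfl⟩
    have m : τ c ∈ (commutator _).map τ := by
      rw [map_commutator_eq, MonoidHom.range_eq_top.2 h1, ← commutator_def, perf8]; trivial
    obtain ⟨d, hd, e⟩ := m
    have : (aM M hP).comp (κ h.toLS) (d⁻¹ * c) = 1 := Subtype.ext
      ((ker_iff M (nd M hP) h.toLS _).2 ((h2 _).1 (by rw [map_mul, map_inv, e, inv_mul_cancel])))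
    rw [map_mul, map_inv, inv_mul_eq_one] at this
    rw [← this]
    exact map_mem_commutator _ hd
  · rw [card_om8, ← h.card_range M (nd M hP), ← card_subtype _ ((aM M hP).comp (κ h.toLS)).range,
      MonoidHom.map_range]
    rfl

open Classical in
theorem XT.fg (h : XT Q z) : FG Q z (fun x => if hx : x ∈ Q then M.pr ⟨x, hx⟩ else 0)
    (fun c => if hc : c ∈ centralizer {z} then aM M hP (κ h.toLS ⟨c, hc⟩) else 1) where
  toXT := h
  add x hx y hy := by simp only [dif_pos, hx, hy, mul_mem]; exact M.pr_mul ⟨x, hx⟩ ⟨y, hy⟩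
  zero x hx := by rw [dif_pos hx, ← M.pr_one, pr_eq M (nd M hP) h.toLS]; simp
  surj v := by obtain ⟨x, rfl⟩ := M.pr_surjective v; exact ⟨x, x.2, dif_pos x.2⟩
  sq' x hx := by rw [dif_pos hx, ← hP, M.P_eq_zero, pow_two, Subtype.ext_iff]; rfl
  comm' x hx y hy := by rw [dif_pos hx, dif_pos hy, ← B_eq M hP, M.B_eq_zero, Subtype.ext_iff]; rfl
  act c hc x hx := by
    rw [dif_pos hx, dif_pos (h.norm c hc x hx), dif_pos (mem_cent_single.2 hc), aM_pr]; rfl
  rng g hg := by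
    obtain ⟨c, rfl⟩ := (h.range M hP).ge hg
    exact ⟨c, mem_cent_single.1 c.2, dif_pos c.2⟩
  mem_rng c hc := by rw [dif_pos (mem_cent_single.2 hc)]; exact (h.range M hP).le ⟨_, rfl⟩

end

variable {G' : Type*} [Group G'] {Q' : Subgroup G'} {z' : G'}

theorem congr_P (M : CExt 2 Q V8) (e : Q ≃* Q') (v : V8) : (M.congr e).P v = M.P v := by
  obtain ⟨x, rfl⟩ := (M.congr e).pr_surjective v
  refine (M.congr e).i_injective (((M.congr e).i_P x).trans ?_)
  show _ = e (M.i (M.P (M.pr (e.symm x))))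
  rw [M.i_P, map_pow, e.apply_symm_apply]

/-- every element of one centraliser is matched by an element of the other -/
theorem XT.lift [Finite G] [Finite G'] (h : XT Q z) (h' : XT Q' z') (M : CExt 2 Q' V8)
    (hP : ∀ v, M.P v = D8.Q v) (ψ : Q ≃* Q') (d : centralizer ({z'} : Set G')) :
    ∃ c, MulAut.congr ψ (κ h.toLS c) = κ h'.toLS d := by
  have hP' : ∀ v, (M.congr ψ.symm).P v = D8.Q v := fun v => (congr_P M _ v).trans (hP v)
  obtain ⟨c, hc⟩ := (h.range _ hP').ge ((h'.range M hP).le ⟨d, rfl⟩)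
  obtain ⟨g, hg⟩ := M.exists_conj_eq (nd M hP) (κ h'.toLS d * (MulAut.congr ψ (κ h.toLS c))⁻¹).toMonoidHom
    (M.map_i M (nd M hP) (nd M hP) _) fun x => by
      obtain ⟨x, rfl⟩ := (MulAut.congr ψ (κ h.toLS c)).surjective x
      obtain ⟨x, rfl⟩ := ψ.surjective x
      have := aM_pr _ hP' (κ h.toLS c) x
      rw [show aM _ hP' (κ h.toLS c) = aM M hP (κ h'.toLS d) from hc] at this
      simp only [MulEquiv.coe_toMonoidHom, MulAut.mul_apply, MulAut.inv_apply_self]
      simp only [MulAut.congr, MulEquiv.coe_mk, Equiv.coe_fn_mk, MulEquiv.trans_apply,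
        MulEquiv.symm_apply_apply]
      exact (aM_pr M hP (κ h'.toLS d) (ψ x)).symm.trans this
  refine ⟨⟨(ψ.symm g).1, h.le_cent (ψ.symm g).2⟩ * c, ?_⟩
  rw [map_mul, map_mul, ← eq_mul_inv_iff_mul_eq]
  refine MulEquiv.ext fun x => ((hg x).trans ?_).symm
  obtain ⟨x, rfl⟩ := ψ.surjective x
  rw [show MulAut.congr ψ (κ h.toLS ⟨(ψ.symm g).1, h.le_cent (ψ.symm g).2⟩) (ψ x) =
    ψ (ψ.symm g * x * (ψ.symm g)⁻¹) by
      simp only [MulAut.congr, MulEquiv.coe_mk, Equiv.coe_fn_mk, MulEquiv.trans_apply,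
        MulEquiv.symm_apply_apply]; rfl]
  simp

end Cfsg.Lib.Small.CoT
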