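import Cfsg.Agent.Lib.Small.CoT1

/-! Two orthogonal extraspecial groups `2^{1+8}`: recognising the elements of the second one. -/

set_option autoImplicit false

namespace Cfsg.Lib.Small.CoT

open Cfsg.Lib.Forms Subgroup Cfsg.Lib.Small.Co1Z Cfsg.Lib.Known2 Cfsg.Lib.PGrp Cfsg.Agent.S5405
  Cfsg.Lib.Core Cfsg.Lib.Amalg

variable {G : Type*} [Group G] {Q Q1 : Subgroup G} {z s : G}

theorem card_two [Finite G] {R : Subgroup G} {a y : G} (h : ES Q z) (hR : R ≤ Q) (ha : a ∈ Q) (hy : y ∈ R)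
    (n : a * y ≠ y * a) : Nat.card R = 2 * Nat.card ↥(R ⊓ centralizer {a}) := by
  have : (centralizer {a}).relIndex R = 2 := index_eq_two_iff.2 ⟨⟨y, hy⟩, fun b => by
    simp only [mem_subgroupOf, mem_centralizer_singleton_iff, coe_mul, eq_comm (b := a * _),
      h.mul_comm_iff ha (hR b.2) (hR hy), n]
    by_cases a * b = b * a <;> simp [*]⟩
  have h3 := relIndex_mul_relIndex ⊥ (centralizer {a} ⊓ R) R bot_le inf_le_right
  rw [relIndex_bot_left, relIndex_bot_left, inf_relIndex_right, this, inf_comm] at h3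
  omega

theorem cE {g e : G} (he : e ∈ closure ({z, s} : Set G)) (h1 : Commute g z) (h2 : Commute g s) :
    Commute g e := ((mem_cent_closure_pair.2 ⟨h1, h2⟩ : g ∈ centralizer _) e he).symm

section
variable (h : LP Q Q1 z s) (hE : ∀ e ∈ Q, e ∈ Q1 → e ∈ closure ({z, s} : Set G))
include h

theorem cP {y p : G} (hy : y ∈ Q) (hp : p ∈ Q1) (pz : Commute p z) : y * p * y⁻¹ * p⁻¹ ∈ Q ∧
    Commute (y * p * y⁻¹ * p⁻¹) z ∧ Commute (y * p * y⁻¹ * p⁻¹) s :=
  ⟨by simpa [mul_assoc] using mul_mem hy (h.l.norm p pz _ (inv_mem hy)), mem_cent_closure_pair.1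
    (h.R_le_cent (h.comm_mem_P hy (mem_cent_closure_pair.2 ⟨pz, h.r.cen p hp⟩)))⟩

theorem kQ {x y : G} (hx : x ∈ Q1) (xz : x * z * x⁻¹ = s * z) (ys : y * s * y⁻¹ = z * s) :
    cj (x * y) Q1 = Q := h.symm.cj_eq _ (by
  calc x * y * s * (x * y)⁻¹ = x * (y * s * y⁻¹) * x⁻¹ := by group
    _ = x * z * x⁻¹ * (x * s * x⁻¹) := by rw [ys]; group
    _ = z := by rw [xz, conj_eq_of_comm (h.r.cen x hx), mul_assoc, h.zb, ← mul_assoc, h.r.sq, one_mul])

include hE

theorem C1 {x y p : G} (hx : x ∈ Q1) (xz : x * z * x⁻¹ = s * z) (hy : y ∈ Q) (ys : y * s * y⁻¹ = z * s)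
    (hp : p ∈ Q1) (pz : Commute p z) :
    x * y * p * (x * y)⁻¹ * (y * p * y⁻¹ * p⁻¹)⁻¹ ∈ closure ({z, s} : Set G) := by
  obtain ⟨m, -, c⟩ := cP h hy hp pz
  refine hE _ (mul_mem (kQ h hx xz ys ▸ conj_mem_cj _ hp) (inv_mem m)) ?_
  have := mul_mem hx (h.r.norm _ c _ (mul_mem hp (inv_mem hx)))
  convert this using 1; group

theorem nz {p w : G} (hp : p ∈ Q1) (pz : Commute p z) (hw : w ∈ Q) (ws : Commute w s) :
    p * w * p⁻¹ ≠ w * z := by
  intro e
  obtain ⟨y, hy, -, ys⟩ := h.exists_y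
  obtain ⟨x, hx, -, xz⟩ := h.symm.exists_y
  have hE' : ∀ e ∈ Q1, e ∈ Q → e ∈ closure ({s, z} : Set G) := fun e a b => h.V_symm ▸ hE e b a
  have e1 := C1 h hE hx xz hy ys hp pz
  have e3 := C1 h.symm hE' hy ys hx xz hw ws
  rw [h.V_symm] at e3
  obtain ⟨m2, z2, s2⟩ := cP h hy hp pz
  obtain ⟨m3, s3, z3⟩ := cP h.symm hx hw ws
  have wz : Commute w z := h.l.cen w hw
  have ps : Commute p s := h.r.cen p hp
  have yz : Commute y z := h.l.cen y hy
  have xs : Commute x s := h.r.cen x hx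
  have zs : Commute z s := h.zb
  have A : Commute (y * p * y⁻¹ * p⁻¹) w := by
    have a : y * p * y⁻¹ * (y * w * y⁻¹) * (y * p * y⁻¹)⁻¹ = y * w * y⁻¹ * z := by
      calc _ = y * (p * w * p⁻¹) * y⁻¹ := by group
        _ = _ := by rw [e, mul_assoc _ y⁻¹, yz.inv_left.eq]; group
    have b : y * p * y⁻¹ * w * (y * p * y⁻¹)⁻¹ = w * z := by
      rcases h.l.conj_eq hy hw with c | c <;> rw [c] at a
      · exact a
      · have d : Commute (y * p * y⁻¹) z := (yz.mul_left pz).mul_left yz.inv_left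
        rwa [← mul_assoc, mul_assoc _ z, ← d.inv_left.eq, ← mul_assoc, mul_left_inj] at a
    generalize hq : y * p * y⁻¹ * p⁻¹ = q at z2
    rw [show y * p * y⁻¹ = q * p by rw [← hq]; group] at b
    have : q * (w * z) * q⁻¹ = w * z := Eq.trans (by rw [← e]; group) b
    rw [← mul_assoc, mul_assoc _ z, ← z2.inv_left.eq, ← mul_assoc, mul_left_inj] at this
    exact comm_of_conj_eq this
  have B : ¬ Commute p (x * w * x⁻¹ * w⁻¹) := fun c => by
    have a : x * p * x⁻¹ * (x * w * x⁻¹) * (x * p * x⁻¹)⁻¹ = x * w * x⁻¹ * (s * z) := by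
      calc _ = x * (p * w * p⁻¹) * x⁻¹ := by group
        _ = _ := by rw [e, ← xz]; group
    have d : Commute s (x * w * x⁻¹) := ((xs.mul_left ws).mul_left xs.inv_left).symm
    have b : p * (x * w * x⁻¹) * p⁻¹ = x * w * x⁻¹ * (s * z) := by
      rcases h.r.conj_eq hx hp with c | c <;> rw [c] at a
      · exact a
      · rwa [mul_assoc p, d.eq, mul_inv_rev, ← mul_assoc, ← mul_assoc, mul_inv_cancel_right] at a
    generalize hq : x * w * x⁻¹ * w⁻¹ = q at c
    rw [show x * w * x⁻¹ = q * w by rw [← hq]; group, ← mul_assoc p, c.eq, mul_assoc q, mul_assoc q, e,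
      mul_assoc q, mul_right_inj, mul_right_inj, right_eq_mul] at b
    exact h.r.ne b
  have e4 : x * y * (y * x) ∈ closure ({z, s} : Set G) := by
    have a : x * x ∈ closure ({z, s} : Set G) := h.mem_V.2 ((h.r.sq_mem x hx).imp_right fun a => .inr (.inl a))
    have b : y * y ∈ closure ({z, s} : Set G) := h.mem_V.2 ((h.l.sq_mem y hy).imp_right .inl)
    have := mul_mem ((mem_normalizer_iff.1 (h.X_le_norm (mem_sup_right hx)) _).1 b) a
    convert this using 1; group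
  have e5 := (mem_normalizer_iff.1 (h.X_le_norm (mul_mem (mem_sup_right hx) (mem_sup_left hy))) _).1
    (inv_mem e3)
  refine B ?_
  generalize x * w * x⁻¹ * w⁻¹ = w2 at *
  generalize y * p * y⁻¹ * p⁻¹ = p2 at *
  have f1 : x * y * p * (x * y)⁻¹ = x * y * p * (x * y)⁻¹ * p2⁻¹ * p2 := by group
  have f2 : x * y * w2 * (x * y)⁻¹ = x * y * (y * x * w * (y * x)⁻¹ * w2⁻¹)⁻¹ * (x * y)⁻¹ * w := by
    calc _ = x * y * (y * x * w * (y * x)⁻¹ * w2⁻¹)⁻¹ * (x * y)⁻¹ *
        (x * y * (y * x) * w * (x * y * (y * x))⁻¹) := by group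
      _ = _ := by rw [conj_eq_of_comm (cE e4 wz ws).symm.eq]
  have := ((cE e1 (cE (z := z) (s := s) (g := z) e5 rfl zs).symm (cE e5 zs.symm rfl).symm).symm.mul_right
    (cE e1 wz ws).symm).mul_left ((cE e5 z2 s2).mul_right A)
  rw [← f1, ← f2] at this
  exact (Commute.conj_iff _).1 this

theorem Pc {p w : G} (hp : p ∈ Q1) (pz : Commute p z) (hw : w ∈ Q) (ws : Commute w s) :
    p * w * p⁻¹ = w ∨ p * w * p⁻¹ = w * (z * s) := by
  have m : w⁻¹ * (p * w * p⁻¹) ∈ closure ({z, s} : Set G) := hE _ (mul_mem (inv_mem hw) (h.l.norm p pz w hw))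
    (by simpa [mul_assoc] using mul_mem (h.r.norm w⁻¹ ws.inv_left p hp) (inv_mem hp))
  rcases h.mem_V.1 m with e | e | e | e <;> rw [inv_mul_eq_iff_eq_mul] at e
  · exact .inl (e.trans (mul_one _))
  · exact absurd e (nz h hE hp pz hw ws)
  · refine absurd ?_ (nz h.symm (fun e a b => h.V_symm ▸ hE e b a) (inv_mem hw) ws.inv_left hp pz)
    calc w⁻¹ * p * w⁻¹⁻¹ = w⁻¹ * (p * w * p⁻¹) * p := by group
      _ = p * s := by rw [e, inv_mul_cancel_left, h.r.cen p hp]
  · exact .inr e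

end

abbrev e0 : V8 := Pi.single (.inl 0) 1

theorem fin1 : ∀ w : V8, w (.inr 0) = 0 → w = 0 ∨ w = e0 ∨
    (∃ n ∈ [34, 38, 42, 68, 70, 136], quadFormPlus 4 (ZMod 2) (vec (ixP 4) n) = 1 ∧
      vec (ixP 4) n (.inr 0) = 0 ∧ Bq (quadFormPlus 4 (ZMod 2)) (vec (ixP 4) n) w = 1) ∧
    ∃ n ∈ [34, 38, 42, 68, 98], quadFormPlus 4 (ZMod 2) (vec (ixP 4) n) = 1 ∧
      vec (ixP 4) n (.inr 0) = 0 ∧ Bq (quadFormPlus 4 (ZMod 2)) (vec (ixP 4) n) w = 0 := by
  decide +kernel

theorem fin2 : (Finset.univ.filter fun v : V8 => v (.inr 0) = 1 ∧ quadFormPlus 4 (ZMod 2) v = 0).card = 64 := by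
  decide +kernel

theorem Bq8 (x y : V8) : Bq (quadFormPlus 4 (ZMod 2)) x y = D8.B x y := by rw [Bq, quad_B_eq]; rfl

section
variable {ν : G → V8} {a : G → D8.isom} (F : FG Q z ν a)
include F

theorem FG.nu_z {x : G} (hx : x ∈ Q) : ν (x * z) = ν x := by
  rw [F.add x hx z F.mem, (F.zero z F.mem).2 (.inr rfl), add_zero]

theorem FG.nu_eq {x y : G} (hx : x ∈ Q) (hy : y ∈ Q) (e : ν x = ν y) : x = y ∨ x = y * z := by
  have := F.add _ (inv_mem hy) y hy
  rw [inv_mul_cancel, (F.zero 1 (one_mem _)).2 (.inl rfl), ← e, ← F.add _ (inv_mem hy) x hx, eq_comm,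
    F.zero _ (mul_mem (inv_mem hy) hx), inv_mul_eq_iff_eq_mul, inv_mul_eq_iff_eq_mul, mul_one] at this
  exact this

variable (h : LP Q Q1 z s) (hs : ν s = e0)
include h hs

theorem FG.cs {x : G} (hx : x ∈ Q) : x * s = s * x ↔ ν x (.inr 0) = 0 := by
  rw [eq_comm, F.comm' s h.bQ x hx, hs, fPlus_B_inl]

theorem FG.inter (w : G) (hw : w ∈ Q) (h1 : w ∈ Q1) : w ∈ closure ({z, s} : Set G) := by
  rw [h.mem_V]
  rcases fin1 (ν w) ((F.cs h hs hw).1 (h.r.cen w h1)) with e | e | ⟨⟨n, -, a1, a2, a3⟩, m, -, b1, b2, b3⟩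
  · exact ((F.zero w hw).1 e).imp_right .inl
  · exact .inr (.inr ((F.nu_eq hw h.bQ (e.trans hs.symm)).imp_right fun e => e.trans h.zb.symm))
  exfalso
  rw [Bq8] at a3 b3
  generalize vec (ixP 4) n = u at *
  generalize vec (ixP 4) m = v at *
  replace a1 : D8.Q u = 1 := a1
  replace b1 : D8.Q v = 1 := b1
  obtain ⟨k, kz, hk⟩ := F.rng _ (rr (fPlus_nondeg 4) a1 b1)
  obtain ⟨k, kz, ks, hk⟩ : ∃ k, k * z = z * k ∧ k * s = s * k ∧ ∀ x ∈ Q, ν (k * x * k⁻¹) =
      (D8.refl u * D8.refl v).1 (ν x) := by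
    have := F.act k kz s h.bQ
    rw [hk, Form.isom_mul_apply, rf b1, rf a1, hs, quad_symm D8 v, fPlus_B_inl, b2, zero_smul, add_zero,
      quad_symm D8 u, fPlus_B_inl, a2, zero_smul, add_zero, ← hs] at this
    rcases F.nu_eq (F.norm k kz s h.bQ) h.bQ this with e | e
    · exact ⟨k, kz, comm_of_conj_eq e, fun x hx => hk ▸ F.act k kz x hx⟩
    · obtain ⟨y, hy, yz, ys⟩ := h.exists_y
      refine ⟨y * k, (Commute.mul_left (comm_of_conj_eq yz) kz).eq, comm_of_conj_eq ?_, fun x hx => ?_⟩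
      · calc _ = y * (k * s * k⁻¹) * y⁻¹ := by group
          _ = y * s * y⁻¹ * (y * z * y⁻¹) := by rw [e]; group
          _ = s := by rw [ys, yz, h.zb, mul_assoc, h.l.sq, mul_one]
      · rw [← hk, ← F.act k kz x hx, show y * k * x * (y * k)⁻¹ = y * (k * x * k⁻¹) * y⁻¹ by group]
        rcases F.conj_eq hy (F.norm k kz x hx) with e | e <;> rw [e]
        exact F.nu_z (F.norm k kz x hx)
  have m := F.norm k kz w hw
  have n : w * (k * w * k⁻¹) ≠ k * w * k⁻¹ * w := by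
    rw [Ne, F.comm' w hw _ m, hk w hw, Form.isom_mul_apply, rf b1, b3, zero_smul, add_zero, rf a1, a3,
      one_smul, D8.B_add_right, Cfsg.Agent.S5405.Bs, zero_add, quad_symm, a3]
    exact one_ne_zero
  exact h.ne (mul_left_cancel ((h.r.anti h1 (h.r.norm k ks w h1) n).symm.trans (F.anti hw m n)))

omit F hs in
theorem L1 [Finite G] {c x : G} (cz : Commute c z) (hx : x ∈ Q) (xs : x * s ≠ s * x)
    (h1 : ∀ y ∈ Q, y * s = s * y → c * y * c⁻¹ = y ∨ c * y * c⁻¹ = y * (z * s))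
    (h2 : c * x * c⁻¹ = x ∨ c * x * c⁻¹ = x * z) : c ∈ Q := by
  have A : ∀ y ∈ Q, y * s = s * y → c * y * c⁻¹ = y := fun y hy ys => (h1 y hy ys).resolve_right fun e => by
    have a : Commute (c * x * c⁻¹) (c * y * c⁻¹) ↔ Commute x y := Commute.conj_iff _
    have b : x * (y * (z * s)) = y * (z * s) * x ↔ x * y = y * x := by
      rw [e] at a
      rcases h2 with h2 | h2 <;> rw [h2] at a
      · exact a
      · refine Iff.trans ?_ a
        have m := mul_mem hy (mul_mem h.l.mem h.bQ)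
        rw [commute_iff_eq, eq_comm, eq_comm (a := x * z * _), h.l.mul_comm_iff m hx h.l.mem]
        simp [h.l.cen _ m]
    rw [h.l.mul_comm_iff hx hy (mul_mem h.l.mem h.bQ), h.l.mul_comm_iff hx h.l.mem h.bQ] at b
    have := h.l.cen x hx
    tauto
  refine h.l.mem_of_inner cz fun y hy => ?_
  by_cases ys : y * s = s * y
  · exact .inl (A y hy ys)
  have := A _ (mul_mem (inv_mem hx) hy) ((h.l.mul_comm_iff h.bQ (inv_mem hx) hy).2
    (iff_of_false (fun e => xs (Commute.inv_right_iff.1 e).symm) fun e => ys e.symm)).symm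
  rw [show c * y * c⁻¹ = c * x * c⁻¹ * (c * (x⁻¹ * y) * c⁻¹) by group, this]
  refine h2.imp (fun e => by rw [e]; group) fun e => ?_
  rw [e, mul_assoc, ← h.l.cen _ (mul_mem (inv_mem hx) hy)]; group

/-- recognition of the elements of the second extraspecial group -/
theorem FG.T1 [Finite G] (hc : Nat.card Q1 = 2 ^ 9) {u : G} (uz : Commute u z) (us : Commute u s)
    (hu : ∀ y ∈ Q, y * s = s * y → u * y * u⁻¹ = y ∨ u * y * u⁻¹ = y * (z * s)) : u ∈ Q1 := by
  classical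
  have hE := F.inter h hs
  obtain ⟨x, hx, ex⟩ := F.surj (Pi.single (.inr 0) 1)
  have xs : x * s ≠ s * x := by rw [Ne, F.cs h hs hx, ex]; decide
  have xx : x * x = 1 := by rw [F.sq' x hx, ex]; show quadFormPlus 4 (ZMod 2) _ = 0; decide
  have zs : z * s * (z * s) = 1 := by nth_rw 2 [h.zb]; rw [← mul_assoc, h.zbb, h.l.sq]
  have key : ∀ c, Commute c z → Commute c s → ν (c * x * c⁻¹) ∈
      Finset.univ.filter fun v : V8 => v (.inr 0) = 1 ∧ quadFormPlus 4 (ZMod 2) v = 0 := fun c cz cs => by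
    have m := F.norm c cz x hx
    refine Finset.mem_filter.2 ⟨Finset.mem_univ _, (z2 _).resolve_left fun e => xs ?_,
      (F.sq' _ m).1 (by rw [conj_mul, xx]; group)⟩
    have := (F.cs h hs m).2 e
    rw [← conj_eq_of_comm cs] at this
    exact (Commute.conj_iff _).1 this
  have L : ∀ p ∈ Q1, Commute p z → ∀ c, Commute c z → (∀ y ∈ Q, y * s = s * y → c * y * c⁻¹ = y ∨
      c * y * c⁻¹ = y * (z * s)) → ν (c * x * c⁻¹) = ν (p * x * p⁻¹) → p⁻¹ * c ∈ Q := by
    intro p hp pz c cz H e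
    have pe : p⁻¹ * (z * s) * p = z * s := by
      simpa using conj_eq_of_comm (pz.mul_right (h.r.cen p hp)).inv_left.eq
    refine L1 h (pz.inv_left.mul_left cz) hx xs (fun y hy ys => ?_) ?_
    · have := Pc h hE (inv_mem hp) pz.inv_left hy ys
      rw [inv_inv] at this
      rw [show p⁻¹ * c * y * (p⁻¹ * c)⁻¹ = p⁻¹ * (c * y * c⁻¹) * p by group]
      rcases H y hy ys with e | e <;> rw [e]
      · exact this
      · rw [show p⁻¹ * (y * (z * s)) * p = p⁻¹ * y * p * (p⁻¹ * (z * s) * p) by group, pe]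
        exact this.symm.imp (fun e => by rw [e, mul_assoc, zs, mul_one]) fun e => by rw [e]
    · rw [show p⁻¹ * c * x * (p⁻¹ * c)⁻¹ = p⁻¹ * (c * x * c⁻¹) * p by group]
      refine (F.nu_eq (F.norm c cz x hx) (F.norm p pz x hx) e).imp (fun e => by rw [e]; group) fun e => ?_
      rw [e, mul_assoc, mul_assoc, ← pz.eq]; group
  obtain ⟨y, hy, -, yz⟩ := h.symm.exists_y
  have c1 := card_two h.r.toES le_rfl h.zQ hy fun e => h.symm.zb_ne_b (yz.symm.trans (conj_eq_of_comm e.symm))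
  have := Fintype.ofFinite G
  let S := Finset.univ.filter fun p => p ∈ Q1 ⊓ centralizer {z}
  have mS : ∀ p, p ∈ S ↔ p ∈ Q1 ∧ Commute p z := fun p => by
    simp only [S, Finset.mem_filter, Finset.mem_univ, true_and, mem_inf, mem_cent_single]; rfl
  have c2 : S.card = 256 := by
    rw [← Fintype.card_subtype, ← Nat.card_eq_fintype_card]; omega
  have c3 := Finset.card_le_mul_card_image (f := fun p => ν (p * x * p⁻¹)) S 4 fun b hb => by
    obtain ⟨p, hp, rfl⟩ := Finset.mem_image.1 hb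
    refine (Finset.card_le_card (t := {p, p * z, p * s, p * (z * s)}) fun c hc => ?_).trans
      Finset.card_le_four
    obtain ⟨hc, e⟩ := Finset.mem_filter.1 hc
    rw [mS] at hc hp
    have := h.mem_V.1 (hE _ (L p hp.1 hp.2 c hc.2 (fun y hy ys => Pc h hE hc.1 hc.2 hy ys) e)
      (mul_mem (inv_mem hp.1) hc.1))
    simpa [inv_mul_eq_iff_eq_mul] using this
  have c4 := Finset.eq_of_subset_of_card_le (s := S.image fun p => ν (p * x * p⁻¹)) (fun b hb => by
    obtain ⟨p, hp, rfl⟩ := Finset.mem_image.1 hb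
    exact key p ((mS p).1 hp).2 (h.r.cen p ((mS p).1 hp).1)) (by rw [fin2]; omega)
  obtain ⟨p, hp, e⟩ := Finset.mem_image.1 (c4.ge (key u uz us))
  obtain ⟨hp, pz⟩ := (mS p).1 hp
  have m := L p hp pz u uz hu e.symm
  have : p⁻¹ * u ∈ closure ({z, s} : Set G) := by
    rw [h.mem_V, h.zb, ← or_assoc]
    refine h.l.double_perp h.bQ m fun y hy ys => by_contra fun n => ?_
    have e := h.l.conj_anti m hy n
    have e' : u * y * u⁻¹ = p * y * p⁻¹ * z := by
      rw [mul_assoc _ p⁻¹, pz.inv_left.eq, ← mul_assoc, mul_assoc p, ← e]; group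
    rcases hu y hy ys.symm with a | a <;> rcases Pc h hE hp pz hy ys.symm with b | b <;> rw [a, b] at e'
    · exact h.l.ne (left_eq_mul.1 e')
    · rw [mul_assoc, left_eq_mul, h.zb, mul_assoc, h.l.sq, mul_one] at e'; exact h.r.ne e'
    · exact h.zb_ne_z (mul_left_cancel e')
    · exact h.l.ne (left_eq_mul.1 e')
  have := mul_mem hp ((closure_le Q1).2 (Set.pair_subset h.zQ h.r.mem) this)
  rwa [mul_inv_cancel_left] at this

end

end Cfsg.Lib.Small.CoT
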