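import Cfsg.Agent.Lib.Small.CoT1
import Cfsg.Agent.S2098
import Cfsg.Agent.Lib.Mult.Hopf

/-! A bound on central extensions of `Ω₈⁺(2)`, applied to a fibre product. -/

set_option autoImplicit false

namespace Cfsg.Lib.Small.CoT

open Cfsg.Lib.Forms Subgroup Cfsg.Lib.Small.Co1Z Function
open scoped commutatorElement

abbrev Om := commutator D8.isom

theorem mult8 : HasSchurMultiplier Om (Multiplicative (ZMod 2 × ZMod 2)) := by
  classical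
  have h := (fPlus_nondeg (F := ZMod 2) 4).card_center_omega good8 (by rw [finrank_plus]; norm_num)
  rw [if_neg fun a => a.1 rfl] at h
  exact Mult.mult_congr_left (Cfsg.Agent.S2098.result (F := ZMod 2) (ZMod.card 2)) ((pOmegaIso D8 fPlus_Q).trans
    ((QuotientGroup.quotientMulEquivOfEq (eq_bot_of_card_eq _ h)).trans QuotientGroup.quotientBot))

theorem stem_bound {M : Type*} [Group M] [Finite M] (f : M →* Om) (hf : Surjective f) (N : Subgroup M)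
    [N.Normal] (hN : N ≤ f.ker) (hc : ∀ k, f k = 1 → ∀ m, ⁅k, m⁆ ∈ N) (g : Fin 5 → M)
    (h1 : ∀ i, g i ∈ commutator M ⊔ N) (h2 : ∀ i, f (g i) = 1) : ∃ i j, i ≠ j ∧ (g i)⁻¹ * g j ∈ N := by
  let π := QuotientGroup.lift N f hN
  have hs0 : Surjective π := fun o => let ⟨m, e⟩ := hf o; ⟨m, e⟩
  have cen : π.ker ≤ center _ := fun x hx => mem_center_iff.2 fun y => by
    obtain ⟨x, rfl⟩ := QuotientGroup.mk_surjective x
    obtain ⟨y, rfl⟩ := QuotientGroup.mk_surjective y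
    have := (QuotientGroup.eq_one_iff _).2 (hc x hx y)
    exact (commutatorElement_eq_one_iff_mul_comm.1 this).symm
  have k1 : (commutator (M ⧸ N)).map π = ⊤ := by
    rw [map_commutator_eq, MonoidHom.range_eq_top.2 hs0, ← commutator_def, perf8]
  have hs : Surjective (π.comp (commutator (M ⧸ N)).subtype) := fun o => by
    obtain ⟨x, hx, rfl⟩ : o ∈ (commutator (M ⧸ N)).map π := k1 ▸ mem_top o
    exact ⟨⟨x, hx⟩, rfl⟩
  have st : IsStemExtension (π.comp (commutator (M ⧸ N)).subtype) := by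
    refine ⟨hs, fun x hx => mem_center_iff.2 fun y => Subtype.ext (mem_center_iff.1 (cen hx) y), fun x _ => ?_⟩
    have k2 := Mult.map_commutator_of_lift (ξ := π) rfl hs cen
    obtain ⟨y, hy, e⟩ := k2.ge x.2
    exact (Subtype.ext e : y = x) ▸ hy
  obtain ⟨p, hp⟩ := Mult.surj_of_stem mult8 st
  have c := Nat.card_le_card_of_surjective p hp
  have m : ∀ i, (g i : M ⧸ N) ∈ commutator (M ⧸ N) := fun i => by
    have : commutator M ⊔ N ≤ (commutator (M ⧸ N)).comap (QuotientGroup.mk' N) :=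
      sup_le (fun x hx => map_mem_commutator _ hx) fun x hx => by
        rw [mem_comap, QuotientGroup.mk'_apply, (QuotientGroup.eq_one_iff x).2 hx]; exact one_mem _
    exact this (h1 i)
  by_contra! H
  have := (Nat.card_le_card_of_injective
    (fun i => (⟨⟨g i, m i⟩, h2 i⟩ : (π.comp (commutator (M ⧸ N)).subtype).ker)) fun i j e =>
      by_contra fun ne => H i j ne (QuotientGroup.eq.1 (congrArg (fun x => x.1.1) e))).trans c
  simp at this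

theorem graph_iso {M D C : Type*} [Group M] [Group D] [Group C] (p : M →* D) (q : M →* C)
    (hp : Surjective p) (hq : Surjective q) (h : ∀ m, p m = 1 ↔ q m = 1) : ∃ φ : D ≃* C, ∀ m, φ (p m) = q m := by
  refine ⟨(QuotientGroup.quotientKerEquivOfSurjective p hp).symm.trans ((QuotientGroup.quotientMulEquivOfEq
    (Subgroup.ext h)).trans (QuotientGroup.quotientKerEquivOfSurjective q hq)), fun m => ?_⟩
  rw [MulEquiv.trans_apply, show (QuotientGroup.quotientKerEquivOfSurjective p hp).symm (p m) = m from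
    (MulEquiv.symm_apply_eq _).2 rfl]
  rfl

variable {L D C D0 : Type*} [Group L] [Group D] [Group C] [Group D0]

structure FB (τ : L →* Om) (θ : L →* D0) (ε : L) (F Γ : Subgroup (L × C)) (ζ : C) : Prop where
  le : Γ ≤ F
  norm : ∀ m ∈ F, ∀ x ∈ Γ, m * x * m⁻¹ ∈ Γ
  tot : ∀ l, ∃ c, (l, c) ∈ F
  sur : ∀ c, ∃ l, (l, c) ∈ F
  ker1 : ∀ l c, θ l = 1 → ((l, c) ∈ F ↔ c = 1 ∨ c = ζ)
  ker2 : ∀ l, (l, 1) ∈ F → θ l = 1 ∨ θ l = θ ε
  totΓ : ∀ k, τ k = 1 → ∃ c, (k, c) ∈ Γ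
  oneΓ : ∀ c, (1, c) ∈ Γ → c = 1
  eps : (ε, ζ) ∈ Γ
  cen : ∀ c, c * ζ = ζ * c
  sq : ζ * ζ = 1
  ne : ζ ≠ 1

structure LK (τ : L →* Om) (θ : L →* D0) (ε n : L) (K : Subgroup L) : Prop where
  surj : Surjective τ
  surjθ : Surjective θ
  nm : K.Normal
  le : K ≤ τ.ker
  ker : ∀ l, τ l = 1 → l ∈ K ∨ n * l ∈ K
  kθ : ∀ l, θ l = 1 ↔ l = 1 ∨ l = n
  nK : n ∉ K
  cen : ∀ l, l * n = n * l
  sq : n * n = 1
  eps : ε ∈ K
  tn : τ n = 1

def Mf (F1 : Subgroup (L × D)) (F2 : Subgroup (L × C)) : Subgroup (L × D × C) :=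
  F1.comap ((MonoidHom.id L).prodMap (MonoidHom.fst D C)) ⊓
    F2.comap ((MonoidHom.id L).prodMap (MonoidHom.snd D C))

variable {τ : L →* Om} {θ : L →* D0} {ε n : L} {K : Subgroup L} {F1 Γ1 : Subgroup (L × D)}
  {F2 Γ2 : Subgroup (L × C)} {ζ1 : D} {ζ2 : C}

theorem mem_Mf {l : L} {d : D} {c : C} : (l, d, c) ∈ Mf F1 F2 ↔ (l, d) ∈ F1 ∧ (l, c) ∈ F2 := Iff.rfl

theorem core [Finite L] [Finite D] [Finite C] (k : LK τ θ ε n K) (h1 : FB τ θ ε F1 Γ1 ζ1)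
    (h2 : FB τ θ ε F2 Γ2 ζ2) {a a' b b' : L × D × C} (ha : a ∈ Mf F1 F2) (ha' : a' ∈ Mf F1 F2)
    (hb : b ∈ Mf F1 F2) (hb' : b' ∈ Mf F1 F2) (A1 : n * ⁅a, a'⁆.1 ∈ K)
    (A2 : (n, 1, 1) * ⁅a, a'⁆ ∈ Mf Γ1 Γ2) (B1 : ⁅b, b'⁆.1 = 1) (B2 : ⁅b, b'⁆.2.1 = ζ1) :
    ∃ M0 ≤ Mf F1 F2, (∀ l, ∃ d c, (l, d, c) ∈ M0) ∧ (∀ m ∈ Mf Γ1 Γ2, m.1 ∈ K → m ∈ M0) ∧
      (n, 1, 1) ∈ M0 ∧ (1, 1, ζ2) ∉ M0 ∧ ((1, ζ1, 1) ∈ M0 ∨ (1, ζ1, ζ2) ∈ M0) := by
  let M := Mf F1 F2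
  let N : Subgroup M := (Mf Γ1 Γ2 ⊓ K.comap (MonoidHom.fst _ _)).subgroupOf M
  have hN : N.Normal := ⟨fun x hx m => ⟨⟨h1.norm _ m.2.1 _ hx.1.1, h2.norm _ m.2.2 _ hx.1.2⟩,
    k.nm.conj_mem _ hx.2 _⟩⟩
  let f : M →* Om := τ.comp ((MonoidHom.fst _ _).comp M.subtype)
  have tot : ∀ l, ∃ m : M, m.1.1 = l := fun l =>
    let ⟨d, hd⟩ := h1.tot l; let ⟨c, hc⟩ := h2.tot l; ⟨⟨(l, d, c), hd, hc⟩, rfl⟩
  have hf : Surjective f := fun o => by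
    obtain ⟨l, rfl⟩ := k.surj o
    obtain ⟨m, rfl⟩ := tot l
    exact ⟨m, rfl⟩
  have tn := (k.kθ n).2 (.inr rfl)
  have t1 := map_one θ
  let α : M := ⟨(n, 1, 1), (h1.ker1 _ _ tn).2 (.inl rfl), (h2.ker1 _ _ tn).2 (.inl rfl)⟩
  have dec : ∀ x : M, f x = 1 → ∃ y ∈ N, θ (y⁻¹ * x).1.1 = 1 := fun x hx => by
    obtain ⟨l, hl, e⟩ : ∃ l ∈ K, θ (l⁻¹ * x.1.1) = 1 := by
      rcases k.ker x.1.1 hx with e | e
      · exact ⟨_, e, by rw [inv_mul_cancel, t1]⟩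
      · exact ⟨_, e, by rw [← k.cen, mul_inv_rev, inv_mul_cancel_right, map_inv, tn, inv_one]⟩
    obtain ⟨d, hd⟩ := h1.totΓ l (k.le hl)
    obtain ⟨c, hc⟩ := h2.totΓ l (k.le hl)
    exact ⟨⟨(l, d, c), h1.le hd, h2.le hc⟩, ⟨⟨hd, hc⟩, hl⟩, e⟩
  have cen : ∀ x : M, θ x.1.1 = 1 → ∀ m : M, m * x = x * m := fun x hx m => by
    refine Subtype.ext (Prod.ext ?_ (Prod.ext ?_ ?_))
    · rcases (k.kθ _).1 hx with e | e <;> simp [e, k.cen]
    · rcases (h1.ker1 _ _ hx).1 x.2.1 with e | e <;> simp [show x.1.2.1 = _ from e, h1.cen]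
    · rcases (h2.ker1 _ _ hx).1 x.2.2 with e | e <;> simp [show x.1.2.2 = _ from e, h2.cen]
  have hc : ∀ x, f x = 1 → ∀ m, ⁅x, m⁆ ∈ N := fun x hx m => by
    obtain ⟨y, hy, e⟩ := dec x hx
    rw [show ⁅x, m⁆ = y * ((y⁻¹ * x) * m * (y⁻¹ * x)⁻¹) * y⁻¹ * m⁻¹ by group, ← cen _ e,
      mul_inv_cancel_right, mul_assoc, mul_assoc, ← mul_assoc m]
    exact mul_mem hy (hN.conj_mem _ (inv_mem hy) m)
  have hα : α ∈ commutator M ⊔ N := by
    have := mul_mem (mem_sup_right (show α * ⁅(⟨a, ha⟩ : M), ⟨a', ha'⟩⁆ ∈ N from ⟨A2, A1⟩))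
      (inv_mem (mem_sup_left (commutator_mem_commutator (mem_top (⟨a, ha⟩ : M)) (mem_top (⟨a', ha'⟩ : M)))))
    rwa [mul_inv_cancel_right] at this
  let β : M := ⁅(⟨b, hb⟩ : M), ⟨b', hb'⟩⁆
  have hβ : β ∈ commutator M ⊔ N := mem_sup_left (commutator_mem_commutator (mem_top _) (mem_top _))
  have eβ : β.1 = (1, ζ1, β.1.2.2) := Prod.ext B1 (Prod.ext B2 rfl)
  refine ⟨(commutator M ⊔ N).map M.subtype, map_subtype_le _, fun l => ?_,
    fun m hm hK => ⟨⟨m, h1.le hm.1, h2.le hm.2⟩, mem_sup_right ⟨hm, hK⟩, rfl⟩, ⟨α, hα, rfl⟩, ?_, ?_⟩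
  · obtain ⟨m, rfl⟩ := tot l
    obtain ⟨x, hx, e⟩ : f m ∈ (commutator M).map f := by
      rw [map_commutator_eq, MonoidHom.range_eq_top.2 hf, ← commutator_def, perf8]; trivial
    obtain ⟨y, hy, e⟩ := dec (x⁻¹ * m) (by rw [map_mul, map_inv, e, inv_mul_cancel])
    have hxy := mul_mem (mem_sup_left hx) (mem_sup_right hy : y ∈ commutator M ⊔ N)
    rcases (k.kθ _).1 e with e | e
    · refine ⟨_, _, x * y, hxy, Prod.ext ?_ rfl⟩
      show x.1.1 * y.1.1 = m.1.1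
      rw [← mul_one (_ * _), ← e]; simp
    · refine ⟨_, _, x * y * α, mul_mem hxy hα, Prod.ext ?_ rfl⟩
      show x.1.1 * y.1.1 * n = m.1.1
      rw [← e]; simp
  · rintro ⟨γ, hγ, eγ⟩
    have fa : f α = 1 := k.tn
    have fb : f β = 1 := (congrArg τ B1).trans (map_one τ)
    have fc : f γ = 1 := (congrArg (fun x => τ x.1) eγ).trans (map_one τ)
    have n1 : n ≠ 1 := fun e => k.nK (e ▸ one_mem _)
    have nn : n⁻¹ = n := inv_eq_of_mul_eq_one_left k.sq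
    obtain ⟨i, j, ne, e⟩ := stem_bound f hf N (fun x hx => k.le hx.2) hc ![1, α, β, γ, α * β]
      (by simp [Fin.forall_fin_succ, hα, hβ, show γ ∈ commutator M ⊔ N from hγ, mul_mem hα hβ])
      (by simp [Fin.forall_fin_succ, fa, fb, fc])
    have H : ∀ x ∈ N, (x.1.1 = 1 ∨ x.1.1 = n) → x = 1 := fun x hx e => by
      have e1 := e.resolve_right fun e => k.nK (e ▸ hx.2)
      exact Subtype.ext (Prod.ext e1 (Prod.ext (h1.oneΓ _ (e1 ▸ hx.1.1)) (h2.oneΓ _ (e1 ▸ hx.1.2))))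
    have eγ' : γ.1 = (1, 1, ζ2) := eγ
    have eα : α.1 = (n, 1, 1) := rfl
    have := congrArg Subtype.val (inv_mul_eq_one.1 (H _ e (by
      fin_cases i <;> fin_cases j <;> simp [eγ', eα, show β.1.1 = 1 from B1, nn, k.sq])))
    have z1 := h1.ne
    have z2 := h2.ne
    generalize β.1.2.2 = w at eβ
    fin_cases i <;> fin_cases j <;> simp [eγ', eα, eβ, Prod.ext_iff, eq_comm, *] at this ne
  · have := (h2.ker1 _ _ ((congrArg θ B1).trans t1)).1 β.2.2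
    exact this.imp (fun e => ⟨β, hβ, eβ.trans (by rw [show β.1.2.2 = 1 from e])⟩)
      fun e => ⟨β, hβ, eβ.trans (by rw [show β.1.2.2 = ζ2 from e])⟩

theorem iso {θ : L →* D} (k : LK τ θ ε n K) (h1 : FB τ θ ε F1 Γ1 ζ1) (h2 : FB τ θ ε F2 Γ2 ζ2)
    {M0 : Subgroup (L × D × C)} (le : M0 ≤ Mf F1 F2) (tot : ∀ l, ∃ d c, (l, d, c) ∈ M0)
    (hN : ∀ m ∈ Mf Γ1 Γ2, m.1 ∈ K → m ∈ M0) (hn : (n, 1, 1) ∈ M0) (h0 : (1, 1, ζ2) ∉ M0)
    (hb : (1, ζ1, 1) ∈ M0 ∨ (1, ζ1, ζ2) ∈ M0) : ∃ φ : D ≃* C, (∀ l ∈ K, ∀ c, (l, c) ∈ Γ2 → φ (θ l) = c) ∨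
      ∀ l ∈ K, ∀ d c, (l, d) ∈ Γ1 → (l, c) ∈ Γ2 → φ d = c := by
  have he : (ε, ζ1, ζ2) ∈ M0 := hN _ ⟨h1.eps, h2.eps⟩ k.eps
  have t1 := map_one θ
  have s3 : Surjective ((MonoidHom.snd D C).comp ((MonoidHom.snd L _).comp M0.subtype)) := fun c => by
    obtain ⟨l, hl⟩ := h2.sur c
    obtain ⟨d, c', hm⟩ := tot l
    have := mul_mem (inv_mem (mem_Mf.1 (le hm)).2) hl
    rcases (h2.ker1 (l⁻¹ * l) _ (by simp)).1 this with e | e
    · exact ⟨⟨_, hm⟩, inv_mul_eq_one.1 e⟩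
    · exact ⟨⟨_, mul_mem hm he⟩, (inv_mul_eq_iff_eq_mul.1 e).symm⟩
  have red : ∀ l d c, θ l = 1 → (l, d, c) ∈ M0 → (1, d, c) ∈ M0 := fun l d c e hm => by
    rcases (k.kθ l).1 e with rfl | rfl
    · exact hm
    · simpa using mul_mem hm (inv_mem hn)
  rcases hb with hb | hb
  · have A : ∀ l d c, θ l = 1 → (l, d, c) ∈ M0 → c = 1 := fun l d c e hm => by
      refine ((h2.ker1 _ _ e).1 (le hm).2).resolve_right fun e' => h0 ?_
      have hm' := red l d c e hm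
      rcases (h1.ker1 _ _ e).1 (le hm).1 with rfl | rfl
      · exact e' ▸ hm'
      · rw [← e'] ; simpa using mul_mem hm' (inv_mem hb)
    obtain ⟨φ, hφ⟩ := graph_iso (θ.comp ((MonoidHom.fst L _).comp M0.subtype)) _ (fun d => by
      obtain ⟨l, rfl⟩ := k.surjθ d
      obtain ⟨d, c, hm⟩ := tot l
      exact ⟨⟨_, hm⟩, rfl⟩) s3 fun ⟨⟨l, d, c⟩, hm⟩ => ⟨fun e => A l d c e hm, fun e => by
        obtain rfl : c = 1 := e
        refine (h2.ker2 l (le hm).2).resolve_right fun e => h2.ne ?_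
        simpa using A (l⁻¹ * ε) _ _ (by simp [e]) (mul_mem (inv_mem hm) he)⟩
    refine ⟨φ, .inl fun l hl c hc => ?_⟩
    obtain ⟨d, hd⟩ := h1.totΓ l (k.le hl)
    exact hφ ⟨(l, d, c), hN _ ⟨hd, hc⟩ hl⟩
  · have he' : (ε, 1, 1) ∈ M0 := by simpa using mul_mem he (inv_mem hb)
    have red' : ∀ l d c, θ l = 1 ∨ θ l = θ ε → (l, d, c) ∈ M0 → (1, d, c) ∈ M0 := fun l d c e hm =>
      e.elim (fun e => red l d c e hm) fun e => red (ε⁻¹ * l) d c (by simp [e])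
        (by simpa using mul_mem (inv_mem he') hm)
    obtain ⟨φ, hφ⟩ := graph_iso ((MonoidHom.fst D C).comp ((MonoidHom.snd L _).comp M0.subtype)) _ (fun d => by
      obtain ⟨l, hl⟩ := h1.sur d
      obtain ⟨d', c, hm⟩ := tot l
      have := mul_mem (inv_mem (mem_Mf.1 (le hm)).1) hl
      rcases (h1.ker1 (l⁻¹ * l) _ (by simp)).1 this with e | e
      · exact ⟨⟨_, hm⟩, inv_mul_eq_one.1 e⟩
      · exact ⟨⟨_, mul_mem hm he⟩, (inv_mul_eq_iff_eq_mul.1 e).symm⟩) s3 fun ⟨⟨l, d, c⟩, hm⟩ => ⟨fun e => by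
        obtain rfl : d = 1 := e
        have hm' := red' _ _ _ (h1.ker2 l (le hm).1) hm
        exact ((h2.ker1 _ _ t1).1 (le hm').2).resolve_right fun e => h0 (e ▸ hm'), fun e => by
        obtain rfl : c = 1 := e
        have hm' := red' _ _ _ (h2.ker2 l (le hm).2) hm
        refine ((h1.ker1 _ _ t1).1 (le hm').1).resolve_right fun e => h0 ?_
        obtain rfl : d = ζ1 := e
        simpa using mul_mem (inv_mem hm') hb⟩
    exact ⟨φ, .inr fun l hl d c hd hc => hφ ⟨(l, d, c), hN _ ⟨hd, hc⟩ hl⟩⟩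

end Cfsg.Lib.Small.CoT
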