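import Cfsg.Agent.Lib.Small.CoT2
import Cfsg.Agent.Lib.Small.CoT3
import Cfsg.Agent.S5388
import Cfsg.Agent.S1784
import Cfsg.Agent.Lib.Golay.Blk

/-! Computations in the centraliser of the sign change on an octad. -/

set_option autoImplicit false

namespace Cfsg.Lib.Small.CoT

open Cfsg.Lib.Leech Cfsg.Lib.Golay Cfsg.Spor Cfsg.Lib.Forms Subgroup Cfsg.Lib.Small.Co1Z Cfsg.Lib.Known2
  Cfsg.Lib.Core Cfsg.Agent.S5388 Function
open scoped Pointwise symmDiff commutatorElement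

theorem XT.of {G : Type*} [Group G] [Finite G] {z : G} (hz : orderOf z = 2)
    {Q : Subgroup (centralizer ({z} : Set G))} [Q.Normal] (hF : generalizedFittingSubgroup _ = Q)
    (hQ : IsExtraspecial 2 Q) (hc : Nat.card Q = 2 ^ 9) (e : (centralizer ({z} : Set G) ⧸ Q) ≃* Om) :
    XT (Q.map (centralizer ({z} : Set G)).subtype) z where
  toLS := (ls_of_fstar hz (by rw [hF])
    (Cfsg.Agent.S1784.xs_eqv (equivMapOfInjective _ _ (subtype_injective _)) hQ)).1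
  card := by rw [card_subtype, hc]
  quo := ⟨e.toMonoidHom.comp (QuotientGroup.mk' Q), e.surjective.comp (QuotientGroup.mk'_surjective Q),
    fun c => ((map_eq_one_iff _ e.injective).trans (QuotientGroup.eq_one_iff c)).trans
      ⟨fun h => ⟨c, h, rfl⟩, fun ⟨_, h, e⟩ => Subtype.ext e ▸ h⟩⟩

open Classical in
noncomputable def S (c : Finset GolayPt) : LL := if h : Cw c then sL h else 1
open Classical in
noncomputable def P (σ : Equiv.Perm GolayPt) : LL := if h : σ ∈ HO then ⟨prm ⟨σ, h.1⟩, prm_LL h⟩ else 1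

abbrev o2 : Finset GolayPt := om 0x149f00
abbrev o3 : Finset GolayPt := om 0x6920d0

variable {c d : Finset GolayPt} {σ π : Equiv.Perm GolayPt}

theorem S_eq (h : Cw c) : S c = sL h := dif_pos h
theorem P_eq (h : σ ∈ HO) : P σ = ⟨prm ⟨σ, h.1⟩, prm_LL h⟩ := dif_pos h
theorem pL_eq (h : σ ∈ E16) : pL h = P σ := (P_eq (E16_le h)).symm
theorem S_mul (hc : Cw c) (hd : Cw d) : S c * S d = S (c ∆ d) := by
  rw [S_eq hc, S_eq hd, S_eq (cw_symmDiff hc hd)]; exact Subtype.ext (sgn_mul_sgn hc hd)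
theorem S_empty : S ∅ = 1 := (S_eq cw_empty).trans sL_empty
theorem S_sq (hc : Cw c) : S c * S c = 1 := by rw [S_eq hc, sL_sq]
theorem S_inv (hc : Cw c) : (S c)⁻¹ = S c := inv_eq_of_mul_eq_one_left (S_sq hc)
theorem S_comm (hc : Cw c) (hd : Cw d) : S c * S d = S d * S c := by rw [S_eq hc, S_eq hd, ss]
theorem P_S (h : σ ∈ HO) (hc : Cw c) : P σ * S c = S (σ • c) * P σ := by
  rw [S_eq hc, S_eq (cw_smul h.1 hc), P_eq h]; exact Subtype.ext (prm_mul_sgn _ hc)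
theorem P_conj (h : σ ∈ HO) (hc : Cw c) : P σ * S c * (P σ)⁻¹ = S (σ • c) := by
  rw [P_S h hc, mul_inv_cancel_right]
theorem P_mul (h : σ ∈ HO) (h' : π ∈ HO) : P (σ * π) = P σ * P π := by
  rw [P_eq h, P_eq h', P_eq (mul_mem h h')]; exact Subtype.ext (prm_mul ⟨σ, h.1⟩ ⟨π, h'.1⟩)
theorem θ_S (hc : Cw c) (hd : Cw d) : θ (S c) = θ (S d) ↔ c = d ∨ c = dᶜ := by rw [S_eq hc, S_eq hd, θ_sL]
theorem ζ_S : ζ = S ooᶜ := (S_eq _).symm
theorem cw3 : Cw o3 := om_mem_cw (by decide +kernel)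
theorem ζ_s2 : ζ * S o2 = S o3 := by
  rw [ζ_S, S_mul (cw_compl cw_oo) G1.1, ← om_compl, ← gc.ofMask_xor]; rfl

noncomputable def gd (m k : ℕ) : Bool := bor (Nat.beq (Nat.land m k) 0) (Nat.beq (Nat.land m k) k)
noncomputable def fx (g m : ℕ) : Bool := bor (Nat.beq (imgN 24 g m) m) (Nat.beq (imgN 24 g m) (Nat.xor m 0x6920d0))

theorem fx_om {g m : ℕ} (hg : gc.Valid g) (h : fx g m = true) :
    gc.dec g • om m = om m ∨ gc.dec g • om m = om m ∆ o3 := by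
  rw [fx, bor_iff, beq_iff, beq_iff] at h
  rw [hg.smul_ofMask, ← gc.ofMask_xor]
  exact h.imp (congrArg om) (congrArg om)

def p1 : ℕ := 0x11130414161217060f02070c0b0a09080d100015010e0305
def gp : List ℕ := [p1, 0x20d061407120e040f11160c0b0a09081315031005170001,
  0x413141512050d0f03100c0b0a0908060711160e010217]

theorem gp_HO : ∀ g ∈ gp, gc.InH HO g := inH_inf_om (inH_of_allL (by decide +kernel)) _ (by decide +kernel)

set_option maxRecDepth 100000 in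
theorem H1 (h : σ ∈ E16) (e : σ • o2 = o2) : σ • o3 = o3 ∧ (∀ g ∈ gp, gc.dec g * σ = σ * gc.dec g) ∧
    ∀ m, isCw m = true → gd m 0x149f00 = true → σ • om m = om m ∨ σ • om m = om m ∆ o3 := by
  rw [← gen_gE16] at h
  obtain ⟨y, hy, rfl, H⟩ := Coding.forall_mem_gen (fun g hg => (inH_gE16 g hg).1) (M := 13) (d := 4)
    (a := 1) (q := fun y => bimp (Nat.beq (imgN 24 y 0x149f00) 0x149f00) (band (band
      (Nat.beq (imgN 24 y 0x6920d0) 0x6920d0) (allL gp fun g => Nat.beq (mulN 24 g y) (mulN 24 y g)))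
      (allN 4096 fun i => forceN (cwN i) fun m => bif' (gd m 0x149f00) (fx y m) true))) (by decide +kernel) h
  rw [hy.smul_ofMask, om_inj (hy.imgN_lt _) (by norm_num)] at e
  obtain ⟨H1, H3⟩ := band_iff.1 (bimp_iff.1 H (beq_iff.2 e))
  obtain ⟨H1, H2⟩ := band_iff.1 H1
  refine ⟨by rw [hy.smul_ofMask]; exact congrArg om (beq_iff.1 H1), fun g hg => ?_, fun m hm e => ?_⟩
  · rw [← (gp_HO g hg).1.dec_mul hy, ← hy.dec_mul (gp_HO g hg).1]
    exact congrArg gc.dec (beq_iff.1 (allL_iff.1 H2 g hg))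
  · have := allCw H3 hm
    rw [bif'_pos e] at this
    exact fx_om hy this

set_option maxRecDepth 100000 in
theorem H2 {g : ℕ} (hg : g ∈ gp) : gc.dec g • o2 = o2 ∧ ∀ c, Gd c → gc.dec g • c = c ∨ gc.dec g • c = c ∆ o3 := by
  have : ∀ g ∈ gp, imgN 24 g 0x149f00 = 0x149f00 ∧
      allN 4096 (fun i => forceN (cwN i) fun m => bif' (gd m 0x82402f) (fx g m) true) = true := by
    decide +kernel
  refine ⟨by rw [(gp_HO g hg).1.smul_ofMask]; exact congrArg om (this g hg).1, fun c hc => ?_⟩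
  obtain ⟨m, hm, rfl⟩ := exists_isCw hc.1
  have := allCw (this g hg).2 hm
  rw [bif'_pos (show gd m _ = true from (Gd_iff hm).1 hc)] at this
  exact fx_om (gp_HO g hg).1 this

set_option maxRecDepth 100000 in
theorem H3 (hc : Cw c) (h : ∀ σ ∈ E16, σ • c = c ∨ σ • c = cᶜ) : Gd c := by
  obtain ⟨m, hm, rfl⟩ := exists_isCw hc
  have := allCw (q := fun m => bor (gd m 0x82402f) (anyL gE16 fun g => bnot (bor (Nat.beq (imgN 24 g m) m)
    (Nat.beq (imgN 24 g m) (Nat.xor m 16777215))))) (by decide +kernel) hm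
  refine (Gd_iff hm).2 ((bor_iff.1 this).resolve_right fun a => ?_)
  obtain ⟨g, hg, a⟩ := anyL_iff.1 a
  have v := inH_gE16 g hg
  have := h _ v.2
  rw [v.1.smul_ofMask, ← om_compl, om_inj (v.1.imgN_lt _) (isCw_lt hm),
    om_inj (b := Nat.xor m 16777215) (v.1.imgN_lt _) (Nat.xor_lt_two_pow (isCw_lt hm) (by norm_num))] at this
  exact bnot_iff.1 a (bor_iff.2 (this.imp beq_iff.2 beq_iff.2))

theorem sepO : ∀ j ∉ oo, ∀ k ∉ oo, j = k ∨ ∃ m ∈ [0x6920d0, 0x3da100, 0x51a610, 0x742a40],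
    ¬ (j ∈ om m ↔ k ∈ om m) := by
  simp only [Coding.mem_ofMask]; decide +kernel

theorem sepG : ∀ m ∈ [0x6920d0, 0x3da100, 0x51a610, 0x742a40], Gd (om m) ∧ (om m).card ≠ 12 := by
  intro m hm
  have : band (isCw m) (gd m 0x82402f) = true ∧ pop24 m ≠ 12 := by revert m; decide +kernel
  exact ⟨Gd_om this.1, card_om m ▸ this.2⟩

theorem one_pt {v : leechLattice} {T : GolayPt → Prop} (hv : sqNorm (v : GolayPt → ℤ) = 64)
    (h0 : ∀ j, ¬ T j → (v : GolayPt → ℤ) j = 0) (h : ∀ j k, T j → T k → j = k ∨ ∃ c, ∃ hc : Cw c,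
      ¬ (j ∈ c ↔ k ∈ c) ∧ (sgn c hc • v = v ∨ sgn c hc • v = -v)) : ∃ j, v = e8 j ∨ v = -e8 j := by
  obtain ⟨j, hj⟩ : ∃ j, (v : GolayPt → ℤ) j ≠ 0 := by
    by_contra! H
    rw [show (v : GolayPt → ℤ) = 0 from funext H, ← dotInt_self] at hv
    simp [dotInt] at hv
  refine ⟨j, eq_e8_of_support hv fun k hk => by_contra fun hk' => ?_⟩
  obtain ⟨c, hc, n, e⟩ := (h k j (by_contra fun a => hk' (h0 k a)) (by_contra fun a => hj (h0 j a))).resolve_left hk
  rcases e with e | e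
  all_goals
    have e1 := congrArg (fun w : leechLattice => (w : GolayPt → ℤ) j) e
    have e2 := congrArg (fun w : leechLattice => (w : GolayPt → ℤ) k) e
    simp only [sgn_smul, AddSubgroup.coe_neg, Pi.neg_apply] at e1 e2
    by_cases a : j ∈ c <;> by_cases b : k ∈ c <;> simp only [a, b, if_true, if_false] at e1 e2 n <;>
      first | omega | simp at n

theorem eig {g : Co0} (hc : Cw c) (hd : Cw d) (e : mk1 (sgn c hc * g) = mk1 (g * sgn d hd)) (i : GolayPt) :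
    sgn c hc • g • e8 i = g • e8 i ∨ sgn c hc • g • e8 i = -(g • e8 i) := by
  rw [← mul_smul]
  rcases mk1_eq_iff.1 e with e | e <;> rw [e] <;> simp only [mul_smul, sgn_smul_e8, negOne_smul] <;>
    split_ifs <;> simp [co0_smul_neg]

theorem SP {l : LL} (h : (l : Co0) ∈ Mono) : ∃ c σ, Cw c ∧ σ ∈ HO ∧ l = S c * P σ := by
  obtain ⟨c, hc, σ, e⟩ := exists_sgn_prm h
  have h2 : σ.1 ∈ HO := ⟨σ.2, smul_oo (e ▸ l.2)⟩
  exact ⟨c, σ, hc, h2, by rw [S_eq hc, P_eq h2]; exact Subtype.ext e⟩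

theorem SP_conj (hc : Cw c) (h : σ ∈ HO) (hd : Cw d) : S c * P σ * S d * (S c * P σ)⁻¹ = S (σ • d) := by
  rw [mul_assoc (S c), P_S h hd, ← mul_assoc, S_comm hc (cw_smul h.1 hd)]; group

theorem fix_one (hσ : σ ∈ HO) (h : ∀ c, Gd c → σ • c = c ∨ σ • c = cᶜ) : σ = 1 :=
  eq_one_of_fix_off hσ fun p hp => (sepO _ ((apply_mem_iff_of_smul_eq hσ.2 p).not.2 hp)
    p hp).resolve_right fun ⟨m, hm, n⟩ => n (apply_mem_iff_of_smul_eq (by
      have a := sepG m hm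
      refine (h _ a.1).resolve_right fun e => a.2 ?_
      have := congrArg Finset.card e
      rw [Finset.card_smul_finset, Finset.card_compl, Golay.card_golayPt] at this
      omega) p)

theorem P_one : P 1 = 1 := by rw [P_eq (one_mem _)]; exact Subtype.ext prm_one

/-- the centraliser of the good sign changes -/
theorem SG {l : LL} (h : ∀ c, Gd c → θ l * θ (S c) = θ (S c) * θ l) : ∃ c, Cw c ∧ l = S c := by
  obtain ⟨j, hj⟩ := one_pt (v := (l : Co0) • e8 (gc.pt 4)) (T := (· ∉ oo)) (by rw [sqNorm_smul, sqNorm_e8])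
    (fun j hj => by
      have := congrArg (fun g : Co0 => ((g • e8 (gc.pt 4) : leechLattice) : GolayPt → ℤ) j)
        (mem_centralizer_singleton_iff.1 l.2)
      simp only [mul_smul, sgn_smul_e8, if_neg pt4_not_mem, sgn_smul, if_pos (not_not.1 hj)] at this
      omega) fun j k hj hk => (sepO j hj k hk).imp_right fun ⟨m, hm, n⟩ => ⟨_, (sepG m hm).1.1, n,
      eig _ (sepG m hm).1.1 (by
        have := congrArg Subtype.val (h _ (sepG m hm).1)
        rw [S_eq (sepG m hm).1.1] at this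
        exact this.symm) _⟩
  obtain ⟨c, σ, hc, hσ, rfl⟩ := SP (mem_Mono_of hj)
  have : σ = 1 := fix_one hσ fun d hd => by
    have := h _ hd
    rwa [← mul_inv_eq_iff_eq_mul, ← map_mul, ← map_inv, ← map_mul, SP_conj hc hσ hd.1,
      θ_S (cw_smul hσ.1 hd.1) hd.1] at this
  exact ⟨c, hc, by rw [this, P_one, mul_one]⟩

/-- the normaliser of the sign changes -/
theorem NG {l : LL} (h : ∀ c, Cw c → ∃ d, Cw d ∧ θ (S c) * θ l = θ l * θ (S d)) :
    ∃ c σ, Cw c ∧ σ ∈ HO ∧ l = S c * P σ := by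
  obtain ⟨j, hj⟩ := one_pt (v := (l : Co0) • e8 none) (T := fun _ => True) (by rw [sqNorm_smul, sqNorm_e8])
    (fun j hj => absurd trivial hj) fun j k _ _ => (em (j = k)).imp_right fun n => by
      obtain ⟨c, hc, e⟩ := exists_cw_inter_of_card_lt (S := {k, j}) (T := {j}) (by simp)
        (lt_of_le_of_lt Finset.card_le_two (by norm_num))
      obtain ⟨d, hd, e'⟩ := h c hc
      rw [S_eq hc, S_eq hd] at e'
      refine ⟨c, hc, fun a => n (Finset.mem_singleton.1 (e ▸ Finset.mem_inter.2 ⟨a.1 (Finset.mem_inter.1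
        (e ▸ Finset.mem_singleton_self j)).1, Finset.mem_insert_self _ _⟩)).symm,
        eig hc hd (congrArg Subtype.val e') _⟩
  exact SP (mem_Mono_of hj)

def Gl (ρ : LL →* D8.isom) (l : LL) : Prop := l * S o2 = S o2 * l ∧ ∀ k ∈ ρ.ker,
  θ k * θ (S o2) = θ (S o2) * θ k → l * k * l⁻¹ = k ∨ l * k * l⁻¹ = k * (ζ * S o2)

variable {ρ : LL →* D8.isom} (hρ : ∀ (g : LL) v, Lm v → (ρ g).1 (cl v) = cl ((g : Co0) • v))
include hρ

theorem S_ker (hc : Gd c) : S c ∈ ρ.ker := S_eq hc.1 ▸ sL_ker hρ hc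

theorem kd {k : LL} (hk : k ∈ ρ.ker) (e : θ k * θ (S o2) = θ (S o2) * θ k) :
    ∃ c σ, Gd c ∧ σ ∈ E16 ∧ σ • o2 = o2 ∧ k = S c * P σ := by
  obtain ⟨c, hc, σ, h, rfl⟩ := (main hρ).2.2 k hk
  refine ⟨c, σ, hc, h, ((ps h G1).resolve_right fun a => nc ?_ e).1, by rw [S_eq hc.1, pL_eq]⟩
  rw [S_eq G1.1, mul_assoc, a, ← mul_assoc, ← mul_assoc, ss, mul_assoc _ _ (pL h)]

theorem GL_S {m : ℕ} (hm : isCw m = true) (e : gd m 0x149f00 = true) : Gl ρ (S (om m)) := by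
  have hc : Cw (om m) := om_mem_cw hm
  refine ⟨S_comm hc G1.1, fun k hk a => ?_⟩
  obtain ⟨c, σ, h1, h2, h3, rfl⟩ := kd hρ hk a
  obtain ⟨h4, -, h5⟩ := H1 h2 h3
  rw [ζ_s2, S_inv hc, mul_assoc, mul_assoc, mul_assoc, P_S (E16_le h2) hc, P_S (E16_le h2) cw3, h4, ← mul_assoc,
    S_comm hc h1.1, mul_assoc, mul_right_inj, mul_right_inj, ← mul_assoc]
  refine (h5 m hm e).imp (fun e => ?_) fun e => ?_ <;> rw [e]
  · rw [S_sq hc, one_mul]
  · rw [S_mul hc (cw_symmDiff hc cw3), symmDiff_symmDiff_cancel_left]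

theorem GL_P {g : ℕ} (hg : g ∈ gp) : Gl ρ (P (gc.dec g)) := by
  have h0 := (gp_HO g hg).2
  refine ⟨by rw [P_S h0 G1.1, (H2 hg).1], fun k hk a => ?_⟩
  obtain ⟨c, σ, h1, h2, h3, rfl⟩ := kd hρ hk a
  obtain ⟨h4, h5, -⟩ := H1 h2 h3
  rw [ζ_s2, ← mul_assoc, P_S h0 h1.1, mul_assoc (S _), ← P_mul h0 (E16_le h2), h5 g hg, P_mul (E16_le h2) h0,
    ← mul_assoc, mul_inv_cancel_right, mul_assoc, P_S (E16_le h2) cw3, h4, ← mul_assoc, S_mul h1.1 cw3]
  exact ((H2 hg).2 c h1).imp (fun e => by rw [e]) fun e => by rw [e]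

noncomputable abbrev Q0 (ρ : LL →* D8.isom) : Subgroup Co1 := (ρ.ker.map θ).map DD.subtype

noncomputable def τ0 : LL →* Om := ρ.codRestrict _ fun l => (main hρ).1.le ⟨l, rfl⟩

theorem τ0_surj : Surjective (τ0 hρ) := fun ⟨x, hx⟩ => by
  obtain ⟨l, rfl⟩ := (main hρ).1.ge hx
  exact ⟨l, rfl⟩

theorem τ0_one {l : LL} : τ0 hρ l = 1 ↔ l ∈ ρ.ker := Subtype.ext_iff

theorem mem_Q0 {l : LL} : (θ l : Co1) ∈ Q0 ρ ↔ l ∈ ρ.ker :=
  ⟨fun ⟨_, h, e⟩ => (mem_Q hρ).1 (Subtype.ext e ▸ h), fun h => ⟨_, ⟨l, h, rfl⟩, rfl⟩⟩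

theorem xt0 : XT (Q0 ρ) (mk1 ep) := by
  have E := es hρ
  have hn : (ρ.ker.map θ).Normal := Normal.map inferInstance θ θ_surj
  let τ := τ0 hρ
  have hτ : Function.Surjective τ := τ0_surj hρ
  have hk : ∀ l, τ l = 1 ↔ θ l ∈ ρ.ker.map θ := fun l => Subtype.ext_iff.trans (mem_Q hρ).symm
  obtain ⟨e, -⟩ := exists_quot_equiv θ_surj hτ hk
  have := Module.finite_of_finite (ZMod 2) (M := V8)
  have := Form.finite_isom (D := D8)
  refine XT.of (by rw [← θζ, orderOf_coe, E.orderOf_eq]) (fstar_eq_of e ?_ E.isPGroup ?_) E.isExtraspecial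
    (card_Q hρ) e
  · refine (simple8 _ inferInstance).resolve_right fun h => ?_
    have := Fact.mk Nat.prime_two
    obtain ⟨n, h1⟩ := IsPGroup.iff_card.1 (isPGroup_pCore 2 (commutator D8.isom))
    rw [h, card_top, card_om8] at h1
    have : 3 ∣ 2 ^ n := h1 ▸ by norm_num
    exact absurd (Nat.prime_three.dvd_of_dvd_pow this) (by norm_num)
  · intro d hd
    obtain ⟨l, rfl⟩ := θ_surj d
    obtain ⟨c, hc, rfl⟩ := SG fun c hc => (hd _ ⟨_, S_ker hρ hc, rfl⟩).symm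
    refine ⟨_, S_ker hρ (H3 hc fun σ h => ?_), rfl⟩
    have := hd _ ⟨_, pL_ker hρ h, rfl⟩
    rwa [pL_eq, ← mul_inv_eq_iff_eq_mul, ← map_mul, ← map_inv, ← map_mul, P_conj (E16_le h) hc,
      θ_S (cw_smul h.1 hc) hc] at this

end Cfsg.Lib.Small.CoT
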