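import Cfsg.Agent.Lib.Small.CoT4

/-! The centraliser of the involution in a group of Conway type. -/

set_option autoImplicit false

namespace Cfsg.Lib.Small.CoT

open Cfsg.Lib.Leech Cfsg.Lib.Golay Cfsg.Spor Cfsg.Lib.Forms Subgroup Cfsg.Lib.Small.Co1Z Cfsg.Lib.Known2
  Cfsg.Lib.Core Cfsg.Agent.S5388 Function Cfsg.Lib.PGrp Cfsg.Lib.Amalg Cfsg.Agent.S5405
open scoped Pointwise symmDiff commutatorElement

variable {G : Type*} [Group G] [Finite G] {Q : Subgroup G} {z g : G}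

theorem XT.T1 (h : XT Q z) (hb : g * z * g⁻¹ ∈ Q) (hne : g * z * g⁻¹ ≠ z) {u : G} (uz : Commute u z)
    (us : Commute u (g * z * g⁻¹)) (hu : ∀ y ∈ Q, y * (g * z * g⁻¹) = g * z * g⁻¹ * y →
      u * y * u⁻¹ = y ∨ u * y * u⁻¹ = y * (z * (g * z * g⁻¹))) : u ∈ cj g Q := by
  have l := h.toLS.lp hb hne (by rw [h.card]; norm_num)
  obtain ⟨M, hP, e⟩ := h.exists_M hb l.r.ne hne l.r.sq (v := e0) (by decide)
    (by show quadFormPlus 4 (ZMod 2) _ = 0; decide)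
  exact (h.fg M hP).T1 l ((dif_pos hb).trans e) (by rw [card_cj, h.card]) uz us hu

theorem exists_psi {G' : Type*} [Group G'] [Finite G'] {Q' : Subgroup G'} {z' : G'} (h' : LS Q' z')
    (M : CExt 2 Q V8) (hP : ∀ v, M.P v = D8.Q v) (M' : CExt 2 Q' V8) (hP' : ∀ v, M'.P v = D8.Q v)
    (f : D8.isom) {s : Q} {s' : Q'} (h1 : (s' : G') ≠ 1) (h2 : (s' : G') ≠ z') (e : f.1 (M.pr s) = M'.pr s') :
    ∃ ψ : Q ≃* Q', ψ s = s' ∧ ∀ x, M'.pr (ψ x) = f.1 (M.pr x) := by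
  obtain ⟨ψ, -, hψ⟩ := M.exists_mulEquiv M' f.1 (fun v w => by rw [B_eq M hP, B_eq M' hP', f.2.B_map])
    fun v => by rw [hP, hP', mem_isom_quad.1 f.2]
  rcases (pr_eq M' (nd M' hP') h').1 ((hψ s).trans e) with a | a
  · exact ⟨ψ, Subtype.ext a, hψ⟩
  · obtain ⟨y, hy, n⟩ := h'.exists_anti s'.2 h1 h2
    refine ⟨ψ.trans (MulAut.conj ⟨y, hy⟩), Subtype.ext ?_, fun x => ?_⟩
    · show y * ψ s * y⁻¹ = s'
      rw [a, ← mul_assoc, mul_assoc _ z', ← h'.cen _ (inv_mem hy), ← mul_assoc,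
        h'.conj_anti hy s'.2 (Ne.symm n), mul_assoc, h'.sq, mul_one]
    · rw [← hψ]; exact (pr_eq M' (nd M' hP') h').2 (h'.conj_eq hy (ψ x).2)

variable {ρ : LL →* D8.isom} (hρ : ∀ (g : LL) v, Lm v → (ρ g).1 (cl v) = cl ((g : Co0) • v))
  (h : XT Q z) (ψ : Q ≃* Q0 ρ)

noncomputable def Fp : Subgroup (LL × centralizer ({z} : Set G)) :=
  (((κ (xt0 hρ).toLS).comp θ).comp (MonoidHom.fst _ _)).eqLocus
    (((MulAut.congr ψ).toMonoidHom.comp (κ h.toLS)).comp (MonoidHom.snd _ _))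

def Gp (z : G) : Subgroup (LL × centralizer ({z} : Set G)) where
  carrier := {m | ∃ hc : m.2.1 ∈ Q, (ψ ⟨_, hc⟩ : Co1) = θ m.1}
  one_mem' := ⟨one_mem _, congrArg Subtype.val (map_one ψ) |>.trans (congrArg Subtype.val (map_one θ)).symm⟩
  mul_mem' := fun {a b} ⟨h1, e1⟩ ⟨h2, e2⟩ => ⟨mul_mem h1 h2, by
    rw [Prod.fst_mul, map_mul, coe_mul, ← e1, ← e2, ← coe_mul, ← map_mul]; rfl⟩
  inv_mem' := fun {a} ⟨h1, e1⟩ => ⟨inv_mem h1, by
    rw [Prod.fst_inv, map_inv, coe_inv, ← e1, ← coe_inv, ← map_inv]; rfl⟩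

theorem mem_Fp {l : LL} {c : centralizer ({z} : Set G)} : (l, c) ∈ Fp hρ h ψ ↔
    ∀ x : Q, (ψ (κ h.toLS c x) : Co1) = θ l * ψ x * (θ l : Co1)⁻¹ := by
  refine MulEquiv.ext_iff.trans (ψ.surjective.forall.trans (forall_congr' fun x => ?_))
  rw [Subtype.ext_iff, eq_comm]
  show (ψ (κ h.toLS c (ψ.symm (ψ x))) : Co1) = _ ↔ _
  rw [ψ.symm_apply_apply]; rfl

include hρ h

theorem ψz : (ψ ⟨z, h.mem⟩ : Co1) = θ ζ := by
  rw [θζ]
  refine ((xt0 hρ).of_cen _ (ψ _).2 fun y hy => ?_).resolve_left fun e => h.ne ?_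
  · obtain ⟨x, e⟩ := ψ.surjective ⟨y, hy⟩
    rw [show y = ψ x from (congrArg Subtype.val e).symm, ← coe_mul, ← coe_mul, ← map_mul, ← map_mul]
    exact congrArg (fun a => (ψ a : Co1)) (Subtype.ext (h.cen _ x.2).symm)
  · exact congrArg Subtype.val (ψ.map_eq_one_iff.1 (Subtype.ext e))

theorem fb (M : CExt 2 (Q0 ρ) V8) (hP : ∀ v, M.P v = D8.Q v) :
    FB (τ0 hρ) θ ζ (Fp hρ h ψ) (Gp ψ z) ⟨z, mem_cent_single.2 rfl⟩ where
  le := fun ⟨l, c⟩ ⟨hc, e⟩ => (mem_Fp hρ h ψ).2 fun x => by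
    rw [← show _ = (θ l : Co1) from e, ← coe_inv, ← coe_mul, ← coe_mul, ← map_inv, ← map_mul, ← map_mul]; rfl
  norm := fun ⟨l, c⟩ hm ⟨k, q⟩ ⟨hq, e⟩ => ⟨(κ h.toLS c ⟨_, hq⟩).2, by
    refine ((mem_Fp hρ h ψ).1 hm ⟨_, hq⟩).trans ?_
    rw [show (ψ ⟨_, hq⟩ : Co1) = θ k from e]; simp⟩
  tot l := let ⟨c, e⟩ := h.lift (xt0 hρ) M hP ψ (θ l); ⟨c, e.symm⟩
  sur c := by
    obtain ⟨d, e⟩ := (xt0 hρ).lift h (M.congr ψ.symm) (fun v => (congr_P M _ v).trans (hP v)) ψ.symm c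
    obtain ⟨l, rfl⟩ := θ_surj d
    refine ⟨l, (mem_Fp hρ h ψ).2 fun x => ?_⟩
    rw [← e]
    show (ψ (ψ.symm (κ _ (θ l) (ψ x))) : Co1) = _
    rw [ψ.apply_symm_apply]; rfl
  ker1 l c e := by
    rw [mem_Fp, e]
    simp only [OneMemClass.coe_one, one_mul, inv_one, mul_one, SetLike.coe_eq_coe, EmbeddingLike.apply_eq_iff_eq]
    constructor
    · intro H
      exact (h.selfc c fun x hx => comm_of_conj_eq (congrArg Subtype.val (H ⟨x, hx⟩))).imp Subtype.ext Subtype.ext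
    · rintro (rfl | rfl) x
      · simp
      · exact Subtype.ext (conj_eq_of_comm (h.cen _ x.2).symm)
  ker2 l hl := by
    refine ((xt0 hρ).selfc (θ l) fun y hy => comm_of_conj_eq ?_).imp Subtype.ext
      fun e => Subtype.ext (e.trans θζ.symm)
    simpa using ((mem_Fp hρ h ψ).1 hl (ψ.symm ⟨y, hy⟩)).symm
  totΓ k hk := by
    have m := (mem_Q0 hρ).2 ((τ0_one hρ).1 hk)
    exact ⟨⟨_, h.le_cent (ψ.symm ⟨_, m⟩).2⟩, (ψ.symm ⟨_, m⟩).2, by simp⟩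
  oneΓ c := fun ⟨hc, e⟩ => Subtype.ext (congrArg (Subtype.val : Q → G)
    (ψ.map_eq_one_iff.1 (Subtype.ext (e.trans (congrArg Subtype.val (map_one θ))))))
  eps := ⟨h.mem, ψz hρ h ψ⟩
  cen c := Subtype.ext (mem_cent_single.1 c.2)
  sq := Subtype.ext h.sq
  ne e := h.ne (congrArg Subtype.val e)

variable (hb : g * z * g⁻¹ ∈ Q) (hne : g * z * g⁻¹ ≠ z) (hs : (ψ ⟨_, hb⟩ : Co1) = θ (S o2))
include hne hs

theorem T1F {l : LL} {c : centralizer ({z} : Set G)} (hm : (l, c) ∈ Fp hρ h ψ) (hl : Gl ρ l) :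
    c.1 ∈ cj g Q := by
  rw [mem_Fp] at hm
  have inj : ∀ x y : Q, (ψ x : Co1) = ψ y → (x : G) = y := fun x y e =>
    congrArg Subtype.val (ψ.injective (Subtype.ext e))
  refine h.T1 hb hne (mem_cent_single.1 c.2) (comm_of_conj_eq (inj (κ h.toLS c ⟨_, hb⟩) ⟨_, hb⟩ ?_))
    fun y hy e => ?_
  · rw [hm, hs, ← coe_mul, ← map_mul, hl.1, map_mul, coe_mul, mul_inv_cancel_right]
  obtain ⟨_, ⟨k, hk, rfl⟩, ek⟩ := (ψ ⟨y, hy⟩).2
  replace ek : (θ k : Co1) = ψ ⟨y, hy⟩ := ek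
  have := hm ⟨y, hy⟩
  rw [← ek, ← coe_inv, ← coe_mul, ← coe_mul, ← map_inv, ← map_mul, ← map_mul] at this
  refine (hl.2 k hk (Subtype.ext ?_)).imp (fun a => inj (κ h.toLS c ⟨y, hy⟩) ⟨y, hy⟩ ?_)
    fun a => inj (κ h.toLS c ⟨y, hy⟩) ((⟨y, hy⟩ : Q) * ((⟨z, h.mem⟩ : Q) * (⟨g * z * g⁻¹, hb⟩ : Q))) ?_
  · rw [coe_mul, coe_mul, ek, ← hs, ← coe_mul, ← coe_mul, ← map_mul, ← map_mul]
    exact congrArg (fun a => (ψ a : Co1)) (Subtype.ext e)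
  · rw [this, a, ek]
  · rw [this, a, map_mul, map_mul, map_mul, map_mul, coe_mul, coe_mul, coe_mul, coe_mul, ek, hs, ψz hρ h]

theorem pair1 {l l' : LL} {c c' : centralizer ({z} : Set G)} (hm : (l, c) ∈ Fp hρ h ψ)
    (hm' : (l', c') ∈ Fp hρ h ψ) (hl : Gl ρ l) (hl' : Gl ρ l') (e : θ ⁅l, l'⁆ = θ (S o2)) :
    (S o2, ⁅c, c'⁆) ∈ Gp ψ z := by
  have L := h.toLS.lp hb hne (by rw [h.card]; norm_num)
  have := (L.r.mem_zp.1 (L.r.commutator_mem (T1F hρ h ψ hb hne hs hm hl)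
    (T1F hρ h ψ hb hne hs hm' hl'))).resolve_left fun a => by
      have m := mul_mem (mul_mem (mul_mem hm hm') (inv_mem hm)) (inv_mem hm')
      rw [show (l, c) * (l', c') * (l, c)⁻¹ * (l', c')⁻¹ = (⁅l, l'⁆, 1) from Prod.ext rfl (Subtype.ext a),
        mem_Fp, e, ← hs] at m
      obtain ⟨y, hy, n⟩ := L.l.exists_anti hb L.r.ne hne
      have := m ⟨y, hy⟩
      rw [map_one, MulAut.one_apply, eq_mul_inv_iff_mul_eq, ← coe_mul, ← coe_mul, ← map_mul, ← map_mul] at this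
      exact n (congrArg Subtype.val (ψ.injective (Subtype.ext this))).symm
  exact ⟨(congrArg (· ∈ Q) this).mpr hb, by rw [← hs]; congr 2; exact Subtype.ext this⟩

omit hne hs h

/-- acting trivially on the sublattice -/
def Kf : Subgroup LL where
  carrier := {l | ∀ v, Lm v → (l : Co0) • v = v}
  one_mem' := fun v _ => one_smul _ v
  mul_mem' := fun {a b} ha hb v hv => by rw [coe_mul, mul_smul, hb v hv, ha v hv]
  inv_mem' := fun {a} ha v hv => by rw [coe_inv, inv_smul_eq_iff, ha v hv]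

omit hρ in
theorem S_Kf {c : Finset GolayPt} (hc : Cw c) (e : c ∩ oo = ∅) : S c ∈ Kf := fun v hv => by
  rw [S_eq hc]
  refine Subtype.ext (funext fun l => (sgn_smul c hc v l).trans ?_)
  have := Finset.ext_iff.1 e l
  by_cases hl : l ∈ oo
  · simp only [Finset.mem_inter, hl, and_true, Finset.notMem_empty, iff_false] at this
    simp [this]
  · simp [hv l hl]

omit hρ in
theorem pL_Kf {σ : Equiv.Perm GolayPt} (h : σ ∈ E16) : pL h ∈ Kf := fun v hv => by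
  refine Subtype.ext (funext fun l => ?_)
  obtain ⟨l, rfl⟩ := σ.surjective l
  refine (prm_smul_apply ⟨σ, h.1⟩ v l).trans ?_
  by_cases hl : l ∈ oo
  · rw [show σ l = l from (mem_fixingSubgroup_iff _).1 h.2 l hl]
  · rw [hv l hl, hv _ ((apply_mem_iff_of_smul_eq (E16_le h).2 l).not.mpr hl)]

omit hρ in
theorem S_univ : (S Finset.univ : Co0) = negOne := by rw [S_eq cw_univ]; rfl

theorem lk : LK (τ0 hρ) θ ζ (S Finset.univ) Kf where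
  surj := τ0_surj hρ
  surjθ := θ_surj
  nm := ⟨fun k hk l v hv => by
    rw [coe_mul, coe_mul, mul_smul, mul_smul, hk _ (hv.smul (l⁻¹).2), coe_inv, smul_inv_smul]⟩
  le k hk := (τ0_one hρ).2 (ker_of hρ fun v hv => .inl (hk v hv))
  ker l hl := by
    obtain ⟨c, hc, σ, h, rfl⟩ := (main hρ).2.2 l ((τ0_one hρ).1 hl)
    rw [← S_eq hc.1]
    refine hc.2.imp (fun e => mul_mem (S_Kf hc.1 e) (pL_Kf h)) fun e => ?_
    rw [← mul_assoc, S_mul cw_univ hc.1]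
    refine mul_mem (S_Kf (cw_symmDiff cw_univ hc.1) ?_) (pL_Kf h)
    ext a
    have := Finset.ext_iff.1 e a
    simp only [Finset.mem_inter, Finset.mem_symmDiff, Finset.mem_univ, Finset.notMem_empty] at this ⊢
    tauto
  kθ l := by rw [← map_one θ, θ_eq, coe_one, mul_one, ← S_univ, SetLike.coe_eq_coe]
  nK e := e8_ne_neg none none (((e _ Lm_e8).symm.trans (by rw [S_univ])).trans (negOne_smul _))
  cen l := Subtype.ext (by rw [coe_mul, coe_mul, S_univ, negOne_comm])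
  sq := S_sq cw_univ
  eps := ζ_S ▸ S_Kf (cw_compl cw_oo) (disjoint_compl_left.eq_bot)
  tn := (τ0_one hρ).2 (S_ker hρ ⟨cw_univ, .inr (by simp)⟩)

def sg0 : ℕ := 0x170710080d0f1115120e13090a0b0c141604050603020100
def pi0 : ℕ := 0x11161008131217150f020d090b0a0c1407040306050e0001

omit hρ in
theorem sg0_E : gc.InH E16 sg0 := inH_inf_fixing (gs := [sg0]) (inH_of_allL (by decide +kernel)) _
  (by decide +kernel) _ (by simp)

omit hρ in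
theorem pi0_H : gc.InH HO pi0 := inH_inf_om (gs := [pi0]) (inH_of_allL (by decide +kernel)) _
  (by decide +kernel) _ (by simp)

omit hρ in
set_option maxRecDepth 100000 in
theorem H4 {c : Finset GolayPt} (hc : Gd c) : (gc.dec sg0 • c = c ∧ gc.dec pi0 • c = c) ∨
    (gc.dec sg0 • c ≠ c ∧ gc.dec pi0 • (c ∆ om 0x51a610) = c ∆ om 0x51a610) := by
  obtain ⟨m, hm, rfl⟩ := exists_isCw hc.1
  have := allCw (q := fun m => bif' (gd m 0x82402f) (bor (band (Nat.beq (imgN 24 sg0 m) m)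
    (Nat.beq (imgN 24 pi0 m) m)) (band (bnot (Nat.beq (imgN 24 sg0 m) m))
    (Nat.beq (imgN 24 pi0 (Nat.xor m 0x51a610)) (Nat.xor m 0x51a610)))) true) (by decide +kernel) hm
  rw [bif'_pos (show gd m _ = true from (Gd_iff hm).1 hc), bor_iff, band_iff, band_iff, bnot_iff, beq_iff,
    beq_iff, beq_iff] at this
  rw [← gc.ofMask_xor, sg0_E.1.smul_ofMask, pi0_H.1.smul_ofMask, pi0_H.1.smul_ofMask, Ne,
    om_inj (sg0_E.1.imgN_lt _) (isCw_lt hm)]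
  exact this.imp (And.imp_right (congrArg om)) (And.imp_right (congrArg om))

theorem twist (M : CExt 2 (Q0 ρ) V8) (hP : ∀ v, M.P v = D8.Q v) {s : Q0 ρ} (hs : (s : Co1) = θ (S o2)) :
    ∃ φ : Q0 ρ ≃* Q0 ρ, φ s = s ∧ ∃ d d' : DD, ⁅d, d'⁆ = θ ζ ∧ ∀ c, Gd c → ∀ x : Q0 ρ, (x : Co1) = θ (S c) →
      Commute (d : Co1) (φ x) ∧ Commute (d' : Co1) (φ x) := by
  have h := xt0 hρ
  have g0 : Gd (om 0x51a610) := Gd_om (by decide +kernel)
  have hσ := E16_le sg0_E.2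
  have an : ∀ c, Gd c → gc.dec sg0 • c ≠ c → θ (P (gc.dec sg0)) * θ (S c) ≠ θ (S c) * θ (P (gc.dec sg0)) :=
    fun c hc n => by rw [S_eq hc.1, ← pL_eq sg0_E.2]; exact nc ((ps sg0_E.2 hc).resolve_left fun a => n a.1)
  have n0 : gc.dec sg0 • om 0x51a610 ≠ om 0x51a610 := by
    rw [sg0_E.1.smul_ofMask, Ne, om_inj (sg0_E.1.imgN_lt _) (by norm_num)]; decide +kernel
  let t : Q0 ρ := ⟨θ (S (om 0x51a610) * P (gc.dec sg0)),
    (mem_Q0 hρ).2 (mul_mem (S_ker hρ g0) (pL_eq sg0_E.2 ▸ pL_ker hρ sg0_E.2))⟩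
  have ct : ∀ c, Cw c → gc.dec sg0 • c = c → S c * (S (om 0x51a610) * P (gc.dec sg0)) =
      S (om 0x51a610) * P (gc.dec sg0) * S c := fun c hc e => by
    rw [mul_assoc, P_S hσ hc, e, ← mul_assoc, S_comm hc g0.1, mul_assoc]
  have tq : D8.Q (M.pr t) = 1 := (z2 _).resolve_left fun e => an _ g0 n0 (by
    rw [← hP, M.P_eq_zero, pow_two] at e
    have a : θ (S (om 0x51a610) * P (gc.dec sg0)) * θ (S (om 0x51a610) * P (gc.dec sg0)) = 1 :=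
      Subtype.ext (congrArg (Subtype.val : Q0 ρ → Co1) e)
    have b : P (gc.dec sg0) * P (gc.dec sg0) = 1 := by rw [← pL_eq sg0_E.2, pL_sq]
    rw [← map_mul, ← map_mul, eq_comm, ← mul_inv_eq_one, ← map_inv, ← map_mul, mul_inv_rev, S_inv g0.1,
      inv_eq_of_mul_eq_one_left b, map_mul, a])
  have cB : ∀ x : Q0 ρ, D8.B (M.pr t) (M.pr x) = 0 ↔ (t : Co1) * x = x * t := fun x => by
    rw [← B_eq M hP, M.B_eq_zero, Subtype.ext_iff]; rfl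
  have cθ : ∀ {a b : LL}, a * b = b * a → Commute (θ a : Co1) (θ b) := fun e =>
    (Commute.map e (DD.subtype.comp θ))
  have s1 : θ (S o2) ≠ 1 ∧ θ (S o2) ≠ θ ζ := by
    rw [← map_one θ, ← S_empty, ζ_S, Ne, Ne, θ_S G1.1 cw_empty, θ_S G1.1 (cw_compl cw_oo), ← gc.ofMask_zero,
      ← om_compl 0x82402f]
    exact ⟨om_ne (by decide +kernel), om_ne (by decide +kernel)⟩
  obtain ⟨φ, h1, h2⟩ := exists_psi h.toLS M hP M hP (D8.refl (M.pr t)) (s := s) (s' := s)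
    (fun e => s1.1 (Subtype.ext (hs.symm.trans e))) (fun e => s1.2 (Subtype.ext ((hs.symm.trans e).trans θζ.symm)))
    (Form.refl_apply_of_perp ((cB s).2 (by
      rw [hs]; exact (cθ (ct _ G1.1 (by rw [sg0_E.1.smul_ofMask]; rfl))).symm.eq)))
  have c1 : Cw (om 0xa96009) := om_mem_cw (by decide +kernel)
  refine ⟨φ, h1, θ (S (om 0xa96009)), θ (P (gc.dec pi0)), ?_, fun c hc x hx => ?_⟩
  · rw [← map_commutatorElement, commutatorElement_def, mul_assoc (S _), mul_assoc (S _), S_inv c1,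
      P_conj pi0_H.2 c1, S_mul c1 (cw_smul pi0_H.2.1 c1), ζ_S, pi0_H.1.smul_ofMask, ← gc.ofMask_xor,
      θ_S (om_mem_cw (by decide +kernel)) (cw_compl cw_oo), compl_compl]
    exact .inr rfl
  have key : ∀ y : Q0 ρ, M.pr (φ x) = M.pr y → ∀ d : DD, Commute (d : Co1) y → Commute (d : Co1) (φ x) :=
    fun y e d a => by
      rcases (pr_eq M (nd M hP) h.toLS).1 e with e | e <;> rw [e]
      · exact a
      · exact a.mul_right (mem_cent_single.1 d.2)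
  have e1 : gc.dec sg0 • om 0xa96009 = om 0xa96009 := by rw [sg0_E.1.smul_ofMask]; rfl
  rcases H4 hc with ⟨a, b⟩ | ⟨a, b⟩
  · have := h2 x
    rw [Form.refl_apply_of_perp ((cB x).2 (by rw [hx]; exact (cθ (ct c hc.1 a)).symm.eq))] at this
    exact ⟨key x this _ (hx ▸ cθ (S_comm c1 hc.1)), key x this _ (hx ▸ cθ (by rw [P_S pi0_H.2 hc.1, b]))⟩
  · have := h2 x
    rw [rf tq, (z2 (D8.B (M.pr t) (M.pr x))).resolve_left fun e => an c hc a (by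
      have := (cB x).1 e
      rw [hx] at this
      replace this : θ (S (om 0x51a610) * P (gc.dec sg0)) * θ (S c) = θ (S c) * θ _ := Subtype.ext this
      rwa [map_mul, ← mul_assoc, ← map_mul θ (S c), S_comm hc.1 g0.1, map_mul, mul_assoc, mul_assoc,
        mul_right_inj] at this), one_smul, ← M.pr_mul] at this
    have e : ((x * t : Q0 ρ) : Co1) = θ (S (c ∆ om 0x51a610) * P (gc.dec sg0)) := by
      rw [coe_mul, hx, ← S_mul hc.1 g0.1, mul_assoc, map_mul θ (S c)]; rfl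
    have c2 := cw_symmDiff hc.1 g0.1
    refine ⟨key _ this _ (e ▸ cθ ?_), key _ this _ (e ▸ cθ ?_)⟩
    · rw [mul_assoc, P_S hσ c1, e1, ← mul_assoc, S_comm c1 c2, mul_assoc]
    · rw [← mul_assoc, P_S pi0_H.2 c2, b, mul_assoc, mul_assoc, ← P_mul hσ pi0_H.2, ← P_mul pi0_H.2 hσ,
        ← sg0_E.1.dec_mul pi0_H.1, ← pi0_H.1.dec_mul sg0_E.1]
      rfl

omit hρ

structure PH (ρ : LL →* D8.isom) (Φ : LL →* G) (Q : Subgroup G) (z g : G) : Prop extends XT Q z where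
  rng : ∀ c, c * z = z * c ↔ ∃ l, Φ l = c
  inj : ∀ l m, Φ l = Φ m ↔ θ l = θ m
  zeta : Φ ζ = z
  memQ : ∀ x, x ∈ Q ↔ ∃ k ∈ ρ.ker, Φ k = x
  s2 : Φ (S o2) = g * z * g⁻¹

include hρ h hb hne in
theorem exists_PH : ∃ Φ : LL →* G, PH ρ Φ Q z g := by
  have h0 := xt0 hρ
  have L := h.toLS.lp hb hne (by rw [h.card]; norm_num)
  have m0 := (mem_Q0 hρ).2 (S_ker hρ G1)
  obtain ⟨σ, hσ, e⟩ := exists_M24_octad O0_mem (om_mem_octads (m := 0x149f00) (by decide +kernel))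
  have e0' : mk1 (prm ⟨σ, hσ⟩) * mk1 ep * (mk1 (prm ⟨σ, hσ⟩))⁻¹ = θ (S o2) := by
    rw [← map_inv, ← map_mul, ← map_mul, prm_sgn_conj, S_eq G1.1]
    simp only [e]
    rfl
  generalize mk1 (prm ⟨σ, hσ⟩) = g0 at e0'
  have hb0 : g0 * mk1 ep * g0⁻¹ ∈ Q0 ρ := e0' ▸ m0
  have hne0 : g0 * mk1 ep * g0⁻¹ ≠ mk1 ep := by
    rw [e0', S_eq G1.1]
    exact fun e => om_ne (by decide +kernel) ((θ_sL (hd := cw_oo)).1 (Subtype.ext e))
  have L0 := h0.toLS.lp hb0 hne0 (by rw [h0.card]; norm_num)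
  have q0 : D8.Q e0 = 0 := by show quadFormPlus 4 (ZMod 2) _ = 0; decide
  obtain ⟨M0, hP0, p0⟩ := h0.exists_M hb0 L0.r.ne hne0 L0.r.sq (v := e0) (by decide) q0
  obtain ⟨M, hP, p⟩ := h.exists_M hb L.r.ne hne L.r.sq (v := e0) (by decide) q0
  obtain ⟨ψ, hψ, -⟩ := exists_psi h0.toLS M hP M0 hP0 1 (s := ⟨_, hb⟩) (s' := ⟨_, hb0⟩) L0.r.ne hne0
    (by rw [p, p0]; rfl)
  obtain ⟨φ, hφ, d, d', dd, H⟩ := twist hρ M0 hP0 (s := ⟨_, hb0⟩) e0'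
  have hs : (ψ ⟨_, hb⟩ : Co1) = θ (S o2) := by rw [hψ, ← e0']
  have hs1 : (φ.symm ⟨_, hb0⟩ : Co1) = θ (S o2) := by rw [φ.symm_apply_eq.2 hφ.symm, ← e0']
  have k := lk hρ
  have f1 := fb hρ h0 φ.symm M0 hP0
  have f2 := fb hρ h ψ M0 hP0
  have gu : Gl ρ (S (om 0xc12017)) := GL_S hρ (by decide +kernel) (by decide +kernel)
  have gv : Gl ρ (P (gc.dec p1)) := GL_P hρ (by simp [gp])
  have v1 := gp_HO p1 (by simp [gp])
  have c1 : Cw (om 0xc12017) := om_mem_cw (by decide +kernel)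
  have uv : ⁅S (om 0xc12017), P (gc.dec p1)⁆ = S o2ᶜ := by
    rw [commutatorElement_def, mul_assoc (S _), mul_assoc (S _), S_inv c1, P_conj v1.2 c1,
      S_mul c1 (cw_smul v1.2.1 c1), v1.1.smul_ofMask, ← gc.ofMask_xor, ← om_compl]; rfl
  have nuv : S Finset.univ * ⁅S (om 0xc12017), P (gc.dec p1)⁆ = S o2 := by
    rw [uv, S_mul cw_univ (cw_compl G1.1), ← Finset.top_eq_univ, top_symmDiff]; exact congrArg S (compl_compl _)
  have tuv : θ ⁅S (om 0xc12017), P (gc.dec p1)⁆ = θ (S o2) := by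
    rw [uv, θ_S (cw_compl G1.1) G1.1]; exact .inr rfl
  obtain ⟨a1, a2⟩ := f1.tot (S (om 0xc12017))
  obtain ⟨a3, a4⟩ := f2.tot (S (om 0xc12017))
  obtain ⟨a5, a6⟩ := f1.tot (P (gc.dec p1))
  obtain ⟨a7, a8⟩ := f2.tot (P (gc.dec p1))
  obtain ⟨l, b1⟩ := f1.sur d
  obtain ⟨l', b2⟩ := f1.sur d'
  obtain ⟨b3, b4⟩ := f2.tot l
  obtain ⟨b5, b6⟩ := f2.tot l'
  have sg : ∀ {l d}, (l, d) ∈ Fp hρ h0 φ.symm → (∀ c, Gd c → ∀ x : Q0 ρ, (x : Co1) = θ (S c) →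
      Commute (d : Co1) (φ x)) → ∃ c, Cw c ∧ l = S c := fun {l d} hm H => SG fun c hc => by
    have m := (mem_Q0 hρ).2 (S_ker hρ hc)
    have := (mem_Fp hρ h0 φ.symm).1 hm (φ ⟨_, m⟩)
    rw [show κ h0.toLS d (φ ⟨_, m⟩) = φ ⟨_, m⟩ from Subtype.ext (conj_eq_of_comm (H c hc _ rfl)),
      φ.symm_apply_apply] at this
    exact Subtype.ext (comm_of_conj_eq this.symm)
  obtain ⟨c, hc, rfl⟩ := sg b1 fun c hc x e => (H c hc x e).1
  obtain ⟨c', hc', rfl⟩ := sg b2 fun c hc x e => (H c hc x e).2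
  have K2 : S o2 ∈ Kf := S_Kf G1.1 (by rw [om_inter, ← gc.ofMask_zero]; rfl)
  obtain ⟨M1, r1, r2, r3, r4, r5, r6⟩ := core k f1 f2 (a := (_, a1, a3)) (a' := (_, a5, a7)) (b := (_, d, b3))
    (b' := (_, d', b5)) ⟨a2, a4⟩ ⟨a6, a8⟩ ⟨b1, b4⟩ ⟨b2, b6⟩ (nuv ▸ K2)
    (by
      have x1 := pair1 hρ h0 φ.symm hb0 hne0 hs1 a2 a6 gu gv tuv
      have x2 := pair1 hρ h ψ hb hne hs a4 a8 gu gv tuv
      rw [← nuv, ← one_mul ⁅a1, a5⁆] at x1
      rw [← nuv, ← one_mul ⁅a3, a7⁆] at x2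
      exact ⟨x1, x2⟩)
    (commutatorElement_eq_one_iff_mul_comm.2 (S_comm hc hc')) (dd.trans (Subtype.ext θζ))
  obtain ⟨χ, hχ⟩ := iso k f1 f2 r1 r2 r3 r4 r5 r6
  obtain ⟨η, e1, e2, e3⟩ : ∃ η : Q0 ρ ≃* Q, (∀ x : Q0 ρ, (χ ⟨x, h0.le_cent x.2⟩ : G) = η x) ∧
      (η ⟨_, h0.mem⟩ : G) = z ∧ (η ⟨_, hb0⟩ : G) = g * z * g⁻¹ := by
    have dec : ∀ x : Q0 ρ, ∃ l ∈ Kf, (θ l : Co1) = x := fun ⟨_, _, ⟨l, hl, rfl⟩, rfl⟩ => by
      refine (k.ker l ((τ0_one hρ).2 hl)).elim (fun a => ⟨l, a, rfl⟩) fun a => ⟨_, a, ?_⟩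
      rw [map_mul, (k.kθ _).2 (.inr rfl), one_mul]; rfl
    have z1 : ψ.symm ⟨_, h0.mem⟩ = ⟨z, h.mem⟩ := ψ.symm_apply_eq.2 (Subtype.ext ((ψz hρ h ψ).trans θζ).symm)
    rcases hχ with hχ | hχ
    · refine ⟨ψ.symm, fun x => ?_, by rw [z1], by rw [← hψ, ψ.symm_apply_apply]⟩
      obtain ⟨l, hl, e⟩ := dec x
      rw [show (⟨x, h0.le_cent x.2⟩ : DD) = θ l from Subtype.ext e.symm,
        hχ l hl ⟨_, h.le_cent (ψ.symm x).2⟩ ⟨(ψ.symm x).2, by simp [e]⟩]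
    · refine ⟨φ.symm.trans ψ.symm, fun x => ?_, ?_, ?_⟩
      · obtain ⟨l, hl, e⟩ := dec (φ.symm x)
        rw [hχ l hl _ ⟨_, h.le_cent (ψ.symm (φ.symm x)).2⟩ ⟨x.2, e.symm⟩ ⟨(ψ.symm (φ.symm x)).2, by simp [e]⟩]
        rfl
      · rw [MulEquiv.trans_apply, show φ.symm ⟨_, h0.mem⟩ = ⟨_, h0.mem⟩ from
          Subtype.ext ((ψz hρ h0 φ.symm).trans θζ), z1]
      · rw [MulEquiv.trans_apply, φ.symm_apply_eq.2 hφ.symm, ← hψ, ψ.symm_apply_apply]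
  refine ⟨(centralizer {z}).subtype.comp (χ.toMonoidHom.comp θ), h, fun c => ⟨fun hc => ?_, ?_⟩,
    fun l m => Subtype.ext_iff.symm.trans χ.injective.eq_iff, ?_, fun x => ⟨fun hx => ?_, ?_⟩, ?_⟩
  · obtain ⟨l, e⟩ := (χ.surjective.comp θ_surj) ⟨c, mem_cent_single.2 hc⟩
    exact ⟨l, congrArg Subtype.val e⟩
  · rintro ⟨l, rfl⟩; exact mem_cent_single.1 (χ (θ l)).2
  · exact (congrArg (fun d => (χ d : G)) (Subtype.ext θζ)).trans ((e1 ⟨_, h0.mem⟩).trans e2)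
  · obtain ⟨⟨_, _, ⟨l, hl, rfl⟩, rfl⟩, e⟩ := η.surjective ⟨x, hx⟩
    exact ⟨l, hl, (e1 ⟨_, (mem_Q0 hρ).2 hl⟩).trans (congrArg Subtype.val e)⟩
  · rintro ⟨l, hl, rfl⟩
    exact (congrArg (· ∈ Q) (e1 ⟨_, (mem_Q0 hρ).2 hl⟩)).mpr (η _).2
  · exact (congrArg (fun d => (χ d : G)) (Subtype.ext e0'.symm)).trans ((e1 ⟨_, hb0⟩).trans e3)

end Cfsg.Lib.Small.CoT
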