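import Cfsg.Agent.Lib.Small.CoT5

/-! An element of the second extraspecial group normalising the group of sign changes. -/

set_option autoImplicit false

namespace Cfsg.Lib.Small.CoT

open Cfsg.Lib.Leech Cfsg.Lib.Golay Cfsg.Spor Cfsg.Lib.Forms Subgroup Cfsg.Lib.Small.Co1Z Cfsg.Lib.Known2
  Cfsg.Lib.Core Cfsg.Agent.S5388 Function Cfsg.Lib.Amalg
open scoped Pointwise symmDiff

variable {G : Type*} [Group G] [Finite G] {Q : Subgroup G} {z g : G}

theorem chn (h : ES Q z) : ∀ (n : ℕ) (c w : Fin n → G), (∀ i, c i ∈ Q) → (∀ i, w i ∈ Q) →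
    (∀ i, ¬ Commute (c i) (w i)) → (∀ i j, j < i → Commute (c j) (w i)) →
    Nat.card Q = 2 ^ n * Nat.card ↥(Q ⊓ centralizer (Set.range c))
  | 0, c, _, _, _, _, _ => by
    rw [inf_of_le_left fun x _ _ ⟨i, _⟩ => i.elim0, pow_zero, one_mul]
  | n + 1, c, w, hc, hw, h1, h2 => by
    rw [chn h n (c ∘ Fin.castSucc) (w ∘ Fin.castSucc) (fun _ => hc _) (fun _ => hw _) (fun _ => h1 _)
      fun i j e => h2 _ _ (Fin.castSucc_lt_castSucc_iff.2 e),
      card_two h inf_le_left (hc (Fin.last n)) (y := w (Fin.last n))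
        ⟨hw _, by rintro _ ⟨j, rfl⟩; exact h2 _ _ (Fin.castSucc_lt_last j)⟩ (h1 _), pow_succ, mul_assoc]
    congr 4
    ext x
    simp only [mem_inf, mem_centralizer_iff, Set.forall_mem_range, Fin.forall_fin_succ', and_assoc,
      Set.mem_singleton_iff, forall_eq, Function.comp]

omit [Finite G] in
theorem cmi (h : ES Q z) {a x y : G} (ha : a ∈ Q) (hx : x ∈ Q) (hy : y ∈ Q) :
    Commute a (x * y) ↔ (Commute a x ↔ Commute a y) := h.mul_comm_iff ha hx hy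

omit [Finite G] in
theorem adj (h : ES Q z) {u v y : G} (hu : u ∈ Q) (hv : v ∈ Q) (hy : y ∈ Q) (n : ¬ Commute u v) :
    ∃ y' ∈ Q, Commute u y' ∧ ∀ r ∈ Q, Commute r v → (Commute r y' ↔ Commute r y) := by
  by_cases e : Commute u y
  · exact ⟨y, hy, e, fun _ _ _ => Iff.rfl⟩
  · exact ⟨y * v, mul_mem hy hv, (cmi h hu hy hv).2 (iff_of_false e n), fun r hr a => by simp [cmi h hr hy hv, a]⟩

section
variable (h : ES Q z) (hc : Nat.card Q = 2 ^ 9) {a b : Fin 4 → G} (ha : ∀ i, a i ∈ Q) (hb : ∀ i, b i ∈ Q)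
  (aa : ∀ i j, Commute (a i) (a j)) (ab : ∀ i j, Commute (a i) (b j) ↔ i ≠ j)
include h hc ha hb aa ab

theorem es8 {x : G} (hx : x ∈ Q) (h1 : ∀ i, Commute x (a i)) (h2 : ∀ i, Commute x (b i)) : x = 1 ∨ x = z := by
  have ba : ∀ i j, Commute (b i) (a j) ↔ j ≠ i := fun i j => Commute.symm_iff.trans (ab j i)
  have := chn h 8 ![a 0, a 1, a 2, a 3, b 0, b 1, b 2, b 3] ![b 0, b 1, b 2, b 3, a 0, a 1, a 2, a 3]
    (by simp [Fin.forall_fin_succ, ha, hb]) (by simp [Fin.forall_fin_succ, ha, hb])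
    (by simp [Fin.forall_fin_succ, ab, ba]) (by
      intro i j; fin_cases i <;> fin_cases j <;> simp [aa, ab, ba])
  rw [← h.mem_zp, eq_of_le_of_card_ge (K := Q ⊓ centralizer (Set.range
    ![a 0, a 1, a 2, a 3, b 0, b 1, b 2, b 3])) (zpowers_le.2 ⟨h.mem, by
      rintro _ ⟨i, rfl⟩; refine h.cen _ ?_; fin_cases i <;> simp [ha, hb]⟩)
    (by rw [card_zpowers_invol h.sq h.ne]; omega)]
  refine ⟨hx, ?_⟩
  rintro _ ⟨i, rfl⟩
  fin_cases i <;> first | exact (h1 _).symm | exact (h2 _).symm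

theorem es4 {B : Subgroup G} (hz : z ∈ B) (hB : ∀ i, a i ∈ B) {x : G} (hx : x ∈ Q)
    (h1 : ∀ i, Commute x (a i)) : x ∈ B := by
  suffices ∀ T : Finset (Fin 4), ∀ x ∈ Q, (∀ i, Commute x (a i)) → (∀ i ∉ T, Commute x (b i)) → x ∈ B from
    this Finset.univ x hx h1 (by simp)
  intro T
  induction T using Finset.induction_on with
  | empty =>
    intro x hx h1 h2
    rcases es8 h hc ha hb aa ab hx h1 fun i => h2 i (by simp) with rfl | rfl
    exacts [one_mem _, hz]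
  | insert i T _ ih =>
    intro x hx h1 h2
    by_cases e : Commute x (b i)
    · exact ih x hx h1 fun j hj => if k : j = i then k ▸ e else h2 j (by simp [k, hj])
    · refine (mul_mem_cancel_right (hB i)).1 (ih _ (mul_mem hx (ha i)) (fun j => (h1 j).mul_left (aa i j))
        fun j hj => ((cmi h (hb j) hx (ha i)).2 ?_).symm)
      rw [Commute.symm_iff, Commute.symm_iff (a := b j), ab]
      by_cases k : j = i
      · simp [k, e]
      · simp [Ne.symm k, h2 j (by simp [k, hj])]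

end

def sp : List ℕ → ℕ → ℕ
  | [], _ => 0
  | g :: gs, b => (if b % 2 = 1 then g else 0) ^^^ sp gs (b / 2)

theorem sp_ind {P : ℕ → Prop} (h0 : P 0) (hx : ∀ a b, P a → P b → P (a ^^^ b)) :
    ∀ (gs : List ℕ), (∀ g ∈ gs, P g) → ∀ b, P (sp gs b)
  | [], _, _ => h0
  | g :: gs, h, b => hx _ _ (by split_ifs; exacts [h g (by simp), h0]) (sp_ind h0 hx gs (fun a ha => h a (by simp [ha])) _)

def sg1 : ℕ := 0x4001114051215020f06010c0b0a0908030e131707100d16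
def tau : ℕ := 0x1070414150f17130c0e160a1209080b1006110d02050003
def wN : Fin 4 → ℕ := ![0x82402f, 0xc12017, 0xea0031, 0xa34054]
def g6 : List ℕ := [0x82402f, 0xc12017, 0xea0031, 0xa34054, 0x149f00, 16777215]
def lam (m : ℕ) : Prop := m.testBit 0 = m.testBit 22
instance : DecidablePred lam := fun _ => inferInstanceAs (Decidable (_ = _))
noncomputable def fm (g m : ℕ) : Bool :=
  bor (Nat.beq (imgN 24 g m) m) (Nat.beq (imgN 24 g m) (Nat.xor m 16777215))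

theorem sg1_M : gc.InH M24 sg1 := inH_of_inM24 (by decide +kernel)
theorem tau_H : gc.InH HO tau := inH_inf_om (gs := [tau]) (inH_of_allL (by decide +kernel)) _
  (by decide +kernel) _ (by simp)

set_option maxRecDepth 100000 in
theorem H5 {m : ℕ} (hm : isCw m = true) (e : gd m 0x149f00 = true) : ∃ b, sp g6 b = m := by
  have := allCw (q := fun m => bif' (gd m 0x149f00) (anyN 64 fun b => Nat.beq (sp g6 b) m) true)
    (by decide +kernel) hm
  rw [bif'_pos e] at this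
  obtain ⟨b, -, h⟩ := anyN_iff.1 this
  exact ⟨b, beq_iff.1 h⟩

set_option maxRecDepth 100000 in
theorem H6 {m : ℕ} (hm : isCw m = true) : gd (m ^^^ imgN 24 sg1 m) 0x149f00 = true ∧ lam (m ^^^ imgN 24 sg1 m) ∧
    ∀ g ∈ gp, gd (m ^^^ imgN 24 g m) 0x149f00 = true ∧
      (lam (m ^^^ imgN 24 g m) ↔ fm g (m ^^^ imgN 24 sg1 m) = true) := by
  have := allCw (q := fun m => forceN (m ^^^ imgN 24 sg1 m) fun u => band (band (gd u 0x149f00) (decide (lam u)))
    (allL gp fun g => forceN (m ^^^ imgN 24 g m) fun v => band (gd v 0x149f00) (decide (lam v ↔ fm g u = true))))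
    (by decide +kernel) hm
  simpa only [forceN_eq, band_iff, allL_iff, decide_eq_true_eq, and_assoc] using this

theorem om_xor (a b : ℕ) : om (a ^^^ b) = om a ∆ om b := gc.ofMask_xor a b

theorem smul_om {g : ℕ} (hg : gc.Valid g) (m : ℕ) : gc.dec g • om m = om (imgN 24 g m) := hg.smul_ofMask m

theorem isCw_img {g m : ℕ} (hg : gc.InH M24 g) (hm : isCw m = true) : isCw (imgN 24 g m) = true :=
  (om_mem_cw_iff (hg.1.imgN_lt m)).1 ((congrArg Cw (hg.1.smul_ofMask m)).mp (cw_smul hg.2 (om_mem_cw hm)))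

variable {ρ : LL →* D8.isom} (hρ : ∀ (g : LL) v, Lm v → (ρ g).1 (cl v) = cl ((g : Co0) • v))
  {Φ : LL →* G} (H : PH ρ Φ Q z g)

/-- the image of the sign changes -/
noncomputable def AA (Φ : LL →* G) : Subgroup G := (Sgn.subgroupOf LL).map Φ

omit [Finite G] in
theorem mem_AA {x : G} : x ∈ AA Φ ↔ ∃ c, Cw c ∧ Φ (S c) = x :=
  ⟨fun ⟨_, ⟨c, hc, e⟩, e'⟩ => ⟨c, hc, by rw [S_eq hc, ← e']; exact congrArg Φ (Subtype.ext e.symm)⟩,
    fun ⟨c, hc, e⟩ => ⟨_, by rw [S_eq hc]; exact ⟨c, hc, rfl⟩, e⟩⟩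

omit [Finite G] in
theorem cSS {c d : Finset GolayPt} (hc : Cw c) (hd : Cw d) : Commute (Φ (S c)) (Φ (S d)) :=
  Commute.map (S_comm hc hd) Φ

omit [Finite G] in
theorem AA_comm {x y : G} (hx : x ∈ AA Φ) (hy : y ∈ AA Φ) : Commute x y := by
  obtain ⟨c, hc, rfl⟩ := mem_AA.1 hx
  obtain ⟨d, hd, rfl⟩ := mem_AA.1 hy
  exact cSS hc hd

omit [Finite G] in
theorem AA_sq {x : G} (hx : x ∈ AA Φ) : x * x = 1 := by
  obtain ⟨c, hc, rfl⟩ := mem_AA.1 hx
  rw [← map_mul, S_sq hc, map_one]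

include H

omit [Finite G] in
theorem PH.S_eq {c d : Finset GolayPt} (hc : Cw c) (hd : Cw d) : Φ (S c) = Φ (S d) ↔ c = d ∨ c = dᶜ :=
  (H.inj _ _).trans (θ_S hc hd)

omit [Finite G] in
theorem PH.zo : Φ (S oo) = z := by
  rw [← H.zeta, ζ_S, H.S_eq cw_oo (cw_compl cw_oo), compl_compl]; exact .inr rfl

omit [Finite G] in
theorem PH.cPS {k m : ℕ} (hk : gc.InH HO k) (hm : isCw m = true) :
    Commute (Φ (S (om m))) (Φ (P (gc.dec k))) ↔ fm k m = true := by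
  have hc := om_mem_cw hm
  rw [commute_iff_eq, eq_comm, ← mul_inv_eq_iff_eq_mul, ← map_inv, ← map_mul, ← map_mul, P_conj hk.2 hc,
    H.S_eq (cw_smul hk.2.1 hc) hc, hk.1.smul_ofMask, ← om_compl, om_inj (hk.1.imgN_lt _) (isCw_lt hm),
    om_inj (b := Nat.xor m 16777215) (hk.1.imgN_lt _) (Nat.xor_lt_two_pow (isCw_lt hm) (by norm_num)), fm,
    bor_iff, beq_iff, beq_iff]
  rfl

include hρ

theorem PH.lp : LP Q (cj g Q) z (g * z * g⁻¹) :=
  H.toLS.lp ((H.memQ _).2 ⟨_, S_ker hρ G1, H.s2⟩) (fun e => om_ne (by decide +kernel)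
    ((H.S_eq G1.1 cw_oo).1 ((H.s2.trans e).trans H.zo.symm))) (by rw [H.card]; norm_num)

theorem PH.T1 {l : LL} (hl : Gl ρ l) : Φ l ∈ cj g Q := by
  have L := H.lp hρ
  refine H.toXT.T1 L.bQ L.ne ((H.rng _).2 ⟨l, rfl⟩) (H.s2 ▸ Commute.map hl.1 Φ) fun y hy e => ?_
  obtain ⟨k, hk, rfl⟩ := (H.memQ y).1 hy
  rw [← H.s2, ← map_mul, ← map_mul, H.inj, map_mul, map_mul] at e
  rw [← H.s2, ← H.zeta, ← map_inv, ← map_mul, ← map_mul, ← map_mul, ← map_mul]
  exact (hl.2 k hk e).imp (congrArg Φ) (congrArg Φ)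

set_option maxHeartbeats 1000000 in
theorem PH.exists_y : ∃ y, ∀ c, Cw c → y * Φ (S c) * y⁻¹ = Φ (S (gc.dec sg1 • c)) := by
  have L := H.lp hρ
  have E := L.r.toES
  have hc : Nat.card (cj g Q) = 2 ^ 9 := by rw [card_cj, H.card]
  have mS : ∀ m, isCw m = true → gd m 0x149f00 = true → Φ (S (om m)) ∈ cj g Q :=
    fun m hm e => H.T1 hρ (GL_S hρ hm e)
  have mP : ∀ k ∈ gp, Φ (P (gc.dec k)) ∈ cj g Q := fun k hk => H.T1 hρ (GL_P hρ hk)
  have w1 : ∀ i, isCw (wN i) = true ∧ gd (wN i) 0x149f00 = true := by decide +kernel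
  let a : Fin 4 → G := fun i => Φ (S (om (wN i)))
  have ha : ∀ i, a i ∈ cj g Q := fun i => mS _ (w1 i).1 (w1 i).2
  have gi : ∀ j : Fin 3, gp[j] ∈ gp := fun j => List.getElem_mem _
  let p : Fin 3 → G := fun j => Φ (P (gc.dec gp[j]))
  have hp : ∀ j, p j ∈ cj g Q := fun j => mP _ (gi j)
  have ap : ∀ i j, Commute (a i) (p j) ↔ i ≠ j.succ := fun i j => by
    rw [H.cPS (gp_HO _ (gi j)) (w1 i).1]; revert i j; decide +kernel
  obtain ⟨y, hy, y0, yi⟩ : ∃ y ∈ cj g Q, ¬ Commute (a 0) y ∧ ∀ j : Fin 3, Commute (a j.succ) y := by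
    obtain ⟨y, hy, n⟩ := E.exists_anti L.zQ H.ne L.ne.symm
    obtain ⟨y1, h1, a1, b1⟩ := adj E (ha 1) (hp 0) hy (by rw [ap]; decide)
    obtain ⟨y2, h2, a2, b2⟩ := adj E (ha 2) (hp 1) h1 (by rw [ap]; decide)
    obtain ⟨y3, h3, a3, b3⟩ := adj E (ha 3) (hp 2) h2 (by rw [ap]; decide)
    refine ⟨y3, h3, ?_, fun j => ?_⟩
    · rw [b3 _ (ha 0) (by rw [ap]; decide), b2 _ (ha 0) (by rw [ap]; decide), b1 _ (ha 0) (by rw [ap]; decide)]
      exact fun e => n (H.zo ▸ e)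
    · fin_cases j
      · exact (b3 _ (ha 1) (by rw [ap]; decide)).2 ((b2 _ (ha 1) (by rw [ap]; decide)).2 a1)
      · exact (b3 _ (ha 2) (by rw [ap]; decide)).2 a2
      · exact a3
  let b : Fin 4 → G := Fin.cons y p
  have hb : ∀ i, b i ∈ cj g Q := Fin.cases hy hp
  have aa : ∀ i j, Commute (a i) (a j) := fun i j => cSS (om_mem_cw (w1 i).1) (om_mem_cw (w1 j).1)
  have ab : ∀ i j, Commute (a i) (b j) ↔ i ≠ j := fun i => Fin.cases
    (Fin.cases (iff_of_false y0 (by simp)) (fun i => iff_of_true (yi i) (Fin.succ_ne_zero i)) i) (ap i)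
  have sA : g * z * g⁻¹ ∈ AA Φ := mem_AA.2 ⟨_, G1.1, H.s2⟩
  have aA : ∀ i, a i ∈ AA Φ := fun i => mem_AA.2 ⟨_, om_mem_cw (w1 i).1, rfl⟩
  have u1 : Φ (S (om 16777215)) = 1 := by
    rw [← map_one Φ, ← S_empty, om_full, H.S_eq cw_univ cw_empty]; simp
  have Y : ∀ m, isCw m = true → gd m 0x149f00 = true → (Commute y (Φ (S (om m))) ↔ lam m) := fun m hm e => by
    obtain ⟨k, rfl⟩ := H5 hm e
    refine (sp_ind (P := fun m => Cw (om m) ∧ Φ (S (om m)) ∈ cj g Q ∧ (Commute y (Φ (S (om m))) ↔ lam m))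
      ?_ (fun u v hu hv => ?_) g6 ?_ k).2.2
    · rw [show om 0 = ∅ from gc.ofMask_zero, S_empty, map_one]
      exact ⟨cw_empty, one_mem _, iff_of_true (by simp) rfl⟩
    · rw [om_xor, ← S_mul hu.1 hv.1, map_mul, cmi E hy hu.2.1 hv.2.1, hu.2.2, hv.2.2, lam, lam, lam,
        Nat.testBit_xor, Nat.testBit_xor]
      refine ⟨cw_symmDiff hu.1 hv.1, mul_mem hu.2.1 hv.2.1, ?_⟩
      generalize u.testBit 0 = a, u.testBit 22 = b, v.testBit 0 = c, v.testBit 22 = d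
      revert a b c d; decide
    · simp only [g6, List.forall_mem_cons, List.not_mem_nil, IsEmpty.forall_iff, implies_true, and_true]
      exact ⟨⟨cw_oo, ha 0, iff_of_false (fun e => y0 e.symm) (by decide)⟩,
        ⟨om_mem_cw (w1 1).1, ha 1, iff_of_true (yi 0).symm (by decide)⟩,
        ⟨om_mem_cw (w1 2).1, ha 2, iff_of_true (yi 1).symm (by decide)⟩,
        ⟨om_mem_cw (w1 3).1, ha 3, iff_of_true (yi 2).symm (by decide)⟩,
        ⟨G1.1, H.s2 ▸ E.mem, iff_of_true (H.s2 ▸ E.cen y hy) (by decide)⟩,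
        om_mem_cw (by decide +kernel), u1 ▸ one_mem _, iff_of_true (u1 ▸ Commute.one_right y) (by decide)⟩
  have W : ∀ m, isCw m = true → ∃ e, (e = 1 ∨ e = g * z * g⁻¹) ∧
      y * Φ (S (om m)) * y⁻¹ = e * Φ (S (gc.dec sg1 • om m)) := fun m hm => by
    have c1 := om_mem_cw hm
    obtain ⟨k1, k2, k3⟩ := H6 hm
    have m0 := isCw_xor hm (isCw_img sg1_M hm)
    have q0 := mS _ m0 k1
    have uA : Φ (S (om m)) ∈ AA Φ := mem_AA.2 ⟨_, c1, rfl⟩
    have e0 : Φ (S (om (m ^^^ imgN 24 sg1 m))) * Φ (S (om m)) = Φ (S (gc.dec sg1 • om m)) := by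
      rw [← map_mul, S_mul (om_mem_cw m0) c1, om_xor, symmDiff_comm (om m), symmDiff_symmDiff_cancel_right,
        smul_om sg1_M.1]
    have e1 : ∀ j : Fin 3, Φ (S (om m)) * p j * (Φ (S (om m)))⁻¹ = Φ (S (om (m ^^^ imgN 24 gp[j] m))) * p j :=
      fun j => by
        have v := gp_HO _ (gi j)
        rw [← map_inv, S_inv c1, mul_assoc, ← map_mul, P_S v.2 c1, map_mul, ← mul_assoc, ← map_mul,
          S_mul c1 (cw_smul v.2.1 c1), smul_om v.1, om_xor]
    generalize Φ (S (om m)) = u at *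
    have uu : u⁻¹ = u := inv_eq_of_mul_eq_one_left (AA_sq uA)
    have n1 : u * y⁻¹ * u⁻¹ ∈ cj g Q := L.r.norm u (AA_comm uA sA) _ (inv_mem hy)
    have cu : ∀ r, Commute r (u * y⁻¹ * u⁻¹) ↔ Commute (u * r * u⁻¹) y := fun r => by
      rw [← Commute.conj_iff u, uu, show u * (u * y⁻¹ * u) * u = (u * u) * y⁻¹ * (u * u) by group, AA_sq uA,
        one_mul, mul_one, Commute.inv_right_iff]
    have x1 : ∀ i, Commute (y * (u * y⁻¹ * u⁻¹)) (a i) := fun i => ((cmi E (ha i) hy n1).2 (by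
      rw [cu, conj_eq_of_comm (AA_comm uA (aA i))])).symm
    have xQ := mul_mem hy n1
    have xA := es4 E hc ha hb aa ab sA aA xQ x1
    have x2 : Commute y (y * (u * y⁻¹ * u⁻¹)) := by
      refine (Commute.refl y).mul_right (by_contra fun n => E.ne ?_)
      have a1 := AA_sq xA
      have a2 : u * (y * y) * u⁻¹ = y * y := by
        rcases E.sq_mem y hy with e | e <;> rw [e]
        · simp
        · exact conj_eq_of_comm (AA_comm uA sA)
      have a3 := E.anti n1 hy fun e => n e.symm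
      generalize hv : u * y⁻¹ * u⁻¹ = v at *
      have a4 : y * y * (v * v) = 1 := by rw [← a2, ← hv]; group
      have a5 := E.cen v n1
      generalize g * z * g⁻¹ = s at *
      calc s = y * y * (v * v) * s := by rw [a4, one_mul]
        _ = y * (y * v * s * v) := by rw [mul_assoc (y * v), ← a5]; group
        _ = 1 := by rw [← a3, ← a1]; group
    refine ⟨_, es8 E hc ha hb aa ab (mul_mem xQ (inv_mem q0)) (fun i => (x1 i).mul_left
      (cSS (om_mem_cw m0) (om_mem_cw (w1 i).1)).inv_left) (Fin.cases ?_ fun j => ?_), by rw [← e0]; group⟩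
    · exact (x2.mul_right ((Y _ m0 k1).2 k2).inv_right).symm
    · have m1 := isCw_xor hm (isCw_img ((gp_HO _ (gi j)).mono inf_le_left) hm)
      refine ((cmi E (hp j) xQ (inv_mem q0)).2 ?_).symm
      rw [cmi E (hp j) hy n1, cu, e1, Commute.inv_right_iff, Commute.symm_iff (b := y), Commute.symm_iff (b := y),
        cmi E hy (mS _ m1 (k3 _ (gi j)).1) (hp j), Y _ m1 (k3 _ (gi j)).1, (k3 _ (gi j)).2,
        Commute.symm_iff (a := p j), H.cPS (gp_HO _ (gi j)) m0]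
      tauto
  have T : ∀ c, Cw c → y * Φ (S (gc.dec tau • c)) * y⁻¹ =
      Φ (P (gc.dec tau)) * (y * Φ (S c) * y⁻¹) * (Φ (P (gc.dec tau)))⁻¹ := fun c c1 => by
    have tc : ∀ c, Cw c → Φ (P (gc.dec tau)) * Φ (S c) * (Φ (P (gc.dec tau)))⁻¹ = Φ (S (gc.dec tau • c)) :=
      fun c hc => by rw [← map_inv, ← map_mul, ← map_mul, P_conj tau_H.2 hc]
    have ts : Φ (P (gc.dec tau)) * (g * z * g⁻¹) * (Φ (P (gc.dec tau)))⁻¹ = g * z * g⁻¹ := by
      rw [← H.s2, tc _ G1.1, smul_om tau_H.1]; rfl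
    have w2 : ∀ i, gd (imgN 24 tau (wN i)) 0x149f00 = true ∧ (lam (imgN 24 tau (wN i)) ↔ lam (wN i)) := by
      decide +kernel
    have ta : ∀ i, Commute y (Φ (P (gc.dec tau)) * a i * (Φ (P (gc.dec tau)))⁻¹) ↔ Commute y (a i) := fun i => by
      rw [tc _ (om_mem_cw (w1 i).1), smul_om tau_H.1, Y _ (w1 i).1 (w1 i).2, ← (w2 i).2]
      exact Y _ (isCw_img (tau_H.mono inf_le_left) (w1 i).1) (w2 i).1
    rw [← tc c c1]
    generalize Φ (P (gc.dec tau)) = t at *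
    have n1 : t⁻¹ * y * t⁻¹⁻¹ ∈ cj g Q := L.r.norm _ (Commute.inv_left (comm_of_conj_eq ts)) y hy
    have dA := es4 E hc ha hb aa ab sA aA (mul_mem n1 (inv_mem hy)) fun i =>
      ((cmi E (ha i) n1 (inv_mem hy)).2 (by
        rw [Commute.inv_right_iff, ← Commute.conj_iff t, show t * (t⁻¹ * y * t⁻¹⁻¹) * t⁻¹ = y by group,
          Commute.symm_iff, ta, Commute.symm_iff])).symm
    obtain ⟨m, hm, rfl⟩ := exists_isCw c1
    obtain ⟨e, e1, e2⟩ := W m hm
    have : y * Φ (S (om m)) * y⁻¹ ∈ AA Φ := e2 ▸ mul_mem (e1.elim (· ▸ one_mem _) (· ▸ sA))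
      (mem_AA.2 ⟨_, cw_smul sg1_M.2 c1, rfl⟩)
    rw [← conj_eq_of_comm (AA_comm dA this).eq]; group
  have X : ∀ c d, Cw c ∧ y * Φ (S c) * y⁻¹ = Φ (S (gc.dec sg1 • c)) → Cw d ∧ y * Φ (S d) * y⁻¹ =
      Φ (S (gc.dec sg1 • d)) → Cw (c ∆ d) ∧ y * Φ (S (c ∆ d)) * y⁻¹ = Φ (S (gc.dec sg1 • (c ∆ d))) :=
    fun c d hc hd => ⟨cw_symmDiff hc.1 hd.1, by
      rw [smul_symmDiff, ← S_mul hc.1 hd.1, ← S_mul (cw_smul sg1_M.2 hc.1) (cw_smul sg1_M.2 hd.1), map_mul,
        map_mul, ← hc.2, ← hd.2, conj_mul]⟩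
  have T2 : ∀ m, isCw m = true → y * Φ (S (om (m ^^^ imgN 24 tau m))) * y⁻¹ =
      Φ (S (gc.dec sg1 • om (m ^^^ imgN 24 tau m))) := fun m hm => by
    have c1 := om_mem_cw hm
    have c2 := cw_smul sg1_M.2 c1
    obtain ⟨e, e1, e2⟩ := W m hm
    have te : Φ (P (gc.dec tau)) * e * (Φ (P (gc.dec tau)))⁻¹ = e := by
      rcases e1 with rfl | rfl
      · simp
      · rw [← H.s2, ← map_inv, ← map_mul, ← map_mul, P_conj tau_H.2 G1.1, smul_om tau_H.1]; rfl
    have eA : e ∈ AA Φ := e1.elim (· ▸ one_mem _) (· ▸ sA)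
    rw [om_xor, ← smul_om tau_H.1,
      smul_symmDiff, ← S_mul c1 (cw_smul tau_H.2.1 c1), map_mul, ← conj_mul, T _ c1, e2, ← conj_mul, te,
      ← map_inv, ← map_mul, ← map_mul, P_conj tau_H.2 c2, ← mul_assoc, mul_assoc e,
      ← (AA_comm eA (mem_AA.2 ⟨_, c2, rfl⟩)).eq, ← mul_assoc, AA_sq eA, one_mul, ← map_mul,
      S_mul c2 (cw_smul tau_H.2.1 c2), ← mul_smul, ← mul_smul, ← tau_H.1.dec_mul sg1_M.1,
      ← sg1_M.1.dec_mul tau_H.1]
    rfl
  have Z : ∀ m, isCw m = true → gd m 0x149f00 = true → lam m → imgN 24 sg1 m = m →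
      Cw (om m) ∧ y * Φ (S (om m)) * y⁻¹ = Φ (S (gc.dec sg1 • om m)) := fun m hm e l i =>
    ⟨om_mem_cw hm, by rw [conj_eq_of_comm ((Y m hm e).2 l), smul_om sg1_M.1]; exact congrArg _ (congrArg _
      (congrArg om i.symm))⟩
  refine ⟨y, fun c hc => ?_⟩
  obtain ⟨m, hm, rfl⟩ := exists_isCw hc
  have z0 := Z 0 (by decide +kernel) (by decide +kernel) (by decide) (by decide +kernel)
  have X' := fun u v => (om_xor u v).symm ▸ X (om u) (om v)
  refine (isCw_induction (P := fun m => Cw (om m) ∧ y * Φ (S (om m)) * y⁻¹ = Φ (S (gc.dec sg1 • om m))) z0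
    (Z _ (by decide +kernel) (by decide +kernel) (by decide) (by decide +kernel)) (fun t ht => ?_) X' hm).2
  let L6 := [0x149f, 0x293e, 0x46e3, 0x8dc6, 0x20ab9, 0x401ed]
  have : ∀ t < 11, qrM t = sp (g6 ++ L6.map fun m => m ^^^ imgN 24 tau m)
    ([247, 3833, 100, 2289, 2021, 1032, 524, 3882, 877, 2430, 1401].getD t 0) := by decide +kernel
  rw [this t ht]
  refine sp_ind (P := fun m => Cw (om m) ∧ y * Φ (S (om m)) * y⁻¹ = Φ (S (gc.dec sg1 • om m))) z0 X' _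
    (fun k hk => ?_) _
  rcases List.mem_append.1 hk with hk | hk
  · rcases List.mem_cons.1 hk with rfl | hk
    · refine ⟨cw_oo, ?_⟩
      refine (E.conj_anti hy (ha 0) fun e => y0 e.symm).trans ?_
      show Φ (S oo) * _ = _
      rw [← H.s2, ← map_mul, S_mul cw_oo G1.1, smul_om sg1_M.1,
        ← om_xor, H.S_eq (om_mem_cw (by decide +kernel)) (om_mem_cw (by decide +kernel)), ← om_compl]
      exact .inr rfl
    · have : isCw k = true ∧ gd k 0x149f00 = true ∧ lam k ∧ imgN 24 sg1 k = k := by revert k; decide +kernel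
      exact Z k this.1 this.2.1 this.2.2.1 this.2.2.2
  · obtain ⟨k, hk, rfl⟩ := List.mem_map.1 hk
    have : isCw k = true := by revert k; decide +kernel
    exact ⟨om_mem_cw (isCw_xor this (isCw_img (tau_H.mono inf_le_left) this)), T2 k this⟩

end Cfsg.Lib.Small.CoT
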