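import Cfsg.Agent.Lib.Small.CoU0
import Cfsg.Agent.S5397

/-! The amalgam of the involution centraliser and the monomial group in a group of Conway type. -/

set_option autoImplicit false

namespace Cfsg.Lib.Small.CoU

open Cfsg.Lib.Leech Cfsg.Lib.Golay Cfsg.Spor Cfsg.Lib.Forms Subgroup Cfsg.Lib.Small.Co1Z Cfsg.Lib.Known2
  Cfsg.Lib.Core Cfsg.Agent.S5388 Function Cfsg.Lib.Small.CoT Cfsg.Agent.S5397
open scoped Pointwise symmDiff

variable {G : Type*} [Group G] {Q : Subgroup G} {z g : G} {ρ : LL →* D8.isom} {Φ : LL →* G} {κ : M24 →* G}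

def T (Φ : LL →* G) (κ : M24 →* G) (k c : ℕ) : Prop :=
  isCw c = true ∧ ∃ h : gc.InH HO k, Φ (P (gc.dec k)) = Φ (S (om c)) * κ ⟨_, h.2.1⟩

noncomputable def ns (k m n : ℕ) : ℕ := Nat.rec 0 (fun _ r => forceN r fun r => Nat.xor m (imgN 24 k r)) n
noncomputable def cz (k m n : ℕ) : ℕ := Nat.rec 0 (fun i r => Nat.xor r (ns k m i)) n
noncomputable def tv (m : ℕ) : Bool := bor (Nat.beq m 0) (Nat.beq m 16777215)

theorem T.mul (hκ : ∀ σ, (κ σ, σ) ∈ Ac Φ) {k c k' c' : ℕ} (a : T Φ κ k c) (b : T Φ κ k' c') :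
    T Φ κ (mulN 24 k k') (c ^^^ imgN 24 k c') := by
  obtain ⟨c1, h1, e1⟩ := a
  obtain ⟨c2, h2, e2⟩ := b
  refine ⟨isCw_xor c1 (isCw_img (h1.mono inf_le_left) c2), h1.mul h2, ?_⟩
  have e : (⟨gc.dec (mulN 24 k k'), (h1.mul h2).2.1⟩ : M24) = ⟨_, h1.2.1⟩ * ⟨_, h2.2.1⟩ :=
    Subtype.ext (h1.1.dec_mul h2.1)
  rw [e, show gc.dec (mulN 24 k k') = _ from h1.1.dec_mul h2.1, P_mul h1.2 h2.2, map_mul, map_mul, e1, e2, om_xor,
    ← smul_om h1.1, ← S_mul (om_mem_cw c1) (cw_smul h1.2.1 (om_mem_cw c2)), map_mul,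
    ← hκ ⟨_, h1.2.1⟩ _ (om_mem_cw c2)]
  group

theorem T.pow (hκ : ∀ σ, (κ σ, σ) ∈ Ac Φ) {k c : ℕ} (a : T Φ κ k c) (n : ℕ) : T Φ κ (powN 24 k n) (ns k c n) := by
  induction n with
  | zero =>
    refine ⟨(by decide +kernel : isCw 0 = true), gc.inH_one HO, ?_⟩
    have e : (⟨gc.dec (powN 24 k 0), (gc.inH_one HO).2.1⟩ : M24) = 1 := Subtype.ext Coding.dec_one
    rw [e, show gc.dec (powN 24 k 0) = 1 from Coding.dec_one, P_one, show om (ns k c 0) = ∅ from gc.ofMask_zero,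
      S_empty, map_one κ, mul_one]
  | succ n ih => exact a.mul hκ ih

variable (H : PH ρ Φ Q z g)
include H

theorem tv_iff {c : ℕ} (hc : isCw c = true) : Φ (S (om c)) = 1 ↔ tv c = true := by
  rw [← map_one Φ, ← S_empty, H.S_eq (om_mem_cw hc) cw_empty, tv, bor_iff, beq_iff, beq_iff, ← gc.ofMask_zero,
    ← om_compl, om_inj (isCw_lt hc) (by norm_num), om_inj (isCw_lt hc) (by decide +kernel)]
  rfl

theorem T.fin (hκ : ∀ σ, (κ σ, σ) ∈ Ac Φ) {k c : ℕ} (a : T Φ κ k c) (n : ℕ) (e : powN 24 k n = idN 24) :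
    tv (ns k c n) = true := by
  obtain ⟨c1, h1, e1⟩ := a.pow hκ n
  have e2 : gc.dec (powN 24 k n) = 1 := by rw [e]; exact Coding.dec_one
  rw [show (⟨_, h1.2.1⟩ : M24) = 1 from Subtype.ext e2, e2, P_one, map_one, map_one, mul_one] at e1
  exact (tv_iff H c1).1 e1.symm

theorem T.ex (hκ : ∀ σ, (κ σ, σ) ∈ Ac Φ) {k : ℕ} (h : gc.InH HO k) : ∃ c, T Φ κ k c := by
  obtain ⟨c, hc, e⟩ := mem_AA.1 ((Ac_one H (n := _ * _⁻¹) (σ := _ * _⁻¹)
    (mul_mem (Ac_P (Φ := Φ) h.2) (inv_mem (hκ ⟨_, h.2.1⟩)))).1 (by simp))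
  obtain ⟨m, hm, rfl⟩ := exists_isCw hc
  exact ⟨m, hm, h, by rw [e]; simp⟩

def gg : ℕ := 0x5040908100a17070611120c150f160d0b1300140201030e
def hh : ℕ := 0x315130f0c06050d0417091614080712100a000b01110e02

omit H in
theorem gh_H : ∀ k ∈ [gg, hh], gc.InH HO k := inH_inf_om (inH_of_allL (by decide +kernel)) _ (by decide +kernel)

omit H in
set_option maxRecDepth 100000 in
theorem K1 {m : ℕ} (hm : isCw m = true) (h : tv (ns gg m 15) = true) : isCw (cz gg m 15) = true ∧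
    tv (Nat.xor m (Nat.xor (cz gg m 15) (imgN 24 gg (cz gg m 15)))) = true := by
  have := allCw (q := fun m => bif' (tv (ns gg m 15)) (forceN (cz gg m 15) fun c => band (isCw c)
    (tv (Nat.xor m (Nat.xor c (imgN 24 gg c))))) true) (by decide +kernel) hm
  rwa [bif'_pos h, forceN_eq, band_iff] at this

omit H in
set_option maxRecDepth 100000 in
theorem K2 {m : ℕ} (hm : isCw m = true)
    (h1 : tv (ns 0x1713150b040905070f010d140c120a0806100016030e0211 (Nat.xor (imgN 24 gg m)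
      (imgN 24 0x114130c15080e060b02070416100d120a09050f17110300 m)) 3) = true)
    (h2 : tv (ns 0xe0d1014130b1704121107080f0a0c091606031501020500 (Nat.xor
      (imgN 24 0x11130f0708090e0d0400150c0a16060b1214171003020105 m)
      (imgN 24 0x11080d0f10090216140504131506070a0c0b17120e000103 m)) 3) = true)
    (h3 : tv (ns 0x2070f120c0a1114090e0b1516041308060d171003000501
      (imgN 24 0xe1507160f0800061205140c100d0b04130a110902010317 m) 5) = true) : tv m = true := by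
  have := allCw (q := fun m => bif' (tv (ns 0x1713150b040905070f010d140c120a0806100016030e0211 (Nat.xor (imgN 24 gg m)
      (imgN 24 0x114130c15080e060b02070416100d120a09050f17110300 m)) 3))
    (bif' (tv (ns 0xe0d1014130b1704121107080f0a0c091606031501020500 (Nat.xor
      (imgN 24 0x11130f0708090e0d0400150c0a16060b1214171003020105 m)
      (imgN 24 0x11080d0f10090216140504131506070a0c0b17120e000103 m)) 3))
    (bif' (tv (ns 0x2070f120c0a1114090e0b1516041308060d171003000501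
      (imgN 24 0xe1507160f0800061205140c100d0b04130a110902010317 m) 5)) (tv m) true) true) true)
    (by decide +kernel) hm
  rwa [bif'_pos h1, bif'_pos h2, bif'_pos h3] at this

variable [Finite G] (hρ : ∀ (g : LL) v, Lm v → (ρ g).1 (cl v) = cl ((g : Co0) • v))
include hρ

theorem kappa0 : ∃ κ : M24 →* G, ∀ σ, (κ σ, σ) ∈ Ac Φ := by
  choose f hf using fun n : normalizer (AA Φ : Set G) => Ac_tot H hρ n.2
  have un : ∀ (n : normalizer (AA Φ : Set G)) σ, (n.1, σ) ∈ Ac Φ → f n = σ := fun n σ a => by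
    have := mul_mem (inv_mem (hf n)) a
    exact inv_mul_eq_one.1 ((Ac_one H this).2 (by simp))
  let ϑ : normalizer (AA Φ : Set G) →* M24 := MonoidHom.mk' f fun a b => un _ _ (mul_mem (hf a) (hf b))
  have hs : Surjective ϑ := fun σ => let ⟨n, hn⟩ := Ac_sur H hρ σ; ⟨⟨n, Ac_norm hn⟩, un _ _ hn⟩
  have hk : (AA Φ).subgroupOf (normalizer (AA Φ : Set G)) = ϑ.ker := Subgroup.ext fun n => (Ac_one H (hf n)).symm
  have hc : IsMulCommutative (AA Φ) := ⟨⟨fun a b => Subtype.ext (AA_comm a.2 b.2)⟩⟩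
  obtain ⟨K, hK⟩ : ∃ K, ((AA Φ).subgroupOf (normalizer (AA Φ : Set G))).IsComplement' K := by
    let j : HO →* normalizer (AA Φ : Set G) := MonoidHom.mk' (fun σ => ⟨Φ (P σ), Ac_norm (Ac_P σ.2)⟩)
      fun a b => Subtype.ext (by simp [P_mul a.2 b.2])
    have hj : ∀ σ : HO, ϑ (j σ) = ⟨σ, σ.2.1⟩ := fun σ => un _ _ (Ac_P σ.2)
    refine Lib.Hall.gaschutz_exists _ ((HO.subgroupOf M24).comap ϑ) (hk ▸ ker_le_comap _ _) ?_ j.range ?_ ?_
    · have h1 := (HO.subgroupOf M24).card_mul_index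
      rw [Nat.card_congr (subgroupOfEquivOfLe inf_le_left).toEquiv, card_HO, card_M24] at h1
      rw [index_comap_of_surjective _ hs, Nat.card_congr (subgroupOfEquivOfLe le_normalizer).toEquiv, card_AA H,
        show (HO.subgroupOf M24).index = 759 by omega]
      norm_num
    · rw [hk, eq_bot_iff]
      rintro _ ⟨⟨σ, rfl⟩, e⟩
      rw [show σ = 1 from Subtype.ext (congrArg (fun x : M24 => x.1) ((hj σ).symm.trans e)), map_one]
      exact one_mem _
    · rw [hk]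
      refine le_antisymm (sup_le (ker_le_comap _ _) ?_) fun u hu => ?_
      · rintro _ ⟨σ, rfl⟩
        rw [mem_comap, hj]; exact σ.2
      · rw [← inv_mul_cancel_right u (j ⟨_, hu⟩)]
        refine mul_mem (mem_sup_left ?_) (mem_sup_right ⟨_, rfl⟩)
        rw [MonoidHom.mem_ker, map_mul, map_inv, hj, mul_inv_eq_one]; rfl
  rw [hk] at hK
  have hb : Bijective (ϑ.comp K.subtype) := ⟨(injective_iff_map_eq_one _).2 fun k e =>
    Subtype.ext (disjoint_def.1 hK.disjoint e k.2), fun σ => by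
      obtain ⟨n, rfl⟩ := hs σ
      obtain ⟨⟨a, k⟩, rfl⟩ := hK.2 n
      exact ⟨k, by simp [show ϑ a = 1 from a.2]⟩⟩
  let e := MulEquiv.ofBijective _ hb
  refine ⟨(Subgroup.subtype _).comp (K.subtype.comp e.symm.toMonoidHom), fun σ => ?_⟩
  have := hf (e.symm σ)
  rwa [show f (e.symm σ) = σ from e.apply_symm_apply σ] at this

theorem kappa : ∃ κ : M24 →* G, (∀ σ, (κ σ, σ) ∈ Ac Φ) ∧ ∀ σ (h : σ ∈ HO), κ ⟨σ, h.1⟩ = Φ (P σ) := by
  obtain ⟨κ0, h0⟩ := kappa0 H hρ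
  have vg := gh_H gg (by simp)
  have vh := gh_H hh (by simp)
  obtain ⟨c, t0⟩ := T.ex H h0 vg
  obtain ⟨a1, a2⟩ := K1 t0.1 (t0.fin H h0 15 (by decide +kernel))
  generalize cz gg c 15 = a at a1 a2
  have ca := om_mem_cw a1
  let κ : M24 →* G := (MulAut.conj (Φ (S (om a)))).toMonoidHom.comp κ0
  have hκ : ∀ σ, (κ σ, σ) ∈ Ac Φ := fun σ => by
    have s := Ac_SP (Φ := Φ) ca (one_mem HO)
    rw [P_one, mul_one] at s
    have := mul_mem (mul_mem s (h0 σ)) (inv_mem s)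
    rwa [show ((⟨1, (one_mem HO).1⟩ : M24)) = 1 from rfl, Prod.inv_mk, Prod.mk_mul_mk, Prod.mk_mul_mk, one_mul,
      inv_one, mul_one] at this
  have tg : T Φ κ gg 0 := by
    refine ⟨by decide +kernel, vg, ?_⟩
    obtain ⟨c1, _, e1⟩ := t0
    have i1 := isCw_img (vg.mono inf_le_left) a1
    have := (tv_iff H (isCw_xor c1 (isCw_xor a1 i1))).2 a2
    rw [om_xor, om_xor, ← S_mul (om_mem_cw c1) (cw_symmDiff ca (om_mem_cw i1)), ← S_mul ca (om_mem_cw i1), map_mul,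
      map_mul, ← smul_om vg.1, ← h0 ⟨_, vg.2.1⟩ _ ca, mul_eq_one_iff_inv_eq, ← map_inv, S_inv (om_mem_cw c1)] at this
    rw [e1, this, show om 0 = ∅ from gc.ofMask_zero, S_empty, map_one, one_mul, mul_assoc,
      inv_mul_cancel_right]
    show _ = Φ _ * κ0 _ * (Φ _)⁻¹
    rw [← map_inv, S_inv ca, mul_assoc]
  obtain ⟨m, th⟩ := T.ex H hκ vh
  have tp : ∀ n, T Φ κ (powN 24 gg n) 0 := fun n => by
    have := tg.pow hκ n
    rwa [show ns gg 0 n = 0 by
      induction n with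
      | zero => rfl
      | succ n ih => rw [show ns gg 0 (n + 1) = Nat.xor 0 (imgN 24 gg (ns gg 0 n)) from rfl, ih (tg.pow hκ n)]
                     decide +kernel] at this
  have u : ∀ {i k u}, powN 24 gg i = k → mulN 24 k hh = u → T Φ κ u (imgN 24 k m) := fun {i k u} e e' => by
    have := (tp i).mul hκ th
    rwa [e, e', Nat.zero_xor] at this
  have u2 : ∀ {i j k k' u}, powN 24 gg i = k → mulN 24 (mulN 24 k hh) (powN 24 gg j) = k' → mulN 24 k' hh = u →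
      T Φ κ u (Nat.xor (imgN 24 k m) (imgN 24 k' m)) := fun {i j k k' v} e e' e'' => by
    have := ((u e rfl).mul hκ (tp j)).mul hκ th
    rwa [e', e'', show imgN 24 (mulN 24 k hh) 0 = 0 from Nat.eq_of_testBit_eq fun j => by
      rw [Bool.eq_iff_iff, testBit_imgN]; simp, Nat.xor_zero] at this
  have := K2 th.1 ((u2 (i := 1) (j := 7) (by decide +kernel) (by decide +kernel) (by decide +kernel)).fin H hκ 3
    (by decide +kernel)) ((u2 (i := 9) (j := 13) (by decide +kernel) (by decide +kernel) (by decide +kernel)).fin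
    H hκ 3 (by decide +kernel)) ((u (i := 13) (by decide +kernel) (by decide +kernel)).fin H hκ 5 (by decide +kernel))
  let j : HO →* G := MonoidHom.mk' (fun σ => Φ (P σ)) fun a b => by simp [P_mul a.2 b.2]
  let R := ((κ.comp (inclusion inf_le_left)).eqLocus j).map HO.subtype
  have r : ∀ k c, T Φ κ k c → tv c = true → gc.InH R k := fun k c ⟨c1, h1, e⟩ hc => by
    rw [(tv_iff H c1).2 hc, one_mul] at e
    exact ⟨h1.1, ⟨_, h1.2⟩, e.symm, rfl⟩
  have rh := r _ _ th this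
  have : HO ≤ R := gen_gHO ▸ Coding.gen_le fun k hk => by
    simp only [gHO, List.mem_cons, List.not_mem_nil, or_false] at hk
    rcases hk with rfl | rfl
    · convert (r _ _ tg (by decide +kernel)).mul rh using 1; decide +kernel
    · exact rh
  refine ⟨κ, hκ, fun σ h => ?_⟩
  obtain ⟨τ, e, rfl⟩ := this h
  exact e

theorem exists_psi : ∃ Ψ : Mono →* G, ∀ x (a : x ∈ LL) (b : x ∈ Mono), Φ ⟨x, a⟩ = Ψ ⟨x, b⟩ := by
  obtain ⟨κ, hκ, h1⟩ := kappa H hρ
  choose c hc e using exists_sgn_monoPerm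
  obtain ⟨Ψ, hΨ⟩ : ∃ Ψ : Mono →* G, ∀ x, Ψ x = Φ (S (c x)) * κ (monoPerm x) := by
    refine ⟨MonoidHom.mk' (fun x => Φ (S (c x)) * κ (monoPerm x)) fun x y => ?_, fun _ => rfl⟩
    have := e (x * y)
    have e2 : ((x * y : Mono) : Co0) = sgn _ (cw_symmDiff (hc x) (cw_smul (monoPerm x).2 (hc y))) *
        prm (monoPerm x * monoPerm y) := by
      rw [← sgn_mul_sgn (hc x) (cw_smul (monoPerm x).2 (hc y)), prm_mul, mul_assoc, ← mul_assoc (sgn _ _) (prm _),
        ← prm_mul_sgn _ (hc y), mul_assoc, ← e y, ← mul_assoc, ← e x]; rfl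
    rw [(sgn_prm_inj (this.symm.trans e2)).1, map_mul, map_mul, ← S_mul (hc x) (cw_smul (monoPerm x).2 (hc y)), map_mul,
      ← hκ _ _ (hc y)]
    group
  refine ⟨Ψ, fun x a b => ?_⟩
  · obtain ⟨d, σ, hd, hσ, e1⟩ := SP (l := ⟨x, a⟩) b
    have e2 := e ⟨x, b⟩
    have e3 : x = sgn d hd * prm ⟨σ, hσ.1⟩ := (congrArg Subtype.val e1).trans (by rw [S_eq hd, P_eq hσ]; rfl)
    have := sgn_prm_inj (e2.symm.trans e3)
    refine ((congrArg Φ e1).trans (map_mul _ _ _)).trans ?_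
    rw [hΨ, this.1, this.2, h1 σ hσ]

def gq : List (ℕ × ℕ) := [
  (0x1704130f1508110d140e100b0c090a120607051603020100, 0x16150f1308051014030d0b0c090a12070611040e010217),
  (0x17060d1210141113080e150a090c0b0f0416050703020100, 0x31615121314011008000d0a090c0b0f070602041705110e),
  (0x170d0609070b11040a0e1608120f140c1315051003020100, 0x2161509130b0e100a110d08120f140c0706030405170001)]

omit H hρ in
theorem gq_ok : ∀ q ∈ gq, gc.InH E16 q.1 ∧ gc.InH HO q.2 ∧ mulN 24 sg1 q.1 = mulN 24 q.2 sg1 ∧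
    mulN 24 sg1 q.2 = mulN 24 q.1 sg1 := fun q hq =>
  ⟨inH_inf_fixing (gs := gq.map Prod.fst) (inH_of_allL (by decide +kernel)) _ (by decide +kernel) _
    (List.mem_map_of_mem hq), inH_inf_om (gs := gq.map Prod.snd) (inH_of_allL (by decide +kernel)) _
    (by decide +kernel) _ (List.mem_map_of_mem hq), by revert q; decide +kernel⟩

omit H hρ in
set_option maxRecDepth 100000 in
theorem K3 {m : ℕ} (hm : isCw m = true) (h : ∀ q ∈ gq, fm q.1 m = true ∧ fm q.2 m = true) :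
    ∃ b, sp [16777215, 0x82402f, 0x6920d0] b = m := by
  have := allCw (q := fun m => bif' (allL gq fun q => band (fm q.1 m) (fm q.2 m))
    (bnot (allN 8 fun b => bnot (Nat.beq (sp [16777215, 0x82402f, 0x6920d0] b) m))) true) (by decide +kernel) hm
  rw [bif'_pos (allL_iff.2 fun q hq => band_iff.2 (h q hq)), bnot_iff, allN_iff] at this
  push Not at this
  obtain ⟨b, -, e⟩ := this
  exact ⟨b, by simpa [bnot_iff, beq_iff] using e⟩

omit [Finite G] in
theorem R2 {Ψ : Mono →* G} (h1 : ∀ x (a : x ∈ LL) (b : x ∈ Mono), Φ ⟨x, a⟩ = Ψ ⟨x, b⟩) (b : sg ∈ Mono) (l m : LL)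
    (ho : Odd (orderOf l)) (e : sg * l = m * sg) : Ψ ⟨sg, b⟩ * Φ l = Φ m * Ψ ⟨sg, b⟩ := by
  have km : ∀ r : LL, r ∈ ρ.ker → (r : Co0) ∈ Mono := fun r hr => by
    obtain ⟨c, hc, σ, h, rfl⟩ := (main hρ).2.2 r hr
    exact mul_mem (sgn_mem_Mono _ hc.1) (prm_mem_Mono ⟨σ, h.1⟩)
  have mm : ∀ r r' : LL, sg * r' = r * sg → ((r : Co0) ∈ Mono ↔ (r' : Co0) ∈ Mono) := fun r r' e => by
    rw [← mul_mem_cancel_right b, ← e, mul_mem_cancel_left b]
  have cj : ∀ r r' : LL, sg * r' = r * sg → r ∈ ρ.ker ∨ r' ∈ ρ.ker → Φ r = Ψ ⟨sg, b⟩ * Φ r' * (Ψ ⟨sg, b⟩)⁻¹ :=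
    fun r r' e h => by
      have a : (r : Co0) ∈ Mono := h.elim (km r) fun h => (mm r r' e).2 (km r' h)
      rw [h1 _ r.2 a, h1 _ r'.2 ((mm r r' e).1 a), eq_mul_inv_iff_mul_eq, ← map_mul, ← map_mul]
      exact congrArg Ψ (Subtype.ext e.symm)
  generalize Ψ ⟨sg, b⟩ = y at *
  have key : ∀ r r' : LL, sg * r' = r * sg → r ∈ ρ.ker ∨ r' ∈ ρ.ker →
      Commute ((y * Φ l * y⁻¹)⁻¹ * Φ m) (Φ r) := fun r r' e1 h => by
    have := cj (m * r * m⁻¹) (l * r' * l⁻¹) (by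
      rw [coe_mul, coe_mul, coe_mul, coe_mul, coe_inv, coe_inv, ← mul_assoc, ← mul_assoc, e, mul_assoc _ sg, e1,
        mul_inv_eq_iff_eq_mul, mul_assoc _ sg, e]; group)
      (h.imp (fun h => ρ.normal_ker.conj_mem _ h _) fun h => ρ.normal_ker.conj_mem _ h _)
    rw [map_mul, map_mul, map_mul, map_mul, map_inv, map_inv] at this
    refine comm_of_conj_eq ?_
    calc _ = (y * Φ l * y⁻¹)⁻¹ * (Φ m * Φ r * (Φ m)⁻¹) * (y * Φ l * y⁻¹) := by group
      _ = _ := by rw [this, cj r r' e1 h]; group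
  have sc : ∀ c, Cw c → sg * S ((gc.dec sg1)⁻¹ • c) = S c * sg := fun c hc => by
    rw [S_eq hc, S_eq (cw_smul (inv_mem sg1_M.2) hc)]
    exact (prm_mul_sgn ⟨_, sg1_M.2⟩ (cw_smul (inv_mem sg1_M.2) hc)).trans (by simp only [smul_inv_smul]; rfl)
  have ks := fun c (hc : Gd c) => key _ _ (sc c hc.1) (.inl (S_ker hρ hc))
  obtain ⟨k, hk⟩ := (H.rng _).1 (H.zo ▸ (ks oo ⟨cw_oo, .inr (by simp)⟩).eq)
  rw [← hk] at ks key
  obtain ⟨c, hc, rfl⟩ := SG (l := k) fun c hc => by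
    have := (ks c hc).eq
    rwa [← map_mul, ← map_mul, H.inj, map_mul, map_mul] at this
  obtain ⟨n, hn, rfl⟩ := exists_isCw hc
  have pp : ∀ {a b}, gc.InH HO a → gc.InH HO b → mulN 24 sg1 a = mulN 24 b sg1 →
      sg * P (gc.dec a) = P (gc.dec b) * sg := fun ha hb e => by
    rw [P_eq ha.2, P_eq hb.2, sg, ← prm_mul, ← prm_mul]
    exact congrArg prm (Subtype.ext (((sg1_M.1.dec_mul ha.1).symm.trans (congrArg gc.dec e)).trans
      (hb.1.dec_mul sg1_M.1)))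
  obtain ⟨j, rfl⟩ := K3 hn fun q hq => by
    obtain ⟨a1, a2, a3, a4⟩ := gq_ok q hq
    have a0 : gc.InH HO q.1 := ⟨a1.1, E16_le a1.2⟩
    have k0 : P (gc.dec q.1) ∈ ρ.ker := pL_eq a1.2 ▸ pL_ker hρ a1.2
    exact ⟨(H.cPS a0 hn).1 (key _ _ (pp a2 a0 a4) (.inl k0)), (H.cPS a2 hn).1 (key _ _ (pp a0 a2 a3) (.inr k0))⟩
  have cm : Commute (S (om (sp [16777215, 0x82402f, 0x6920d0] j))) m := by
    refine (sp_ind (P := fun n => Cw (om n) ∧ Commute (S (om n)) m) ?_ (fun u v hu hv => ?_) _ ?_ j).2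
    · rw [show om 0 = ∅ from gc.ofMask_zero, S_empty]; exact ⟨cw_empty, Commute.one_left m⟩
    · rw [om_xor, ← S_mul hu.1 hv.1]; exact ⟨cw_symmDiff hu.1 hv.1, hu.2.mul_left hv.2⟩
    · simp only [List.forall_mem_cons, List.not_mem_nil, IsEmpty.forall_iff, implies_true, and_true]
      have so : ∀ l : LL, (S oo : Co0) * l = l * S oo := fun l => by
        rw [S_eq cw_oo]; exact mem_centralizer_iff.1 l.2 _ rfl
      refine ⟨⟨om_full ▸ cw_univ, Subtype.ext ?_⟩, ⟨cw_oo, Subtype.ext (so m)⟩, cw3, Subtype.ext ?_⟩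
      · rw [om_full, coe_mul, coe_mul, S_univ, negOne_comm]
      · have := sc _ cw3
        rw [show (gc.dec sg1)⁻¹ • o3 = oo by rw [inv_smul_eq_iff, smul_om sg1_M.1]; rfl] at this
        rw [coe_mul, coe_mul, ← mul_left_inj sg, mul_assoc, ← e, ← mul_assoc, ← this, mul_assoc, so, ← mul_assoc, e,
          mul_assoc, this, mul_assoc]
  have sq := S_sq hc
  generalize S (om (sp [16777215, 0x82402f, 0x6920d0] j)) = x at *
  have e1 : y * Φ l * y⁻¹ = Φ (m * x) := by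
    rw [map_mul, ← inv_eq_of_mul_eq_one_left (a := Φ x) (by rw [← map_mul, sq, map_one]), hk]; group
  have e2 : m ^ orderOf l = 1 := by
    have : (m : Co0) = sg * l * sg⁻¹ := by rw [e]; group
    rw [Subtype.ext_iff, coe_pow, this, conj_pow, ← coe_pow, pow_orderOf_eq_one]; simp
  have e3 := congrArg (· ^ orderOf l) e1
  obtain ⟨i, hi⟩ := ho
  simp only [conj_pow, ← map_pow, pow_orderOf_eq_one, map_one, mul_one, mul_inv_cancel, cm.symm.mul_pow, e2,
    one_mul] at e3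
  rw [hi, pow_succ, pow_mul, pow_two, sq, one_pow, one_mul] at e3
  rw [map_mul, ← e3, mul_one] at e1
  rw [← e1, inv_mul_cancel_right]

end Cfsg.Lib.Small.CoU
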