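import Cfsg.Agent.Lib.Mon.Lat2
import Cfsg.Agent.Lib.Leech.SgnGrp
import Cfsg.Agent.Lib.Linear.SymPres

/-! Glue for odd local subgroups of `Co1`. -/

set_option autoImplicit false

namespace Cfsg.Lib.Leech.CoV

open Subgroup Golay Cfsg.Lib.Linear Cfsg.Spor

theorem transp {G H : Type*} [Group G] [Group H] (e : G ≃* H) (V : Subgroup H) :
    Nat.card (V.comap e.toMonoidHom) = Nat.card V ∧
    Nonempty (centralizer (V.comap e.toMonoidHom : Set G) ≃* centralizer (V : Set H)) ∧
    Nonempty (normalizer (V.comap e.toMonoidHom : Set G) ≃* normalizer (V : Set H)) := by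
  have k : ∀ K : Subgroup H, Nonempty (K.comap e.toMonoidHom ≃* K) := fun K =>
    ⟨(MulEquiv.subgroupCongr (comap_equiv_eq_map_symm' e K)).trans (e.symm.subgroupMap K).symm⟩
  refine ⟨Nat.card_congr (k V).some.toEquiv, ?_, ?_⟩
  · rw [show centralizer (V.comap e.toMonoidHom : Set G) = (centralizer (V : Set H)).comap
      e.toMonoidHom from ?_]
    · exact k _
    ext x
    refine ⟨fun h y hy => ?_, fun h y hy => e.injective (by simpa using h (e y) hy)⟩
    simpa using congrArg e (h (e.symm y) (by simpa using hy))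
  · rw [← comap_normalizer_eq_of_surjective V (f := e.toMonoidHom) e.surjective]
    exact k _

theorem prod_iso {Γ P A : Type*} [Group Γ] [Finite Γ] [Group P] [Group A] [Finite P] [Finite A]
    (N : Subgroup Γ) (φ : P →* Γ) (ψ : A →* Γ) (hc : ∀ p a, Commute (φ p) (ψ a))
    (h1 : ∀ p, φ p ∈ N) (h2 : ∀ a, ψ a ∈ N) (i1 : Function.Injective φ)
    (i2 : Function.Injective ψ) (hA : center A = ⊥) (hN : Nat.card N ≤ Nat.card P * Nat.card A) :
    Nonempty (N ≃* P × A) := by
  let f : P × A →* N := (φ.noncommCoprod ψ hc).codRestrict N fun x => mul_mem (h1 _) (h2 _)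
  have hf : Function.Injective f := (injective_iff_map_eq_one f).2 fun x hx => by
    have e : φ x.1 * ψ x.2 = 1 := congrArg Subtype.val hx
    have e2 : x.2 = 1 := mem_bot.1 (hA ▸ Subgroup.mem_center_iff.2 fun a => i2 (by
      rw [map_mul, map_mul, eq_inv_of_mul_eq_one_right e]
      exact ((hc x.1 a).inv_left.eq).symm))
    rw [e2, map_one, mul_one] at e
    exact Prod.ext (i1 (e.trans (map_one φ).symm)) e2
  exact ⟨(MulEquiv.ofBijective f ((Nat.bijective_iff_injective_and_card f).2 ⟨hf,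
    le_antisymm (Nat.card_le_card_of_injective f hf) (by rwa [Nat.card_prod])⟩)).symm⟩

theorem cent_comap {b : Co0} {p : ℕ} (hp : Odd p) (hb : b ^ p = 1) :
    (centralizer {mk1 b}).comap mk1 = centralizer {b} := by
  ext k
  rw [mem_comap, mem_centralizer_singleton_iff, mem_centralizer_singleton_iff, ← map_mul,
    ← map_mul, mk1_eq_iff]
  refine ⟨fun h => h.resolve_right fun h => negOne_ne_one ?_, Or.inl⟩
  have e : k * b * k⁻¹ = negOne * b := by rw [h]; group
  have e2 : (negOne * b) ^ p = 1 := by rw [← e, conj_pow, hb]; simp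
  obtain ⟨m, rfl⟩ := hp
  rwa [Commute.mul_pow (negOne_comm b).symm, hb, mul_one, pow_succ, pow_mul, pow_two,
    negOne_mul_self, one_pow, one_mul] at e2

theorem card_cent {b : Co0} {p : ℕ} (hp : Odd p) (hb : b ^ p = 1) :
    Nat.card (centralizer ({mk1 b} : Set Co1)) * 2 = Nat.card (centralizer ({b} : Set Co0)) := by
  rw [← card_comap_mk1, cent_comap hp hb]

theorem orderOf_mk1 {b : Co0} {p : ℕ} [hp : Fact p.Prime] (h2 : Odd p) (hb : b ^ p = 1)
    (h1 : b ≠ 1) : orderOf (mk1 b) = p := by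
  refine orderOf_eq_prime (by rw [← map_pow, hb, map_one]) fun h => ?_
  rcases mk1_eq_one.1 h with h | h
  · exact h1 h
  · obtain ⟨m, rfl⟩ := h2
    rw [h, pow_succ, pow_mul, pow_two, negOne_mul_self, one_pow, one_mul] at hb
    exact negOne_ne_one hb

/-- Carmichael generators `g 0, …, g (n-1)` give an embedding of `A_{n+2}`. -/
theorem alt_hom {n : ℕ} (hn : 3 ≤ n) (g : ℕ → Co0) (h3 : ∀ i < n, g i * (g i * g i) = 1)
    (h2 : ∀ i < n, ∀ j < n, i ≠ j → g i * (g j * (g i * g j)) = negOne) (h0 : g 0 ≠ 1) :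
    ∃ ψ : alternatingGroup (Fin (n + 2)) →* Co1, Function.Injective ψ ∧
      ∀ K : Subgroup Co1, (∀ i < n, mk1 (g i) ∈ K) → ∀ a, ψ a ∈ K := by
  have hab : (0 : Fin (n + 2)) ≠ 1 := by simp
  have hl : ∀ i : {i : Fin (n + 2) // i ≠ 0 ∧ i ≠ 1}, 2 ≤ i.1.1 ∧ i.1.1 - 2 < n := fun i => by
    have a : i.1.1 ≠ 0 := fun e => i.2.1 (Fin.ext e)
    have b : i.1.1 ≠ 1 := fun e => i.2.2 (Fin.ext e)
    have := i.1.2
    omega
  obtain ⟨ψ, hψ⟩ := exists_hom_carmichael hab (fun i => mk1 (g (i.1.1 - 2))) ⟨fun i _ => by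
      rw [← map_pow, pow_three, h3 _ (hl i).2, map_one], fun i _ j _ hij => by
      rw [← map_mul, ← map_pow, pow_two, mul_assoc, h2 _ (hl i).2 _ (hl j).2 fun e => hij
        (Subtype.ext (Fin.ext (by have := (hl i).1; have := (hl j).1; omega)))]
      exact mk1_eq_one.2 (Or.inr rfl)⟩
  haveI := alternatingGroup.isSimpleGroup (α := Fin (n + 2)) (by simp; omega)
  refine ⟨ψ, (ψ.ker_eq_bot_iff).1 ((ψ.normal_ker.eq_bot_or_eq_top).resolve_right fun e => ?_),
    fun K hK a => ?_⟩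
  · have e2 := hψ ⟨⟨2, by omega⟩, by simp [Fin.ext_iff], by simp [Fin.ext_iff]⟩
    rw [show ψ _ = 1 from (e ▸ mem_top _ : _ ∈ ψ.ker)] at e2
    haveI := Fact.mk Nat.prime_three
    have := orderOf_mk1 (p := 3) (by decide) (by rw [pow_three, h3 0 (by omega)]) h0
    rw [show mk1 (g 0) = 1 from e2.symm, orderOf_one] at this
    omega
  · have : (⊤ : Subgroup (alternatingGroup (Fin (n + 2)))) ≤ K.comap ψ := by
      rw [← closure_altCyc hab, closure_le]
      rintro _ ⟨i, rfl⟩
      rw [SetLike.mem_coe, mem_comap, hψ]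
      exact hK _ (hl i).2
    exact this (mem_top a)

theorem center_alt {n : ℕ} (hn : 4 ≤ n) : center (alternatingGroup (Fin n)) = ⊥ :=
  alternatingGroup.center_eq_bot (by simpa using hn)

/-- test that a matrix is `-1` -/
noncomputable def negB (W : ℕ) : Bool :=
  allN 24 fun j => Nat.beq (apW W (e8C j))
    (Nat.sub 0x101010101010101010101010101010101010101010101010 (e8C j))

theorem eq_negOne {g : Co0} {W : ℕ} (h : Impl g W) (e : negB W = true) : g = negOne :=
  co0_ext_e8 fun i => by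
    rw [negOne_smul]
    exact (h.smul_eq (rep_e8 i) (sqNorm_e8 i).le (rep_neg (rep_e8 i) (sqNorm_e8 i).le)).2
      (beq_iff.1 (allN_iff.1 e _ (gc.idx_lt i)))

theorem ne_one_of {g : Co0} {W : ℕ} (h : Impl g W) (e : apW W (e8C 23) ≠ e8C 23) : g ≠ 1 :=
  fun a => e ((h.smul_eq (rep_e8 none) (sqNorm_e8 _).le (rep_e8 none)).1 (by rw [a, one_smul]))

/-- test that a sum of coded vectors lies in `2Λ` -/
noncomputable def evB (m : ℕ) (N : ℕ → ℕ) : Bool :=
  forceN (packN 8 (fun i => Nat.div (sumN m fun k => app (N k) i) 2) 24) fun h =>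
    band (inL h) (allN 24 fun i => Nat.beq (sumN m fun k => app (N k) i) (Nat.mul 2 (app h i)))

theorem cg_sum {m : ℕ} {N : ℕ → ℕ} {v : ℕ → leechLattice} (h : ∀ k < m, Rep (N k) (v k))
    (hb : evB m N = true) : ∃ u, ∑ k ∈ Finset.range m, v k = 2 • u := by
  simp only [evB, forceN_eq, band_eq, Bool.and_eq_true, allN_iff, beq_iff] at hb
  generalize packN 8 _ 24 = c at hb
  let four : leechLattice := ⟨fun _ => 4 * 1, four_mul_mem (by simp)⟩
  refine ⟨⟨_, mem_of_inL hb.1⟩ + (2 - m : ℤ) • four, ?_⟩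
  ext i
  have h3 := hb.2 _ (gc.idx_lt i)
  rw [sumN_eq] at h3
  have h4 : (∑ k ∈ Finset.range m, (app (N k) (gc.idx i) : ℤ)) = 2 * app c (gc.idx i) := by
    exact_mod_cast h3
  have h5 : ∑ k ∈ Finset.range m, (v k : GolayPt → ℤ) i =
      ∑ k ∈ Finset.range m, (app (N k) (gc.idx i) : ℤ) - 8 * m := by
    rw [Finset.sum_congr rfl fun k hk => (h k (Finset.mem_range.1 hk)).apply i,
      Finset.sum_sub_distrib]
    simp [mul_comm]
  simp only [AddSubgroup.coe_add, AddSubmonoidClass.coe_finsetSum, Pi.add_apply,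
    Finset.sum_apply, AddSubmonoidClass.coe_nsmul, Pi.smul_apply,
    AddSubgroupClass.coe_zsmul, four, decV]
  simp only [nsmul_eq_mul, smul_eq_mul]
  rw [h5]; push_cast; linear_combination h4

end Cfsg.Lib.Leech.CoV
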