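import Cfsg.Agent.Lib.Small.CoV1
import Cfsg.Agent.Lib.Small.CoV2

/-! The centralizer `7 × A₇` in `Co1`. -/

set_option autoImplicit false
set_option maxRecDepth 100000
set_option exponentiation.threshold 8000

namespace Cfsg.Lib.Leech.CoV.C7

open Subgroup Golay Cfsg.Spor

noncomputable def g (x : ℕ) : Co0 := elt (Wl x)

theorem hI : ∀ x < 9, Impl (g x) (Wl x) := fun x hx => impl_elt (ok x hx)
theorem I5 : Impl (g 5) (Wl 5) := hI 5 (by norm_num)
theorem b7 : g 5 ^ 7 = 1 := by simpa [pow_succ', mul_assoc] using eq_of_eqW hI c7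
theorem g6 : g 6 = negOne := eq_negOne (hI 6 (by norm_num)) (by decide +kernel)

/-- the centralizer -/
abbrev C : Subgroup Co0 := centralizer {g 5}

theorem gC : ∀ i < 6, g i ∈ C := fun i hi =>
  mem_centralizer_singleton_iff.2 (by simpa using eq_of_eqW hI (cb i hi))

theorem cpow {k : Co0} (hk : k ∈ C) (a : ℕ) (x : leechLattice) :
    g 5 ^ a • k • x = k • g 5 ^ a • x := by
  rw [← mul_smul, ← mul_smul, (Commute.pow_right (mem_centralizer_singleton_iff.1 hk) a).eq]

theorem ip_c {k : Co0} (hk : k ∈ C) (a : ℕ) (x y : leechLattice) :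
    ip (k • x) (g 5 ^ a • k • y) = ip x (g 5 ^ a • y) := by rw [cpow hk, ip_smul_smul]

def Lam (x : leechLattice) : Prop := ∃ u, g 5 ^ 1 • x + g 5 ^ 2 • x + g 5 ^ 4 • x = 2 • u

theorem Lam.cent {k : Co0} (hk : k ∈ C) {x : leechLattice} (h : Lam x) : Lam (k • x) :=
  let ⟨u, h⟩ := h
  ⟨k • u, by rw [cpow hk, cpow hk, cpow hk, ← co0_smul_add, ← co0_smul_add, h, co0_smul_nsmul]⟩

theorem Lam.sub {x y : leechLattice} (h : Lam x) (h' : Lam y) : Lam (x - y) :=
  let ⟨u, h⟩ := h; let ⟨w, h'⟩ := h'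
  ⟨u - w, by rw [co0_smul_sub, co0_smul_sub, co0_smul_sub, nsmul_sub, ← h, ← h']; abel⟩

theorem rep0 : Rep Z8 0 := ⟨by decide +kernel, by funext i; revert i; decide +kernel⟩

theorem sep {v w : leechLattice} (hv : Lam v) (hw : Lam w) (e : lab B 12 v = lab B 12 w) :
    Cg v w := by
  obtain ⟨y, hx⟩ := hv.sub hw
  have hj := lab_eq_iff.1 e
  show ∃ u, v - w = 2 • u
  generalize v - w = x at hx hj
  let M : AddSubgroup leechLattice :=
    { carrier := {u | 16 ∣ ip x u}
      zero_mem' := by simp [ip, dotInt]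
      add_mem' := fun {a b} ha hb => by
        show 16 ∣ ip x (a + b); rw [ip_add_right]; exact dvd_add ha hb
      neg_mem' := fun {a} ha => by show 16 ∣ ip x (-a); rw [ip_neg_right]; exact ha.neg_right }
  refine two_of_ip fun u => (show u ∈ M from eq_top_of_genC (M := M) (fun t ht => ?_) ▸ trivial)
  obtain ⟨g1, g2⟩ := rep_of_shB (shB_genC t ht)
  obtain ⟨z, hz⟩ := cg_sum (v := fun k => if k < 4 then g 5 ^ app 0x06050300 k • vec (genC t)
      else if bitN (S t) (k - 4) = 1 then vec (B (k - 4)) else 0) (fun k hk => by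
    split_ifs
    exacts [I5.itW _ g1 g2, (rep_of_shB (hB _ (by omega))).1, rep0]) (hspan t ht)
  generalize vec (genC t) = u at hz ⊢
  rw [Finset.sum_range_add] at hz
  have h3 : 2 • z ∈ M := ip_two x z
  rw [← hz] at h3
  have h4 := (M.add_mem_cancel_right (M.sum_mem fun j hj' => by
    rw [if_neg (by omega), Nat.add_sub_cancel_left]
    split_ifs
    exacts [hj j (Finset.mem_range.1 hj'), M.zero_mem])).1 h3
  have h5 : g 5 ^ 3 • u + g 5 ^ 5 • u + g 5 ^ 6 • u ∈ M := by
    have k : ∀ a c, a + c = 7 → ip x (g 5 ^ c • u) = ip u (g 5 ^ a • x) := fun a c h => by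
      rw [← ip_smul_smul (g 5 ^ a), ← mul_smul, ← pow_add, h, b7, one_smul, ip_comm]
    show 16 ∣ ip x _
    rw [ip_add_right, ip_add_right, k 4 3 rfl, k 2 5 rfl, k 1 6 rfl, ← ip_add_right,
      ← ip_add_right, show g 5 ^ 4 • x + g 5 ^ 2 • x + g 5 ^ 1 • x = 2 • y by rw [← hx]; abel]
    exact ip_two u y
  simp only [Finset.sum_range_succ, Finset.sum_range_zero, zero_add] at h4
  have h6 : g 5 ^ 0 • u + g 5 ^ 3 • u + g 5 ^ 5 • u + g 5 ^ 6 • u ∈ M := h4
  rw [pow_zero, one_smul, add_assoc, add_assoc, ← add_assoc (g 5 ^ 3 • u)] at h6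
  exact (M.add_mem_cancel_right h5).1 h6

noncomputable def kk (r : ℕ) : Co0 := ((rw0 r).map g).prod

theorem rw0_lt {r : ℕ} (hr : r < 3) : ∀ x ∈ rw0 r, x < 9 := by
  unfold rw0; split_ifs <;> simp; omega

theorem lam_root {r : ℕ} (hr : r < 3) : Lam (kk r • e8 none) := by
  have := cg_sum (v := fun k => g 5 ^ 2 ^ k • kk r • e8 none) (fun k _ => I5.itW _
    (rep_evW hI (rw0_lt hr) _ _ (rep_e8 none) (sqNorm_e8 _).le)
      (by rw [sqNorm_smul, sqNorm_e8])) (hroot r hr)
  simp only [Finset.sum_range_succ, Finset.sum_range_zero, zero_add] at this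
  exact this

theorem of_tab {e : ℕ} (he : e < 4096) (h0 : e ≠ 0) :
    en e % 4 < 3 ∧ ∃ h ∈ C, lab B 12 (h • kk (en e % 4) • e8 none) = e := by
  have h := tab e he
  simp only [tabC, forceN_eq, bor_eq, band_eq, Bool.or_eq_true, Bool.and_eq_true, beq_iff,
    allN_iff, Nat.ble_eq] at h
  obtain ⟨h1, h2, h3⟩ := h.resolve_left h0
  generalize en e = n at *
  have h1' : n % 4 < 3 := Nat.lt_succ_of_le h1
  have key : ∀ k ≤ n / 4 % 16, (∀ x ∈ wd n k, x < 9) ∧
      ∃ h ∈ C, ((wd n k).map g).prod = h * kk (n % 4) := by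
    intro k hk
    induction k with
    | zero => exact ⟨rw0_lt h1', 1, one_mem _, (one_mul _).symm⟩
    | succ k ih =>
      obtain ⟨a, h, hh, e⟩ := ih (by omega)
      have := h2 k (by omega)
      refine ⟨fun x hx => ?_, g (dg n k) * h, mul_mem (gC _ (by omega)) hh, ?_⟩
      · rcases List.mem_cons.1 hx with rfl | hx
        exacts [by omega, a x hx]
      · change (List.map g (dg n k :: wd n k)).prod = _
        rw [List.map_cons, List.prod_cons, e, mul_assoc]
  obtain ⟨a, h, hh, e⟩ := key _ le_rfl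
  refine ⟨h1', h, hh, ?_⟩
  rw [← mul_smul, ← e, (rep_evW hI a _ _ (rep_e8 none) (sqNorm_e8 _).le).lab hB]
  exact h3

theorem ip_P (a : ℕ) (ha : a < 7) (i j : GolayPt) :
    ip (e8 i) (g 5 ^ a • e8 j) = 8 * ((P a (gc.idx i) (gc.idx j) : ℤ) - 8) := by
  rw [ip_comm, ip, dot_e8, (I5.itW a (rep_e8 j) (sqNorm_e8 _).le).apply, P,
    hP a ha _ (gc.idx_lt j)]

theorem nomono {r : ℕ} (hr : r < 3) (h0 : r ≠ 0) {k : Co0} (hk : k ∈ C) :
    ¬ Cg (k • e8 none) (kk r • e8 none) := fun h => by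
  have e : kk r = g (6 + r) := by simp [kk, rw0, h0]
  have hm : (kk r)⁻¹ * k ∈ Mono := by
    have := h.smul (kk r)⁻¹
    rwa [inv_smul_smul, ← mul_smul] at this
  have key : ∀ i, P 1 (gc.idx i) (gc.idx i) = 10 → ((kk r)⁻¹ * k) • e8 i = e8 (gc.pt 3) ∨
      ((kk r)⁻¹ * k) • e8 i = -e8 (gc.pt 3) := by
    intro i hi
    obtain ⟨j, hj⟩ := Mono_smul_e8 hm i
    by_contra hc
    have h3 : gc.idx j ≠ 3 := fun a => hc (by rw [← a, gc.pt_idx]; exact hj)
    have h1 := hno r hr h0 _ (gc.idx_lt j) h3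
    have r1 := hI (6 + r) (by omega) _ _ (rep_e8 j) (sqNorm_e8 _).le
    have r2 := I5 _ _ r1 (by rw [sqNorm_smul, sqNorm_e8])
    have h2 := ip_c hk 1 (e8 i) (e8 i)
    rw [ip_P 1 (by norm_num), hi] at h2
    have h4 : ip (g (6 + r) • e8 j) (g 5 • g (6 + r) • e8 j) = 16 := by
      rw [mul_smul, inv_smul_eq_iff, inv_smul_eq_iff, e] at hj
      rcases hj with hj | hj <;> rw [hj, pow_one] at h2
      · exact h2
      · rw [co0_smul_neg, co0_smul_neg, ip_neg_right, ip_comm, ip_neg_right, neg_neg,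
          ip_comm] at h2
        exact h2
    rw [ip, ← r1.2, ← r2.2] at h4
    rw [dotB_iff.2 (by simpa using h4)] at h1
    exact Bool.noConfusion h1
  have hne : gc.pt 4 ≠ gc.pt 6 := by decide
  rcases key (gc.pt 4) (by decide +kernel) with a | a <;>
    rcases key (gc.pt 6) (by decide +kernel) with b | b
  · exact hne (e8_injective (MulAction.injective _ (a.trans b.symm)))
  · exact e8_ne_neg (gc.pt 4) (gc.pt 6) (MulAction.injective ((kk r)⁻¹ * k)
      (by dsimp only; rw [co0_smul_neg, a, b, neg_neg]))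
  · exact e8_ne_neg (gc.pt 4) (gc.pt 6) (MulAction.injective ((kk r)⁻¹ * k)
      (by dsimp only; rw [co0_smul_neg, a, b]))
  · exact hne (e8_injective (MulAction.injective _ (a.trans b.symm)))

theorem bound1 : Nat.card C ≤ 105 * Nat.card ↥(C ⊓ Mono) := by
  have l0 : Lam (e8 none) := by simpa [kk, rw0] using lam_root (r := 0) (by norm_num)
  have := card_le_mul_of_lab C Mono ((Finset.range 4096).filter fun e => en e % 4 = 0)
    (fun k => lab B 12 (k • e8 none)) (fun k hk => ?_) fun k hk l hl e => ?_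
  · rwa [show ((Finset.range 4096).filter fun e => en e % 4 = 0).card = 105 from ?_] at this
    rw [← h105, Finset.card_filter, sumN_eq]
    exact Finset.sum_congr rfl fun i _ => by rw [bif'_eq]; simp only [beq_iff]; rfl
  · have hl := lab_lt B 12 (k • e8 none)
    have h0 : lab B 12 (k • e8 none) ≠ 0 := fun a => by
      have := (sep (l0.cent hk) (w := 0) (sub_self (e8 none) ▸ l0.sub l0) (by
        rw [a, rep0.lab hB]; decide +kernel)).norm_eq (by rw [sqNorm_smul, sqNorm_e8])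
        (by simp [sqNorm])
      rw [sqNorm_smul, sqNorm_e8] at this
      simp [sqNorm] at this
    obtain ⟨h1, h, hh, e⟩ := of_tab hl h0
    refine Finset.mem_filter.2 ⟨Finset.mem_range.2 hl, by_contra fun a => ?_⟩
    have := (sep (l0.cent hk) ((lam_root h1).cent hh) e.symm).smul h⁻¹
    rw [inv_smul_smul, ← mul_smul] at this
    exact nomono h1 a (mul_mem (inv_mem hh) hk) this
  · have := (sep (l0.cent hl) (l0.cent hk) e.symm).smul k⁻¹
    rwa [inv_smul_smul, ← mul_smul] at this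

noncomputable def KL : List ℕ → Subgroup Co0
  | [] => C ⊓ Mono
  | j :: I => KL I ⊓ MulAction.stabilizer Co0 (e8 (gc.pt j))

theorem mem_KL {k : Co0} : ∀ {I : List ℕ}, k ∈ KL I →
    k ∈ C ∧ k ∈ Mono ∧ ∀ i ∈ I, k • e8 (gc.pt i) = e8 (gc.pt i)
  | [], h => ⟨h.1, h.2, by simp⟩
  | j :: I, h => ⟨(mem_KL h.1).1, (mem_KL h.1).2.1, fun i hi => by
      rcases List.mem_cons.1 hi with rfl | hi
      exacts [h.2, (mem_KL h.1).2.2 i hi]⟩

noncomputable def sv (n : ℕ) : leechLattice :=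
  if n ≤ 23 then e8 (gc.pt (n % 24)) else -e8 (gc.pt (n % 24))

theorem step {I : List ℕ} (hI : ∀ i ∈ I, i < 24) {j : ℕ} (hj : j < 24) :
    Nat.card (KL I) ≤ cnt I j * Nat.card (KL (j :: I)) := by
  classical
  have ex : ∀ k ∈ KL I, ∃ n < 48, k • e8 (gc.pt j) = sv n := fun k hk => by
    obtain ⟨l, hl⟩ := Mono_smul_e8 (mem_KL hk).2.1 (gc.pt j)
    have := gc.idx_lt l
    rw [gc_n] at this
    rcases hl with hl | hl
    · exact ⟨gc.idx l, by omega, by
        rw [hl, sv, if_pos (by omega), Nat.mod_eq_of_lt this, gc.pt_idx]⟩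
    · exact ⟨gc.idx l + 24, by omega, by
        rw [hl, sv, if_neg (by omega), Nat.add_mod_right, Nat.mod_eq_of_lt this, gc.pt_idx]⟩
  choose! f hf hf' using ex
  have := card_le_mul_of_lab (KL I) (MulAction.stabilizer Co0 (e8 (gc.pt j)))
    ((Finset.range 48).filter fun n => okB I j n = true) f (fun k hk => ?_) fun k hk l hl e => ?_
  · rwa [show ((Finset.range 48).filter fun n => okB I j n = true).card = cnt I j from ?_] at this
    rw [cnt, Finset.card_filter, sumN_eq]
    exact Finset.sum_congr rfl fun i _ => by rw [bif'_eq]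
  · obtain ⟨h1, -, h3⟩ := mem_KL hk
    have e := hf' k hk
    have hn := hf k hk
    generalize f k = n at e hn
    have hl : n % 24 < 24 := Nat.mod_lt _ (by norm_num)
    refine Finset.mem_filter.2 ⟨Finset.mem_range.2 hn, ?_⟩
    simp only [okB, band_eq, Bool.and_eq_true, allN_iff, allL_iff, beq_iff, bif'_eq, Nat.ble_eq]
    refine ⟨fun a ha => ?_, fun i hi a ha => ?_⟩
    · have := ip_c h1 a (e8 (gc.pt j)) (e8 (gc.pt j))
      rw [e, sv] at this
      split_ifs at this
      · rw [ip_P a ha, ip_P a ha, gc.idx_pt _ hl, gc.idx_pt _ hj] at this; omega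
      · rw [co0_smul_neg, ip_neg_right, ip_comm, ip_neg_right, neg_neg, ip_comm, ip_P a ha,
          ip_P a ha, gc.idx_pt _ hl, gc.idx_pt _ hj] at this
        omega
    · have := ip_c h1 a (e8 (gc.pt i)) (e8 (gc.pt j))
      rw [e, sv, h3 i hi] at this
      split_ifs at this ⊢
      · rw [ip_P a ha, ip_P a ha, gc.idx_pt _ hl, gc.idx_pt _ hj, gc.idx_pt _ (hI i hi)] at this
        rw [beq_iff]; omega
      · rw [co0_smul_neg, ip_neg_right, ip_P a ha, ip_P a ha, gc.idx_pt _ hl, gc.idx_pt _ hj,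
          gc.idx_pt _ (hI i hi)] at this
        rw [beq_iff, Nat.add_eq]; omega
  · rw [MulAction.mem_stabilizer_iff, mul_smul, hf' l hl, ← e, ← hf' k hk, inv_smul_smul]

theorem chain : ∀ L : List ℕ, (∀ i ∈ L, i < 24) → Nat.card (KL []) ≤ prodL L * Nat.card (KL L)
  | [], _ => by simp [prodL]
  | j :: I, h => by
    have h1 : ∀ i ∈ I, i < 24 := fun i hi => h i (List.mem_cons_of_mem _ hi)
    refine (chain I h1).trans ((Nat.mul_le_mul_left _ (step h1 (h j List.mem_cons_self))).trans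
      (le_of_eq ?_))
    change _ = cnt I j * prodL I * _
    ring

theorem card_C : Nat.card C ≤ 105 * 336 := by
  have h1 := chain L0 (by decide)
  have h2 : KL L0 = ⊥ := eq_bot_iff.2 fun k hk => co0_ext_e8 fun i => by
    have : ∀ i < 24, i ∈ L0 := by decide
    rw [one_smul, ← gc.pt_idx i]
    exact (mem_KL hk).2.2 _ (this _ (gc.idx_lt i))
  rw [h2, card_bot, hprod] at h1
  exact bound1.trans (Nat.mul_le_mul_left _ h1)

theorem main : ∃ V : Subgroup Co1, Nat.card V = 7 ∧
    Nonempty (centralizer (V : Set Co1) ≃* Multiplicative (ZMod 7) × alternatingGroup (Fin 7)) := by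
  haveI := Fact.mk (by norm_num : Nat.Prime 7)
  have o : orderOf (mk1 (g 5)) = 7 := orderOf_mk1 (by decide) b7 (ne_one_of I5 (by decide +kernel))
  have o' : Nat.card (zpowers (mk1 (g 5))) = 7 := by rw [Nat.card_zpowers, o]
  refine ⟨zpowers (mk1 (g 5)), o', ?_⟩
  obtain ⟨ψ, hψ, hK⟩ := alt_hom (n := 5) (by norm_num) g
    (fun i hi => by simpa using eq_of_eqW hI (c3 i hi))
    (fun i hi j hj h => by simpa [g6] using eq_of_eqW hI (c2 i hi j hj h))
    (ne_one_of (hI 0 (by norm_num)) (by decide +kernel))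
  have hc : ∀ a, ψ a ∈ centralizer {mk1 (g 5)} := hK _ fun i hi => by
    rw [← mem_comap, cent_comap (by decide) b7]; exact gC i (by omega)
  have h7 : Nat.card (Multiplicative (ZMod 7)) = 7 := by simp
  have e := mulEquivOfPrimeCardEq h7 o'
  have h1 := card_cent (by decide) b7
  have h2 := card_C
  rw [Coprime.centralizer_zpowers]
  refine prod_iso _ ((zpowers _).subtype.comp e.toMonoidHom) ψ (fun p a => ?_) (fun p => ?_) hc
    ((zpowers _).subtype_injective.comp e.injective) hψ (center_alt (by norm_num)) ?_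
  · have := hc a
    rw [← Coprime.centralizer_zpowers] at this
    exact this _ (e p).2
  · exact (zpowers_le.2 (mem_centralizer_singleton_iff.2 rfl) : zpowers _ ≤ _) (e p).2
  · rw [h7, show Nat.card (alternatingGroup (Fin 7)) = 2520 by
      rw [nat_card_alternatingGroup, Nat.card_eq_fintype_card, Fintype.card_fin]; decide]
    change _ = Nat.card C at h1
    omega

end Cfsg.Lib.Leech.CoV.C7

namespace Cfsg.Lib.Leech.CoV

open Subgroup Cfsg.Spor

theorem local79 {G : Type*} [Group G] (h : IsoCo1 G) :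
    (∃ V : Subgroup G, Nat.card V = 7 ∧ Nonempty (centralizer (V : Set G) ≃*
      Multiplicative (ZMod 7) × alternatingGroup (Fin 7))) ∧ ∃ W : Subgroup G, Nat.card W = 3 ∧
      Nonempty (normalizer (W : Set G) ≃* Equiv.Perm (Fin 3) × alternatingGroup (Fin 9)) := by
  obtain ⟨e⟩ := h
  obtain ⟨V, a, ⟨b⟩⟩ := C7.main
  obtain ⟨W, c, ⟨d⟩⟩ := N3.main
  exact ⟨⟨_, (transp e V).1.trans a, ⟨(transp e V).2.1.some.trans b⟩⟩,
    _, (transp e W).1.trans c, ⟨(transp e W).2.2.some.trans d⟩⟩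

end Cfsg.Lib.Leech.CoV
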