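import Cfsg.Agent.Lib.Small.CoT2

/-! A subgroup acting on the perp of a totally singular line of the hyperbolic 8-space, invariant under Siegel maps. -/

set_option autoImplicit false

namespace Cfsg.Lib.Small.CoW

open Cfsg.Lib.Forms Subgroup Cfsg.Lib.Small.Co1Z Cfsg.Agent.S5405

theorem dbl {Γ : Type*} [Group Γ] [Finite Γ] {S T : Subgroup Γ} (h : S ≤ T) {v : Γ} (hv : v ∈ T) (hn : v ∉ S) :
    2 * Nat.card S ≤ Nat.card T := by
  obtain ⟨k, hk⟩ := card_dvd_of_le h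
  have h1 : Nat.card S ≠ Nat.card T := fun e => hn ((eq_of_le_of_card_ge h e.ge) ▸ hv)
  have h2 := Nat.card_pos (α := T)
  rcases k with _ | _ | k
  · omega
  · omega
  · nlinarith

abbrev ee (i : Fin 4) : V8 := Pi.single (.inl i) 1
abbrev ff (i : Fin 4) : V8 := Pi.single (.inr i) 1
def PP (v : V8) : Prop := v (.inr 0) = 0 ∧ v (.inr 1) = 0
def WW (r : V8) : Prop := r = 0 ∨ r = ee 0 ∨ r = ee 1 ∨ r = ee 0 + ee 1
instance : DecidablePred PP := fun v => by unfold PP; infer_instance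
instance : DecidablePred WW := fun v => by unfold WW; infer_instance

theorem a2 (x : V8) : x + x = 0 := aa (D := D8) x

theorem PP.add {v w : V8} (h : PP v) (h' : PP w) : PP (v + w) := ⟨by simp [h.1, h'.1], by simp [h.2, h'.2]⟩
theorem PP.smul {v : V8} (c : ZMod 2) (h : PP v) : PP (c • v) := ⟨by simp [h.1], by simp [h.2]⟩
theorem WW.pp {v : V8} (h : WW v) : PP v := by rcases h with rfl | rfl | rfl | rfl <;> decide
theorem WW.Q {v : V8} (h : WW v) : D8.Q v = 0 := by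
  show quadFormPlus 4 (ZMod 2) v = 0
  rcases h with rfl | rfl | rfl | rfl <;> decide
theorem WW.B {v x : V8} (h : WW v) : D8.B v x = v (.inl 0) * x (.inr 0) + v (.inl 1) * x (.inr 1) := by
  rcases h with rfl | rfl | rfl | rfl <;> simp [fPlus_B_inl, Form.B_add_left]

theorem ww_of : ∀ r : V8, r (.inr 0) = 0 → r (.inr 1) = 0 → r (.inr 2) = 0 → r (.inr 3) = 0 → r (.inl 2) = 0 →
    r (.inl 3) = 0 → WW r := by decide +kernel

theorem pp_dec : ∀ v : V8, PP v → v = v (.inl 0) • ee 0 + v (.inl 1) • ee 1 + v (.inl 2) • ee 2 + v (.inl 3) • ee 3 +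
    v (.inr 2) • ff 2 + v (.inr 3) • ff 3 := by decide +kernel

set_option synthInstance.maxSize 2000 in
theorem fin_ext : ∀ r w : V8, WW r → WW w → w ≠ 0 → ∀ a b : ZMod 2, r (.inl 0) * a + r (.inl 1) * b = 0 →
    w (.inl 0) * a + w (.inl 1) * b = 0 → ¬ (a = 0 ∧ b = 0) → r = 0 ∨ r = w := by
  rintro r w (rfl | rfl | rfl | rfl) (rfl | rfl | rfl | rfl) <;> decide

def ph (g : D8.isom) (v : V8) : V8 := g.1 v + v

theorem ph_add (g : D8.isom) (v w : V8) : ph g (v + w) = ph g v + ph g w := by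
  simp only [ph, map_add]; abel
theorem ph_smul (g : D8.isom) (c : ZMod 2) (v : V8) : ph g (c • v) = c • ph g v := by
  simp only [ph, map_smul, smul_add]
theorem ph_eq (g : D8.isom) (v : V8) : g.1 v = v + ph g v := by
  rw [ph, add_comm (g.1 v), ← add_assoc, a2, zero_add]
theorem ph_zero {g : D8.isom} {v : V8} : ph g v = 0 ↔ g.1 v = v := by
  rw [ph_eq g v, add_eq_left]

theorem exists_sg {u u' : V8} (hu : D8.Q u = 0) (hu' : D8.Q u' = 0) (h : D8.B u u' = 0) :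
    ∃ ρ ∈ commutator D8.isom, ∀ x, ρ.1 x = x + (D8.B u' x • u + D8.B u x • u') := by
  have hE : D8.IsEich u u' 0 := ⟨hu, h, by rw [hu']; exact map_zero _⟩
  refine ⟨D8.eich u u' 0 hE, (fPlus_nondeg 4).E_le_commutator (Form.good_of_finrank (by rw [finrank_plus]; norm_num))
    (D8.eich_mem_E _ _ _ _), fun x => ?_⟩
  rw [Form.eich_apply, zero_smul, add_zero, sub_eq_add_neg, neg_eq_of_add_eq_zero_left (a2 _), add_assoc]
  congr 3
  exact one_mul _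

theorem ext_w {g : D8.isom} {w x : V8} (hw : WW w) (h0 : w ≠ 0) (hg : g.1 w = w)
    (h : ∀ v, PP v → ph g v = 0 ∨ ph g v = w) (hx : D8.B w x = 0) : ph g x = 0 ∨ ph g x = w := by
  by_cases hP : PP x
  · exact h x hP
  have k : ∀ y, PP y → D8.B y (ph g x) = 0 := fun y hy => by
    have h1 := D8.B_isom g y x
    have h2 := D8.B_isom g w x
    rw [hg, hx] at h2
    rw [ph, Form.B_add_right, ← h1, ph_eq g y]
    rcases h y hy with e | e <;> rw [e]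
    · rw [add_zero]; exact CharTwo.add_self_eq_zero _
    · rw [Form.B_add_left, h2, add_zero]; exact CharTwo.add_self_eq_zero _
  have kl := fun i hi => (fPlus_B_inl i (ph g x)).symm.trans (k (ee i) hi)
  have kr := fun i hi => (fPlus_B_inr i (ph g x)).symm.trans (k (ff i) hi)
  have hr : WW (ph g x) := ww_of _ (kl 0 (by decide)) (kl 1 (by decide)) (kl 2 (by decide)) (kl 3 (by decide))
    (kr 2 (by decide)) (kr 3 (by decide))
  have h3 := D8.Q_isom g x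
  rw [ph_eq g x, quad_Q_add, hr.Q, add_zero, add_eq_left, quad_symm, hr.B] at h3
  exact fin_ext _ _ hr hw h0 _ _ h3 (hw.B.symm.trans hx) hP

variable {Γ : Type*} [Group Γ] (θ : Γ →* D8.isom) (B : Subgroup Γ)

structure CD : Prop where
  h0 : ∀ b ∈ B, (θ b).1 (ee 0) = ee 0
  h1 : ∀ b ∈ B, ∀ v, PP v → WW (ph (θ b) v)
  h2 : ∀ b ∈ B, ∀ v, PP v → ∀ b' ∈ B, (θ b').1 (ph (θ b) v) = ph (θ b) v
  h3 : ∀ ρ ∈ commutator D8.isom, ρ.1 (ee 0) = ee 0 → ρ.1 (ee 1) = ee 1 → ∀ b ∈ B, ∃ b' ∈ B, θ b' = ρ⁻¹ * θ b * ρ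

def Fx (u : V8) : Subgroup Γ where
  carrier := {b | ph (θ b) u = 0}
  one_mem' := by simp [ph_zero]
  mul_mem' := fun {a b} ha hb => by
    simp only [Set.mem_ofPred_eq, ph_zero] at *
    rw [map_mul, Form.isom_mul_apply, hb, ha]
  inv_mem' := fun {a} ha => by
    simp only [Set.mem_ofPred_eq, ph_zero] at *
    nth_rewrite 1 [← ha]
    rw [← Form.isom_mul_apply, ← map_mul, inv_mul_cancel, map_one]; rfl

variable {θ B} (H : CD θ B)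
include H

theorem CD.mul {a b : Γ} (ha : a ∈ B) (hb : b ∈ B) {v : V8} (hv : PP v) :
    ph (θ (a * b)) v = ph (θ a) v + ph (θ b) v := by
  rw [ph, map_mul, Form.isom_mul_apply, ph_eq (θ b) v, map_add, H.h2 b hb v hv a ha]
  show _ = (θ a).1 v + v + _
  abel

theorem CD.inv {a : Γ} (ha : a ∈ B) {v : V8} (hv : PP v) : ph (θ a⁻¹) v = ph (θ a) v := by
  have := H.mul (inv_mem ha) ha hv
  rw [inv_mul_cancel, map_one, ph_zero.2 rfl] at this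
  rw [← add_left_inj (ph (θ a) v), ← this, a2]

def CD.Y (w : V8) : Subgroup Γ where
  carrier := {b | b ∈ B ∧ ∀ v, PP v → ph (θ b) v = 0 ∨ ph (θ b) v = w}
  one_mem' := ⟨one_mem _, fun v _ => Or.inl (by simp [ph_zero])⟩
  mul_mem' := fun {a b} ha hb => ⟨mul_mem ha.1 hb.1, fun v hv => by
    rw [H.mul ha.1 hb.1 hv]
    rcases ha.2 v hv with e | e <;> rcases hb.2 v hv with e' | e' <;> simp [e, e', a2]⟩
  inv_mem' := fun {a} ha => ⟨inv_mem ha.1, fun v hv => by rw [H.inv ha.1 hv]; exact ha.2 v hv⟩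

theorem CD.op {u u' : V8} (hu : D8.Q u = 0) (hu' : D8.Q u' = 0) (h : D8.B u u' = 0) (p : PP u) (p' : PP u') {b : Γ}
    (hb : b ∈ B) : ∃ b' ∈ B, ∀ v, PP v → ph (θ b') v = D8.B u' v • ph (θ b) u + D8.B u v • ph (θ b) u' := by
  obtain ⟨ρ, hρ, e⟩ := exists_sg hu hu' h
  have fx : ∀ r, WW r → ρ.1 r = r := fun r hr => by
    rw [e, quad_symm D8 u', quad_symm D8 u, hr.B, hr.B, p.1, p.2, p'.1, p'.2]; simp
  obtain ⟨b', hb', e'⟩ := H.h3 ρ hρ (fx _ (Or.inr (Or.inl rfl))) (fx _ (Or.inr (Or.inr (Or.inl rfl)))) b hb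
  refine ⟨b' * b, mul_mem hb' hb, fun v hv => ?_⟩
  have hρv : PP (ρ.1 v) := by rw [e]; exact hv.add ((p.smul _).add (p'.smul _))
  have h1 : ph (θ b') v = ph (θ b) (ρ.1 v) := by
    rw [ph, e', Form.isom_mul_apply, Form.isom_mul_apply, ph_eq (θ b), ← fx _ (H.h1 b hb _ hρv), ← map_add,
      ← Form.isom_mul_apply, inv_mul_cancel, fx _ (H.h1 b hb _ hρv)]
    show v + _ + v = _
    rw [add_comm v, add_assoc, a2, add_zero]
  rw [H.mul hb' hb hv, h1, ← ph_add, e, add_comm v, add_assoc, a2, add_zero, ph_add, ph_smul, ph_smul]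

/-- values on the four middle basis vectors -/
def Val (θ : Γ →* D8.isom) (b : Γ) (p2 p3 q2 q3 : V8) : Prop :=
  ph (θ b) (ee 2) = p2 ∧ ph (θ b) (ee 3) = p3 ∧ ph (θ b) (ff 2) = q2 ∧ ph (θ b) (ff 3) = q3

def Sp2 (θ : Γ →* D8.isom) (b : Γ) (p q : V8) : Prop := ∀ v, PP v → ∃ c c' : ZMod 2, ph (θ b) v = c • p + c' • q

variable {b : Γ} {p2 p3 q2 q3 : V8}

theorem CD.opA (hb : b ∈ B) (h : Val θ b p2 p3 q2 q3) : ∃ b' ∈ B, Val θ b' 0 0 p3 p2 ∧ Sp2 θ b' p2 p3 := by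
  obtain ⟨b', h1, h2⟩ := H.op (u := ee 2) (u' := ee 3) (by show quadFormPlus 4 (ZMod 2) _ = 0; decide)
    (by show quadFormPlus 4 (ZMod 2) _ = 0; decide) (by rw [fPlus_B_inl]; decide) (by decide) (by decide) hb
  rw [h.1, h.2.1] at h2
  refine ⟨b', h1, ⟨?_, ?_, ?_, ?_⟩, fun v hv => ⟨_, _, h2 v hv⟩⟩ <;> rw [h2 _ (by decide)] <;> simp [fPlus_B_inl]

theorem CD.opB (hb : b ∈ B) (h : Val θ b p2 p3 q2 q3) : ∃ b' ∈ B, Val θ b' 0 p2 q3 0 ∧ Sp2 θ b' p2 q3 := by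
  obtain ⟨b', h1, h2⟩ := H.op (u := ee 2) (u' := ff 3) (by show quadFormPlus 4 (ZMod 2) _ = 0; decide)
    (by show quadFormPlus 4 (ZMod 2) _ = 0; decide) (by rw [fPlus_B_inl]; decide) (by decide) (by decide) hb
  rw [h.1, h.2.2.2] at h2
  refine ⟨b', h1, ⟨?_, ?_, ?_, ?_⟩, fun v hv => ⟨_, _, h2 v hv⟩⟩ <;> rw [h2 _ (by decide)] <;>
    simp [fPlus_B_inl, fPlus_B_inr]

theorem CD.opC (hb : b ∈ B) (h : Val θ b p2 p3 q2 q3) : ∃ b' ∈ B, Val θ b' p3 0 0 q2 ∧ Sp2 θ b' q2 p3 := by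
  obtain ⟨b', h1, h2⟩ := H.op (u := ff 2) (u' := ee 3) (by show quadFormPlus 4 (ZMod 2) _ = 0; decide)
    (by show quadFormPlus 4 (ZMod 2) _ = 0; decide) (by rw [fPlus_B_inr]; decide) (by decide) (by decide) hb
  rw [h.2.1, h.2.2.1] at h2
  refine ⟨b', h1, ⟨?_, ?_, ?_, ?_⟩, fun v hv => ⟨_, _, h2 v hv⟩⟩ <;> rw [h2 _ (by decide)] <;>
    simp [fPlus_B_inl, fPlus_B_inr]

theorem CD.opD (hb : b ∈ B) (h : Val θ b p2 p3 q2 q3) : ∃ b' ∈ B, Val θ b' q3 q2 0 0 ∧ Sp2 θ b' q2 q3 := by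
  obtain ⟨b', h1, h2⟩ := H.op (u := ff 2) (u' := ff 3) (by show quadFormPlus 4 (ZMod 2) _ = 0; decide)
    (by show quadFormPlus 4 (ZMod 2) _ = 0; decide) (by rw [fPlus_B_inr]; decide) (by decide) (by decide) hb
  rw [h.2.2.1, h.2.2.2] at h2
  refine ⟨b', h1, ⟨?_, ?_, ?_, ?_⟩, fun v hv => ⟨_, _, h2 v hv⟩⟩ <;> rw [h2 _ (by decide)] <;> simp [fPlus_B_inr]

theorem CD.pure1 {w : V8} (hb : b ∈ B) (h : Sp2 θ b w 0) : b ∈ H.Y w := ⟨hb, fun v hv => by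
  obtain ⟨c, c', e⟩ := h v hv
  rcases z2 c with rfl | rfl <;> simp [e]⟩

theorem CD.pure2 {w : V8} (hb : b ∈ B) (h : Sp2 θ b 0 w) : b ∈ H.Y w := ⟨hb, fun v hv => by
  obtain ⟨c, c', e⟩ := h v hv
  rcases z2 c' with rfl | rfl <;> simp [e]⟩

theorem CD.comm {w : V8} (hw : WW w) (h0 : w ≠ 0) (hf : ∀ b ∈ B, (θ b).1 w = w) {t : Γ}
    (hT : ∀ v, (θ t).1 v = v + (v (.inr 1) • ee 0 + v (.inr 0) • ee 1))
    (hc : ∀ b ∈ B, ∀ b' ∈ B, b * b' = b' * b ∨ b * b' = b' * b * t) :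
    ∀ a ∈ H.Y w, ∀ b ∈ H.Y w, a * b = b * a := by
  intro a ha b hb
  refine (hc a ha.1 b hb.1).resolve_right fun e => ?_
  obtain ⟨x, hx, hx'⟩ : ∃ x : V8, D8.B w x = 0 ∧ x (.inr 1) • ee 0 + x (.inr 0) • ee 1 ≠ 0 := by
    rcases hw with rfl | rfl | rfl | rfl
    · exact absurd rfl h0
    · exact ⟨ff 1, by rw [fPlus_B_inl]; decide, by decide⟩
    · exact ⟨ff 0, by rw [fPlus_B_inl]; decide, by decide⟩
    · exact ⟨ff 0 + ff 1, by rw [Form.B_add_left, fPlus_B_inl, fPlus_B_inl]; decide, by decide⟩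
  have k : ∀ a ∈ H.Y w, ∀ b ∈ H.Y w, (θ (a * b)).1 x = x + ph (θ a) x + ph (θ b) x := fun a ha b hb => by
    rw [map_mul, Form.isom_mul_apply, ph_eq (θ b) x, map_add, ph_eq (θ a) x]
    rcases ext_w hw h0 (hf b hb.1) hb.2 hx with e | e <;> rw [e]
    exacts [by rw [map_zero], by rw [hf a ha.1]]
  have h1 := k a ha b hb
  rw [e, map_mul, Form.isom_mul_apply, add_right_comm, ← k b hb a ha, (θ (b * a)).1.injective.eq_iff, hT,
    add_eq_left] at h1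
  exact hx' h1

theorem CD.false [Finite Γ] {t δ : Γ} (ht : t ∈ B) (hδ : δ ∈ B) (t1 : t ≠ 1) (t2 : t * t = 1) (δ1 : δ ≠ 1) (δt : δ ≠ t)
    (θδ : θ δ = 1) (hT : ∀ v, (θ t).1 v = v + (v (.inr 1) • ee 0 + v (.inr 0) • ee 1))
    (hc : ∀ b ∈ B, ∀ b' ∈ B, b * b' = b' * b ∨ b * b' = b' * b * t)
    (hab : ∀ Y ≤ B, t ∈ Y → (∀ a ∈ Y, ∀ b ∈ Y, a * b = b * a) → Nat.card Y ≤ 32) (hB : 32 < Nat.card B) : False := by
  have tP : ∀ v, PP v → ph (θ t) v = 0 := fun v hv => by rw [ph_zero, hT, hv.1, hv.2]; simp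
  have tY : ∀ w, t ∈ H.Y w := fun w => ⟨ht, fun v hv => Or.inl (tP v hv)⟩
  have main : ∀ b ∈ B, ph (θ b) (ee 2) = 0 := by
    intro b hb
    by_contra h0
    set w := ph (θ b) (ee 2) with hw
    have h1 := hab (H.Y w) (fun a ha => ha.1) (tY w)
      (H.comm (H.h1 b hb _ (by decide)) h0 (H.h2 b hb _ (by decide)) hT hc)
    obtain ⟨b1, m1, v1, -⟩ := H.opB hb ⟨hw.symm, rfl, rfl, rfl⟩
    obtain ⟨b2, m2, v2, s2⟩ := H.opA m1 v1
    obtain ⟨b3, m3, v3, s3⟩ := H.opD m2 v2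
    obtain ⟨b4, m4, v4, s4⟩ := H.opC m2 v2
    obtain ⟨b5, m5, v5, s5⟩ := H.opC m3 v3
    have c0 : Nat.card (zpowers t) = 2 := Cfsg.Lib.Known2.card_zpowers_invol t2 t1
    have dP : ∀ v, ph (θ δ) v = 0 := fun v => by rw [θδ, ph_zero]; rfl
    have c1 := dbl (S := zpowers t) (T := H.Y w ⊓ Fx θ (ee 2) ⊓ Fx θ (ee 3) ⊓ Fx θ (ff 2) ⊓ Fx θ (ff 3))
      (zpowers_le.2 ⟨⟨⟨⟨tY w, tP _ (by decide)⟩, tP _ (by decide)⟩, tP _ (by decide)⟩, tP _ (by decide)⟩) (v := δ)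
      ⟨⟨⟨⟨⟨hδ, fun v _ => Or.inl (dP v)⟩, dP _⟩, dP _⟩, dP _⟩, dP _⟩
      (fun h => ((Cfsg.Lib.Known2.mem_zpowers_invol t2).1 h).elim δ1 δt)
    have c2 := dbl (S := H.Y w ⊓ Fx θ (ee 2) ⊓ Fx θ (ee 3) ⊓ Fx θ (ff 2) ⊓ Fx θ (ff 3)) inf_le_left (v := b4)
      ⟨⟨⟨H.pure1 m4 s4, v4.1⟩, v4.2.1⟩, v4.2.2.1⟩ (fun h => h0 (v4.2.2.2.symm.trans h.2))
    have c3 := dbl (S := H.Y w ⊓ Fx θ (ee 2) ⊓ Fx θ (ee 3) ⊓ Fx θ (ff 2)) inf_le_left (v := b2)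
      ⟨⟨H.pure2 m2 s2, v2.1⟩, v2.2.1⟩ (fun h => h0 (v2.2.2.1.symm.trans h.2))
    have c4 := dbl (S := H.Y w ⊓ Fx θ (ee 2) ⊓ Fx θ (ee 3)) inf_le_left (v := b3)
      ⟨H.pure1 m3 s3, v3.1⟩ (fun h => h0 (v3.2.1.symm.trans h.2))
    have c5 := dbl (S := H.Y w ⊓ Fx θ (ee 2)) inf_le_left (v := b5)
      (H.pure2 m5 s5) (fun h => h0 (v5.1.symm.trans h.2))
    omega
  have m3 : ∀ b ∈ B, ph (θ b) (ee 3) = 0 := fun b hb => by
    obtain ⟨b1, m1, v1, -⟩ := H.opC hb ⟨rfl, rfl, rfl, rfl⟩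
    exact v1.1.symm.trans (main b1 m1)
  have m4 : ∀ b ∈ B, ph (θ b) (ff 3) = 0 := fun b hb => by
    obtain ⟨b1, m1, v1, -⟩ := H.opD hb ⟨rfl, rfl, rfl, rfl⟩
    exact v1.1.symm.trans (main b1 m1)
  have m5 : ∀ b ∈ B, ph (θ b) (ff 2) = 0 := fun b hb => by
    obtain ⟨b1, m1, v1, -⟩ := H.opD hb ⟨rfl, rfl, rfl, rfl⟩
    exact v1.2.1.symm.trans (m3 b1 m1)
  have hle : B ≤ H.Y (ee 0) := fun b hb => ⟨hb, fun v hv => by
    rw [pp_dec v hv]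
    simp only [ph_add, ph_smul, main b hb, m3 b hb, m4 b hb, m5 b hb, ph_zero.2 (H.h0 b hb), smul_zero, add_zero, zero_add]
    have e1 := ph_eq (θ b) (ee 1)
    rcases H.h1 b hb (ee 1) (by decide) with e | e | e | e <;> rw [e] at e1 ⊢
    · simp
    · rcases z2 (v (.inl 1)) with e | e <;> simp [e]
    · rw [a2, LinearEquiv.map_eq_zero_iff] at e1
      exact absurd e1 (by decide)
    · rw [add_comm (ee 0), ← add_assoc, a2, zero_add, ← H.h0 b hb, (θ b).1.injective.eq_iff] at e1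
      exact absurd e1 (by decide)⟩
  have h1 := hab (H.Y (ee 0)) (fun a ha => ha.1) (tY _) (H.comm (Or.inr (Or.inl rfl)) (by decide) H.h0 hT hc)
  have := card_le_of_le hle
  omega

end Cfsg.Lib.Small.CoW
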