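import Cfsg.Agent.Lib.Small.CoW1
import Cfsg.Agent.Lib.Small.CoW2
import Cfsg.Agent.Lib.Known2.LE3

/-! In a group with involution centraliser `2^{1+8}.Ω₈⁺(2)` a non-isolated `z` is not weakly closed in `Q`. -/

set_option autoImplicit false

namespace Cfsg.Lib.Small.CoW

open Cfsg.Lib.Forms Subgroup Cfsg.Lib.Small.Co1Z Cfsg.Agent.S5405 Cfsg.Lib.Small.CoT Cfsg.Lib.Known2 Cfsg.Lib.Amalg
open scoped commutatorElement

variable {G : Type*} [Group G] {Q : Subgroup G} {z : G} {ν : G → V8} {a : G → D8.isom}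

section
variable (F : FG Q z ν a)
include F

theorem twist (g : D8.isom) : FG Q z (fun x => g.1 (ν x)) (fun c => g * a c * g⁻¹) where
  toXT := F.toXT
  add x hx y hy := by rw [F.add x hx y hy, map_add]
  zero x hx := by rw [LinearEquiv.map_eq_zero_iff, F.zero x hx]
  surj v := by
    obtain ⟨w, rfl⟩ := g.1.surjective v
    obtain ⟨x, hx, rfl⟩ := F.surj w
    exact ⟨x, hx, rfl⟩
  sq' x hx := by rw [Form.Q_isom, F.sq' x hx]
  comm' x hx y hy := by rw [Form.B_isom, F.comm' x hx y hy]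
  act c hc x hx := by
    rw [F.act c hc x hx, Form.isom_mul_apply, ← Form.isom_mul_apply g⁻¹, inv_mul_cancel]; rfl
  rng k hk := by
    obtain ⟨c, hc, e⟩ := F.rng (g⁻¹ * k * g⁻¹⁻¹) (Normal.conj_mem inferInstance k hk g⁻¹)
    exact ⟨c, hc, by rw [e]; group⟩
  mem_rng c hc := Normal.conj_mem inferInstance _ (F.mem_rng c hc) g

theorem a_ext {g g' : D8.isom} (h : ∀ x ∈ Q, g.1 (ν x) = g'.1 (ν x)) : g = g' :=
  Subtype.ext (LinearEquiv.ext fun v => by obtain ⟨x, hx, rfl⟩ := F.surj v; exact h x hx)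

theorem a_mul {c d : G} (hc : c * z = z * c) (hd : d * z = z * d) : a (c * d) = a c * a d :=
  a_ext F fun x hx => by
    rw [Form.isom_mul_apply, ← F.act d hd x hx, ← F.act c hc _ (F.norm d hd x hx),
      ← F.act _ (Commute.mul_left hc hd) x hx]
    congr 1; group

theorem a_Q {c : G} (hc : c ∈ Q) : a c = 1 := a_ext F fun x hx => by
  rw [← F.act c (F.cen c hc) x hx]
  rcases F.conj_eq hc hx with e | e <;> rw [e]
  exacts [rfl, F.nu_z hx]

theorem mem_of_a [Finite G] {c : G} (hc : c * z = z * c) (h : a c = 1) : c ∈ Q :=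
  F.mem_of_inner hc fun x hx => F.nu_eq (F.norm c hc x hx) hx (by rw [F.act c hc x hx, h]; rfl)

theorem ph_nu {c x : G} (hc : c * z = z * c) (hx : x ∈ Q) : ph (a c) (ν x) = ν ⁅c, x⁆ := by
  have h1 : c * x * c⁻¹ = ⁅c, x⁆ * x := by simp [commutatorElement_def]
  rw [ph, ← F.act c hc x hx, h1, F.add _ (F.toLS.cm_mem hc hx) x hx, add_assoc, a2, add_zero]

/-- the action as a homomorphism -/
def th : centralizer ({z} : Set G) →* D8.isom :=
  MonoidHom.mk' (fun c => a c) fun c d => a_mul F (mem_cent_single.1 c.2) (mem_cent_single.1 d.2)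

end

variable [Finite G] {X : Set G} {E : G → Subgroup G} {t δ : G} (W : W0 X E) (p : Pa X z t)
include W p

theorem notD (hx : XT (E z) z) : E z ⊓ E t = ⊥ := by
  by_contra h0
  obtain ⟨⟨δ, h1, h2⟩, h3'⟩ := ne_bot_iff_exists_ne_one.1 h0
  have h3 : δ ≠ 1 := fun e => h3' (Subtype.ext e)
  have h := W.ls z p.hz
  have h' := W.ls t p.ht
  have α : ∀ y ∈ E z, ⁅t, y⁆ ≠ z := fun y hy e => h0 (W.beta1 p hy e)
  have α' : ∀ y ∈ E t, ⁅z, y⁆ ≠ t := fun y hy e => h0 (inf_comm (E t) _ ▸ W.beta1 p.symm hy e)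
  have δz : δ ≠ z := fun e => W.nm p.symm (e ▸ h2)
  obtain ⟨y, hy, h4⟩ := h.toES.exists_anti h1 h3 δz
  have hφ := h.cm_mem p.c hy
  have k1 : ∀ x ∈ E z, Commute δ x → (Commute t x ↔ Commute ⁅t, y⁆ x) := fun x hx e => by
    rw [h.dual p.c hy hx, inv_eq_of_mul_eq_one_left h'.sq]
    refine ⟨fun e' => by rw [cm_one.2 e']; exact Commute.one_right _, fun e' => ?_⟩
    rcases W.M2 p h1 h2 h3 hx e (W.sqa p α hx).2 (α x hx) with e1 | e1
    · exact cm_one.1 e1
    · rw [e1] at e'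
      exact absurd (show Commute δ y by simpa [mul_assoc, h.sq] using (e'.mul_right (h.cen y hy)).symm) h4
  obtain ⟨e, he, he'⟩ := W.L p α h1 h2 h3
  have eδ : Commute δ e := by
    have := (h.cm_sq p.c he).2 (W.sqa p α he).1
    rw [he'] at this
    simpa [mul_assoc, h.sq] using (this.symm.mul_right (h.cen e he)).symm
  have eφ : ¬ Commute ⁅t, y⁆ e := fun c => by
    rw [cm_one.2 ((k1 e he eδ).2 c), eq_comm, mul_eq_one_iff_eq_inv, h.toES.inv_z] at he'
    exact δz he'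
  obtain ⟨ν, a, F, n0, n1⟩ : ∃ ν a, FG (E z) z ν a ∧ ν δ = ee 0 ∧ ν ⁅t, y⁆ = ee 1 := by
    obtain ⟨M, hP, hM⟩ := hx.exists_M h1 h3 δz (W.sq1 p h1 h2) (v := ee 0) (by decide)
      (by show quadFormPlus 4 (ZMod 2) _ = 0; decide)
    obtain ⟨ν, a, F, n0⟩ : ∃ ν a, FG (E z) z ν a ∧ ν δ = ee 0 := ⟨_, _, hx.fg M hP, (dif_pos h1).trans hM⟩
    obtain ⟨g, g1, g2⟩ := (fPlus_nondeg (F := ZMod 2) 4).exists_fix_map_top (ZMod 2 ∙ ee 0) (a := ν ⁅t, y⁆) (b := ee 1)
      (fun m => by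
        obtain ⟨c, hc⟩ := Submodule.mem_span_singleton.1 m
        refine eφ ((F.comm' _ hφ e he).2 ?_)
        rw [← hc, ← n0, Form.B_smul_left, (F.comm' δ h1 e he).1 eδ, mul_zero])
      (fun m => by
        obtain ⟨c, hc⟩ := Submodule.mem_span_singleton.1 m
        revert c; decide)
      (fun v m => by
        obtain ⟨c, rfl⟩ := Submodule.mem_span_singleton.1 m
        rw [Form.B_smul_left, Form.B_smul_left, fPlus_B_inl (y := ee 1), ← n0,
          (F.comm' δ h1 _ hφ).1 (W.cen p h1 h2 hφ (W.sqa p α hy).2)]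
        rfl)
      (by rw [(F.sq' _ hφ).1 (W.sqa p α hy).1]; symm; show quadFormPlus 4 (ZMod 2) _ = 0; decide)
    exact ⟨_, _, twist F g, by rw [n0]; exact g1 _ (Submodule.mem_span_singleton_self _), g2⟩
  have c0 : ∀ x ∈ E z, Commute δ x ↔ ν x (.inr 0) = 0 := fun x hx => by
    refine (F.comm' δ h1 x hx).trans ?_
    rw [n0, fPlus_B_inl]
  have c1 : ∀ x ∈ E z, Commute ⁅t, y⁆ x ↔ ν x (.inr 1) = 0 := fun x hx => by
    refine (F.comm' _ hφ x hx).trans ?_
    rw [n1, fPlus_B_inl]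
  have cP : ∀ x ∈ E z, Commute t x ↔ PP (ν x) := fun x hx =>
    ⟨fun c => ⟨(c0 x hx).1 (W.cen p h1 h2 hx c), (c1 x hx).1 ((k1 x hx (W.cen p h1 h2 hx c)).1 c)⟩,
      fun c => (k1 x hx ((c0 x hx).2 c.1)).2 ((c1 x hx).2 c.2)⟩
  have T0 : ∀ x ∈ E z, Commute δ x → ph (a t) (ν x) = ν x (.inr 1) • ee 0 + ν x (.inr 0) • ee 1 := fun x hx c => by
    rw [ph_nu F p.c hx, (c0 x hx).1 c, zero_smul, add_zero]
    rcases W.M2 p h1 h2 h3 hx c (W.sqa p α hx).2 (α x hx) with e1 | e1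
    · rw [e1, (F.zero 1 (one_mem _)).2 (Or.inl rfl), ((cP x hx).1 (cm_one.1 e1)).2, zero_smul]
    · rw [e1, F.nu_z h1, n0, (z2 (ν x (.inr 1))).resolve_left fun e2 => ?_, one_smul]
      rw [cm_one.2 ((k1 x hx c).2 ((c1 x hx).2 e2)), eq_comm, mul_eq_one_iff_eq_inv, h.toES.inv_z] at e1
      exact δz e1
  have T1 : ∀ v, ph (a t) v = v (.inr 1) • ee 0 + v (.inr 0) • ee 1 := fun v => by
    obtain ⟨x, hx, rfl⟩ := F.surj v
    by_cases c : Commute δ x
    · exact T0 x hx c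
    have h6 := mul_mem (inv_mem hy) hx
    have y0 : ν y (.inr 0) = 1 := (z2 _).resolve_left fun e2 => h4 ((c0 y hy).2 e2)
    have y1 : ν y (.inr 1) = 0 := (c1 y hy).1 ((h.cm_sq p.c hy).2 (W.sqa p α hy).1)
    rw [← mul_inv_cancel_left y x, F.add y hy _ h6, ph_add, ph_nu F p.c hy, n1,
      T0 _ h6 ((h.cmul h1 (inv_mem hy) hx).2 (iff_of_false (fun e => h4 (Commute.inv_right_iff.1 e)) c)),
      Pi.add_apply, Pi.add_apply, y0, y1]
    module
  have hT : ∀ v, (a t).1 v = v + (v (.inr 1) • ee 0 + v (.inr 0) • ee 1) := fun v => by rw [ph_eq, T1]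
  have fixD : ∀ d ∈ E z ⊓ E t, ∀ b : centralizer ({z} : Set G), b.1 ∈ E t → (a b).1 (ν d) = ν d := fun d hd b hb => by
    rw [← F.act _ (mem_cent_single.1 b.2) d hd.1,
      conj_eq_of_comm (W.cen p.symm hd.2 hd.1 hb (mem_cent_single.1 b.2).symm).symm.eq]
  have inD : ∀ b : centralizer ({z} : Set G), b.1 ∈ E t → ∀ v, PP v → ∃ d ∈ E z ⊓ E t, ph (a b) v = ν d := fun b hb v hv => by
    obtain ⟨x, hx, rfl⟩ := F.surj v
    exact ⟨_, W.cm_inf p hx ((cP x hx).2 hv) hb (mem_cent_single.1 b.2), ph_nu F (mem_cent_single.1 b.2) hx⟩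
  have H : CD (th F) ((E t).subgroupOf (centralizer {z})) :=
    { h0 := fun b hb => n0 ▸ fixD δ ⟨h1, h2⟩ b hb
      h1 := fun b hb v hv => by
        obtain ⟨d, hd, e1⟩ := inD b hb v hv
        show WW (ph (a b) v)
        rw [e1]
        by_cases d1 : d = 1
        · exact Or.inl ((F.zero d hd.1).2 (Or.inl d1))
        obtain ⟨x, hx, e2⟩ := W.L p α hd.1 hd.2 d1
        rw [← F.nu_z hd.1, ← e2, ← ph_nu F p.c hx, T1]
        generalize ν x (.inr 1) = c
        generalize ν x (.inr 0) = c'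
        revert c c'; decide
      h2 := fun b hb v hv b' hb' => by
        obtain ⟨d, hd, e1⟩ := inD b hb v hv
        show (a b').1 (ph (a b) v) = ph (a b) v
        rw [e1]; exact fixD d hd b' hb'
      h3 := fun ρ hρ r0 r1 b hb => by
        obtain ⟨c, cz, hc⟩ := F.rng _ (inv_mem hρ)
        have cz' : c⁻¹ * z = z * c⁻¹ := Commute.inv_left cz
        have hc' : a c⁻¹ = ρ := by
          have := a_mul F cz cz'
          rw [mul_inv_cancel, a_Q F (one_mem _), hc, eq_comm, inv_mul_eq_one] at this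
          exact this.symm
        have r2 : ∀ v, ρ.1 v (.inr 0) = v (.inr 0) ∧ ρ.1 v (.inr 1) = v (.inr 1) := fun v => by
          constructor
          · rw [← fPlus_B_inl 0 (ρ.1 v), ← fPlus_B_inl 0 v, ← D8.B_isom ρ _ v]; exact congrArg (D8.B · _) r0.symm
          · rw [← fPlus_B_inl 1 (ρ.1 v), ← fPlus_B_inl 1 v, ← D8.B_isom ρ _ v]; exact congrArg (D8.B · _) r1.symm
        have r3 : a t * ρ = ρ * a t := Subtype.ext (LinearEquiv.ext fun v => by
          show (a t).1 (ρ.1 v) = ρ.1 ((a t).1 v)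
          rw [hT, hT, (r2 v).1, (r2 v).2, map_add, map_add, map_smul, map_smul, r0, r1])
        have tz : c * t * c⁻¹ * z = z * (c * t * c⁻¹) := (Commute.mul_left (Commute.mul_left cz p.c) cz').eq
        have hq : t * (c * t * c⁻¹) ∈ E z := mem_of_a F (Commute.mul_left p.c tz) (by
          rw [a_mul F p.c tz, a_mul F (Commute.mul_left cz p.c) cz', a_mul F cz p.c, hc, hc', mul_assoc, r3,
            inv_mul_cancel_left, ← a_mul F p.c p.c, h'.sq, a_Q F (one_mem _)])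
        obtain ⟨x, hx, e1 | e1⟩ := h.perp h'.sq p.c hq fun y hy e => by
          have c2 := cm_one.1 (e.resolve_right (α y hy))
          refine c2.mul_left ?_
          have m := h.norm _ cz' y hy
          have c3 := (cP _ m).2 (by
            rw [F.act _ cz' y hy, hc']
            exact ⟨(r2 _).1.trans ((cP y hy).1 c2).1, (r2 _).2.trans ((cP y hy).1 c2).2⟩)
          simpa [mul_assoc] using c3.conj c
        · have e2 : x⁻¹ * c * t = t * (x⁻¹ * c) := by
            have : c * t * c⁻¹ = x * t * x⁻¹ := by rw [cm_conj h'.sq x, ← e1, ← mul_assoc, h'.sq, one_mul]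
            calc _ = x⁻¹ * (c * t * c⁻¹) * c := by group
              _ = _ := by rw [this]; group
          have xz : x⁻¹ * c * z = z * (x⁻¹ * c) := Commute.mul_left (h.cen _ (inv_mem hx)) cz
          let c' : centralizer ({z} : Set G) := ⟨x⁻¹ * c, mem_cent_single.2 xz⟩
          have e3 : th F c' = ρ⁻¹ := by
            show a (x⁻¹ * c) = _
            rw [a_mul F (h.cen _ (inv_mem hx)) cz, a_Q F (inv_mem hx), one_mul, hc]
          exact ⟨c' * b * c'⁻¹, h'.norm _ e2 _ hb, by rw [map_mul, map_mul, map_inv, e3, inv_inv]⟩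
        · exfalso
          have m1 : t * z ∈ X := by
            have : t * z = x⁻¹ * (c * t * c⁻¹) * x⁻¹⁻¹ := by
              rw [← inv_mul_cancel_left t (c * t * c⁻¹), e1, inv_eq_of_mul_eq_one_left h'.sq, ← mul_assoc t,
                ← cm_conj h'.sq, mul_assoc (x⁻¹), mul_assoc _ z, inv_inv, ← h.cen x hx]
              group
            rw [this]; exact W.conj _ (W.conj t p.ht c) _
          have m2 := W.conj _ m1 e
          rw [show e * (t * z) * e⁻¹ = e * t * e⁻¹ * (e * z * e⁻¹) by group, conj_eq_of_comm (h.cen e he),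
            cm_conj h'.sq, he', mul_assoc, mul_assoc, h.sq, mul_one] at m2
          exact h3 (mul_eq_left.1 (W.wc t p.ht _ m2 (mul_mem h'.mem h2))) }
  refine H.false (t := ⟨t, mem_cent_single.2 p.c⟩) (δ := ⟨δ, mem_cent_single.2 (h.cen δ h1)⟩) h'.mem h2
    (fun e => h'.ne (congrArg Subtype.val e)) (Subtype.ext h'.sq) (fun e => h3 (congrArg Subtype.val e))
    (fun e => W.nm p ((show δ = t from congrArg Subtype.val e) ▸ h1)) (a_Q F h1) hT
    (fun b hb b' hb' => (h'.comm _ hb _ hb').imp Subtype.ext Subtype.ext) (fun Y hY ht hab => ?_) ?_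
  · rw [← card_subtype]
    refine h'.ab32 (W.card t p.ht) ?_ ⟨_, ht, rfl⟩ ?_
    · rintro _ ⟨b, hb, rfl⟩; exact hY hb
    · rintro _ ⟨b, hb, rfl⟩ _ ⟨b', hb', rfl⟩; exact congrArg Subtype.val (hab b hb b' hb')
  · rw [← card_subtype, subgroupOf_map_subtype]
    have := W.four p.symm α' h2 h1 h3
    omega

omit W p in
theorem nwc (hx : XT (pCoreOf 2 (centralizer ({z} : Set G))) z) {g : G} (hc : Commute z (g * z * g⁻¹))
    (hne : g * z * g⁻¹ ≠ z) : ∃ g : G, g * z * g⁻¹ ∈ pCoreOf 2 (centralizer ({z} : Set G)) ∧ g * z * g⁻¹ ≠ z := by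
  by_contra! hn
  have W : W0 {t | ∃ g, g * z * g⁻¹ = t} fun t => pCoreOf 2 (centralizer {t}) :=
    { ls := by rintro _ ⟨k, rfl⟩; rw [← cj_Qc]; exact hx.toLS.conj k
      conj := by rintro _ ⟨k, rfl⟩ l; exact ⟨l * k, by group⟩
      cE := fun t _ k => (cj_Qc k t).symm
      wc := by
        rintro _ ⟨k, rfl⟩ _ ⟨l, rfl⟩ h
        rw [← cj_Qc, mem_cj] at h
        have := hn (k⁻¹ * l) (by convert h using 1; group)
        calc l * z * l⁻¹ = k * (k⁻¹ * l * z * (k⁻¹ * l)⁻¹) * k⁻¹ := by group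
          _ = _ := by rw [this]
      card := by rintro _ ⟨k, rfl⟩; rw [← cj_Qc, card_cj, hx.card]; rfl }
  refine W.allbot (z := z) ⟨⟨1, by group⟩, ⟨g, rfl⟩, hne, hc.symm⟩ ?_
  rintro _ t ⟨⟨k, rfl⟩, ht, h1, h2⟩
  have := notD W (z := z) (t := k⁻¹ * t * k⁻¹⁻¹) ⟨⟨1, by group⟩, W.conj t ht _, fun e => h1 (by rw [← e]; group),
    by simpa [mul_assoc] using h2.conj k⁻¹⟩ hx
  rw [← cj_eq_bot_iff (g := k), cj_inf, cj_Qc, cj_Qc] at this
  convert this using 5
  group

end Cfsg.Lib.Small.CoW
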