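import Cfsg.Agent.Lib.Small.CoW3
import Cfsg.Agent.Lib.Small.CoT4
import Cfsg.Agent.Lib.Block.ZStar
import Cfsg.Agent.Lib.Core.UpperP

/-! From the 2-constrained hypothesis to the large extraspecial hypothesis. -/

set_option autoImplicit false

namespace Cfsg.Lib.Small.CoW

open Cfsg.Lib.Forms Subgroup Cfsg.Lib.Small.Co1Z Cfsg.Lib.Small.CoT Cfsg.Lib.Known2 Cfsg.Lib.Core

theorem pCore_om : pCore 2 (commutator D8.isom) = ⊥ := by
  have := Module.finite_of_finite (ZMod 2) (M := V8)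
  have := Form.finite_isom (D := D8)
  refine (Cfsg.Agent.S5388.simple8 _ inferInstance).resolve_right fun h => ?_
  have := Fact.mk Nat.prime_two
  obtain ⟨n, h1⟩ := IsPGroup.iff_card.1 (isPGroup_pCore 2 (commutator D8.isom))
  rw [h, card_top, card_om8] at h1
  have : 3 ∣ 2 ^ n := h1 ▸ by norm_num
  exact absurd (Nat.prime_three.dvd_of_dvd_pow this) (by norm_num)

theorem fstar_of_con {C : Type*} [Group C] [Finite C] (hcon : IsPConstrained 2 C)
    (e : C ⧸ pCore 2 C ≃* commutator D8.isom) : generalizedFittingSubgroup C = pCore 2 C := by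
  have := Fact.mk Nat.prime_two
  have hO : pPrimeCore 2 C = ⊥ := by
    let f : C →* commutator D8.isom := e.toMonoidHom.comp (QuotientGroup.mk' _)
    have hf : Function.Surjective f := e.surjective.comp (QuotientGroup.mk'_surjective _)
    have h2 := not_dvd_card_pPrimeCore (G := C) Nat.prime_two
    rcases Cfsg.Agent.S5388.simple8 ((pPrimeCore 2 C).map f) (Normal.map inferInstance f hf) with h | h
    · have hle : pPrimeCore 2 C ≤ pCore 2 C := fun x hx => by
        have : f x = 1 := (Subgroup.map_eq_bot_iff _).1 h hx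
        exact (QuotientGroup.eq_one_iff x).1 ((map_eq_one_iff _ e.injective).1 this)
      obtain ⟨n, hn⟩ := IsPGroup.iff_card.1 ((isPGroup_pCore 2 C).to_le hle)
      rcases n with _ | n
      · exact card_eq_one.1 hn
      · exact absurd (hn ▸ dvd_pow_self 2 n.succ_ne_zero) h2
    · have h1 := card_map_dvd (pPrimeCore 2 C) f
      rw [h, card_top, card_om8] at h1
      exact absurd (dvd_trans (by norm_num) h1) h2
  exact Cfsg.Lib.Leech.fstar_eq_of e pCore_om (isPGroup_pCore 2 C)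
    ((isPConstrained_iff_of_pPrimeCore_eq_bot hO).1 hcon)

theorem nwc' {G : Type*} [Group G] [Finite G] {z : G} (hz : orderOf z = 2)
    (hF : generalizedFittingSubgroup (centralizer ({z} : Set G)) = pCore 2 (centralizer ({z} : Set G)))
    (hQ : IsExtraspecial 2 (pCore 2 (centralizer ({z} : Set G))))
    (hcard : Nat.card (pCore 2 (centralizer ({z} : Set G))) = 2 ^ 9)
    (e : (centralizer ({z} : Set G)) ⧸ pCore 2 (centralizer ({z} : Set G)) ≃* commutator D8.isom)
    (hi : ¬ IsIsolatedInvolution z) :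
    ∃ g : G, (∃ hq : g * z * g⁻¹ ∈ centralizer ({z} : Set G),
      (⟨g * z * g⁻¹, hq⟩ : centralizer ({z} : Set G)) ∈ pCore 2 (centralizer ({z} : Set G))) ∧ g * z * g⁻¹ ≠ z := by
  obtain ⟨g, h1, h2⟩ : ∃ g : G, Commute z (g * z * g⁻¹) ∧ g * z * g⁻¹ ≠ z := by
    by_contra! h
    exact hi ⟨hz, h⟩
  obtain ⟨k, ⟨x, hx, e1⟩, h3⟩ := nwc (XT.of hz hF hQ hcard e) h1 h2
  exact ⟨k, ⟨e1 ▸ x.2, by rw [show (⟨k * z * k⁻¹, e1 ▸ x.2⟩ : centralizer ({z} : Set G)) = x from Subtype.ext e1.symm]; exact hx⟩, h3⟩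

end Cfsg.Lib.Small.CoW
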