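import Cfsg.Agent.Lib.Forms.Omega
import Cfsg.Agent.Lib.Forms.Bridge
import Cfsg.Agent.Lib.Layer.FStar
import Cfsg.Agent.Lib.Core.UpperP
import Cfsg.Agent.Lib.Block.ZStar

/-! Glue for the recognition of `Co₁` from an involution centraliser. -/

set_option autoImplicit false

namespace Cfsg.Lib.Small.CoX

open Cfsg.Lib.Forms Subgroup Cfsg.Lib.Core Module

theorem om_normal (N : Subgroup (commutator (fPlus (ZMod 2) 4).isom)) [hN : N.Normal]
    (h : ¬ 2 ∣ Nat.card N) : N = ⊥ := by
  classical
  have hD := fPlus_nondeg (F := ZMod 2) 4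
  have hn : 5 ≤ finrank (ZMod 2) (Fin 4 ⊕ Fin 4 → ZMod 2) := by rw [finrank_plus]; norm_num
  have hG : (fPlus (ZMod 2) 4).Good := Form.good_of_finrank (by omega)
  rcases (hD.omega_normal_and_simple hn).1 N hN with h1 | h1
  · have := hD.card_center_omega hG (by omega)
    rw [if_neg fun h => h.1 rfl, card_eq_one] at this
    exact eq_bot_iff.2 (this ▸ h1)
  · have h1' := Quad.card_isom_plus hD (m := 3) (finrank_plus 4) (fPlus_hasTS 4)
    have h2 := hD.index_commutator_even hG rfl (by omega)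
    have h3 := (commutator (fPlus (ZMod 2) 4).isom).card_mul_index
    rw [h2, h1', Nat.card_zmod] at h3
    norm_num [Finset.prod_range_succ] at h3
    rw [h1, card_top] at h
    omega

theorem fstar {C : Type*} [Group C] [Finite C] (hc : IsPConstrained 2 C)
    (e : C ⧸ pCore 2 C ≃* Omega (ZMod 2) (quadFormPlus 4 (ZMod 2))) :
    generalizedFittingSubgroup C = pCore 2 C := by
  have : Fact (Nat.Prime 2) := ⟨Nat.prime_two⟩
  refine Layer.fstar_eq_pCore_iff.2 ((isPConstrained_iff_of_pPrimeCore_eq_bot ?_).1 hc)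
  let f := e.trans (omegaIso (fPlus (ZMod 2) 4) fPlus_Q)
  let π := f.toMonoidHom.comp (QuotientGroup.mk' (pCore 2 C))
  have hπ : Function.Surjective π := f.surjective.comp (QuotientGroup.mk'_surjective _)
  have := (inferInstance : (pPrimeCore 2 C).Normal).map π hπ
  have h1 := om_normal ((pPrimeCore 2 C).map π) fun h =>
    absurd ((coprime_card_pPrimeCore 2 C).coprime_dvd_left (h.trans (card_map_dvd _ π))) (by norm_num)
  rw [← pCore_inf_pPrimeCore (G := C) Nat.prime_two]
  refine le_antisymm (fun x hx => ⟨?_, hx⟩) inf_le_right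
  have : π x = 1 := mem_bot.1 (h1 ▸ mem_map_of_mem π hx)
  exact (QuotientGroup.eq_one_iff x).1 ((map_eq_one_iff _ f.injective).1 this)

theorem exists_comm {G : Type*} [Group G] [Finite G] (hO : oddCore G = ⊥) (hZ : center G = ⊥) {t : G}
    (ht : orderOf t = 2) : ∃ g : G, t * (g * t * g⁻¹) = g * t * g⁻¹ * t ∧ g * t * g⁻¹ ≠ t := by
  by_contra h
  push Not at h
  have := Block.z_star_center hO ⟨ht, h⟩
  rw [hZ, mem_bot] at this
  simp [this] at ht

end Cfsg.Lib.Small.CoX
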