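import Cfsg.Agent.Lib.Small.Lagrange
import Cfsg.Agent.Lib.Block2.PMod
import Cfsg.Agent.Lib.Block.GroupAlg
import Mathlib.RingTheory.SimpleModule.IsAlgClosed
import Mathlib.RingTheory.Artinian.Module
import Mathlib.RingTheory.Valuation.ValuationSubring
import Mathlib.LinearAlgebra.Matrix.Rank
import Mathlib.Algebra.Polynomial.Div
import Mathlib.Algebra.Polynomial.Derivative
import Mathlib.Algebra.CharP.Algebra
import Mathlib.LinearAlgebra.Eigenspace.Triangularizable

/-!
# Cyclic defect groups: algebraic preliminaries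
-/

set_option autoImplicit false

namespace Cfsg.Lib.Small

open Module Polynomial Cfsg.Lib.Block

section loc

variable {κ A V : Type*} [Field κ] [Ring A] [Algebra κ A] [AddCommGroup V] [Module κ V]

/-- an element which is a primitive idempotent modulo the radical and has a fixed vector -/
theorem exists_loc [IsAlgClosed κ] [FiniteDimensional κ A] (φ : A →ₐ[κ] End κ V) [Nontrivial V] :
    ∃ i : A, (∃ x, x ≠ 0 ∧ φ i x = x) ∧ ∀ a, ∃ l : κ, IsNilpotent (i * a * i - l • i) := by
  classical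
  haveI : IsArtinianRing A := IsArtinianRing.of_finite κ A
  let J := Ring.jacobson A
  obtain ⟨N, hN⟩ : IsNilpotent J := IsSemiprimaryRing.isNilpotent
  have hnil : ∀ j ∈ J, IsNilpotent j := fun j hj =>
    ⟨N, by have := Ideal.pow_mem_pow hj N; rwa [hN] at this⟩
  obtain ⟨n, d, hd, ⟨e⟩⟩ := IsSemisimpleRing.exists_algEquiv_pi_matrix_of_isAlgClosed κ (A ⧸ J)
  let π : A →ₐ[κ] Π i, Matrix (Fin (d i)) (Fin (d i)) κ := e.toAlgHom.comp (Ideal.Quotient.mkₐ κ J)
  have hs : Function.Surjective π := e.surjective.comp Ideal.Quotient.mk_surjective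
  have hk : ∀ a b, π a = π b → a - b ∈ J := fun a b h => Ideal.Quotient.eq.1 (e.injective h)
  obtain ⟨x, hx0, hx⟩ : ∃ x : V, x ≠ 0 ∧ ∀ j ∈ J, φ j x = 0 := by
    have hex : ∃ k, ∀ a ∈ J ^ k, φ a = 0 := ⟨N, fun a ha => by
      rw [hN] at ha; rw [(Submodule.mem_bot _).1 ha, map_zero]⟩
    have h0 : Nat.find hex ≠ 0 := fun h => by
      have := Nat.find_spec hex 1 (by rw [h, Submodule.pow_zero, Ideal.one_eq_top]; trivial)
      rw [map_one] at this
      exact one_ne_zero this
    obtain ⟨k, hk⟩ := Nat.exists_eq_succ_of_ne_zero h0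
    have h1 := Nat.find_min hex (m := k) (by omega)
    push Not at h1
    obtain ⟨a, ha, h2⟩ := h1
    obtain ⟨v, hv⟩ := DFunLike.ne_iff.1 h2
    refine ⟨φ a v, hv, fun j hj => ?_⟩
    rw [← Module.End.mul_apply, ← map_mul, Nat.find_spec hex (j * a), LinearMap.zero_apply]
    rw [hk, Nat.succ_eq_add_one, Ideal.IsTwoSided.pow_succ]
    exact Ideal.mul_mem_mul hj ha
  choose i hi using fun s : Σ s, Fin (d s) => hs (Pi.single s.1 (Matrix.single s.2 s.2 1))
  have h1 : π (∑ s, i s) = π 1 := by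
    rw [map_sum, map_one, Fintype.sum_sigma]
    have : ∀ s, ∑ j : Fin (d s), π (i ⟨s, j⟩) = Pi.single s 1 := fun s => by
      simp only [hi]
      rw [← Matrix.sum_single_one]
      exact (map_sum (AddMonoidHom.single (fun s => Matrix (Fin (d s)) (Fin (d s)) κ) s) _ _).symm
    simp only [this]
    exact Finset.univ_sum_single 1
  have h2 : ∑ s, φ (i s) x = x := by
    have := hx _ (hk _ _ h1)
    rwa [map_sub, map_one, map_sum, LinearMap.sub_apply, sub_eq_zero, LinearMap.sum_apply] at this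
  obtain ⟨s, -, hs0⟩ := Finset.exists_ne_zero_of_sum_ne_zero (h2 ▸ hx0)
  refine ⟨i s, ⟨_, hs0, ?_⟩, fun a => ⟨π a s.1 s.2 s.2, hnil _ (hk _ _ ?_)⟩⟩
  · have := hx _ (hk (i s * i s) (i s) (by
      rw [map_mul, hi, ← Pi.single_mul, Matrix.single_mul_single_same, mul_one]))
    rwa [map_sub, map_mul, LinearMap.sub_apply, sub_eq_zero] at this
  · rw [map_mul, map_mul, map_smul, hi, ← Pi.single_mul_left, ← Pi.single_mul, ← Pi.single_smul,
      Matrix.single_mul_mul_single, Matrix.smul_single, one_mul]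
    rfl

/-- the endomorphisms of a module generated by a fixed vector of such an element -/
theorem local_of_loc (φ : A →ₐ[κ] End κ V) {i : A}
    (hi : ∀ a, ∃ l : κ, IsNilpotent (i * a * i - l • i)) {v : V} (hv : φ i v = v)
    (hgen : ∀ x, ∃ a, x = φ a v) {w : End κ V} (hw : ∀ a, w * φ a = φ a * w) :
    ∃ l : κ, IsNilpotent (w - l • 1) := by
  obtain ⟨a, ha⟩ := hgen (w v)
  obtain ⟨l, N, hN⟩ := hi a
  have hc : ∀ (k : ℕ) b, (w - l • 1) ^ k * φ b = φ b * (w - l • 1) ^ k := fun k b =>
    (Commute.pow_left (by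
      rw [Commute, SemiconjBy, sub_mul, mul_sub, hw, smul_mul_assoc, mul_smul_comm, one_mul,
        mul_one]) k).eq
  have h1 : (w - l • 1) v = φ (i * a * i - l • i) v := by
    have : φ i (w v) = w v := by rw [← End.mul_apply, ← hw, End.mul_apply, hv]
    rw [map_sub, map_smul, map_mul, map_mul]
    simp only [LinearMap.sub_apply, LinearMap.smul_apply, End.mul_apply, End.one_apply, hv, ← ha,
      this]
  have h2 : ∀ k : ℕ, ((w - l • 1) ^ k) v = φ ((i * a * i - l • i) ^ k) v := fun k => by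
    induction k with
    | zero => simp
    | succ k ih =>
      rw [pow_succ, End.mul_apply, h1, ← End.mul_apply, hc, End.mul_apply, ih, ← End.mul_apply,
        ← map_mul, pow_succ']
  refine ⟨l, N, LinearMap.ext fun x => ?_⟩
  obtain ⟨b, rfl⟩ := hgen x
  rw [← End.mul_apply, hc, End.mul_apply, h2, hN]
  simp

end loc

section val

variable {F : Type*} [Field F] (O : ValuationSubring F)

theorem mem_of_indep {ι Γ : Type*} [Fintype ι] (v : ι → Γ → O)
    (hv : LinearIndependent (IsLocalRing.ResidueField O)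
      fun i g => IsLocalRing.residue O (v i g)) (c : ι → F) (w : Γ → O)
    (h : ∀ g, ∑ i, c i * v i g = w g) (i : ι) : c i ∈ O := by
  by_contra hi
  obtain ⟨j, -, hj⟩ := Finset.exists_max_image Finset.univ (fun i => O.valuation (c i))
    ⟨i, Finset.mem_univ _⟩
  have h1 : 1 < O.valuation (c j) :=
    (not_le.1 fun h => hi ((O.valuation_le_one_iff _).1 h)).trans_le (hj i (Finset.mem_univ _))
  have h0 : c j ≠ 0 := fun h => by simp [h] at h1
  have h2 : ∀ k, c k / c j ∈ O := fun k => by
    rw [← O.valuation_le_one_iff, map_div₀]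
    exact div_le_one_of_le₀ (hj k (Finset.mem_univ _)) zero_le
  have h3 : O.valuation (c j)⁻¹ < 1 := by rw [map_inv₀]; exact inv_lt_one_of_one_lt₀ h1
  let t : O := ⟨(c j)⁻¹, (O.valuation_le_one_iff _).1 h3.le⟩
  have ht : IsLocalRing.residue O t = 0 := by
    rw [IsLocalRing.residue_eq_zero_iff, O.valuation_lt_one_iff]; exact h3
  have := Fintype.linearIndependent_iff.1 hv (fun k => IsLocalRing.residue O ⟨_, h2 k⟩) (by
    ext g
    have : ∑ k, (⟨_, h2 k⟩ : O) * v k g = t * w g := Subtype.ext (by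
      push_cast
      rw [← h g, Finset.mul_sum]
      exact Finset.sum_congr rfl fun k _ => by ring)
    simp only [Finset.sum_apply, Pi.smul_apply, smul_eq_mul, ← map_mul, ← map_sum, this]
    rw [map_mul, ht, zero_mul, Pi.zero_apply]) j
  rw [show (⟨_, h2 j⟩ : O) = 1 from Subtype.ext (div_self h0), map_one] at this
  exact one_ne_zero this

theorem indep_of_indep {ι Γ : Type*} [Fintype ι] (v : ι → Γ → O)
    (hv : LinearIndependent (IsLocalRing.ResidueField O)
      fun i g => IsLocalRing.residue O (v i g)) : LinearIndependent F fun i g => (v i g : F) := by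
  refine Fintype.linearIndependent_iff.2 fun c hc i => by_contra fun h0 => ?_
  have hc' : ∀ g, ∑ k, c k * v k g = 0 := fun g => by simpa using congrFun hc g
  have key : ∀ t : F, t ∈ O := fun t => by
    have := mem_of_indep O v hv (fun k => t / c i * c k) 0 (fun g => by
      simp only [mul_assoc, ← Finset.mul_sum, hc', mul_zero, Pi.zero_apply,
        ZeroMemClass.coe_zero]) i
    rwa [div_mul_cancel₀ _ h0] at this
  -- `O = F`: the residue map is injective
  let c' : ι → O := fun k => ⟨c k / c i, key _⟩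
  have := Fintype.linearIndependent_iff.1 hv (fun k => IsLocalRing.residue O (c' k)) (by
    ext g
    have : ∑ k, c' k * v k g = 0 := Subtype.ext (by
      push_cast
      simp only [c', div_mul_eq_mul_div, ← Finset.sum_div, hc', zero_div])
    simp only [Finset.sum_apply, Pi.smul_apply, smul_eq_mul, ← map_mul, ← map_sum, this]
    simp) i
  rw [show c' i = 1 from Subtype.ext (div_self h0), map_one] at this
  exact one_ne_zero this

theorem rank_residue_le {m n : Type*} [Fintype m] [Fintype n] (X : Matrix m n O) :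
    (X.map (IsLocalRing.residue O)).rank ≤ (X.map O.subtype).rank := by
  classical
  rw [Matrix.rank_eq_finrank_span_cols, Matrix.rank_eq_finrank_span_cols]
  obtain ⟨s, a, ha, h1, h2⟩ := exists_linearIndependent' (IsLocalRing.ResidueField O)
    (X.map (IsLocalRing.residue O)).col
  haveI := Finite.of_injective a ha
  haveI := Fintype.ofFinite s
  rw [← h1, finrank_span_eq_card h2,
    ← finrank_span_eq_card (indep_of_indep O (fun i g => X g (a i)) h2)]
  exact Submodule.finrank_mono (Submodule.span_mono (by rintro _ ⟨i, rfl⟩; exact ⟨a i, rfl⟩))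

end val

section poly

variable {κ : Type*} [Field κ] {p : ℕ} [hp : Fact p.Prime] [CharP κ p]

theorem geom_eq_pow (a : ℕ) :
    ∑ i ∈ Finset.range (p ^ a), (X : κ[X]) ^ i = (X - 1) ^ (p ^ a - 1) := by
  have h0 : (X - 1 : κ[X]) ≠ 0 := by simpa using X_sub_C_ne_zero (1 : κ)
  apply mul_right_cancel₀ h0
  rw [geom_sum_mul, ← pow_succ, Nat.sub_add_cancel (Nat.one_le_pow _ _ hp.out.pos),
    sub_pow_char_pow, one_pow]

omit hp [CharP κ p] in
theorem exists_aeval_eq {A : Type*} [Ring A] [Algebra κ A] {y : A} (hy : IsNilpotent y)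
    {q : κ[X]} (hq : q ≠ 0) : ∃ u : κ[X], IsUnit (aeval (1 + y) u) ∧ u.eval 1 ≠ 0 ∧
      aeval (1 + y) q = y ^ q.rootMultiplicity 1 * aeval (1 + y) u ∧
      ∃ r : κ[X], aeval (1 + y) u = algebraMap κ A (u.eval 1) + y * aeval (1 + y) r := by
  obtain ⟨u, h1, h2⟩ := exists_eq_pow_rootMultiplicity_mul_and_not_dvd q hq 1
  have h3 : u.eval 1 ≠ 0 := fun h => h2 (dvd_iff_isRoot.2 h)
  obtain ⟨r, hr⟩ := X_sub_C_dvd_sub_C_eval (p := u) (a := 1)
  have h4 : aeval (1 + y) u = algebraMap κ A (u.eval 1) + y * aeval (1 + y) r := by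
    have := congrArg (aeval (1 + y)) hr
    simp only [map_sub, map_mul, aeval_X, aeval_C, map_one, add_sub_cancel_left] at this
    rw [← this]; abel
  refine ⟨u, ?_, h3, ?_, r, h4⟩
  · rw [h4]
    have hc : Commute y (aeval (1 + y) r) := by
      have : y = aeval (1 + y) (X - 1 : κ[X]) := by simp
      conv_lhs => rw [this]
      rw [Commute, SemiconjBy, ← map_mul, ← map_mul, mul_comm]
    exact (hc.isNilpotent_mul_right hy).isUnit_add_left_of_commute
      ((IsUnit.mk0 _ h3).map _) (Algebra.commutes _ _).symm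
  · conv_lhs => rw [h1]
    simp

omit hp [CharP κ p] in
theorem rootMultiplicity_le {ι : Type*} (s : Finset ι) (a : ι → ℕ) {e : ℕ} (he : 0 < e)
    (h : ∑ i ∈ s, (a i : κ) ^ e ≠ 0) (c : κ) :
    (∑ i ∈ s, (X : κ[X]) ^ a i - C c) ≠ 0 ∧ (∑ i ∈ s, (X : κ[X]) ^ a i - C c).rootMultiplicity 1 ≤ e := by
  have key : ∀ k r : ℕ, (X - C 1 : κ[X]) ^ (r + k) ∣ ∑ i ∈ s, (X : κ[X]) ^ a i - C c →
      (X - C 1 : κ[X]) ^ r ∣ ∑ i ∈ s, C ((a i : κ) ^ k) * X ^ a i - C (c * 0 ^ k) := by
    intro k
    induction k with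
    | zero => intro r h; simpa using h
    | succ k ih =>
      intro r h
      have h1 := (pow_sub_one_dvd_derivative_of_pow_dvd (ih (r + 1) (by rwa [add_assoc, add_comm 1]))).mul_left X
      rw [Nat.add_sub_cancel] at h1
      convert h1 using 1
      simp only [derivative_sub, derivative_sum, derivative_C_mul, derivative_C, sub_zero,
        Finset.mul_sum, pow_succ, mul_zero, map_zero, derivative_X_pow]
      refine Finset.sum_congr rfl fun i _ => ?_
      rcases Nat.eq_zero_or_pos (a i) with h0 | h0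
      · simp [h0]
      · obtain ⟨b, hb⟩ := Nat.exists_eq_succ_of_ne_zero h0.ne'
        rw [hb, map_mul]; simp only [Nat.succ_eq_add_one, Nat.add_sub_cancel]; ring
  have h2 : ¬ (X - C 1 : κ[X]) ^ (1 + e) ∣ ∑ i ∈ s, (X : κ[X]) ^ a i - C c := fun hd => by
    have := key e 1 hd
    rw [pow_one, dvd_iff_isRoot, IsRoot, zero_pow he.ne'] at this
    simp [eval_finsetSum] at this
    exact h this
  have h3 : (∑ i ∈ s, (X : κ[X]) ^ a i - C c) ≠ 0 := fun h => h2 (h ▸ dvd_zero _)
  refine ⟨h3, ?_⟩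
  rw [rootMultiplicity_le_iff h3, add_comm]
  exact h2

end poly

section free

variable {κ : Type*} [Field κ] {p : ℕ} [hp : Fact p.Prime] [CharP κ p] {Γ : Type*} [Group Γ]
  [Finite Γ]

open MonoidAlgebra

/-- the group algebra is free over the group algebra of a central subgroup of order `p` -/
theorem exists_eq_of_sub_one_mul {z : Γ} (hz : orderOf z = p) (hc : z ∈ Subgroup.center Γ)
    {a : MonoidAlgebra κ Γ} (h : (single z 1 - 1) * a = 0) :
    ∃ b, a = (single z (1 : κ) - 1) ^ (p - 1) * b := by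
  classical
  haveI := Fintype.ofFinite Γ
  have h1 : ∀ g, a.coeff (z⁻¹ * g) = a.coeff g := fun g => by
    have := congrArg (·.coeff g) h
    simpa [sub_mul, coeff_sub', sub_eq_zero] using this
  have h2 : ∀ u ∈ Subgroup.zpowers z, ∀ g, a.coeff (g * u) = a.coeff g := by
    intro u hu
    obtain ⟨k, rfl⟩ := mem_powers_iff_mem_zpowers.2 hu
    induction k with
    | zero => simp
    | succ k ih =>
      intro g
      have := ih (mem_powers_iff_mem_zpowers.1 ⟨k, rfl⟩) g
      beta_reduce at this ⊢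
      rw [← this, ← h1, pow_succ, ← mul_assoc g, Subgroup.mem_center_iff.1 hc, inv_mul_cancel_left]
  have h3 : (single z (1 : κ) - 1) ^ (p - 1) = ∑ u : Subgroup.zpowers z, single (u : Γ) 1 := by
    have := congrArg (aeval (single z (1 : κ) : MonoidAlgebra κ Γ)) (geom_eq_pow (κ := κ) (p := p) 1)
    simp only [pow_one, map_sum, map_pow, aeval_X, map_sub, map_one, single_pow, one_pow] at this
    rw [← this, Finset.sum_range, ← hz]
    exact Fintype.sum_equiv (finEquivZPowers (isOfFinOrder_of_finite z)) _ _ fun i => by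
      simp [finEquivZPowers_apply]
  refine ⟨∑ c : Γ ⧸ Subgroup.zpowers z, a.coeff c.out • single c.out 1, ?_⟩
  conv_lhs => rw [eq_sum_single a, Block2.sum_eq_sum_cosets (Subgroup.zpowers z)]
  rw [h3, Finset.mul_sum]
  refine Finset.sum_congr rfl fun c _ => ?_
  rw [Finset.sum_mul]
  refine Finset.sum_congr rfl fun u _ => ?_
  rw [h2 _ u.2, mul_smul_comm, single_mul_single, one_mul,
    Subgroup.mem_center_iff.1 (Subgroup.zpowers_le.2 hc u.2)]

theorem exists_eq_of_sub_one_pow_mul {z : Γ} (hz : orderOf z = p) (hc : z ∈ Subgroup.center Γ)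
    {a : MonoidAlgebra κ Γ} (h : (single z (1 : κ) - 1) ^ (p - 1) * a = 0) :
    ∃ b, a = (single z 1 - 1) * b := by
  let w : MonoidAlgebra κ Γ := single z 1 - 1
  let W := LinearMap.mulLeft κ w
  let N := LinearMap.mulLeft κ (w ^ (p - 1))
  have hw : w ^ (p - 1) * w = 0 := by
    have := congrArg (aeval (single z (1 : κ) : MonoidAlgebra κ Γ))
      (sub_pow_char (R := κ[X]) (p := p) X 1)
    simp only [map_pow, aeval_X, map_sub, map_one, single_pow, one_pow] at this
    rw [← pow_succ, Nat.sub_add_cancel hp.out.pos, this, ← hz, pow_orderOf_eq_one]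
    exact sub_self _
  have h1 : LinearMap.range W ≤ LinearMap.ker N := by
    rintro _ ⟨b, rfl⟩
    simp [N, W, ← mul_assoc, hw]
  have h2 : LinearMap.ker W ≤ LinearMap.range N := fun b hb => by
    obtain ⟨c, hc⟩ := exists_eq_of_sub_one_mul hz hc hb
    exact ⟨c, hc.symm⟩
  have h3 := Submodule.eq_of_le_of_finrank_le h1 (by
    have := Submodule.finrank_mono h2
    have := W.finrank_range_add_finrank_ker
    have := N.finrank_range_add_finrank_ker
    omega)
  obtain ⟨b, hb⟩ := h3.ge (show a ∈ LinearMap.ker N from h)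
  exact ⟨b, hb.symm⟩

/-- all Jordan blocks have full size -/
theorem free_of_free {A : Type*} [Ring A] {f y : A} (hf : f * f = f) (hc : f * y = y * f) {n q : ℕ}
    (hq : 0 < q) (hqn : q < n) (hn : y ^ n = 0)
    (h1 : ∀ a, f * a = a → y ^ q * a = 0 → ∃ b, a = y ^ (n - q) * b)
    (h2 : ∀ a, f * a = a → y ^ (n - q) * a = 0 → ∃ b, a = y ^ q * b) :
    ∀ j ≤ n, ∀ a, f * a = a → y ^ j * a = 0 → ∃ b, f * b = b ∧ a = y ^ (n - j) * b := by
  have hc' : ∀ k a, f * (y ^ k * a) = y ^ k * (f * a) := fun k a => by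
    rw [← mul_assoc, (Commute.pow_right hc k).eq, mul_assoc]
  have key : ∀ b, f * b = b → y ^ (n - 1) * b = 0 → ∃ d, b = y * d := fun b hb h => by
    obtain ⟨d, hd⟩ := h1 (y ^ (n - 1 - q) * b) (by rw [hc', hb])
      (by rw [← mul_assoc, ← pow_add, show q + (n - 1 - q) = n - 1 by omega, h])
    have hd' : y ^ (n - 1 - q) * b = y ^ (n - q) * (f * d) := by rw [← hc', ← hd, hc', hb]
    obtain ⟨c, hc⟩ := h2 (b - y * (f * d)) (by
      rw [mul_sub, hb, ← pow_one y, hc', ← mul_assoc f, hf]) (by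
      rw [show n - q = 1 + (n - 1 - q) by omega, pow_add, mul_assoc, mul_sub, hd', ← mul_assoc _ y,
        ← pow_succ, show n - 1 - q + 1 = n - q by omega, sub_self, mul_zero])
    refine ⟨f * d + y ^ (q - 1) * c, ?_⟩
    rw [mul_add, ← mul_assoc y (y ^ _), ← pow_succ', Nat.sub_add_cancel hq, ← hc, add_sub_cancel]
  intro j hj a ha h
  have : ∀ k, k ≤ n - j → ∃ b, f * b = b ∧ a = y ^ k * b := fun k => by
    induction k with
    | zero => exact fun _ => ⟨a, ha, by simp⟩
    | succ k ih =>
      intro hk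
      obtain ⟨b, hb, rfl⟩ := ih (by omega)
      obtain ⟨d, rfl⟩ := key b hb (by
        rw [show n - 1 = (n - 1 - j - k) + j + k by omega, pow_add, pow_add, mul_assoc, mul_assoc, h,
          mul_zero])
      exact ⟨f * d, by rw [← mul_assoc, hf], by rw [← hc', pow_succ, mul_assoc, hc', hb]⟩
  exact this _ le_rfl

end free

section jordan

variable {κ V : Type*} [Field κ] [AddCommGroup V] [Module κ V] [FiniteDimensional κ V]

theorem finrank_range_eq_sum (Y F : End κ V) {n : ℕ} (hn : Y ^ n = 0) :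
    finrank κ (LinearMap.range F) =
      ∑ j ∈ Finset.range n, finrank κ (LinearMap.ker Y ⊓ LinearMap.range (Y ^ j * F) :
        Submodule κ V) := by
  have key : ∀ j, finrank κ (LinearMap.range (Y ^ j * F)) =
      finrank κ (LinearMap.ker Y ⊓ LinearMap.range (Y ^ j * F) : Submodule κ V) +
        finrank κ (LinearMap.range (Y ^ (j + 1) * F)) := fun j => by
    rw [← (Y.domRestrict (LinearMap.range (Y ^ j * F))).finrank_range_add_finrank_ker,
      LinearMap.range_domRestrict, LinearMap.ker_domRestrict, add_comm, pow_succ', mul_assoc,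
      End.mul_eq_comp Y, LinearMap.range_comp, ← Submodule.finrank_map_subtype_eq,
      Submodule.map_comap_subtype, inf_comm]
  have : ∀ k, finrank κ (LinearMap.range F) = ∑ j ∈ Finset.range k,
      finrank κ (LinearMap.ker Y ⊓ LinearMap.range (Y ^ j * F) : Submodule κ V) +
        finrank κ (LinearMap.range (Y ^ k * F)) := fun k => by
    induction k with
    | zero => rw [pow_zero, one_mul]; simp
    | succ k ih => rw [ih, key, Finset.sum_range_succ, add_assoc]
  rw [this n, hn]
  simp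

theorem exists_eigen_mod [IsAlgClosed κ] (u : End κ V) {U I : Submodule κ V}
    (hU : ∀ x ∈ U, u x ∈ U) (hI : ∀ x ∈ I, u x ∈ I) (h : ¬ U ≤ I) :
    ∃ t ∈ U, t ∉ I ∧ ∃ μ : κ, u t - μ • t ∈ I := by
  let J := I.comap U.subtype
  haveI : Nontrivial (U ⧸ J) := Submodule.Quotient.nontrivial_iff.2 fun e =>
    h fun x hx => e.ge (trivial : (⟨x, hx⟩ : U) ∈ ⊤)
  obtain ⟨μ, hμ⟩ := End.exists_eigenvalue (J.mapQ J (u.restrict hU) fun x hx => hI _ hx)
  obtain ⟨t, ht⟩ := hμ.exists_hasEigenvector
  obtain ⟨t, rfl⟩ := J.mkQ_surjective t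
  refine ⟨t, t.2, fun h => ht.2 ((Submodule.Quotient.mk_eq_zero J).2 h), μ, ?_⟩
  exact (Submodule.Quotient.eq J (x := u.restrict hU t) (y := μ • t)).1 ht.apply_eq_smul

end jordan

end Cfsg.Lib.Small
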