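import Cfsg.Agent.Lib.Small.DadeA

/-!
# Cyclic defect groups: modules over a block algebra which is uniserial over its centre
-/

set_option autoImplicit false

namespace Cfsg.Lib.Small

open Module Cfsg.Lib.Block MonoidAlgebra

variable {κ : Type*} [Field κ] {Γ : Type*} [Group Γ] [Finite Γ] {W : Type*} [AddCommGroup W]
  [Module κ W]

/-- the module homomorphism into the group algebra attached to a linear form -/
noncomputable def dualH (R : MonoidAlgebra κ Γ →ₐ[κ] End κ W) (ξ : W →ₗ[κ] κ) :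
    W →ₗ[κ] MonoidAlgebra κ Γ where
  toFun x := ofFun fun c => ξ (R (single c⁻¹ 1) x)
  map_add' x x' := ga_ext fun c => by simp
  map_smul' a x := ga_ext fun c => by simp

theorem coeff_dualH (R : MonoidAlgebra κ Γ →ₐ[κ] End κ W) (ξ : W →ₗ[κ] κ) (x : W) (c : Γ) :
    (dualH R ξ x).coeff c = ξ (R (single c⁻¹ 1) x) := rfl

theorem dualH_mul (R : MonoidAlgebra κ Γ →ₐ[κ] End κ W) (ξ : W →ₗ[κ] κ) (b : MonoidAlgebra κ Γ)
    (x : W) : dualH R ξ (R b x) = b * dualH R ξ x := by
  induction b using MonoidAlgebra.induction_linear with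
  | zero => simp
  | add a b ha hb => simp [ha, hb, add_mul]
  | single g c =>
    refine ga_ext fun h => ?_
    rw [coeff_single_mul_apply, coeff_dualH, coeff_dualH, ← End.mul_apply, ← map_mul,
      single_mul_single, one_mul, ← smul_eq_mul c, ← map_smul, ← LinearMap.smul_apply, ← map_smul,
      smul_single, smul_eq_mul, mul_one, mul_inv_rev, inv_inv]

theorem coeff_one_dualH (R : MonoidAlgebra κ Γ →ₐ[κ] End κ W) (ξ : W →ₗ[κ] κ) (x : W) :
    (dualH R ξ x).coeff 1 = ξ x := by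
  rw [coeff_dualH, inv_one, ← one_def, map_one, End.one_apply]

theorem coeff_one_mul_comm (a b : MonoidAlgebra κ Γ) : (a * b).coeff 1 = (b * a).coeff 1 := by
  haveI := Fintype.ofFinite Γ
  rw [coeff_mul_sum, coeff_mul_sum']
  simp [mul_comm]

/-- a block algebra with centre `κ[y]`, free over it -/
structure LD (n : ℕ) (f y : MonoidAlgebra κ Γ) (S : FMod.{0} κ (MonoidAlgebra κ Γ)) : Prop where
  two : 2 ≤ n
  cf : IsCen f
  cy : IsCen y
  ff : f * f = f
  fy : f * y = y
  yn : y ^ n = 0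
  free : ∀ j ≤ n, ∀ a, f * a = a → y ^ j * a = 0 → ∃ b, f * b = b ∧ a = y ^ (n - j) * b
  cen : ∀ r, IsCen r → f * r = r → y * r = 0 → ∃ c : κ, r = c • y ^ (n - 1)
  simple : IsSimpleModule (MonoidAlgebra κ Γ) S.V
  actf : S.act f = 1

namespace LD

variable [IsAlgClosed κ] {n : ℕ} {f y : MonoidAlgebra κ Γ} {S : FMod.{0} κ (MonoidAlgebra κ Γ)}
  (h : LD n f y S)
include h

theorem surj : Function.Surjective S.act := act_surjective S h.simple

omit [IsAlgClosed κ] in
theorem nontrivial : Nontrivial S.V := haveI := h.simple; IsSimpleModule.nontrivial (MonoidAlgebra κ Γ) _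

theorem act_y : S.act y = 0 := by
  haveI := h.nontrivial
  have : ¬ IsUnit (S.act y) := IsNilpotent.not_isUnit ⟨n, by rw [← map_pow, h.yn, map_zero]⟩
  rw [LinearMap.isUnit_iff_ker_eq_bot] at this
  obtain ⟨x₀, h1, h0⟩ := (Submodule.ne_bot_iff _).1 this
  obtain ⟨σ, hσ⟩ := Module.Projective.exists_dual_eq_one κ h0
  ext x
  obtain ⟨a, ha⟩ := h.surj (σ.smulRight x)
  have : x = S.act a x₀ := by simp [ha, hσ]
  rw [this, ← End.mul_apply, ← map_mul, h.cy.comm, map_mul, End.mul_apply, LinearMap.mem_ker.1 h1]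
  simp

theorem pow_mul_eq_zero {a : MonoidAlgebra κ Γ} (ha : S.act a = 0) : y ^ (n - 1) * a = 0 := by
  haveI := h.nontrivial
  let τ : MonoidAlgebra κ Γ →ₗ[κ] κ := (LinearMap.trace κ S.V).comp S.act.toLinearMap
  let L := Algebra.lmul κ (MonoidAlgebra κ Γ)
  have hr : ∀ b c, (b * dualH L τ 1).coeff c = LinearMap.trace κ S.V (S.act (single c⁻¹ 1) * S.act b) :=
    fun b c => by rw [← dualH_mul, coeff_dualH, ← map_mul]; simp [L, τ]
  obtain ⟨c, hc⟩ := h.cen (dualH L τ 1) (fun x g => by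
      have h1 := hr 1 (x * g * x⁻¹)
      have h2 := hr 1 g
      rw [one_mul, map_one S.act, mul_one] at h1 h2
      rw [h1, h2, show single (x * g * x⁻¹)⁻¹ (1 : κ) = single x 1 * (single g⁻¹ 1 * single x⁻¹ 1) by
        simp [single_mul_single, mul_assoc], map_mul, LinearMap.trace_mul_comm, ← map_mul]
      simp [single_mul_single])
    (ga_ext fun c => by rw [hr, h.actf, ← map_one S.act, ← hr, one_mul])
    (ga_ext fun c => by rw [hr, h.act_y]; simp)
  have h0 : c ≠ 0 := by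
    rintro rfl
    obtain ⟨g, hg⟩ := exists_trace_eq_one (κ := κ) S.V
    obtain ⟨b, rfl⟩ := h.surj g
    have := hr b 1
    rw [hc, inv_one, ← one_def, map_one S.act, one_mul, hg] at this
    simp at this
  have : a * dualH L τ 1 = 0 := ga_ext fun c => by rw [hr, ha]; simp
  rwa [hc, mul_smul_comm, smul_eq_zero_iff_right h0, ← (h.cy.pow _).comm] at this

theorem exists_eq_mul {a : MonoidAlgebra κ Γ} (ha : S.act a = 0) : ∃ d, f * a = y * d := by
  obtain ⟨b, -, hb⟩ := h.free (n - 1) (by omega) (f * a) (by rw [← mul_assoc, h.ff])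
    (h.pow_mul_eq_zero (by rw [map_mul, ha, mul_zero]))
  exact ⟨b, by rwa [show n - (n - 1) = 1 by have := h.two; omega, pow_one] at hb⟩

variable (R : MonoidAlgebra κ Γ →ₐ[κ] End κ W)

omit [IsAlgClosed κ] in
theorem apply_f {x : W} {j : ℕ} (hx : x ∈ LinearMap.range (R y ^ j * R f)) : R f x = x := by
  obtain ⟨x, rfl⟩ := hx
  rw [← End.mul_apply, ← map_pow, ← map_mul, ← map_mul, h.cf.comm, mul_assoc, h.ff]

omit [IsAlgClosed κ] in
theorem apply_mem {x : W} {j : ℕ} (hx : x ∈ LinearMap.range (R y ^ j * R f))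
    (a : MonoidAlgebra κ Γ) : R a x ∈ LinearMap.range (R y ^ j * R f) := by
  obtain ⟨x, rfl⟩ := hx
  refine ⟨R a x, ?_⟩
  simp only [← End.mul_apply, ← map_pow, ← map_mul]
  rw [((h.cy.pow j).mul h.cf).comm]

omit [IsAlgClosed κ] in
theorem apply_mem_ker {x : W} (hx : x ∈ LinearMap.ker (R y)) (a : MonoidAlgebra κ Γ) :
    R a x ∈ LinearMap.ker (R y) := by
  rw [LinearMap.mem_ker] at hx ⊢
  rw [← End.mul_apply, ← map_mul, h.cy.comm, map_mul, End.mul_apply, hx, map_zero]



omit [IsAlgClosed κ] in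
theorem range_le {i j : ℕ} (hij : i ≤ j) :
    LinearMap.range (R y ^ j * R f) ≤ LinearMap.range (R y ^ i * R f) := by
  rintro _ ⟨x, rfl⟩
  refine ⟨R (y ^ (j - i)) x, ?_⟩
  simp only [← End.mul_apply, ← map_pow, ← map_mul]
  rw [mul_assoc, h.cf.comm, ← mul_assoc, ← pow_add, Nat.add_sub_cancel' hij]

omit [IsAlgClosed κ] in
theorem range_le_ker : LinearMap.range (R y ^ (n - 1) * R f) ≤ LinearMap.ker (R y) := by
  rintro _ ⟨x, rfl⟩
  rw [LinearMap.mem_ker, ← End.mul_apply, ← mul_assoc, ← pow_succ', ← map_pow,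
    Nat.sub_add_cancel (by have := h.two; omega), h.yn]
  simp

theorem apply_eq {a b : MonoidAlgebra κ Γ} (hab : S.act a = S.act b) {x : W} (hx : R y x = 0)
    (hf : R f x = x) : R a x = R b x := by
  obtain ⟨d, hd⟩ := h.exists_eq_mul (a := a - b) (by rw [map_sub, hab, sub_self])
  have : R (a - b) x = 0 := by
    rw [← hf, ← End.mul_apply, ← map_mul, ← h.cf.comm, hd, h.cy.comm, map_mul, End.mul_apply, hx,
      map_zero]
  rwa [map_sub, LinearMap.sub_apply, sub_eq_zero] at this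

omit [IsAlgClosed κ] in
/-- projective endomorphisms -/
theorem tr_mem [Fintype Γ] [FiniteDimensional κ W] (φ : End κ W) {j : ℕ} (hj : j ≤ n) {x : W}
    (hf : R f x = x) (hx : (R y ^ j) x = 0) :
    (∑ c, R (single c 1) * φ * R (single c⁻¹ 1)) x ∈ LinearMap.range (R y ^ (n - j) * R f) := by
  let b := Module.finBasis κ W
  have : (∑ c, R (single c 1) * φ * R (single c⁻¹ 1)) x =
      ∑ k, R (dualH R ((b.coord k).comp φ) x) (b k) := by
    simp only [LinearMap.sum_apply, End.mul_apply]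
    have : ∀ k, R (dualH R ((b.coord k).comp φ) x) (b k) =
        ∑ c, R (single c 1) (b.repr (φ (R (single c⁻¹ 1) x)) k • b k) := fun k => by
      rw [eq_sum_single (dualH _ _ _), map_sum, LinearMap.sum_apply]
      simp only [coeff_dualH, map_smul, LinearMap.smul_apply, LinearMap.comp_apply, Basis.coord_apply]
    simp only [this]
    rw [Finset.sum_comm]
    simp only [← map_sum, b.sum_repr]
  rw [this]
  refine Submodule.sum_mem _ fun k _ => ?_
  obtain ⟨d, h1, h2⟩ := h.free j hj (dualH R ((b.coord k).comp φ) x) (by rw [← dualH_mul, hf])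
    (by rw [← dualH_mul, map_pow, hx, map_zero])
  refine ⟨R d (b k), ?_⟩
  rw [h2, ← End.mul_apply, ← map_pow, ← map_mul, ← map_mul, mul_assoc, h1]

omit [IsAlgClosed κ] in
theorem exists_v {l : ℕ} (hl : l ≤ n) {w : W} (hf : R f w = w) (hw : (R y ^ l) w = 0)
    {ξ : W →ₗ[κ] κ} (hξ : ∀ x, ξ ((R y ^ l * R f) x) = 0) :
    ∃ v : End κ W, (∀ a, v * R a = R a * v) ∧ R f * v = v ∧
      ∀ x b, y ^ (n - l) * b = dualH R ξ (R f x) → v x = R b w := by
  have U : ∀ b b', y ^ (n - l) * b = y ^ (n - l) * b' → R b w = R b' w := fun b b' e => by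
    obtain ⟨d, -, hd⟩ := h.free (n - l) (by omega) (f * (b - b')) (by rw [← mul_assoc, h.ff])
      (by rw [← mul_assoc, ← h.cf.comm, mul_assoc, mul_sub, e, sub_self, mul_zero])
    have : R (b - b') w = 0 := by
      rw [← hf, ← End.mul_apply, ← map_mul, ← h.cf.comm, hd, Nat.sub_sub_self hl, (h.cy.pow _).comm,
        map_mul, End.mul_apply, map_pow, hw, map_zero]
    rwa [map_sub, LinearMap.sub_apply, sub_eq_zero] at this
  have E : ∀ x, ∃ b, dualH R ξ (R f x) = y ^ (n - l) * b := fun x => by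
    obtain ⟨b, -, hb⟩ := h.free l hl (dualH R ξ (R f x))
      (by rw [← dualH_mul, ← End.mul_apply, ← map_mul, h.ff]) (by
        rw [← dualH_mul]
        refine ga_ext fun c => ?_
        have := hξ (R (single c⁻¹ 1) x)
        simp only [← End.mul_apply, ← map_pow, ← map_mul] at this
        rw [coeff_dualH]
        simp only [← End.mul_apply, ← map_mul]
        rw [← ((h.cy.pow l).mul h.cf).comm, this]
        rfl)
    exact ⟨b, hb⟩
  choose β hβ using E
  let v : End κ W :=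
    { toFun x := R (β x) w
      map_add' x x' := by
        rw [← LinearMap.add_apply, ← map_add]
        exact U _ _ (by rw [mul_add, ← hβ, ← hβ, ← hβ, map_add, map_add])
      map_smul' c x := by
        rw [RingHom.id_apply, ← LinearMap.smul_apply, ← map_smul]
        exact U _ _ (by rw [mul_smul_comm, ← hβ, ← hβ, map_smul, map_smul]) }
  have hv : ∀ x, v x = R (β x) w := fun _ => rfl
  refine ⟨v, fun a => LinearMap.ext fun x => ?_, LinearMap.ext fun x => ?_,
    fun x b e => U _ _ (by rw [e, hβ])⟩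
  · rw [End.mul_apply, End.mul_apply, hv, hv, ← End.mul_apply, ← map_mul]
    refine U _ _ ?_
    rw [← mul_assoc, (h.cy.pow _).comm a, mul_assoc, ← hβ, ← hβ, ← dualH_mul, ← End.mul_apply,
      ← End.mul_apply, ← map_mul, ← map_mul, h.cf.comm]
  · rw [End.mul_apply, hv, ← End.mul_apply, ← map_mul, h.cf.comm, map_mul, End.mul_apply, hf]

theorem act_map {σ : MonoidAlgebra κ Γ ≃ₐ[κ] MonoidAlgebra κ Γ} (hf : σ f = f)
    (hy : ∃ d, σ y = y * d) {a : MonoidAlgebra κ Γ} (ha : S.act a = 0) : S.act (σ a) = 0 := by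
  obtain ⟨d, hd⟩ := h.exists_eq_mul ha
  obtain ⟨d', hd'⟩ := hy
  have := congrArg (fun a => S.act (σ a)) hd
  simpa only [map_mul, hf, hd', h.actf, h.act_y, one_mul, zero_mul] using this

theorem exists_T [FiniteDimensional κ W] {η : End κ W}
    {σ : MonoidAlgebra κ Γ ≃ₐ[κ] MonoidAlgebra κ Γ} (hη : ∀ a, η * R a = R (σ a) * η)
    (hf : σ f = f) (hy : ∃ d, σ y = y * d) (hy' : ∃ d, σ.symm y = y * d)
    (hK : ¬ LinearMap.ker (R y) ⊓ LinearMap.range (R f) ≤ LinearMap.range (R y ^ (n - 1) * R f)) :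
    ∃ (k : ℕ) (w : W) (T : Submodule κ W) (v : End κ W) (ν : κ), k + 1 < n ∧ R f w = w ∧
      (R y ^ (k + 1)) w = 0 ∧ (R y ^ k) w ∉ LinearMap.range (R y ^ (n - 1) * R f) ∧
      LinearMap.ker (R y) ⊓ LinearMap.range (R y ^ (k + 1) * R f) ≤
        LinearMap.range (R y ^ (n - 1) * R f) ∧ (R y ^ k) w ∈ T ∧
      LinearMap.range (R y ^ (n - 1) * R f) ≤ T ∧ T ≤ LinearMap.range (R y ^ k * R f) ∧
      finrank κ T ≤ finrank κ S.V + finrank κ (LinearMap.range (R y ^ (n - 1) * R f)) ∧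
      (∀ a, ∀ x ∈ T, R a x ∈ T) ∧ (∀ x ∈ T, η x ∈ T) ∧ (∀ a, v * R a = R a * v) ∧ R f * v = v ∧
      ν ≠ 0 ∧ (∀ x ∈ LinearMap.ker (R y) ⊓ LinearMap.range (R f), v x ∈ T) ∧
      ∀ x ∈ T, v x - ν • x ∈ LinearMap.range (R y ^ (n - 1) * R f) := by
  classical
  have h2 := h.two
  set I := LinearMap.range (R y ^ (n - 1) * R f) with hI
  have hex : ∃ j, LinearMap.ker (R y) ⊓ LinearMap.range (R y ^ j * R f) ≤ I := ⟨n - 1, inf_le_right⟩
  obtain ⟨k, hk⟩ := Nat.exists_eq_succ_of_ne_zero (n := Nat.find hex) fun e => hK (by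
    have := Nat.find_spec hex
    rwa [e, pow_zero, one_mul] at this)
  have hk1 := Nat.find_spec hex
  have hk2 := Nat.find_min hex (m := k) (by omega)
  have hk3 : Nat.find hex ≤ n - 1 := Nat.find_min' hex inf_le_right
  rw [hk, Nat.succ_eq_add_one] at hk1 hk3
  haveI := h.nontrivial
  obtain ⟨s₀, hs₀⟩ := exists_ne (0 : S.V)
  obtain ⟨σ₀, hσ₀⟩ := Module.Projective.exists_dual_eq_one κ hs₀
  choose sec hsec using h.surj
  set i := sec (σ₀.smulRight s₀) with hi
  have hiai : ∀ a, S.act (i * a * i) = S.act (σ₀ (S.act a s₀) • i) := fun a => by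
    ext x; simp [hi, hsec, mul_comm, smul_smul]
  let b := Module.finBasis κ S.V
  let V := LinearMap.ker (R y) ⊓ LinearMap.range (R y ^ k * R f) ⊓ LinearMap.ker (R i - 1)
  have hV : ∀ x, x ∈ V ↔ R y x = 0 ∧ x ∈ LinearMap.range (R y ^ k * R f) ∧ R i x = x := fun x => by
    simp only [V, Submodule.mem_inf, LinearMap.mem_ker, LinearMap.sub_apply, End.one_apply,
      sub_eq_zero, and_assoc]
  have hVI : ¬ V ≤ I := fun e => hk2 fun x hx => by
    have h1 : R (∑ j, sec (σ₀.smulRight (b j)) * (i * sec ((b.coord j).smulRight s₀))) x = R 1 x :=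
      h.apply_eq R (by ext z; simp [hi, hsec, hσ₀]) hx.1 (h.apply_f R hx.2)
    rw [map_one, End.one_apply] at h1
    rw [← h1, map_sum, LinearMap.sum_apply]
    refine Submodule.sum_mem _ fun j _ => ?_
    rw [map_mul, End.mul_apply]
    refine h.apply_mem R (e ((hV _).2 ⟨h.apply_mem_ker R hx.1 _, h.apply_mem R hx.2 _, ?_⟩)) _
    rw [← End.mul_apply, ← map_mul]
    exact h.apply_eq R (by ext z; simp [hi, hsec, hσ₀]) hx.1 (h.apply_f R hx.2)
  have hf' : σ.symm f = f := by rw [σ.symm_apply_eq, hf]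
  have hi' : S.act (σ i) ≠ 0 := fun e => by
    have := congrArg (· s₀) (h.act_map hf' hy' e)
    simp [hi, hsec, hσ₀, hs₀] at this
  obtain ⟨s₁, hs₁⟩ := DFunLike.ne_iff.1 hi'
  obtain ⟨η', hη'⟩ := Module.Projective.exists_dual_eq_one κ hs₁
  have hrk : ∀ x, η' (S.act (σ i) x) • S.act (σ i) s₁ = S.act (σ i) x := by
    have := h.act_map hf hy
      ((map_sub S.act _ _).trans (sub_eq_zero.2 (hiai (σ.symm (sec (η'.smulRight s₁))))))
    simp only [map_sub, map_mul, map_smul, AlgEquiv.apply_symm_apply, hsec, sub_eq_zero] at this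
    generalize σ₀ _ = c at this
    have h1 := congrArg (· s₁) this
    simp only [End.mul_apply, LinearMap.smulRight_apply, hη', one_smul, LinearMap.smul_apply] at h1
    have h3 : c = 1 := smul_left_injective κ hs₁ (by simpa using h1.symm)
    intro x
    simpa [h3] using congrArg (· x) this
  have hηK : ∀ x, R y x = 0 → R y (η x) = 0 := fun x hx => by
    obtain ⟨d, hd⟩ := hy'
    rw [← σ.apply_symm_apply y, ← End.mul_apply, ← hη, hd, h.cy.comm, map_mul, End.mul_apply,
      End.mul_apply, hx, map_zero, map_zero]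
  have hηU : ∀ j, ∀ x ∈ LinearMap.range (R y ^ j * R f), η x ∈ LinearMap.range (R y ^ j * R f) := by
    rintro j _ ⟨x, rfl⟩
    obtain ⟨d, hd⟩ := hy
    refine ⟨R (d ^ j) (η x), ?_⟩
    rw [← map_pow, ← map_mul, ← End.mul_apply η, hη, map_mul σ, map_pow σ, hf, hd,
      (h.cy.commute d).mul_pow, mul_assoc, ← h.cf.comm (d ^ j), ← mul_assoc, map_mul R (_ * _)]
    rfl
  obtain ⟨t, ht, htI, μ, hμ⟩ := exists_eigen_mod (R (sec (η'.smulRight s₀)) * η) (U := V) (I := I)
    (fun x hx => by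
      obtain ⟨h1, h3, -⟩ := (hV x).1 hx
      refine (hV _).2 ⟨h.apply_mem_ker R (hηK x h1) _, h.apply_mem R (hηU _ x h3) _, ?_⟩
      rw [End.mul_apply, ← End.mul_apply, ← map_mul]
      exact h.apply_eq R (by ext z; simp [hi, hsec, hσ₀]) (hηK x h1) (h.apply_f R (hηU _ x h3)))
    (fun x hx => h.apply_mem R (hηU _ x hx) _) hVI
  obtain ⟨t1, t2, t3⟩ := (hV t).1 ht
  have t4 := h.apply_f R t2
  let T₀ := LinearMap.range ((LinearMap.applyₗ t).comp R.toLinearMap)
  have hT₀ : ∀ a, R a t ∈ T₀ ⊔ I := fun a => Submodule.mem_sup_left ⟨a, rfl⟩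
  have hTa : ∀ a, ∀ x ∈ T₀ ⊔ I, R a x ∈ T₀ ⊔ I := fun a x hx => by
    obtain ⟨_, ⟨c, rfl⟩, z, hz, rfl⟩ := Submodule.mem_sup.1 hx
    rw [map_add]
    refine add_mem ?_ (Submodule.mem_sup_right (h.apply_mem R hz _))
    have := hT₀ (a * c)
    rwa [map_mul] at this
  obtain ⟨x₀, hx₀⟩ := id t2
  have hw : (R y ^ k) (R f x₀) = t := hx₀
  have hw1 : R f (R f x₀) = R f x₀ := by rw [← End.mul_apply, ← map_mul, h.ff]
  have hw2 : (R y ^ (k + 1)) (R f x₀) = 0 := by rw [pow_succ', End.mul_apply, hw, t1]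
  obtain ⟨ξ, hξ, hξ'⟩ := Submodule.exists_dual_map_eq_bot_of_notMem
    (p := LinearMap.range (R y ^ (k + 1) * R f)) (fun e => htI (hk1 ⟨t1, e⟩)) inferInstance
  have hξ0 : ∀ x ∈ LinearMap.range (R y ^ (k + 1) * R f), ξ x = 0 := fun x hx =>
    (Submodule.mem_bot κ).1 (hξ' ▸ Submodule.mem_map_of_mem hx)
  obtain ⟨v, hv1, hv2, hv3⟩ := h.exists_v R (l := k + 1) (by omega) hw1 hw2 (ξ := ξ)
    fun x => hξ0 _ ⟨x, rfl⟩
  have hvK : ∀ x, R y x = 0 → R f x = x → ∃ c, dualH R ξ x = y ^ (n - 1) * c ∧ v x = R c t := by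
    intro x h1 h3
    obtain ⟨c, -, hc⟩ := h.free 1 (by omega) (dualH R ξ x) (by rw [← dualH_mul, h3])
      (by rw [← dualH_mul, pow_one, h1, map_zero])
    refine ⟨c, hc, ?_⟩
    rw [hv3 x (y ^ k * c) (by
      rw [h3, hc, ← mul_assoc, ← pow_add, show n - (k + 1) + k = n - 1 by omega]),
      (h.cy.pow k).comm, map_mul, End.mul_apply, map_pow, hw]
  obtain ⟨c, hc1, hc2⟩ := hvK t t1 t4
  have hvt : v t = σ₀ (S.act c s₀) • t := by
    have : v t = R (i * c * i) t := by
      rw [map_mul, map_mul, End.mul_apply, End.mul_apply, t3, ← hc2, ← End.mul_apply, ← hv1,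
        End.mul_apply, t3]
    rw [this, h.apply_eq R (hiai c) t1 t4, map_smul, LinearMap.smul_apply, t3]
  have hvI : ∀ x ∈ I, v x = 0 := fun x hx => by
    rw [hv3 x 0 (ga_ext fun g => ?_), map_zero, LinearMap.zero_apply]
    rw [mul_zero, coeff_dualH,
      hξ0 _ (h.apply_mem R (h.apply_mem R (h.range_le R hk3 hx) _) _)]
    rfl
  refine ⟨k, R f x₀, T₀ ⊔ I, v, σ₀ (S.act c s₀), by omega, hw1, hw2, hw ▸ htI, hk1,
    by simpa [hw] using hT₀ 1, le_sup_right, sup_le ?_ (h.range_le R (by omega)), ?_, hTa, ?_, hv1,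
    hv2, fun e => hξ ?_, fun x hx => ?_, fun x hx => ?_⟩
  · rintro _ ⟨a, rfl⟩; exact h.apply_mem R t2 a
  · refine (Submodule.finrank_add_le_finrank_add_finrank _ _).trans (Nat.add_le_add_right ?_ _)
    have : T₀ ≤ Submodule.span κ (Set.range fun j => R (sec (σ₀.smulRight (b j))) t) := by
      rintro _ ⟨a, rfl⟩
      have : R a t = R (∑ j, b.repr (S.act a s₀) j • sec (σ₀.smulRight (b j))) t := by
        rw [← t3, ← End.mul_apply, ← map_mul, t3]
        refine h.apply_eq R ?_ t1 t4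
        ext z
        simp only [hi, hsec, map_mul, End.mul_apply, LinearMap.smulRight_apply, map_smul, map_sum,
          LinearMap.sum_apply, LinearMap.smul_apply, smul_comm _ (σ₀ z), ← Finset.smul_sum,
          b.sum_repr]
      change R a t ∈ _
      rw [this, map_sum, LinearMap.sum_apply]
      exact Submodule.sum_mem _ fun j _ => by
        rw [map_smul]; exact Submodule.smul_mem _ _ (Submodule.subset_span ⟨j, rfl⟩)
    exact (Submodule.finrank_mono this).trans ((finrank_range_le_card _).trans (by simp))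
  · intro x hx
    obtain ⟨_, ⟨a, rfl⟩, z, hz, rfl⟩ := Submodule.mem_sup.1 hx
    rw [map_add]
    refine add_mem ?_ (Submodule.mem_sup_right (hηU _ z hz))
    change η (R a t) ∈ _
    rw [← End.mul_apply, hη, End.mul_apply]
    refine hTa _ _ ?_
    have e1 : η t = R (σ i) (η t) := by rw [← End.mul_apply, ← hη, End.mul_apply, t3]
    have e2 : η t = R (sec (σ₀.smulRight (S.act (σ i) s₁))) ((R (sec (η'.smulRight s₀)) * η) t) := by
      rw [End.mul_apply]
      conv_rhs => rw [e1]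
      rw [← End.mul_apply, ← End.mul_apply, ← map_mul, ← map_mul]
      refine e1.trans (h.apply_eq R ?_ (hηK t t1) (h.apply_f R (hηU _ t t2)))
      ext z
      simp only [hsec, map_mul, End.mul_apply, LinearMap.smulRight_apply, map_smul, hσ₀, one_smul,
        hrk]
    rw [e2, ← sub_add_cancel ((R (sec (η'.smulRight s₀)) * η) t) (μ • t)]
    exact hTa _ _ (add_mem (Submodule.mem_sup_right hμ)
      (Submodule.smul_mem _ _ (by simpa using hT₀ 1)))
  · have h1 := h.pow_mul_eq_zero (a := i * c * i) (by rw [hiai, e, zero_smul, map_zero])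
    rw [← coeff_one_dualH R, ← t3, dualH_mul, ← t3, dualH_mul, hc1, coeff_one_mul_comm,
      ← mul_assoc i, ← (h.cy.pow _).comm i, mul_assoc (y ^ _), mul_assoc (y ^ _), h1]
    rfl
  · obtain ⟨c, -, hc⟩ := hvK x hx.1 (h.apply_f R (j := 0) (by rw [pow_zero, one_mul]; exact hx.2))
    exact hc ▸ hT₀ c
  · obtain ⟨_, ⟨a, rfl⟩, z, hz, rfl⟩ := Submodule.mem_sup.1 hx
    change v (R a t + z) - _ • (R a t + z) ∈ _
    rw [map_add, hvI z hz, ← End.mul_apply, hv1, End.mul_apply, hvt, map_smul, smul_add, add_zero,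
      sub_add_cancel_left]
    exact neg_mem (Submodule.smul_mem _ _ hz)

end LD

end Cfsg.Lib.Small
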