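import Cfsg.Agent.Lib.Small.DadeB
import Cfsg.Agent.Lib.Small.DOne
import Cfsg.Agent.Lib.Block.DualAct
import Cfsg.Agent.Lib.Block2.Amb

/-!
# Cyclic defect groups: restriction of indecomposable modules to the centraliser of `Ω₁(P)`
-/

set_option autoImplicit false

namespace Cfsg.Lib.Small

open Module Cfsg.Lib.Block Cfsg.Lib.Block2 Cfsg.Lib.Amalg MonoidAlgebra Subgroup Polynomial

variable {κ : Type*} [Field κ] {G : Type*} [Group G] [Finite G] {W : Type*} [AddCommGroup W]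
  [Module κ W]

/-- conjugation of endomorphisms -/
noncomputable def cjE (R : MonoidAlgebra κ G →ₐ[κ] End κ W) (g : G) : End κ W →ₐ[κ] End κ W where
  toFun v := R (single g 1) * v * R (single g⁻¹ 1)
  map_one' := by rw [mul_one, ← map_mul, single_mul_single, mul_inv_cancel, mul_one, ← one_def, map_one]
  map_mul' a b := by
    simp only [mul_assoc]
    rw [← mul_assoc (R (single g⁻¹ 1)), ← map_mul, single_mul_single, inv_mul_cancel, mul_one,
      ← one_def, map_one, one_mul]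
  map_zero' := by simp
  map_add' a b := by rw [mul_add, add_mul]
  commutes' c := by
    rw [← Algebra.commutes, mul_assoc, ← map_mul, single_mul_single, mul_inv_cancel, mul_one,
      ← one_def, map_one, mul_one]

variable (R : MonoidAlgebra κ G →ₐ[κ] End κ W)

omit [Finite G] in
theorem cjE_apply (g : G) (v : End κ W) : cjE R g v = R (single g 1) * v * R (single g⁻¹ 1) := rfl

omit [Finite G] in
theorem cjE_mul (g h : G) (v : End κ W) : cjE R (g * h) v = cjE R g (cjE R h v) := by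
  simp only [cjE_apply, mul_assoc]
  rw [← map_mul, single_mul_single, ← mul_assoc (R _) (R _), ← map_mul, single_mul_single, mul_one,
    mul_inv_rev]

theorem cjE_map (g : G) (a : MonoidAlgebra κ G) : cjE R g (R a) = R (cjA g a) := by
  rw [cjE_apply, cjA_eq_mul, map_mul, map_mul]

omit [Finite G] in
theorem cjE_eq_iff {g : G} {v : End κ W} :
    cjE R g v = v ↔ R (single g 1) * v = v * R (single g 1) := by
  have h1 : R (single g⁻¹ 1) * R (single g 1) = 1 := by
    rw [← map_mul, single_mul_single, inv_mul_cancel, mul_one, ← one_def, map_one]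
  have h2 : R (single g 1) * R (single g⁻¹ 1) = 1 := by
    rw [← map_mul, single_mul_single, mul_inv_cancel, mul_one, ← one_def, map_one]
  rw [cjE_apply]
  exact ⟨fun h => by conv_rhs => rw [← h, mul_assoc, h1, mul_one],
    fun h => by rw [h, mul_assoc, h2, mul_one]⟩

omit [Finite G] in
theorem cjE_out {C : Subgroup G} {v : End κ W} (hv : ∀ c ∈ C, cjE R c v = v) (g : G) :
    cjE R (g : G ⧸ C).out v = cjE R g v := by
  obtain ⟨c, hc⟩ := QuotientGroup.mk_out_eq_mul C g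
  rw [hc, cjE_mul, hv _ c.2]

theorem comm_sum_cjE {C : Subgroup G} [Fintype (G ⧸ C)] {v : End κ W} (hv : ∀ c ∈ C, cjE R c v = v)
    (a : MonoidAlgebra κ G) :
    (∑ q : G ⧸ C, cjE R q.out v) * R a = R a * ∑ q : G ⧸ C, cjE R q.out v := by
  induction a using MonoidAlgebra.induction_linear with
  | zero => simp
  | add a b ha hb => rw [map_add, mul_add, add_mul, ha, hb]
  | single g c =>
    rw [← mul_one c, ← smul_eq_mul c, ← smul_single, map_smul, mul_smul_comm, smul_mul_assoc,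
      (cjE_eq_iff R).1]
    rw [map_sum]
    refine Fintype.sum_equiv (MulAction.toPerm g) _ _ fun q => ?_
    rw [← cjE_mul, ← cjE_out R hv, MulAction.toPerm_apply, ← smul_eq_mul, MulAction.Quotient.coe_smul_out]

theorem sum_mem_range_tr {p : ℕ} [Fact p.Prime] [CharP κ p] {C X V : Type*} [Group C] [Fintype C]
    [Fintype X] [MulAction C X] [AddCommGroup V] [Module κ V] (ρ : C → V →ₗ[κ] V) (ψ : X → V)
    (h : ∀ c x, ψ (c • x) = ρ c (ψ x))
    (hs : ∀ x, ψ x ≠ 0 → ¬ p ∣ Nat.card (MulAction.stabilizer C x)) :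
    ∑ x, ψ x ∈ LinearMap.range (∑ c, ρ c) := by
  classical
  rw [← Finset.sum_fiberwise Finset.univ (Quotient.mk (MulAction.orbitRel C X))]
  refine Submodule.sum_mem _ fun ω _ => ?_
  obtain ⟨x, rfl⟩ := Quotient.exists_rep ω
  have e : ∑ y with Quotient.mk (MulAction.orbitRel C X) y = Quotient.mk _ x, ψ y =
      ∑ᶠ y ∈ MulAction.orbit C x, ψ y := by
    rw [← finsum_mem_coe_finset]
    congr! 2 with y
    simp [Quotient.eq, MulAction.orbitRel_apply]
  by_cases h0 : ψ x = 0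
  · refine Submodule.sum_mem _ fun y hy => ?_
    obtain ⟨c, rfl⟩ := Quotient.exact (Finset.mem_filter.1 hy).2
    rw [h, h0, map_zero]
    exact zero_mem _
  · have h1 : (Nat.card (MulAction.stabilizer C x) : κ) ≠ 0 := fun e =>
      hs x h0 ((CharP.cast_eq_zero_iff κ p _).1 e)
    refine ⟨(Nat.card (MulAction.stabilizer C x) : κ)⁻¹ • ψ x, ?_⟩
    rw [map_smul, LinearMap.sum_apply, e]
    simp only [← h]
    rw [sum_smul_eq_card_stabilizer, ← Nat.cast_smul_eq_nsmul κ, inv_smul_smul₀ h1]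

/-- conjugation on the group algebra of the centraliser -/
noncomputable def cjN {S : Type*} [CommRing S] {Z : Subgroup G} (g : 𝐍 Z) :
    MonoidAlgebra S (𝐂 Z) ≃ₐ[S] MonoidAlgebra S (𝐂 Z) := domCongr S S (cjC g)

theorem incl_cjN {S : Type*} [CommRing S] {Z : Subgroup G} (g : 𝐍 Z) (a : MonoidAlgebra S (𝐂 Z)) :
    incl _ (cjN g a) = cjA (g : G) (incl _ a) := by
  induction a using MonoidAlgebra.induction_linear with
  | zero => simp
  | add a b ha hb => simp only [map_add, ha, hb]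
  | single c s => rw [cjN, domCongr_single, incl_single, incl_single, cjA_single, coe_cjC]

omit [Finite G] in
theorem cjN_symm {S : Type*} [CommRing S] {Z : Subgroup G} (g : 𝐍 Z) :
    (cjN (S := S) g).symm = cjN g⁻¹ := by
  rw [cjN, cjN, domCongr_symm, map_inv]; rfl

theorem card_filter_out_mem {C H : Subgroup G} (h : C ≤ H) [Fintype (G ⧸ C)]
    [DecidablePred (· ∈ H)] : (Finset.univ.filter fun q : G ⧸ C => q.out ∈ H).card = C.relIndex H := by
  classical
  haveI := Fintype.ofFinite G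
  have h1 := sum_eq_sum_cosets C fun g => if g ∈ H then 1 else 0
  simp only [H.mul_mem_cancel_right (h (Subtype.prop _)), Finset.sum_const, smul_eq_mul,
    ← Finset.mul_sum, Finset.sum_boole, Nat.cast_id, Finset.card_univ] at h1
  rw [← Invol.card_eq_filter, ← Nat.card_eq_fintype_card] at h1
  refine Nat.eq_of_mul_eq_mul_left (Nat.card_pos (α := C)) ?_
  rw [← h1, ← Nat.card_congr (subgroupOfEquivOfLe h).toEquiv, relIndex, card_mul_index]

/-- triples on which a subgroup acts -/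
def Tri (C : Subgroup G) : Type _ := G × (G ⧸ C) × G

instance (C : Subgroup G) : MulAction C (Tri C) where
  smul c x := (c * x.1 * c⁻¹, (c : G) • x.2.1, c * x.2.2 * c⁻¹)
  one_smul x := Prod.ext (by change _ * _ * _ = _; simp)
    (Prod.ext (one_smul G _) (by change _ * _ * _ = _; simp))
  mul_smul a b x := Prod.ext (by change _ * _ * _ = _ * (_ * _ * _) * _; simp [mul_assoc])
    (Prod.ext (mul_smul (a : G) b _) (by change _ * _ * _ = _ * (_ * _ * _) * _; simp [mul_assoc]))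

variable (p : ℕ) in
/-- the modular datum of a block with cyclic defect group -/
structure GD (Z H : Subgroup G) (n e : ℕ) (f y : MonoidAlgebra κ (𝐂 Z))
    (S : FMod.{0} κ (MonoidAlgebra κ (𝐂 Z))) : Prop extends LD n f y S where
  cardZ : Nat.card Z = p
  CH : 𝐂 Z ≤ H
  HN : H ≤ 𝐍 Z
  gen : ∃ h₀ ∈ H, ∀ g ∈ H, ∃ j : ℕ, ∃ c ∈ 𝐂 Z, g = h₀ ^ j * c
  σf : ∀ g : 𝐍 Z, (g : G) ∈ H → cjN g f = f
  σy : ∀ g : 𝐍 Z, (g : G) ∈ H → ∃ a : ℕ, (a : κ) ^ e = 1 ∧ cjN g (1 + y) = (1 + y) ^ a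
  orth : ∀ g : 𝐍 Z, (g : G) ∉ H → f * cjN g f = 0
  supp : ∀ x, f.coeff x ≠ 0 → ∀ c : 𝐂 Z, orderOf c = p → c * x = x * c → (c : G) ∈ Z
  he : (𝐂 Z).relIndex H = e
  he0 : (e : κ) ≠ 0

namespace GD

variable {p : ℕ} [hp : Fact p.Prime] [CharP κ p] {Z H : Subgroup G} {n e : ℕ}
  {f y : MonoidAlgebra κ (𝐂 Z)} {S : FMod.{0} κ (MonoidAlgebra κ (𝐂 Z))} (h : GD p Z H n e f y S)
include h

theorem exists_tr [Fintype (𝐂 Z)] [Fintype (G ⧸ 𝐂 Z)] [DecidablePred (· ∈ H)] {v : End κ W}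
    (hv : ∀ c ∈ 𝐂 Z, cjE R c v = v) (hf : R (incl _ f) * v = v) (hf' : v * R (incl _ f) = v) :
    ∃ φ, R (incl _ f) * (∑ q : G ⧸ 𝐂 Z, cjE R q.out v) * R (incl _ f) =
      ∑ q : G ⧸ 𝐂 Z with q.out ∈ H, cjE R q.out v + ∑ c : 𝐂 Z, cjE R c φ := by
  classical
  haveI := Fintype.ofFinite G
  set F := incl _ f with hF
  have hFc : ∀ c ∈ 𝐂 Z, cjA c F = F := fun c hc => h.cf.incl.cjA_eq hc
  have hFH : ∀ g ∈ H, cjA g F = F := fun g hg => by
    rw [hF, ← incl_cjN ⟨g, h.HN hg⟩, h.σf _ hg]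
  letI : Fintype (Tri (𝐂 Z)) := inferInstanceAs (Fintype (G × (G ⧸ 𝐂 Z) × G))
  have hsm : ∀ (c : 𝐂 Z) (x : Tri (𝐂 Z)),
    c • x = ((c * x.1 * (c : G)⁻¹, (c : G) • x.2.1, c * x.2.2 * (c : G)⁻¹) : G × (G ⧸ 𝐂 Z) × G) :=
    fun _ _ => rfl
  have hout : ∀ (c : G) (q : G ⧸ 𝐂 Z), ∃ d ∈ 𝐂 Z, (c • q).out = c * q.out * d := fun c q => by
    obtain ⟨d, hd⟩ := QuotientGroup.mk_out_eq_mul (𝐂 Z) (c * q.out)
    exact ⟨d, d.2, by rw [← hd, ← smul_eq_mul, MulAction.Quotient.coe_smul_out]⟩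
  have hCN : 𝐂 Z ≤ 𝐍 Z := h.CH.trans h.HN
  let ψ : Tri (𝐂 Z) → End κ W := fun x => if x.2.1.out ∈ 𝐍 Z then 0 else
    (F.coeff x.1 * (cjA x.2.1.out F).coeff x.2.2) •
      (R (single x.1 1) * R (single x.2.2 1) * cjE R x.2.1.out v * R F)
  obtain ⟨φ, hφ⟩ := sum_mem_range_tr (p := p) (fun c : 𝐂 Z => (cjE R c).toLinearMap) ψ
    (fun c x => by
      obtain ⟨d, hd, e⟩ := hout c x.2.1
      simp only [ψ, hsm, e, (𝐍 Z).mul_mem_cancel_right (hCN hd), (𝐍 Z).mul_mem_cancel_left (hCN c.2)]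
      split_ifs
      · simp
      · rw [cjA_mul, cjA_mul, hFc d hd, coeff_cjA_conj, cjE_mul, cjE_mul, hv d hd, map_smul]
        simp only [AlgHom.toLinearMap_apply, map_mul, cjE_map, cjA_single, hFc _ c.2]
        rw [← coeff_cjA_conj (c : G) F x.1, hFc _ c.2])
    (fun x h0 hd => by
      obtain ⟨⟨c, hc⟩, ho⟩ := exists_prime_orderOf_dvd_card' p hd
      rw [← orderOf_coe] at ho
      have c1 : c * x.1 * (c : G)⁻¹ = x.1 := congrArg (·.1) hc
      have c2 : (c : G) • x.2.1 = x.2.1 := congrArg (·.2.1) hc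
      have c3 : c * x.2.2 * (c : G)⁻¹ = x.2.2 := congrArg (·.2.2) hc
      simp only [ψ] at h0
      split_ifs at h0 with hN
      · exact h0 rfl
      have h1 := left_ne_zero_of_mul (left_ne_zero_of_smul h0)
      have h2 := right_ne_zero_of_mul (left_ne_zero_of_smul h0)
      rw [coeff_cjA] at h2
      have key : ∀ x : G, F.coeff x ≠ 0 → ∀ c ∈ 𝐂 Z, orderOf c = p → c * x * c⁻¹ = x →
          zpowers c = Z := fun x hx c hc ho e => by
        have hm := (supp_incl _ f).mem hx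
        rw [coeff_incl_of_mem _ hm] at hx
        refine eq_of_le_of_card_ge (zpowers_le.2 (h.supp _ hx ⟨c, hc⟩ (by rw [← orderOf_coe, ho])
          (Subtype.ext (mul_inv_eq_iff_eq_mul.1 e)))) ?_
        rw [h.cardZ, Nat.card_zpowers, ho]
      have ho' : orderOf (c : G) = p := by rw [orderOf_coe]; exact ho
      obtain ⟨d, hd, e⟩ := hout c x.2.1
      rw [c2] at e
      have e' : x.2.1.out⁻¹ * c * x.2.1.out = d⁻¹ := by
        rw [eq_inv_iff_mul_eq_one, mul_assoc, mul_assoc, ← mul_assoc (c : G), ← e, inv_mul_cancel]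
      have k1 := key _ h1 c c.2 ho' c1
      have k2 := key _ h2 (x.2.1.out⁻¹ * c * x.2.1.out) (e' ▸ inv_mem hd)
        (by rw [← ho', ← Invol.orderOf_conj x.2.1.out]; group) (by
          conv_rhs => rw [← c3]
          simp [mul_assoc])
      refine hN (mem_normalizer_of_cj_le (le_of_eq ?_))
      refine (congrArg (fun K => cj _ K) k2.symm).trans (Eq.trans ?_ k1)
      rw [cj_zpowers]
      group)
  refine ⟨φ, ?_⟩
  have e1 : ∑ c : 𝐂 Z, cjE R c φ = ∑ q : G ⧸ 𝐂 Z, if q.out ∈ 𝐍 Z then 0 else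
      R F * cjE R q.out v * R F := by
    have : ∑ c : 𝐂 Z, cjE R c φ = ∑ x : G × (G ⧸ 𝐂 Z) × G, ψ x := by
      rw [LinearMap.sum_apply] at hφ; exact hφ
    rw [this, Fintype.sum_prod_type, Finset.sum_congr rfl fun _ _ => Fintype.sum_prod_type _,
      Finset.sum_comm]
    refine Finset.sum_congr rfl fun q _ => ?_
    simp only [ψ]
    split_ifs
    · simp
    · conv_rhs => rw [← hf, map_mul, cjE_map, ← mul_assoc]
      have e2 : ∀ a : MonoidAlgebra κ G, R a = ∑ g, a.coeff g • R (single g 1) := fun a => by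
        conv_lhs => rw [eq_sum_single a, map_sum]
        simp only [map_smul]
      conv_rhs => rw [e2 (cjA _ _)]; enter [1, 1, 1]; rw [e2 F]
      rw [Finset.sum_mul_sum]
      simp only [Finset.sum_mul, mul_smul_comm, smul_mul_assoc, smul_smul, mul_comm (F.coeff _)]
  rw [e1, Finset.mul_sum, Finset.sum_mul, Finset.sum_filter, ← Finset.sum_add_distrib]
  refine Finset.sum_congr rfl fun q _ => ?_
  by_cases hN : q.out ∈ 𝐍 Z
  · rw [if_pos hN, add_zero]
    split_ifs with hH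
    · rw [← hFH _ hH, ← cjE_map, ← map_mul, ← map_mul, hf, hf']
    · rw [← hf, map_mul, cjE_map, ← mul_assoc, ← map_mul, hF, ← incl_cjN ⟨_, hN⟩, ← map_mul,
        h.orth _ hH]
      simp
  · rw [if_neg hN, if_neg fun hH => hN (h.HN hH), zero_add]

theorem main [IsAlgClosed κ] [FiniteDimensional κ W] [Fintype (G ⧸ 𝐂 Z)]
    (hloc : ∀ w : End κ W, (∀ a, w * R a = R a * w) → ∃ l : κ, IsNilpotent (w - l • 1))
    (hsc : ∃ a : κ, ∑ q : G ⧸ 𝐂 Z, cjE R q.out (R (incl _ ((1 + y) * f))) = a • 1) :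
    ∃ l < n, (l ≤ e ∨ n ≤ l + e) ∧
      finrank κ (LinearMap.ker (R (incl _ y)) ⊓ LinearMap.range (R (incl _ f)) : Submodule κ W) ≤
        finrank κ S.V + finrank κ (LinearMap.range (R (incl _ y) ^ (n - 1) * R (incl _ f))) ∧
      finrank κ (LinearMap.range (R (incl _ f))) =
        l * finrank κ (LinearMap.ker (R (incl _ y)) ⊓ LinearMap.range (R (incl _ f)) :
          Submodule κ W) +
        (n - l) * finrank κ (LinearMap.range (R (incl _ y) ^ (n - 1) * R (incl _ f))) := by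
  classical
  haveI := Fintype.ofFinite (𝐂 Z)
  have h2 := h.two
  let R₀ := R.comp (incl (𝐂 Z))
  have hR : ∀ a, R (incl _ a) = R₀ a := fun _ => rfl
  simp only [hR] at hsc ⊢
  set I := LinearMap.range (R₀ y ^ (n - 1) * R₀ f) with hI
  set K := LinearMap.ker (R₀ y) ⊓ LinearMap.range (R₀ f) with hK
  have hU0 : ∀ j, LinearMap.range (R₀ y ^ j * R₀ f) ≤ LinearMap.range (R₀ f) := fun j => by
    simpa only [pow_zero, one_mul] using h.range_le R₀ (Nat.zero_le j)
  have hdim : ∀ l < n, (∀ j < l, K ≤ LinearMap.range (R₀ y ^ j * R₀ f)) →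
      LinearMap.ker (R₀ y) ⊓ LinearMap.range (R₀ y ^ l * R₀ f) ≤ I →
      finrank κ (LinearMap.range (R₀ f)) = l * finrank κ K + (n - l) * finrank κ I := by
    intro l hl h1 h3
    rw [finrank_range_eq_sum (R₀ y) (R₀ f) (n := n) (by rw [← map_pow, h.yn, map_zero]),
      ← Finset.sum_range_add_sum_Ico _ hl.le, Finset.sum_congr rfl (g := fun _ => finrank κ K),
      Finset.sum_congr rfl (s₁ := Finset.Ico l n) (g := fun _ => finrank κ I)]
    · simp
    · intro j hj
      rw [Finset.mem_Ico] at hj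
      rw [le_antisymm ((inf_le_inf_left _ (h.range_le R₀ hj.1)).trans h3)
        (le_inf (h.range_le_ker R₀) (h.range_le R₀ (by omega)))]
    · intro j hj
      rw [le_antisymm (inf_le_inf_left _ (hU0 j)) (le_inf inf_le_left (h1 j (Finset.mem_range.1 hj)))]
  by_cases hKI : K ≤ I
  · exact ⟨0, by omega, Or.inl (Nat.zero_le _), (Submodule.finrank_mono hKI).trans le_add_self,
      hdim 0 (by omega) (by simp) (by rwa [pow_zero, one_mul])⟩
  have hσ : ∀ (g : 𝐍 Z) a, R (single (g : G) 1) * R₀ a = R₀ (cjN g a) * R (single (g : G) 1) :=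
    fun g a => by
      rw [← hR, ← hR, incl_cjN, ← cjE_map, cjE_apply, mul_assoc, ← map_mul R (single _ _) (single _ _),
        single_mul_single, inv_mul_cancel, mul_one, ← one_def, map_one, mul_one]
  have hσy : ∀ g : 𝐍 Z, (g : G) ∈ H → ∃ d, cjN g y = y * d := fun g hg => by
    obtain ⟨a, -, ha⟩ := h.σy g hg
    rw [map_add, map_one, ← eq_sub_iff_add_eq'] at ha
    exact ⟨_, by rw [ha, ← mul_geom_sum, add_sub_cancel_left]⟩
  obtain ⟨h₀, hh₀, hgen⟩ := h.gen
  obtain ⟨k, w, T, v, ν, hk, w1, w2, w3, k1, t1, t2, t3, t4, t5, t6, v1, v2, v3, v4, v5⟩ :=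
    h.exists_T R₀ (hσ ⟨h₀, h.HN hh₀⟩) (h.σf _ hh₀) (hσy _ hh₀)
      (by rw [cjN_symm]; exact hσy _ (inv_mem hh₀)) hKI
  have hE : ∀ c : 𝐂 Z, R (single (c : G) 1) = R₀ (single c 1) := fun c => by rw [← hR, incl_single]
  have hT : ∀ g ∈ H, ∀ x ∈ T, R (single g 1) x ∈ T := fun g hg x hx => by
    obtain ⟨j, c, hc, rfl⟩ := hgen g hg
    have h1 := t5 (single ⟨c, hc⟩ 1) x hx
    rw [← hE] at h1
    rw [← one_mul (1 : κ), ← single_mul_single, map_mul, End.mul_apply]
    generalize R (single c 1) x = z at h1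
    induction j with
    | zero => rwa [pow_zero, ← one_def, map_one]
    | succ j ih =>
      rw [pow_succ', ← one_mul (1 : κ), ← single_mul_single, map_mul, End.mul_apply]
      exact t6 _ (ih (mul_mem (pow_mem hh₀ _) (h.CH hc)))
  have hfg : ∀ g ∈ H, ∀ x, R₀ f (R (single g 1) x) = R (single g 1) (R₀ f x) := fun g hg x => by
    rw [← End.mul_apply, ← End.mul_apply, hσ ⟨g, h.HN hg⟩, h.σf _ hg]
  have hKg : ∀ g ∈ H, ∀ x ∈ K, R (single g 1) x ∈ K := fun g hg x hx => by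
    refine ⟨?_, ?_⟩
    · obtain ⟨d, hd⟩ := hσy ⟨g, h.HN hg⟩⁻¹ (inv_mem hg)
      rw [← cjN_symm, AlgEquiv.symm_apply_eq] at hd
      have := hσ ⟨g, h.HN hg⟩ (y * d)
      rw [← hd] at this
      change R₀ y _ = 0
      rw [← End.mul_apply, ← this, h.cy.comm, map_mul, End.mul_apply, End.mul_apply,
        show R₀ y x = 0 from hx.1, map_zero, map_zero]
    · obtain ⟨z, rfl⟩ := hx.2
      exact ⟨_, hfg g hg z⟩
  have hIg : ∀ g ∈ H, ∀ x ∈ I, R (single g 1) x ∈ I := by
    rintro g hg _ ⟨x, rfl⟩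
    obtain ⟨d, hd⟩ := hσy ⟨g, h.HN hg⟩ hg
    refine ⟨R₀ (d ^ (n - 1)) (R (single g 1) x), ?_⟩
    rw [← map_pow, ← map_mul, ← End.mul_apply (R _), hσ ⟨g, h.HN hg⟩, map_mul (cjN _),
      map_pow (cjN _), h.σf _ hg, hd, (h.cy.commute d).mul_pow, mul_assoc, ← h.cf.comm (d ^ _),
      ← mul_assoc, map_mul R₀ (_ * _)]
    rfl
  have hfK : ∀ x ∈ K, R₀ f x = x := fun x hx =>
    h.apply_f R₀ (j := 0) (by rw [pow_zero, one_mul]; exact hx.2)
  have htr : ∀ φ : End κ W, ∑ c : 𝐂 Z, cjE R c φ = ∑ c, R₀ (single c 1) * φ * R₀ (single c⁻¹ 1) :=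
    fun φ => Finset.sum_congr rfl fun c _ => by rw [cjE_apply, ← hE, ← hE]; rfl
  have hcard := (card_filter_out_mem h.CH).trans h.he
  -- the first transfer
  have hv : ∀ c ∈ 𝐂 Z, cjE R c v = v := fun c hc => by
    rw [cjE_eq_iff, hE ⟨c, hc⟩, v1]
  obtain ⟨φ, hφ⟩ := h.exists_tr R hv v2 (by rw [hR, v1, v2])
  have hcomm := comm_sum_cjE R hv
  obtain ⟨l, N, hN⟩ := hloc _ hcomm
  set ω := ∑ q : G ⧸ 𝐂 Z, cjE R q.out v
  have hω : ∀ x ∈ K, ω x - ∑ q : G ⧸ 𝐂 Z with q.out ∈ H, cjE R q.out v x ∈ I := fun x hx => by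
    have := congrArg (· x) hφ
    rw [← hcomm] at this
    simp only [End.mul_apply, hR, hfK x hx, LinearMap.add_apply, LinearMap.sum_apply _ _ x] at this
    rw [this, add_sub_cancel_left, ← LinearMap.sum_apply, htr]
    exact h.tr_mem R₀ φ (j := 1) (by omega) (hfK x hx) (by rw [pow_one]; exact hx.1)
  have hωK : ∀ x ∈ K, ω x ∈ T := fun x hx => by
    rw [← sub_add_cancel (ω x) _]
    refine add_mem (t2 (hω x hx)) (Submodule.sum_mem _ fun q hq => ?_)
    have hq := (Finset.mem_filter.1 hq).2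
    exact hT _ hq _ (v4 _ (hKg _ (inv_mem hq) x hx))
  have hωI : ∀ x ∈ I, ω x ∈ I := by
    rintro _ ⟨x, rfl⟩
    exact ⟨ω x, by rw [← map_pow, ← map_mul, ← hR, ← End.mul_apply, ← hcomm, End.mul_apply]⟩
  set t := (R₀ y ^ k) w
  have tK : t ∈ K := ⟨by rw [pow_succ'] at w2; exact w2, hU0 _ (t3 t1)⟩
  have hωt : ω t - (e * ν) • t ∈ I := by
    have : (e * ν) • t = ∑ q : G ⧸ 𝐂 Z with q.out ∈ H, ν • t := by
      rw [Finset.sum_const, hcard, mul_smul, Nat.cast_smul_eq_nsmul]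
    rw [← sub_add_sub_cancel _ _, this, ← Finset.sum_sub_distrib]
    refine add_mem (hω t tK) (Submodule.sum_mem _ fun q hq => ?_)
    have hq := (Finset.mem_filter.1 hq).2
    have := hIg _ hq _ (v5 _ (hT _ (inv_mem hq) t t1))
    rwa [map_sub, map_smul, ← End.mul_apply (R _) (R _), ← map_mul, single_mul_single,
      mul_inv_cancel, mul_one, ← one_def, map_one] at this
  have hl : l = e * ν := by
    have : ∀ j : ℕ, ((ω - l • 1) ^ j) t - (e * ν - l) ^ j • t ∈ I := fun j => by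
      induction j with
      | zero => simp
      | succ j ih =>
        have h1 := sub_mem (hωI _ ih) (I.smul_mem l ih)
        have h3 := I.smul_mem ((e * ν - l) ^ j) hωt
        convert add_mem h1 h3 using 1
        simp only [pow_succ', End.mul_apply, LinearMap.sub_apply, LinearMap.smul_apply,
          End.one_apply, map_sub, map_smul]
        module
    have h1 := this N
    rw [hN, LinearMap.zero_apply, zero_sub, neg_mem_iff] at h1
    by_contra hne
    exact w3 ((I.smul_mem_iff (pow_ne_zero _ (sub_ne_zero.2 (Ne.symm hne)))).1 h1)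
  have hu : IsUnit ω := by
    have := (IsNilpotent.isUnit_add_right_of_commute ⟨N, hN⟩
      ((IsUnit.mk0 l (hl ▸ mul_ne_zero h.he0 v3)).map (algebraMap κ (End κ W)))
      (Algebra.commutes _ _).symm)
    rwa [Algebra.algebraMap_eq_smul_one, sub_add_cancel] at this
  have hKT : K ≤ T := by
    have h1 : K.map ω ≤ K := by
      rintro _ ⟨x, hx, rfl⟩
      refine ⟨?_, ?_⟩
      · change R₀ y _ = 0
        rw [← hR, ← End.mul_apply, ← hcomm, End.mul_apply, hR, show R₀ y x = 0 from hx.1, map_zero]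
      · exact ⟨ω x, by rw [← hR, ← End.mul_apply, ← hcomm, End.mul_apply, hR, hfK x hx]⟩
    rw [← Submodule.eq_of_le_of_finrank_le h1 (LinearEquiv.finrank_eq (K.equivMapOfInjective ω
      ((End.isUnit_iff _).1 hu).1)).le]
    rintro _ ⟨x, hx, rfl⟩
    exact hωK x hx
  refine ⟨k + 1, hk, ?_, (Submodule.finrank_mono hKT).trans t4, hdim _ hk
    (fun j hj => (hKT.trans t3).trans (h.range_le R₀ (by omega))) k1⟩
  -- the second transfer
  obtain ⟨a, ha⟩ := hsc
  have hc : IsCen ((1 + y) * f) := (isCen_one.add h.cy).mul h.cf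
  obtain ⟨φ, hφ⟩ := h.exists_tr R (v := R₀ ((1 + y) * f))
    (fun c hc' => by rw [← hR, cjE_map, hc.incl.cjA_eq hc'])
    (by rw [hR, ← map_mul, h.cf.comm, mul_assoc, h.ff]) (by rw [hR, ← map_mul, mul_assoc, h.ff])
  choose! α hα1 hα2 using h.σy
  let β : G ⧸ 𝐂 Z → ℕ := fun q => if hq : q.out ∈ 𝐍 Z then α ⟨_, hq⟩ else 0
  obtain ⟨r1, r2⟩ := rootMultiplicity_le (Finset.univ.filter fun q : G ⧸ 𝐂 Z => q.out ∈ H) β
    (e := e) (Nat.pos_of_ne_zero fun e => h.he0 (by simp [e])) (by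
      rw [Finset.sum_congr rfl (g := fun _ => (1 : κ)) fun q hq => ?_]
      · simpa [hcard] using h.he0
      · have hq := (Finset.mem_filter.1 hq).2
        simp only [β, dif_pos (h.HN hq)]
        exact hα1 _ hq) a
  obtain ⟨u, hu, -, hq, -⟩ := exists_aeval_eq (y := y) ⟨n, h.yn⟩ r1
  generalize rootMultiplicity (1 : κ) _ = j at r2 hq
  have e1 : R₀ (y ^ j * aeval (1 + y) u) w = -(∑ c : 𝐂 Z, cjE R c φ) w := by
    have := congrArg (· w) hφ
    simp only [ha, hR, End.mul_apply, w1, LinearMap.smul_apply, End.one_apply, map_smul,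
      LinearMap.add_apply] at this
    rw [← hq, eq_neg_iff_add_eq_zero, map_sub, map_sub, aeval_C, AlgHom.commutes,
      LinearMap.sub_apply, Algebra.algebraMap_eq_smul_one, LinearMap.smul_apply, End.one_apply, this,
      map_sum, map_sum, sub_add_eq_add_sub, sub_eq_zero, add_left_inj, LinearMap.sum_apply,
      LinearMap.sum_apply]
    refine Finset.sum_congr rfl fun q hq => ?_
    have hq := (Finset.mem_filter.1 hq).2
    rw [← hR ((1 + y) * f), cjE_map, ← incl_cjN ⟨_, h.HN hq⟩, map_mul, hα2 _ hq, h.σf _ hq, hR, map_mul,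
      End.mul_apply, w1]
    simp only [β, dif_pos (h.HN hq), map_pow, aeval_X]
  have e2 : (R₀ y ^ j) w ∈ LinearMap.range (R₀ y ^ (n - (k + 1)) * R₀ f) := by
    obtain ⟨u', hu'⟩ := hu.exists_left_inv
    have := h.apply_mem R₀ (neg_mem (h.tr_mem R₀ φ hk.le w1 w2)) u'
    rwa [← htr, ← e1, ← End.mul_apply, ← map_mul, (h.cy.pow j).comm, ← mul_assoc, hu', one_mul,
      map_pow] at this
  by_contra hcon
  push Not at hcon
  obtain ⟨z, hz⟩ := e2
  refine w3 (k1 ⟨tK.1, h.range_le R₀ (j := k - j + (n - (k + 1))) (by omega) ⟨z, ?_⟩⟩)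
  rw [pow_add, mul_assoc, End.mul_apply, hz, ← End.mul_apply, ← pow_add,
    Nat.sub_add_cancel (by omega)]

end GD

end Cfsg.Lib.Small
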