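import Cfsg.Agent.Lib.Small.DadeC
import Cfsg.Agent.Lib.Small.Tree

/-!
# Cyclic defect groups: lattices with indecomposable reduction
-/

set_option autoImplicit false

namespace Cfsg.Lib.Small

open Module Cfsg.Lib.Block Cfsg.Lib.Block2 Cfsg.Lib.Char MonoidAlgebra Matrix

variable {G : Type*} [Group G] [Finite G]

section RM

variable {O F : Type*} [CommRing O] [Field F] {N : ℕ}

/-- the representation of the group algebra attached to an integral matrix representation -/
noncomputable def RM (ψ : O →+* F) (ρ : G →* Matrix (Fin N) (Fin N) O) :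
    MonoidAlgebra F G →ₐ[F] End F (Fin N → F) :=
  (Matrix.toLinAlgEquiv' : Matrix (Fin N) (Fin N) F ≃ₐ[F] _).toAlgHom.comp
    (MonoidAlgebra.lift F _ G (ψ.mapMatrix.toMonoidHom.comp ρ))

omit [Finite G] in
theorem RM_single (ψ : O →+* F) (ρ : G →* Matrix (Fin N) (Fin N) O) (g : G) (c : F) :
    RM ψ ρ (single g c) = c • toLin' ((ρ g).map ψ) := by
  simp [RM]; rfl

omit [Finite G] in
theorem RM_map (ψ : O →+* F) (ρ : G →* Matrix (Fin N) (Fin N) O) (a : MonoidAlgebra O G) :
    RM ψ ρ (mapRingHom G ψ a) = toLin' ((MonoidAlgebra.lift O _ G ρ a).map ψ) := by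
  induction a using MonoidAlgebra.induction_linear with
  | zero => simp
  | add a b ha hb => rw [map_add, map_add, ha, hb, map_add, Matrix.map_add _ (map_add ψ), map_add]
  | single g c =>
    rw [mapRingHom_single, RM_single, MonoidAlgebra.lift_single, ← map_smul]
    congr 1
    ext; simp

theorem trace_RM (ψ : O →+* F) (ρ : G →* Matrix (Fin N) (Fin N) O) (a : MonoidAlgebra F G) :
    LinearMap.trace F _ (RM ψ ρ a) = charExt (fun g => ((ρ g).map ψ).trace) a := by
  induction a using MonoidAlgebra.induction_linear with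
  | zero => simp
  | add a b ha hb => simp only [map_add, ha, hb]
  | single g c => rw [RM_single, charExt_single, map_smul, Matrix.trace_toLin'_eq, smul_eq_mul]

theorem mapRingHom_incl (ψ : O →+* F) (H : Subgroup G) (a : MonoidAlgebra O H) :
    mapRingHom G ψ (incl H a) = incl H (mapRingHom H ψ a) := by
  induction a using MonoidAlgebra.induction_linear with
  | zero => simp
  | add a b ha hb => simp only [map_add, ha, hb]
  | single g c => simp only [incl_single, mapRingHom_single]

theorem mapRingHom_cjA (ψ : O →+* F) (g : G) (a : MonoidAlgebra O G) :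
    mapRingHom G ψ (cjA g a) = cjA g (mapRingHom G ψ a) := ga_ext fun x => by simp

theorem mapRingHom_smul' (ψ : O →+* F) (c : O) (a : MonoidAlgebra O G) :
    mapRingHom G ψ (c • a) = ψ c • mapRingHom G ψ a := ga_ext fun x => by simp

theorem mapRingHom_inj {ψ : O →+* F} (h : Function.Injective ψ) :
    Function.Injective (mapRingHom G ψ) := fun a b e => ga_ext fun x => h (by
  simpa using congrArg (·.coeff x) e)

theorem mapRingHom_surj {ψ : O →+* F} (h : Function.Surjective ψ) :
    Function.Surjective (mapRingHom G ψ) := fun a =>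
  ⟨ofFun fun g => (h (a.coeff g)).choose, ga_ext fun g => by simpa using (h (a.coeff g)).choose_spec⟩

end RM

section val

variable {F : Type*} [Field F] (O : ValuationSubring F) {N : ℕ}

omit [Finite G] in
theorem finrank_range_RM_le (ρ : G →* Matrix (Fin N) (Fin N) O) (a : MonoidAlgebra O G) :
    finrank (IsLocalRing.ResidueField O) (LinearMap.range (RM (IsLocalRing.residue O) ρ (mapRingHom G (IsLocalRing.residue O) a))) ≤
      finrank F (LinearMap.range (RM O.subtype ρ (mapRingHom G O.subtype a))) := by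
  rw [RM_map, RM_map]
  exact rank_residue_le O _

omit [Finite G] in
theorem finrank_ker_RM_le (ρ : G →* Matrix (Fin N) (Fin N) O) (a : MonoidAlgebra O G) :
    finrank F (LinearMap.ker (RM O.subtype ρ (mapRingHom G O.subtype a))) ≤
      finrank (IsLocalRing.ResidueField O) (LinearMap.ker (RM (IsLocalRing.residue O) ρ (mapRingHom G (IsLocalRing.residue O) a))) := by
  have h1 := finrank_range_RM_le O ρ a
  have h2 := (RM O.subtype ρ (mapRingHom G O.subtype a)).finrank_range_add_finrank_ker
  have h3 := (RM (IsLocalRing.residue O) ρ (mapRingHom G (IsLocalRing.residue O) a)).finrank_range_add_finrank_ker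
  rw [finrank_fin_fun] at h2 h3
  omega

omit [Finite G] in
theorem finrank_range_RM_eq (ρ : G →* Matrix (Fin N) (Fin N) O) {a : MonoidAlgebra O G}
    (ha : a * a = a) :
    finrank (IsLocalRing.ResidueField O) (LinearMap.range (RM (IsLocalRing.residue O) ρ (mapRingHom G (IsLocalRing.residue O) a))) =
      finrank F (LinearMap.range (RM O.subtype ρ (mapRingHom G O.subtype a))) := by
  refine le_antisymm (finrank_range_RM_le O ρ a) ?_
  have h1 := finrank_range_RM_le O ρ (1 - a)
  have h2 := (RM O.subtype ρ (mapRingHom G O.subtype a)).finrank_range_add_finrank_ker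
  have h3 := (RM (IsLocalRing.residue O) ρ (mapRingHom G (IsLocalRing.residue O) a)).finrank_range_add_finrank_ker
  rw [finrank_fin_fun] at h2 h3
  have h4 : LinearMap.range (RM O.subtype ρ (mapRingHom G O.subtype (1 - a))) ≤
      LinearMap.ker (RM O.subtype ρ (mapRingHom G O.subtype a)) := by
    rintro _ ⟨x, rfl⟩
    rw [LinearMap.mem_ker, ← End.mul_apply, ← map_mul, ← map_mul, mul_sub, ha]
    simp
  have h5 : LinearMap.ker (RM (IsLocalRing.residue O) ρ (mapRingHom G (IsLocalRing.residue O) a)) ≤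
      LinearMap.range (RM (IsLocalRing.residue O) ρ (mapRingHom G (IsLocalRing.residue O) (1 - a))) := fun x hx =>
    ⟨x, by simp [LinearMap.mem_ker.1 hx]⟩
  have := Submodule.finrank_mono h4
  have := Submodule.finrank_mono h5
  omega

theorem exists_cyclic_form [Fintype G] (R : G →* Matrix (Fin N) (Fin N) F)
    (h : Submodule.span F (Set.range R) = ⊤) {v : Fin N → F} (hv : v ≠ 0) :
    ∃ (ρ : G →* Matrix (Fin N) (Fin N) O) (φ : Matrix (Fin N) (Fin N) F ≃ₐ[F] Matrix (Fin N) (Fin N) F)
      (v' : Fin N → O), (∀ X, (φ X).trace = X.trace) ∧ (∀ g, (ρ g).map O.subtype = φ (R g)) ∧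
      (∀ X (c : F), X *ᵥ v = c • v → φ X *ᵥ (fun i => v' i) = c • fun i => (v' i : F)) ∧
      ∀ x : Fin N → O, ∃ c : G → O, x = ∑ g, c g • ρ g *ᵥ v' := by
  classical
  let L : Submodule O (Fin N → F) := Submodule.span O (Set.range fun g : G => R g *ᵥ v)
  haveI : Submodule.IsLattice F L := by
    refine ⟨Submodule.fg_span (Set.finite_range _), ?_⟩
    have key : ∀ X : Matrix (Fin N) (Fin N) F, X *ᵥ v ∈ Submodule.span F (L : Set (Fin N → F)) := by
      intro X
      induction h.ge (trivial : X ∈ ⊤) using Submodule.span_induction with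
      | mem m hm => obtain ⟨g, rfl⟩ := hm; exact Submodule.subset_span (Submodule.subset_span ⟨g, rfl⟩)
      | zero => simp
      | add _ _ _ _ h₁ h₂ => rw [add_mulVec]; exact add_mem h₁ h₂
      | smul c x _ h => rw [smul_mulVec]; exact Submodule.smul_mem _ _ h
    rw [eq_top_iff]
    intro x _
    obtain ⟨σ, hσ⟩ := Module.Projective.exists_dual_eq_one F hv
    have := key (LinearMap.toMatrix' (σ.smulRight x))
    rwa [← toLin'_apply, toLin'_toMatrix', LinearMap.smulRight_apply, hσ, one_smul] at this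
  haveI : Module.Flat O L := by
    rw [Module.Flat.flat_iff_torsion_eq_bot_of_isBezout,
      ← Submodule.isTorsionFree_iff_torsion_eq_bot]
    infer_instance
  haveI : Module.Free O L := Module.free_of_flat_of_isLocalRing
  let b₀ := Module.Free.chooseBasis O L
  have hc : Fintype.card (Module.Free.ChooseBasisIndex O L) = N := by
    rw [← finrank_eq_card_basis (b₀.extendOfIsLattice F), finrank_fin_fun]
  let b : Basis (Fin N) O L := b₀.reindex (Fintype.equivFinOfCardEq hc)
  let b' : Basis (Fin N) F (Fin N → F) := b.extendOfIsLattice F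
  let φ : Matrix (Fin N) (Fin N) F ≃ₐ[F] Matrix (Fin N) (Fin N) F :=
    (Matrix.toLinAlgEquiv' (R := F)).trans (LinearMap.toMatrixAlgEquiv b')
  have hφ : ∀ X, φ X = LinearMap.toMatrix b' b' (Matrix.toLin' X) := fun _ => rfl
  have hL : ∀ g, ∀ x ∈ L, R g *ᵥ x ∈ L := by
    intro g x hx
    induction hx using Submodule.span_induction with
    | mem m hm =>
      obtain ⟨y, rfl⟩ := hm
      exact Submodule.subset_span ⟨g * y, by simp only [map_mul, mulVec_mulVec]⟩
    | zero => simp
    | add _ _ _ _ h₁ h₂ => rw [mulVec_add]; exact add_mem h₁ h₂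
    | smul c x _ h => rw [mulVec_smul]; exact L.smul_mem _ h
  have hrepr : ∀ (x : L) i, b'.repr x i = (b.repr x i : F) := by
    intro x i
    have : (x : Fin N → F) = ∑ j, (b.repr x j : F) • b' j := by
      conv_lhs => rw [← b.sum_repr x, AddSubmonoidClass.coe_finsetSum]
      exact Finset.sum_congr rfl fun j _ => by rw [Basis.extendOfIsLattice_apply]; rfl
    rw [this, b'.repr_sum_self]
  have hent : ∀ g i j, φ (R g) i j ∈ O := fun g i j => by
    rw [hφ, LinearMap.toMatrix_apply, toLin'_apply, Basis.extendOfIsLattice_apply]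
    exact hrepr ⟨_, hL g _ (b j).2⟩ i ▸ Subtype.prop _
  have hinj : Function.Injective (O.subtype.mapMatrix (m := Fin N)) :=
    Matrix.map_injective Subtype.val_injective
  let ρ : G →* Matrix (Fin N) (Fin N) O :=
    { toFun g := Matrix.of fun i j => ⟨_, hent g i j⟩
      map_one' := hinj (by rw [map_one O.subtype.mapMatrix, ← map_one φ, ← map_one R]; rfl)
      map_mul' g k := hinj (by
        rw [map_mul O.subtype.mapMatrix]
        change φ (R (g * k)) = φ (R g) * φ (R k); rw [map_mul, map_mul]) }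
  have hv' : v ∈ L := Submodule.subset_span ⟨1, by simp⟩
  have hmv : ∀ X, φ X *ᵥ (fun i => (b.repr ⟨v, hv'⟩ i : F)) = b'.repr (X *ᵥ v) := fun X => by
    rw [hφ, ← toLin'_apply X, ← LinearMap.toMatrix_mulVec_repr b' b']
    congr 1
    ext i
    exact (hrepr ⟨v, hv'⟩ i).symm
  refine ⟨ρ, φ, b.repr ⟨v, hv'⟩, fun X => ?_, fun g => rfl, fun X c e => ?_, fun x => ?_⟩
  · rw [hφ, ← LinearMap.trace_eq_matrix_trace, Matrix.trace_toLin'_eq]
  · rw [hmv, e, map_smul]
    ext i
    exact congrArg (c * ·) (hrepr ⟨v, hv'⟩ i)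
  · obtain ⟨c, hc⟩ := (Submodule.mem_span_range_iff_exists_fun O).1 (b.equivFun.symm x).2
    refine ⟨c, funext fun i => Subtype.ext ?_⟩
    have h1 := hrepr (b.equivFun.symm x) i
    rw [← hc, ← Basis.equivFun_apply b, LinearEquiv.apply_symm_apply] at h1
    rw [← h1, map_sum, Finsupp.finsetSum_apply, Finset.sum_apply, AddSubmonoidClass.coe_finsetSum]
    refine Finset.sum_congr rfl fun g _ => ?_
    rw [Subring.smul_def, map_smul, Finsupp.smul_apply, ← hmv]
    simp [mulVec, dotProduct, ρ]

end val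

namespace PAdic

variable {p : ℕ} (D : PAdic p)

/-- the valuation ring -/
noncomputable abbrev O : ValuationSubring ℂ := D.v.valuationSubring

theorem residue_eq_zero_iff (z : D.O) : IsLocalRing.residue D.O z = 0 ↔ D.v z < 1 := by
  rw [← D.red_coe, D.red_eq_zero_iff z.2]

theorem exists_local_lattice (χ : IrrCharacter G) :
    ∃ (N : ℕ) (_ : NeZero N) (ρ : G →* Matrix (Fin N) (Fin N) D.O),
      (∀ g, ((ρ g).map D.O.subtype).trace = χ.1 g) ∧
      Submodule.span ℂ (Set.range (D.O.subtype.mapMatrix.toMonoidHom.comp ρ)) = ⊤ ∧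
      ∀ w : End D.κ (Fin N → D.κ), (∀ a, w * RM (IsLocalRing.residue D.O) ρ a =
        RM (IsLocalRing.residue D.O) ρ a * w) → ∃ l : D.κ, IsNilpotent (w - l • 1) := by
  classical
  haveI := Fintype.ofFinite G
  have hspan : ∀ {N : ℕ} {R : G →* Matrix (Fin N) (Fin N) ℂ} {ρ : G →* Matrix (Fin N) (Fin N) D.O}
      {φ : Matrix (Fin N) (Fin N) ℂ ≃ₐ[ℂ] Matrix (Fin N) (Fin N) ℂ},
      Submodule.span ℂ (Set.range R) = ⊤ → (∀ g, (ρ g).map D.O.subtype = φ (R g)) →
      Submodule.span ℂ (Set.range (D.O.subtype.mapMatrix.toMonoidHom.comp ρ)) = ⊤ := by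
    intro N R ρ φ h e
    have : Set.range (D.O.subtype.mapMatrix.toMonoidHom.comp ρ) = φ.toLinearMap '' Set.range R := by
      rw [← Set.range_comp]; exact congrArg _ (funext e)
    rw [this, ← Submodule.map_span, h, Submodule.map_top, LinearMap.range_eq_top]
    exact φ.surjective
  obtain ⟨N, _, R, htr, hR⟩ := exists_mat_of_isIrrCharacter χ.2
  obtain ⟨ρ₀, φ₀, -, t₀, e₀, -, -⟩ := exists_cyclic_form D.O R hR (v := 1) one_ne_zero
  obtain ⟨i, ⟨x, hx0, hx⟩, hi⟩ := exists_loc (RM (IsLocalRing.residue D.O) ρ₀)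
  obtain ⟨i, rfl⟩ := mapRingHom_surj (G := G) (IsLocalRing.residue_surjective (R := D.O)) i
  set X := MonoidAlgebra.lift D.O _ G ρ₀ i with hX
  have h1 : IsLocalRing.residue D.O (1 - X).det = 0 := by
    rw [RingHom.map_det, ← Matrix.exists_mulVec_eq_zero_iff]
    refine ⟨x, hx0, ?_⟩
    rw [RM_map, toLin'_apply] at hx
    rw [map_sub, map_one, sub_mulVec, one_mulVec, sub_eq_zero]
    exact hx.symm
  obtain ⟨μ, hμ, hμ1⟩ := exists_root_close D.v (X.map D.O.subtype).charpoly_monic (z := 1) (by
    rw [D.residue_eq_zero_iff] at h1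
    rw [Matrix.eval_charpoly, map_one]
    have := D.O.subtype.map_det (1 - X)
    rw [map_sub, map_one] at this
    exact this ▸ h1)
  rw [Matrix.eval_charpoly, ← Matrix.exists_mulVec_eq_zero_iff] at hμ
  obtain ⟨v, hv0, hv⟩ := hμ
  rw [sub_mulVec, sub_eq_zero, scalar_apply, ← smul_one_eq_diagonal, smul_mulVec, one_mulVec] at hv
  obtain ⟨ρ, φ, v', t, e, h2, h3⟩ := exists_cyclic_form D.O _ (hspan hR e₀) hv0
  have hl : ∀ a, (MonoidAlgebra.lift D.O _ G ρ a).map D.O.subtype =
      φ ((MonoidAlgebra.lift D.O _ G ρ₀ a).map D.O.subtype) := fun a => by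
    induction a using MonoidAlgebra.induction_linear with
    | zero => simp
    | add a b ha hb => simp only [map_add, Matrix.map_add _ (map_add D.O.subtype), ha, hb]
    | single g c =>
      have : ∀ Y : Matrix (Fin N) (Fin N) D.O, (c • Y).map D.O.subtype = (c : ℂ) • Y.map D.O.subtype :=
        fun Y => by ext; simp
      rw [MonoidAlgebra.lift_single, MonoidAlgebra.lift_single, this, this, map_smul, e]
      rfl
  have hμO : D.v μ ≤ 1 := by
    rw [← sub_sub_cancel 1 μ]
    exact D.v.map_sub_le (by simp) hμ1.le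
  have h4 : MonoidAlgebra.lift D.O _ G ρ i *ᵥ v' = (⟨μ, hμO⟩ : D.O) • v' := by
    have := h2 _ _ hv.symm
    rw [← hl] at this
    ext k
    simpa [mulVec, dotProduct] using congrFun this k
  refine ⟨N, inferInstance, ρ, fun g => ?_, hspan (hspan hR e₀) e, fun w hw =>
    local_of_loc _ hi (v := fun k => IsLocalRing.residue D.O (v' k)) ?_ (fun x => ?_) hw⟩
  · rw [e, t, ← htr, ← t₀ (R g), ← e₀]; rfl
  · have h5 : IsLocalRing.residue D.O ⟨μ, hμO⟩ = 1 := by
      rw [eq_comm, ← sub_eq_zero, ← map_one (IsLocalRing.residue D.O), ← map_sub,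
        D.residue_eq_zero_iff]
      exact hμ1
    rw [RM_map, toLin'_apply]
    ext k
    have := congrArg (IsLocalRing.residue D.O) (congrFun h4 k)
    rwa [RingHom.map_mulVec, Pi.smul_apply, smul_eq_mul, map_mul, h5, one_mul] at this
  · choose x' hx' using fun k => IsLocalRing.residue_surjective (R := D.O) (x k)
    obtain ⟨c, hc⟩ := h3 x'
    refine ⟨∑ g, single g (IsLocalRing.residue D.O (c g)), funext fun k => ?_⟩
    rw [← hx', hc]
    simp only [Finset.sum_apply, map_sum, LinearMap.sum_apply, RM_single, Pi.smul_apply,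
      smul_eq_mul, map_mul, LinearMap.smul_apply, toLin'_apply, RingHom.map_mulVec]
    rfl

end PAdic

end Cfsg.Lib.Small
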