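import Cfsg.Agent.Lib.Small.DadeD
import Cfsg.Agent.Lib.Small.DOneC
import Cfsg.Agent.Lib.PGrp.Cyclic
import Mathlib.Algebra.Polynomial.OfFn

/-!
# Cyclic defect groups: from the characters of the nilpotent block to the modular datum
-/

set_option autoImplicit false

namespace Cfsg.Lib.Small

open Module Cfsg.Lib.Block Cfsg.Lib.Block2 Cfsg.Lib.Char Cfsg.Lib.Amalg MonoidAlgebra Subgroup
  Polynomial
open scoped ComplexConjugate

section cmb

variable {Γ Λ : Type*} [Group Γ] [Finite Γ] [Fintype Λ] {θ : Λ → IrrCharacter Γ}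

variable (θ) in
/-- combinations of primitive central idempotents -/
noncomputable def cmb (a : Λ → ℂ) : MonoidAlgebra ℂ Γ := ∑ l, a l • idem {θ l}

theorem isCen_cmb (a : Λ → ℂ) : IsCen (cmb θ a) := isCen_sum fun _ _ => (isCen_idem _).smul _

theorem omega_cmb (h : Function.Injective θ) (a : Λ → ℂ) (l : Λ) : omega (θ l).1 (cmb θ a) = a l := by
  rw [cmb, map_sum, Finset.sum_eq_single l]
  · rw [map_smul, omega_idem_of_mem (B := {θ l}) rfl, smul_eq_mul, mul_one]
  · intro k _ hk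
    rw [map_smul, omega_idem_of_notMem (B := {θ k}) fun e => hk (h e).symm, smul_zero]
  · simp

theorem omega_cmb_of_ne (a : Λ → ℂ) {ξ : IrrCharacter Γ} (h : ∀ l, θ l ≠ ξ) :
    omega ξ.1 (cmb θ a) = 0 := by
  rw [cmb, map_sum]
  exact Finset.sum_eq_zero fun k _ => by
    rw [map_smul, omega_idem_of_notMem (B := {θ k}) (h k).symm, smul_zero]

theorem cmb_mul (h : Function.Injective θ) (a : Λ → ℂ) {z : MonoidAlgebra ℂ Γ} (hz : IsCen z) :
    cmb θ a * z = cmb θ fun l => a l * omega (θ l).1 z :=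
  ((isCen_cmb a).mul hz).ext_omega (isCen_cmb _) fun ξ => by
    rw [ξ.2.omega_mul (isCen_cmb a)]
    by_cases e : ∃ l, θ l = ξ
    · obtain ⟨l, rfl⟩ := e
      rw [omega_cmb h, omega_cmb h]
    · push Not at e
      rw [omega_cmb_of_ne _ e, omega_cmb_of_ne _ e, zero_mul]

theorem cmb_mul_cmb (h : Function.Injective θ) (a b : Λ → ℂ) :
    cmb θ a * cmb θ b = cmb θ fun l => a l * b l := by
  simp only [cmb_mul h a (isCen_cmb b), omega_cmb h]

theorem sum_smul_cmb {ι : Type*} (s : Finset ι) (c : ι → ℂ) (a : ι → Λ → ℂ) :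
    ∑ i ∈ s, c i • cmb θ (a i) = cmb θ fun l => ∑ i ∈ s, c i * a i l := by
  simp only [cmb, Finset.smul_sum, Finset.sum_smul, smul_smul]
  exact Finset.sum_comm

theorem charExt_cmb [Fintype Γ] (χ : Γ → ℂ) (a : Λ → ℂ) :
    charExt χ (cmb θ a) = ∑ l, a l * (classInner χ (θ l).1 * (θ l).1 1) := by
  simp only [cmb, map_sum, map_smul, charExt_idem, finsum_mem_singleton, smul_eq_mul]

end cmb

section lin

variable {A : Type*} [Group A] [Fintype A]

theorem sum_lin_mul_inv [DecidableEq (A →* ℂˣ)] (l k : A →* ℂˣ) :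
    ∑ u, (l u : ℂ) * ((k u)⁻¹ : ℂˣ) = if l = k then (Nat.card A : ℂ) else 0 := by
  classical
  have := sum_hom_units ((Units.coeHom ℂ).comp (l * k⁻¹))
  simp only [MonoidHom.comp_apply, MonoidHom.mul_apply, MonoidHom.inv_apply, Units.coeHom_apply,
    Units.val_mul] at this
  rw [this, Nat.card_eq_fintype_card]
  by_cases e : l = k
  · subst e
    have h : (Units.coeHom ℂ).comp (l * l⁻¹) = 1 := by ext; simp
    simp only [h, if_true]
  · have h : (Units.coeHom ℂ).comp (l * k⁻¹) ≠ 1 := fun h =>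
      e (mul_inv_eq_one.1 (MonoidHom.ext fun u => Units.ext (DFunLike.congr_fun h u :)))
    simp only [h, e, if_false, Nat.cast_zero]

theorem exists_fourier [Fintype (A →* ℂˣ)] (hA : ∀ a b : A, a * b = b * a) (w : (A →* ℂˣ) → ℂ) :
    ∃ c : A → ℂ, ∀ l, ∑ u, c u * l u = w l := by
  classical
  refine ⟨fun u => (Nat.card A : ℂ)⁻¹ * ∑ k, w k * ((k u)⁻¹ : ℂˣ), fun l => ?_⟩
  simp only [mul_assoc, ← Finset.mul_sum, Finset.sum_mul]
  rw [Finset.sum_comm]
  simp only [mul_comm _ (l _ : ℂ), ← Finset.mul_sum, sum_lin_mul_inv, mul_ite, mul_zero,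
    Finset.sum_ite_eq, Finset.mem_univ, if_true]
  field_simp [Nat.card_pos.ne']

omit [Fintype A] in
theorem bijective_pow [Finite A] {x : A} (hx : ∀ u, u ∈ zpowers x) {n : ℕ} (hn : orderOf x = n) :
    Function.Bijective fun j : Fin n => x ^ (j : ℕ) := by
  subst hn
  refine ⟨fun i j h => Fin.ext (pow_injOn_Iio_orderOf i.2 j.2 h), fun u => ?_⟩
  obtain ⟨j, hj⟩ := (finEquivZPowers (isOfFinOrder_of_finite x)).surjective ⟨u, hx u⟩
  exact ⟨j, congrArg Subtype.val hj⟩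

end lin

theorem cjN_idem {G : Type*} [Group G] [Finite G] {Z : Subgroup G} (g : 𝐍 Z)
    (ξ : IrrCharacter (𝐂 Z)) : cjN g (idem {ξ}) = idem {g • ξ} := ga_ext fun c => by
  rw [cjN, coeff_domCongr, coeff_idem, coeff_idem, blockCoeff_singleton, blockCoeff_singleton,
    cjAct_apply, cjAct_apply, map_one, map_inv]
  rfl

theorem mapRingHom_cjN {O F G : Type*} [CommRing O] [Field F] [Group G] [Finite G] {Z : Subgroup G}
    (ψ : O →+* F) (g : 𝐍 Z) (a : MonoidAlgebra O (𝐂 Z)) :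
    MonoidAlgebra.mapRingHom _ ψ (cjN g a) = cjN g (MonoidAlgebra.mapRingHom _ ψ a) :=
  ga_ext fun x => by simp [cjN]

theorem exists_simple_sub {κ A : Type*} [Field κ] [Ring A] [Algebra κ A] (M : FMod.{0} κ A)
    [Nontrivial M.V] : ∃ S : FMod.{0} κ A, IsSimpleModule A S.V ∧ finrank κ S.V ≤ finrank κ M.V ∧
      ∀ a, M.act a = 1 → S.act a = 1 := by
  haveI : IsArtinian A M.V := isArtinian_of_tower κ inferInstance
  obtain ⟨U, hU, -⟩ := (eq_bot_or_exists_atom_le (⊤ : Submodule A M.V)).resolve_left top_ne_bot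
  refine ⟨M.sub U, isSimpleModule_iff_isAtom.2 hU, LinearMap.finrank_le_finrank_of_injective
    (f := U.subtype.restrictScalars κ) Subtype.val_injective, fun a ha => ?_⟩
  exact LinearMap.ext fun x => Subtype.ext (DFunLike.congr_fun ha x.1)

theorem exists_lift_eq_smul {Γ : Type*} [Group Γ] [Finite Γ] (O : ValuationSubring ℂ) {N : ℕ}
    [NeZero N] {ρ : Γ →* Matrix (Fin N) (Fin N) O}
    (hρ : Submodule.span ℂ (Set.range (O.subtype.mapMatrix.toMonoidHom.comp ρ)) = ⊤)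
    {b : MonoidAlgebra O Γ} (hb : ∀ a, RM O.subtype ρ (MonoidAlgebra.mapRingHom _ O.subtype b) *
      RM O.subtype ρ a = RM O.subtype ρ a * RM O.subtype ρ (MonoidAlgebra.mapRingHom _ O.subtype b)) :
    ∃ c : O, MonoidAlgebra.lift O _ Γ ρ b = c • 1 := by
  obtain ⟨c, hc⟩ := exists_scalar_of_commute hρ
    (x := (MonoidAlgebra.lift O _ Γ ρ b).map O.subtype) fun g => by
      have := hb (single g 1)
      rw [RM_map, RM_single, one_smul, End.mul_eq_comp, End.mul_eq_comp, ← Matrix.toLin'_mul,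
        ← Matrix.toLin'_mul] at this
      exact (Matrix.toLin'.injective this).symm
  refine ⟨MonoidAlgebra.lift O _ Γ ρ b 0 0, Matrix.ext fun i j => Subtype.ext ?_⟩
  have h0 := congrFun (congrFun hc 0) 0
  have h1 := congrFun (congrFun hc i) j
  simp only [Matrix.map_apply, ValuationSubring.coe_subtype, Matrix.smul_apply, Matrix.one_apply_eq,
    smul_eq_mul, mul_one] at h0 h1
  rw [h1, ← h0, Matrix.smul_apply, Matrix.one_apply, Matrix.one_apply]
  split_ifs <;> simp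

theorem finrank_range_of_idem {V : Type*} [AddCommGroup V] [Module ℂ V] [FiniteDimensional ℂ V]
    {E : End ℂ V} (hE : E * E = E) : (finrank ℂ (LinearMap.range E) : ℂ) = LinearMap.trace ℂ V E :=
  (LinearMap.IsIdempotentElem.isProj_range E hE).trace.symm

theorem dade_arith {ι : Type*} [Fintype ι] [Nonempty ι] (c : ι → ℕ) {m s dK dI l e : ℕ}
    (hm : 0 < m) (hs : s ≤ m) (hl : l < Fintype.card ι) (hI : ∀ i, dI ≤ c i * m)
    (hK : ∀ i, c i * m ≤ dK) (h1 : dK ≤ s + dI)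
    (h2 : ∑ i, c i * m = l * dK + (Fintype.card ι - l) * dI)
    (h3 : l ≤ e ∨ Fintype.card ι ≤ l + e) : ∃ (c₀ : ℕ) (Λ : Finset ι),
      (∀ i ∈ Λ, c i = c₀ + 1) ∧ (∀ i ∉ Λ, c i = c₀) ∧ (Λ.card ≤ e ∨ Fintype.card ι ≤ Λ.card + e) := by
  classical
  obtain ⟨i₀, -, h0⟩ := Finset.exists_min_image Finset.univ c Finset.univ_nonempty
  by_cases hc : ∀ i, c i = c i₀
  · exact ⟨c i₀, ∅, by simp, fun i _ => hc i, by simp⟩
  push Not at hc
  obtain ⟨i₁, h4⟩ := hc
  have key : ∀ i, c i ≠ c i₀ → c i = c i₀ + 1 := fun i hi => by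
    have := h0 i (Finset.mem_univ _)
    have h5 : c i * m ≤ (c i₀ + 1) * m := by have := hK i; have := hI i₀; rw [add_mul]; omega
    have := Nat.le_of_mul_le_mul_right h5 hm
    omega
  have h5 := hK i₁
  have h6 := hI i₀
  rw [key i₁ h4, add_mul, one_mul] at h5
  obtain rfl : dI = c i₀ * m := by omega
  obtain rfl : dK = c i₀ * m + m := by omega
  refine ⟨c i₀, Finset.univ.filter fun i => c i ≠ c i₀, fun i hi => key i (by simpa using hi),
    fun i hi => by simpa using hi, ?_⟩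
  have h7 : ∑ i, c i = Fintype.card ι * c i₀ + (Finset.univ.filter fun i => c i ≠ c i₀).card := by
    rw [Finset.card_filter, ← smul_eq_mul, ← Finset.card_univ, ← Finset.sum_const,
      ← Finset.sum_add_distrib]
    exact Finset.sum_congr rfl fun i _ => by split_ifs with h; exacts [key i h, by simpa using h]
  obtain ⟨k, hk⟩ := Nat.exists_eq_add_of_le hl.le
  rw [← Finset.sum_mul, h7, hk, Nat.add_sub_cancel_left] at h2
  have h8 : (Finset.univ.filter fun i => c i ≠ c i₀).card * m = l * m := by nlinarith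
  rwa [Nat.eq_of_mul_eq_mul_right hm h8]

variable {G : Type*} [Group G] [Finite G] {p : ℕ} [hp : Fact p.Prime]

/-- the characters of a nilpotent block of `C(Z)` with cyclic defect group -/
structure CD (D : PAdic p) (Z H P : Subgroup G) [Fintype (P →* ℂˣ)] (e m : ℕ)
    (θ : (P →* ℂˣ) → IrrCharacter (𝐂 Z)) : Prop where
  cyc : IsCyclic P
  pP : IsPGroup p P
  ZP : Z ≤ P
  cardZ : Nat.card Z = p
  inj : Function.Injective θ
  deg : ∀ l, (θ l).1 1 = m
  int : ∀ (u : P) c, D.v ((cmb θ fun l => l u).coeff c) ≤ 1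
  unit : ∃ c, ¬ D.v (Nat.card P * (idem {θ 1}).coeff c) < 1
  cent : ∀ (z : P) (hz : (z : G) ∈ 𝐂 Z), (z : G) ∈ Z →
    ∃ ω, D.v (ω - 1) < 1 ∧ ∀ l, (θ l).1 ⟨z, hz⟩ = ω * l z * m
  supp : ∀ x, ¬ D.v ((cmb θ fun _ => 1).coeff x) < 1 →
    ∀ c : 𝐂 Z, orderOf c = p → c * x = x * c → (c : G) ∈ Z
  CH : 𝐂 Z ≤ H
  HN : H ≤ 𝐍 Z
  gen : ∃ h₀ ∈ H, ∀ g ∈ H, ∃ j : ℕ, ∃ c ∈ 𝐂 Z, g = h₀ ^ j * c
  he : (𝐂 Z).relIndex H = e
  he0 : ¬ p ∣ e
  act : ∀ g : 𝐍 Z, (g : G) ∈ H → ∃ α : P ≃* P, (∀ l, g • θ (l.comp α.toMonoidHom) = θ l) ∧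
    ∀ z : P, (z : G) ∈ Z → (α z : G) = g * z * (g : G)⁻¹
  orth : ∀ g : 𝐍 Z, (g : G) ∉ H → ∀ l l', g • θ l ≠ θ l'

local notation "toK" => MonoidAlgebra.mapRingHom _ (IsLocalRing.residue (PAdic.O _))
local notation "toC" => MonoidAlgebra.mapRingHom _ (ValuationSubring.subtype (PAdic.O _))

namespace CD

variable {D : PAdic p} {Z H P : Subgroup G} [Fintype (P →* ℂˣ)] {e m : ℕ}
  {θ : (P →* ℂˣ) → IrrCharacter (𝐂 Z)} (h : CD D Z H P e m θ)

/-- the image of the defect group in the centre of the block algebra -/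
noncomputable def zo (u : P) : MonoidAlgebra D.O (𝐂 Z) := ofFun fun c => ⟨_, h.int u c⟩

omit hp in
theorem toC_zo (u : P) : toC (h.zo u) = cmb θ fun l => l u := ga_ext fun c => by simp [zo]

omit hp in
theorem zo_mul (u v : P) : h.zo (u * v) = h.zo u * h.zo v :=
  mapRingHom_inj (ψ := D.O.subtype) Subtype.val_injective (by
    simp only [map_mul, h.toC_zo, cmb_mul_cmb h.inj, Units.val_mul])

omit hp in
theorem isCen_zo (u : P) : IsCen (h.zo u) := fun x g => Subtype.ext (isCen_cmb _ x g)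

omit hp in
theorem isCen_zk (u : P) : IsCen (toK (h.zo u)) := fun x g => by
  rw [coeff_mapRingHom, coeff_mapRingHom, h.isCen_zo u x g]

include h in
theorem exists_gen : ∃ (x : P) (a : ℕ), (∀ u, u ∈ zpowers x) ∧ orderOf x = p ^ (a + 1) ∧
    Nat.card P = p ^ (a + 1) ∧ zpowers ((x ^ p ^ a : P) : G) = Z := by
  haveI := h.cyc
  obtain ⟨x, hx⟩ := IsCyclic.exists_generator (α := P)
  obtain ⟨a, ha⟩ := IsPGroup.iff_card.1 h.pP
  have h1 : p ∣ p ^ a := ha ▸ h.cardZ ▸ card_dvd_of_le h.ZP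
  obtain ⟨a, rfl⟩ := Nat.exists_eq_succ_of_ne_zero (n := a) fun e => by
    rw [e, pow_zero, Nat.dvd_one] at h1; exact hp.out.ne_one h1
  have ho : orderOf x = p ^ (a + 1) := by rw [orderOf_eq_card_of_forall_mem_zpowers hx, ha]
  refine ⟨x, a, hx, ho, ha, ?_⟩
  have h2 : orderOf (x ^ p ^ a) = p := by
    rw [orderOf_pow_of_dvd (pow_ne_zero _ hp.out.ne_zero) (ho ▸ pow_dvd_pow _ (Nat.le_succ a)), ho,
      pow_succ', Nat.mul_div_cancel _ (pow_pos hp.out.pos _)]
  refine PGrp.eq_of_card_eq_of_isCyclic h.cyc (zpowers_le.2 (x ^ p ^ a).2) h.ZP ?_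
  rw [Nat.card_zpowers, orderOf_coe, h2, h.cardZ]

theorem residue_lin (h : CD D Z H P e m θ) (l : P →* ℂˣ) (u : P) :
    ∃ c : D.O, (c : ℂ) = l u ∧ IsLocalRing.residue D.O c = 1 := by
  obtain ⟨k, hk⟩ := h.pP u
  have h1 : (l u : ℂ) ^ p ^ k = 1 := by rw [← Units.val_pow_eq_pow_val, ← map_pow, hk]; simp
  refine ⟨⟨_, D.v_le_of_pow_eq_one (pow_ne_zero _ hp.out.ne_zero) h1⟩, rfl, ?_⟩
  haveI := D.charP hp.out
  rw [← sub_eq_zero, ← pow_eq_zero_iff (pow_ne_zero k hp.out.ne_zero), sub_pow_char_pow, one_pow,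
    ← map_pow, sub_eq_zero, ← map_one (IsLocalRing.residue D.O)]
  exact congrArg _ (Subtype.ext h1)

omit hp in
theorem pow_mul_f (x : P) (j : ℕ) :
    (1 + (toK (h.zo x) - toK (h.zo 1))) ^ j * toK (h.zo 1) = toK (h.zo (x ^ j)) := by
  induction j with
  | zero => simp
  | succ j ih =>
    rw [pow_succ', mul_assoc, ih, add_mul, sub_mul, ← map_mul, ← map_mul, ← h.zo_mul, ← h.zo_mul,
      one_mul, one_mul, ← pow_succ', add_sub_cancel]

theorem sum_zk [Fintype P] {x : P} (hx : ∀ u, u ∈ zpowers x) {a : ℕ} (ho : orderOf x = p ^ a) :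
    ∑ u, toK (h.zo u) = (toK (h.zo x) - toK (h.zo 1)) ^ (p ^ a - 1) * toK (h.zo 1) := by
  haveI := D.charP hp.out
  have := congrArg (aeval (1 + (toK (h.zo x) - toK (h.zo 1)))) (geom_eq_pow (κ := D.κ) (p := p) a)
  simp only [map_sum, map_pow, aeval_X, map_sub, map_one, add_sub_cancel_left] at this
  rw [← this, Finset.sum_mul, Finset.sum_range, ← (bijective_pow hx ho).sum_comp]
  simp only [h.pow_mul_f]

omit hp in
theorem toC_sum_smul [Fintype P] (k : P →* ℂˣ) {c : P → D.O}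
    (hc : ∀ u, (c u : ℂ) = ((k u)⁻¹ : ℂˣ)) :
    toC (∑ u, c u • h.zo u) = (Nat.card P : ℂ) • idem {θ k} := by
  classical
  simp only [map_sum, mapRingHom_smul', h.toC_zo, sum_smul_cmb]
  simp only [ValuationSubring.coe_subtype, hc]
  simp only [fun u (l : P →* ℂˣ) => mul_comm (((k u)⁻¹ : ℂˣ) : ℂ) (l u), sum_lin_mul_inv, cmb,
    ite_smul, zero_smul, Finset.sum_ite_eq', Finset.mem_univ, if_true]

section gen

variable {x : P} (hx : ∀ u, u ∈ zpowers x) {a : ℕ} (ho : orderOf x = p ^ (a + 1))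
  (hn : Nat.card P = p ^ (a + 1))

local notation "𝐟" => toK (CD.zo h 1)
local notation "𝐲" => (toK (CD.zo h x) - toK (CD.zo h 1))

omit hp in
theorem ff : 𝐟 * 𝐟 = 𝐟 := by rw [← map_mul, ← h.zo_mul, one_mul]

omit hp in
theorem fy : 𝐟 * 𝐲 = 𝐲 := by rw [mul_sub, h.ff, ← map_mul, ← h.zo_mul, one_mul]

omit hp in
theorem pow_f {j : ℕ} (hj : j ≠ 0) : 𝐲 ^ j * 𝐟 = 𝐲 ^ j := by
  obtain ⟨j, rfl⟩ := Nat.exists_eq_succ_of_ne_zero hj
  rw [pow_succ, mul_assoc, ← (h.isCen_zk 1).comm, h.fy]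

theorem pow_char (b : ℕ) : 𝐲 ^ p ^ b = toK (h.zo (x ^ p ^ b)) - 𝐟 := by
  haveI := D.charP hp.out
  haveI : CharP (MonoidAlgebra D.κ (𝐂 Z)) p :=
    charP_of_injective_algebraMap (algebraMap D.κ _).injective p
  rw [← h.pow_mul_f, add_pow_char_pow_of_commute _ _ (Commute.one_left _), one_pow, add_mul,
    one_mul, add_sub_cancel_left, h.pow_f (pow_ne_zero _ hp.out.ne_zero)]

include ho in
theorem yn : 𝐲 ^ p ^ (a + 1) = 0 := by rw [h.pow_char, ← ho, pow_orderOf_eq_one, sub_self]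

include hx ho in
theorem pow_ne : 𝐲 ^ (p ^ (a + 1) - 1) * 𝐟 ≠ 0 := by
  haveI := Fintype.ofFinite P
  obtain ⟨c, hc⟩ := h.unit
  intro h0
  rw [← h.sum_zk hx ho, ← map_sum] at h0
  have h1 := h.toC_sum_smul 1 (c := fun _ => 1) (by simp)
  simp only [one_smul] at h1
  have h2 : IsLocalRing.residue D.O ((∑ u, h.zo u).coeff c) = 0 := by
    rw [← coeff_mapRingHom, h0]; rfl
  have h3 : (((∑ u, h.zo u).coeff c : D.O) : ℂ) = Nat.card P * (idem {θ 1}).coeff c :=
    congrArg (fun z => z.coeff c) h1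
  rw [D.residue_eq_zero_iff, h3] at h2
  exact hc h2

omit hp in
include hx ho in
theorem exists_poly [Fintype P] (c : P → D.κ) : ∃ q : D.κ[X], q.degree < p ^ (a + 1) ∧
    (q = 0 → c = 0) ∧ ∑ u, c u • toK (h.zo u) = aeval (1 + 𝐲) q * 𝐟 := by
  refine ⟨∑ j : Fin (p ^ (a + 1)), C (c (x ^ (j : ℕ))) * X ^ (j : ℕ),
    by exact_mod_cast degree_sum_fin_lt _, fun h0 => funext fun u => ?_, ?_⟩
  · obtain ⟨j, rfl⟩ := (bijective_pow hx ho).2 u
    have := congrArg (fun q : D.κ[X] => q.coeff j) h0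
    simpa [Polynomial.coeff_C_mul, Polynomial.coeff_X_pow, Fin.val_inj] using this
  · rw [← (bijective_pow hx ho).sum_comp]
    simp only [map_sum, map_mul, aeval_C, map_pow, aeval_X, Finset.sum_mul, mul_assoc, h.pow_mul_f,
      Algebra.smul_def]

include hx ho in
theorem indep [Fintype P] :
    LinearIndependent D.κ fun u c => IsLocalRing.residue D.O ((h.zo u).coeff c) := by
  refine Fintype.linearIndependent_iff.2 fun c hc => ?_
  obtain ⟨q, hq, hq0, hq1⟩ := h.exists_poly hx ho c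
  refine congrFun (hq0 (by_contra fun hq2 => h.pow_ne hx ho ?_))
  obtain ⟨u, hu, -, e, -⟩ := exists_aeval_eq (y := 𝐲) ⟨_, h.yn ho⟩ hq2
  have h1 : ∑ u, c u • toK (h.zo u) = 0 := ga_ext fun g => by
    simpa [MonoidAlgebra.coeff_sum] using congrFun hc g
  have h2 : q.rootMultiplicity 1 ≤ p ^ (a + 1) - 1 := by
    have := natDegree_le_of_dvd (pow_rootMultiplicity_dvd q 1) hq2
    rw [natDegree_pow, natDegree_X_sub_C, mul_one] at this
    exact Nat.le_sub_one_of_lt
      (this.trans_lt ((natDegree_lt_iff_degree_lt hq2).2 (by exact_mod_cast hq)))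
  rw [h1, e, mul_assoc, ← (h.isCen_zk 1).comm, ← mul_assoc, eq_comm, hu.mul_left_eq_zero] at hq1
  rw [← Nat.sub_add_cancel h2, pow_add, mul_assoc, hq1, mul_zero]

include hx ho in
theorem cen (r : MonoidAlgebra D.κ (𝐂 Z)) (hr : IsCen r) (hf : 𝐟 * r = r) (hy : 𝐲 * r = 0) :
    ∃ c : D.κ, r = c • 𝐲 ^ (p ^ (a + 1) - 1) := by
  haveI := Fintype.ofFinite P
  choose s hs using IsLocalRing.residue_surjective (R := D.O)
  set r' : MonoidAlgebra D.O (𝐂 Z) := ofFun fun g => s (r.coeff g)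
  have h1 : toK r' = r := ga_ext fun g => by simp [r', hs]
  have h2 : IsCen (toC r') := fun g k => by simp [r', hr g k]
  haveI := h.cyc
  obtain ⟨c, hc⟩ := exists_fourier (A := P) (fun u v => IsCyclic.isMulCommutative.is_comm.comm u v)
    fun l => omega (θ l).1 (toC r')
  have h3 : ∑ u, c u • toC (h.zo u) = toC (h.zo 1 * r') := by
    simp only [map_mul, h.toC_zo, sum_smul_cmb, cmb_mul h.inj _ h2, hc, map_one, Units.val_one,
      one_mul]
  have h4 := mem_of_indep D.O _ (h.indep hx ho) c (h.zo 1 * r').coeff fun g => by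
    simpa [MonoidAlgebra.coeff_sum, -map_mul] using congrArg (fun z => z.coeff g) h3
  lift c to P → D.O using h4
  have h5 : ∑ u, c u • h.zo u = h.zo 1 * r' :=
    mapRingHom_inj (ψ := D.O.subtype) Subtype.val_injective (by
      simp only [map_sum, mapRingHom_smul', ← h3]; rfl)
  obtain ⟨q, -, -, hq⟩ := h.exists_poly hx ho fun u => IsLocalRing.residue D.O (c u)
  simp only [← mapRingHom_smul'] at hq
  rw [← map_sum, h5, map_mul, h1, hf] at hq
  by_cases hq2 : q = 0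
  · exact ⟨0, by rw [hq, hq2]; simp⟩
  obtain ⟨u, hu, -, e, w, e'⟩ := exists_aeval_eq (y := 𝐲) ⟨_, h.yn ho⟩ hq2
  have hp1 : 1 < p ^ (a + 1) := Nat.one_lt_pow (by simp) hp.out.one_lt
  rw [e, mul_assoc, ← (h.isCen_zk 1).comm, ← mul_assoc] at hq
  have h6 : p ^ (a + 1) - 1 ≤ q.rootMultiplicity 1 := by
    by_contra! h7
    rw [hq, ← mul_assoc, hu.mul_left_eq_zero, ← mul_assoc, ← pow_succ'] at hy
    exact h.pow_ne hx ho (by rw [← Nat.sub_add_cancel h7, pow_add, mul_assoc, hy, mul_zero])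
  have h7 : ∀ j, 𝐲 ^ (p ^ (a + 1) - 1 + (j + 1)) = 0 := fun j =>
    pow_eq_zero_of_le (by omega) (h.yn ho)
  obtain ⟨_ | j, hj⟩ := Nat.exists_eq_add_of_le h6
  · refine ⟨u.eval 1, ?_⟩
    rw [hq, hj, add_zero, h.pow_f (by omega), e', mul_add, ← mul_assoc, ← pow_succ, h7 0, zero_mul,
      add_zero, Algebra.smul_def, Algebra.commutes]
  · exact ⟨0, by rw [hq, hj, h7]; simp⟩

theorem single_mul {z : P} (hz : (z : G) ∈ Z) (hc : (z : G) ∈ 𝐂 Z)
    (hz' : (⟨z, hc⟩ : 𝐂 Z) ∈ center (𝐂 Z)) : single ⟨z, hc⟩ 1 * 𝐟 = toK (h.zo z) := by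
  obtain ⟨ω, hω, h1⟩ := h.cent z hc hz
  have hO : D.v ω ≤ 1 := by
    rw [← sub_add_cancel ω 1]
    exact D.v.map_add_le hω.le (by simp)
  have h2 : IsLocalRing.residue D.O ⟨ω, hO⟩ = 1 := by
    rw [← sub_eq_zero, ← map_one (IsLocalRing.residue D.O), ← map_sub, D.residue_eq_zero_iff]
    exact hω
  have h3 : single ⟨z, hc⟩ 1 * h.zo 1 = (⟨ω, hO⟩ : D.O) • h.zo z :=
    mapRingHom_inj (ψ := D.O.subtype) Subtype.val_injective (by
      rw [map_mul, mapRingHom_smul', h.toC_zo, h.toC_zo, mapRingHom_single, map_one,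
        ← (isCen_cmb _).comm, cmb_mul h.inj _ (isCen_single hz' 1), cmb, cmb, Finset.smul_sum]
      refine Finset.sum_congr rfl fun l _ => ?_
      rw [omega_apply, charExt_single, h1, h.deg, smul_smul, mul_div_assoc, mul_div_assoc,
        div_self (h.deg l ▸ (θ l).2.apply_one_ne_zero)]
      simp)
  have := congrArg toK h3
  rwa [map_mul, mapRingHom_single, map_one, mapRingHom_smul', h2, one_smul] at this

include ho in
theorem free (hZ : zpowers ((x ^ p ^ a : P) : G) = Z) :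
    ∀ j ≤ p ^ (a + 1), ∀ b, 𝐟 * b = b → 𝐲 ^ j * b = 0 →
      ∃ c, 𝐟 * c = c ∧ b = 𝐲 ^ (p ^ (a + 1) - j) * c := by
  haveI := D.charP hp.out
  have hz : ((x ^ p ^ a : P) : G) ∈ Z := hZ ▸ mem_zpowers _
  have hc : ((x ^ p ^ a : P) : G) ∈ 𝐂 Z := by
    rw [← hZ]
    rintro _ ⟨k, rfl⟩
    exact (Commute.refl _).zpow_left k
  have hz' : (⟨_, hc⟩ : 𝐂 Z) ∈ center (𝐂 Z) :=
    mem_center_iff.2 fun g => Subtype.ext (g.2 _ hz).symm
  have ho' : orderOf (⟨_, hc⟩ : 𝐂 Z) = p := by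
    rw [← orderOf_coe, ← Nat.card_zpowers, hZ, h.cardZ]
  have e1 : 𝐲 ^ p ^ a = (single ⟨_, hc⟩ 1 - 1) * 𝐟 := by
    rw [h.pow_char, sub_mul, h.single_mul hz hc hz', one_mul]
  have hp1 := hp.out.one_lt
  have e2 : 𝐲 ^ (p ^ (a + 1) - p ^ a) = (single ⟨_, hc⟩ 1 - 1) ^ (p - 1) * 𝐟 := by
    rw [pow_succ, ← Nat.mul_sub_one, pow_mul, e1, ((h.isCen_zk 1).commute _).symm.mul_pow,
      IsIdempotentElem.pow_eq h.ff (by omega)]
  refine free_of_free h.ff ((h.isCen_zk 1).comm _) (q := p ^ a) (by positivity)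
    (Nat.pow_lt_pow_right hp1 (by omega)) (h.yn ho) (fun b hb h0 => ?_) fun b hb h0 => ?_
  · rw [e1, mul_assoc, hb] at h0
    obtain ⟨c, rfl⟩ := exists_eq_of_sub_one_mul ho' hz' h0
    exact ⟨c, by rw [e2, ← (h.isCen_zk 1).comm, mul_assoc, hb]⟩
  · rw [e2, mul_assoc, hb] at h0
    obtain ⟨c, rfl⟩ := exists_eq_of_sub_one_pow_mul ho' hz' h0
    exact ⟨c, by rw [e1, ← (h.isCen_zk 1).comm, mul_assoc, hb]⟩

end gen

omit hp in
theorem cjN_zo {g : 𝐍 Z} {α : P ≃* P} (hα : ∀ l, g • θ (l.comp α.toMonoidHom) = θ l) (u : P) :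
    cjN g (h.zo u) = h.zo (α u) :=
  mapRingHom_inj (ψ := D.O.subtype) Subtype.val_injective (by
    simp only [mapRingHom_cjN, h.toC_zo, cmb, map_sum, map_smul, cjN_idem]
    refine (Fintype.sum_equiv (MulEquiv.monoidHomCongrLeftEquiv α.symm) _ _ fun l => ?_).symm
    rw [← hα l]
    rfl)

omit hp in
theorem zo_mul_cjN {g : 𝐍 Z} (hg : (g : G) ∉ H) : h.zo 1 * cjN g (h.zo 1) = 0 :=
  mapRingHom_inj (ψ := D.O.subtype) Subtype.val_injective (by
    simp only [map_mul, mapRingHom_cjN, h.toC_zo, cmb, map_sum, map_smul, cjN_idem, map_zero,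
      Finset.sum_mul_sum, smul_mul_smul_comm, idem_mul_idem]
    refine Finset.sum_eq_zero fun l _ => Finset.sum_eq_zero fun k _ => ?_
    rw [Set.singleton_inter_eq_empty.2 (Set.notMem_singleton_iff.2 (h.orth g hg k l).symm), idem_empty, smul_zero])

include h in
theorem exists_GD : ∃ (x : P) (S : FMod.{0} D.κ (MonoidAlgebra D.κ (𝐂 Z))),
    finrank D.κ S.V ≤ m ∧ (∀ u, u ∈ zpowers x) ∧ (∃ a, orderOf x = p ^ a ∧ Nat.card P = p ^ a) ∧
    GD p Z H (Nat.card P) e (toK (h.zo 1)) (toK (h.zo x) - toK (h.zo 1)) S := by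
  haveI := D.charP hp.out
  obtain ⟨x, a, hx, ho, hn, hZ⟩ := h.exists_gen
  obtain ⟨N, _, ρ, htr, hρ, -⟩ := D.exists_local_lattice (θ 1)
  have hN : N = m := by
    have := htr 1
    rw [h.deg] at this
    simpa using this
  obtain ⟨c, hc⟩ := exists_lift_eq_smul D.O hρ (b := h.zo 1) fun b => by
    rw [← map_mul, ← map_mul, h.toC_zo, (isCen_cmb _).comm]
  have hc1 : c = 1 := by
    have := trace_RM D.O.subtype ρ (toC (h.zo 1))
    rw [RM_map, hc, h.toC_zo, funext htr, (θ 1).2.charExt_cen, omega_cmb h.inj, h.deg, ← hN,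
      Matrix.trace_toLin'_eq, ← AddMonoidHom.map_trace] at this
    simpa [NeZero.ne N] using this
  haveI : Nontrivial (FMod.ofHom (Fin N → D.κ) (RM (IsLocalRing.residue D.O) ρ)).V :=
    inferInstanceAs (Nontrivial (Fin N → D.κ))
  obtain ⟨S, hS, hd, hf⟩ := exists_simple_sub (FMod.ofHom (Fin N → D.κ) (RM (IsLocalRing.residue D.O) ρ))
  refine ⟨x, S, hd.trans (hN ▸ (finrank_fin_fun D.κ).le), hx, ⟨_, ho, hn⟩, hn ▸
    { two := Nat.one_lt_pow (by simp) hp.out.one_lt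
      cf := h.isCen_zk 1
      cy := (h.isCen_zk x).sub (h.isCen_zk 1)
      ff := h.ff
      fy := h.fy
      yn := h.yn ho
      free := h.free ho hZ
      cen := h.cen hx ho
      simple := hS
      actf := hf _ ?_
      cardZ := h.cardZ
      CH := h.CH
      HN := h.HN
      gen := h.gen
      σf := fun g hg => ?_
      σy := fun g hg => ?_
      orth := fun g hg => by rw [← mapRingHom_cjN, ← map_mul, h.zo_mul_cjN hg, map_zero]
      supp := fun g hg => h.supp g fun h0 => hg ?_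
      he := h.he
      he0 := mt (CharP.cast_eq_zero_iff _ p e).1 h.he0 }⟩
  · change RM _ ρ _ = 1
    rw [RM_map, hc, hc1]
    simp [End.one_eq_id]
  · obtain ⟨α, hα, -⟩ := h.act g hg
    rw [← mapRingHom_cjN, h.cjN_zo hα, map_one]
  · obtain ⟨α, hα, hz⟩ := h.act g hg
    obtain ⟨k, hk⟩ := (mem_powers_iff_mem_zpowers.2 (hx (α x)))
    refine ⟨k, ?_, ?_⟩
    · set z := x ^ p ^ a
      have hzZ : (z : G) ∈ Z := hZ ▸ mem_zpowers _
      have h2 : MulAut.conj (g : G) z = z ^ k := by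
        rw [MulAut.conj_apply, ← hz z hzZ, map_pow, ← hk, ← Subgroup.coe_pow, ← pow_mul, ← pow_mul,
          mul_comm]
      have h1 : ∀ j : ℕ, MulAut.conj ((g : G) ^ j) z = z ^ k ^ j := fun j => by
        induction j with
        | zero => simp
        | succ j ih => rw [pow_succ, map_mul, MulAut.mul_apply, h2, map_pow, ih, ← pow_mul, pow_succ]
      haveI : ((𝐂 Z).subgroupOf H).Normal := ⟨fun c hc n => (cjC (P := Z) ⟨n, h.HN n.2⟩ ⟨c, hc⟩).2⟩
      have h3 : (g : G) ^ e ∈ 𝐂 Z := h.he ▸ pow_index_mem (H := (𝐂 Z).subgroupOf H) ⟨g, hg⟩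
      have h4 := h1 e
      rw [MulAut.conj_apply, ← h3 _ hzZ, mul_inv_cancel_right, eq_comm, ← pow_one (z : G),
        ← pow_mul, one_mul, pow_eq_pow_iff_modEq, ← Nat.card_zpowers, hZ, h.cardZ,
        ← CharP.natCast_eq_natCast D.κ p] at h4
      exact_mod_cast h4
    · have h1 : ∀ j, (1 + (toK (h.zo x) - toK (h.zo 1))) ^ j =
          1 + (toK (h.zo (x ^ j)) - toK (h.zo 1)) := fun j => by
        induction j with
        | zero => simp
        | succ j ih =>
          rw [pow_succ, ih]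
          simp only [mul_add, add_mul, mul_sub, sub_mul, one_mul, mul_one, ← map_mul, ← h.zo_mul,
            ← pow_succ]
          abel
      simp only [h1, map_add, map_sub, map_one, ← mapRingHom_cjN, h.cjN_zo hα]
      rw [← hk]
  · rw [coeff_mapRingHom, D.residue_eq_zero_iff]
    simpa [zo] using h0

include h in
/-- Dade's theorem on the restriction of an irreducible character to the nilpotent block -/
theorem main [Fintype (𝐂 Z)] (χ : IrrCharacter G) : ∃ (c : ℕ) (Λ : Finset (P →* ℂˣ)),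
    (∀ l ∈ Λ, classInner (fun g : 𝐂 Z => χ.1 g) (θ l).1 = c + 1) ∧
    (∀ l ∉ Λ, classInner (fun g : 𝐂 Z => χ.1 g) (θ l).1 = c) ∧
    (Λ.card ≤ e ∨ Nat.card P ≤ Λ.card + e) := by
  classical
  haveI := D.charP hp.out
  haveI := Fintype.ofFinite P
  haveI := Fintype.ofFinite (G ⧸ 𝐂 Z)
  obtain ⟨x, S, hS, hx, ⟨a, ho, hn⟩, hG⟩ := h.exists_GD
  obtain ⟨N, _, ρ, htr, hρ, hloc⟩ := D.exists_local_lattice χ
  obtain ⟨l, hl, h1, h2, h3⟩ := hG.main (RM (IsLocalRing.residue D.O) ρ) hloc (by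
    obtain ⟨c, hc⟩ := exists_lift_eq_smul D.O hρ (b := ∑ q : G ⧸ 𝐂 Z, cjA q.out (incl _ (h.zo x)))
      fun b => by
        simp only [map_sum, mapRingHom_cjA, mapRingHom_incl, ← cjE_map]
        refine comm_sum_cjE _ (fun c hc => ?_) b
        rw [cjE_eq_iff, h.toC_zo, ← incl_single _ ⟨c, hc⟩, ← map_mul, ← map_mul, ← map_mul, ← map_mul,
          (isCen_cmb _).comm]
    refine ⟨IsLocalRing.residue D.O c, ?_⟩
    have := h.pow_mul_f x 1
    rw [pow_one, pow_one] at this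
    simp only [this, cjE_map]
    simp only [← mapRingHom_incl, ← mapRingHom_cjA, ← map_sum]
    rw [RM_map, hc]
    ext i j
    simp [Matrix.one_apply, Pi.single_apply, eq_comm, apply_ite (IsLocalRing.residue D.O)])
  choose c hc using fun l => (χ.2.isCharacter.restrict (𝐂 Z)).classInner_nat (θ l).2.isCharacter
  have hr : ∀ s : Finset (P →* ℂˣ), finrank ℂ (LinearMap.range (RM D.O.subtype ρ
      (incl _ (cmb θ fun l => if l ∈ s then 1 else 0)))) = ∑ l ∈ s, c l * m := fun s => by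
    have := finrank_range_of_idem (E := RM D.O.subtype ρ
      (incl _ (cmb θ fun l => if l ∈ s then 1 else 0))) (by
        rw [← map_mul, ← map_mul, cmb_mul_cmb h.inj]; simp [← ite_and])
    rw [trace_RM, funext htr, charExt_incl, charExt_cmb] at this
    simp only [hc, h.deg, ite_mul, one_mul, zero_mul, Finset.sum_ite_mem, Finset.univ_inter] at this
    exact_mod_cast this
  have hr1 : ∀ k, finrank ℂ (LinearMap.range (RM D.O.subtype ρ (incl _ (idem {θ k})))) = c k * m :=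
    fun k => by
      have : (cmb θ fun l => if l ∈ ({k} : Finset _) then 1 else 0) = idem {θ k} := by simp [cmb]
      rw [← this, hr, Finset.sum_singleton]
  have hcard : Fintype.card (P →* ℂˣ) = Nat.card P := by
    haveI := h.cyc
    letI := IsCyclic.commGroup (α := P)
    rw [← Nat.card_eq_fintype_card, CommGroup.card_monoidHom_of_hasEnoughRootsOfUnity]
  refine (dade_arith c (e := e) (Nat.pos_of_ne_zero fun e => by
    simpa [h.deg, e] using (θ 1).2.apply_one_ne_zero) hS (hcard ▸ hl) (fun k => ?_) (fun k => ?_) h2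
    ?_ (hcard ▸ h1)).imp fun c₀ ⟨Λ, e1, e2, e3⟩ => ⟨Λ, fun l hl => by
      rw [hc, e1 l hl, Nat.cast_succ], fun l hl => by rw [hc, e2 l hl], hcard ▸ e3⟩
  · choose w hw hw' using fun u => h.residue_lin k⁻¹ u
    have := finrank_range_RM_le D.O ρ (incl _ (∑ u, w u • h.zo u))
    rw [mapRingHom_incl, mapRingHom_incl, h.toC_sum_smul k hw, map_smul, map_smul,
      LinearMap.range_smul _ _ (Nat.cast_ne_zero.2 Nat.card_pos.ne'), hr1] at this
    have e : toK (∑ u, w u • h.zo u) = _ := (map_sum _ _ _).trans <|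
      (Finset.sum_congr rfl fun u _ => by rw [mapRingHom_smul', hw', one_smul]).trans (h.sum_zk hx ho)
    rwa [e, map_mul, map_mul, map_pow, map_pow, ← hn] at this
  · obtain ⟨w, hw, hw'⟩ := h.residue_lin k x
    have := finrank_ker_RM_le D.O ρ (incl _ (h.zo x - w • h.zo 1 + (1 - h.zo 1)))
    refine (hr1 k).symm.trans_le ((Submodule.finrank_mono ?_).trans
      (this.trans (Submodule.finrank_mono fun v hv => ?_)))
    · rw [LinearMap.range_le_ker_iff, ← End.mul_eq_comp, mapRingHom_incl, ← map_mul, ← map_mul]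
      have : toC (h.zo x - w • h.zo 1 + (1 - h.zo 1)) * idem {θ k} = 0 := by
        have e := fun a => (cmb_mul h.inj a (isCen_idem {θ k}))
        simp only [map_add, map_sub, mapRingHom_smul', h.toC_zo, add_mul, sub_mul, smul_mul_assoc, e,
          map_one, one_mul, omega_idem, Set.mem_singleton_iff, h.inj.eq_iff]
        simp [cmb, hw]
      rw [this, map_zero, map_zero]
    · rw [mapRingHom_incl, map_add, map_sub, mapRingHom_smul', hw', one_smul, map_sub, map_one,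
        LinearMap.mem_ker] at hv
      have h4 : RM (IsLocalRing.residue D.O) ρ (incl _ (toK (h.zo x) - toK (h.zo 1))) v = 0 := by
        have := congrArg (RM (IsLocalRing.residue D.O) ρ (incl _ (toK (h.zo 1)))) hv
        rwa [← End.mul_apply, ← map_mul, ← map_mul, mul_add, h.fy, mul_one_sub, h.ff, sub_self,
          add_zero, map_zero] at this
      refine ⟨h4, v, ?_⟩
      rw [map_add, map_add, LinearMap.add_apply, h4, zero_add, map_sub, map_sub, map_one, map_one,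
        LinearMap.sub_apply, sub_eq_zero] at hv
      exact hv.symm
  · have e : (cmb θ fun l => l (1 : P)) = cmb θ fun l => if l ∈ Finset.univ then 1 else 0 := by simp
    rw [hcard, ← h3, ← mapRingHom_incl, finrank_range_RM_eq, mapRingHom_incl, h.toC_zo, ← hr, e]
    rw [← map_mul, ← h.zo_mul, one_mul]

end CD

end Cfsg.Lib.Small
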