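import Cfsg.Agent.Lib.Small.DadeE
import Cfsg.Agent.Lib.Block2.Puig
import Cfsg.Agent.Lib.Block2.AbCov

/-!
# Local integrality of class functions; nilpotent blocks with abelian defect group
-/

set_option autoImplicit false
set_option linter.unusedSectionVars false

namespace Cfsg.Lib.Small

open Cfsg.Lib.Block Cfsg.Lib.Block2 Cfsg.Lib.Char Cfsg.Lib.Amalg MonoidAlgebra Subgroup
open scoped ComplexConjugate

variable {G : Type*} [Group G] {p : ℕ} [hp : Fact p.Prime] {M : Ideal AlgInt} [M.IsMaximal]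

section OC

variable [Fintype G] {f : G → ℂ}

variable (M) in
/-- class functions which are combinations of characters with locally integral coefficients -/
def OC (f : G → ℂ) : Prop := IsClassFunction G f ∧ ∀ χ : IrrCharacter G, MemLocalRing M (classInner f χ.1)

theorem oc_of_isGen (h : IsGeneralizedCharacter G f) : OC M f :=
  ⟨h.isClassFunction, fun χ => by
    obtain ⟨n, hn⟩ := h.classInner_int χ.2.isGeneralizedCharacter
    exact hn ▸ memLocalRing_intCast n⟩

theorem oc_sum {ι : Type*} (s : Finset ι) {a : ι → ℂ} {F : ι → G → ℂ}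
    (ha : ∀ i ∈ s, MemLocalRing M (a i)) (hF : ∀ i ∈ s, OC M (F i)) : OC M (∑ i ∈ s, a i • F i) :=
  ⟨fun g x => by
    simp only [Finset.sum_apply, Pi.smul_apply]
    exact Finset.sum_congr rfl fun i hi => by rw [(hF i hi).1 g x], fun χ => by
    simp only [classInner_sum_left, classInner_smul_left]
    exact memLocalRing_sum fun i hi => (ha i hi).mul ((hF i hi).2 χ)⟩

theorem OC.of_irr {H : Type*} [Group H] [Fintype H] (h : OC M f) (L : (G → ℂ) →ₗ[ℂ] H → ℂ)
    (hL : ∀ χ : IrrCharacter G, OC M (L χ.1)) : OC M (L f) := by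
  rw [h.1.eq_sum, map_sum]
  simp only [map_smul]
  exact oc_sum _ (fun χ _ => h.2 χ) fun χ _ => hL χ

theorem OC.mem (h : OC M f) (g : G) : MemLocalRing M (f g) := by
  rw [h.1.apply_eq_sum]
  exact memLocalRing_sum fun χ _ => (h.2 χ).mul (χ.2.isCharacter.memLocalRing g)

theorem OC.comp {H : Type*} [Group H] [Fintype H] (h : OC M f) (φ : H →* G) : OC M fun x => f (φ x) :=
  h.of_irr (LinearMap.funLeft ℂ ℂ φ) fun χ =>
    oc_of_isGen (χ.2.isCharacter.comp φ).isGeneralizedCharacter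

theorem OC.transl (h : OC M f) (x : G) [Fintype (centralizer ({x} : Set G))] :
    OC M fun c : centralizer ({x} : Set G) => f (x * c) := by
  obtain ⟨l, hl, hl'⟩ := exists_scalar (H := centralizer ({x} : Set G)) rfl
  refine ⟨fun c y => ?_, fun ξ => ?_⟩
  · refine Eq.trans ?_ (h.1 (x * c) y)
    simp only [coe_mul, coe_inv, ← mul_assoc, mem_centralizer_singleton_iff.1 y.2]
  · rw [hl']
    exact ((h.comp (Subgroup.subtype _)).2 ξ).mul (memLocalRing_of_pow_eq_one (orderOf_pos x).ne' (hl ξ))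

theorem OC.avg (h : OC M f) : MemLocalRing M ((∑ g, f g) / Nat.card G) := by
  simpa [classInner_def, div_eq_inv_mul] using h.2 ⟨_, isIrrCharacter_one⟩

theorem OC.blockPart (h : OC M f) (b : Set (IrrCharacter G)) : OC M (blockPart b f) :=
  ⟨isClassFunction_blockPart b f, fun χ => by
    classical
    rw [classInner_blockPart]
    split_ifs
    exacts [h.2 χ, memLocalRing_zero]⟩

theorem OC.reg (hM : IsPModular p M) (h : OC M f) {b : Set (IrrCharacter G)} (hb : IsPBlock M b) :
    OC M ((p : ℂ) ^ blockDefect p b • reg p (Cfsg.blockPart b f)) := by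
  classical
  obtain ⟨a, ha, -⟩ := exists_contrib hM hb
  rw [blockPart_eq, reg_sum_smul, Finset.smul_sum]
  simp only [smul_comm ((p : ℂ) ^ _)]
  refine oc_sum _ (fun χ _ => h.2 χ) fun χ hχ => ⟨fun g x => ?_, fun ψ => ?_⟩
  · simp only [Pi.smul_apply, isClassFunction_reg χ.2.isClassFunction g x]
  · rw [classInner_smul_left, ← ha χ (by simpa using hχ)]
    exact memLocalRing_intCast _

theorem OC.div_card (hM : IsPModular p M) (h : OC M f) (h0 : ∀ g, p ∣ orderOf g → f g = 0) (s : G) :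
    MemLocalRing M (f s / Nat.card (centralizer ({s} : Set G))) := by
  classical
  by_cases hs : p ∣ orderOf s
  · rw [h0 s hs, zero_div]; exact memLocalRing_zero
  obtain ⟨S⟩ : Nonempty (Sylow p (centralizer ({s} : Set G))) := inferInstance
  have h1 := ((h.transl s).comp S.1.subtype).avg
  rw [Finset.sum_eq_single 1 (fun w _ hw => h0 _ ?_) (by simp)] at h1
  · have h2 := h1.mul (memLocalRing_inv_natCast hM S.not_dvd_index)
    rw [← S.1.card_mul_index, Nat.cast_mul, ← div_div]
    simpa [div_eq_mul_inv] using h2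
  · have hc : Commute (w.1.1 : G) s := mem_centralizer_singleton_iff.1 w.1.2
    obtain ⟨k, hk⟩ := IsPGroup.iff_orderOf.1 S.2 w
    rw [← orderOf_coe, ← orderOf_coe] at hk
    by_contra h3
    have := pp_mul hc ⟨k, hk⟩ hs
    rw [hc.eq, pp_of_not_dvd (s := s * w.1.1) h3] at this
    exact hw (Subtype.ext (Subtype.ext this.symm))

theorem OC.bp_div (hM : IsPModular p M) (h : OC M f) {u g : G} (hg : pp p g = u)
    {φ : MonoidAlgebra (resField M) G} (hφ : Blk (centralizer {u}) φ) {D : Subgroup G}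
    (hD : DefG p (centralizer {u}) φ D) :
    MemLocalRing M (Nat.card D * bp (centralizer {u}) φ f g / Nat.card (centralizer ({g} : Set G))) := by
  classical
  obtain ⟨s, rfl, hc, -, hs⟩ := hg ▸ isPPart_pp (p := p) g
  let s' : centralizer ({u} : Set G) := ⟨s, mem_centralizer_singleton_iff.2 hc.symm⟩
  have h1 := ((h.transl u).reg hM hφ.isPBlock_bset).div_card hM
    (fun g hg => by rw [Pi.smul_apply, reg_of_dvd _ hg, smul_zero]) s'
  have h2 : Nat.card (centralizer ({s'} : Set (centralizer ({u} : Set G)))) =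
      Nat.card (centralizer ({u * s} : Set G)) := by
    rw [← card_map_of_injective (subtype_injective _)]
    congr 2
    ext y
    refine ⟨?_, fun h => ?_⟩
    · rintro ⟨y, hy, rfl⟩
      exact mem_centralizer_singleton_iff.2 (Commute.mul_right (mem_centralizer_singleton_iff.1 y.2)
        (congrArg Subtype.val (mem_centralizer_singleton_iff.1 hy)))
    replace h : Commute y (u * s) := mem_centralizer_singleton_iff.1 h
    have h3 : Commute y u := by
      obtain ⟨k, hk⟩ := (isPPart_pp (p := p) (u * s)).mem hM.1 (mem_zpowers (u * s))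
      rw [← hg, ← hk]
      exact Commute.zpow_right h k
    exact ⟨⟨y, mem_centralizer_singleton_iff.2 h3⟩, mem_centralizer_singleton_iff.2
      (Subtype.ext (by simpa using (h3.inv_right.mul_right h).eq)), rfl⟩
  have h3 := fsub_apply (p := p) (φ := φ) rfl h.1 s'
  rw [if_neg (by rwa [← orderOf_coe])] at h3
  rwa [h2, Pi.smul_apply, ← fsub.eq_def, h3, ← Nat.cast_pow, ← hD.card_eq_pow hM hφ] at h1

end OC

section push

variable [Finite G] {K : Type*} [Group K] [Finite K] {f : K →* G} {L : Subgroup K}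
  {φ : MonoidAlgebra (resField M) K}

omit hp in
theorem push_lft (hf : Function.Injective f) (h : Blk L φ) :
    push f (lft L φ) = lft (L.map f) (push f φ) :=
  eq_lft (fun g => by
    by_cases hg : g ∈ f.range
    · obtain ⟨k, rfl⟩ := hg
      rw [coeff_push_apply hf]
      exact isInt_lft k
    · rw [coeff_push_of_notMem _ hg]; exact memLocalRing_zero)
    (by rw [← map_mul, lft_mul_self]) ((cenIn_push_iff hf).2 cenIn_lft)
    (by rw [redA_push f isInt_lft, redA_lft h.cen h.idem])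

omit hp in
theorem bp_push (hf : Function.Injective f) (h : Blk L φ) (χ : G → ℂ) (k : K) :
    bp (L.map f) (push f φ) χ (f k) = bp L φ (fun x => χ (f x)) k := by
  rw [bp, bp, ← push_lft hf h, ← push_single, ← map_mul, charExt_mapDomain]

theorem pp_map (k : K) : pp p (f k) = f (pp p k) := ((isPPart_pp k).map hp.out f).pp_eq

omit hp [Finite G] [Finite K] in
theorem map_cent (hf : Function.Injective f) {u : K} (hC : centralizer {f u} ≤ f.range) :
    (centralizer {u}).map f = centralizer {f u} := by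
  ext g
  simp only [mem_map, mem_centralizer_singleton_iff]
  refine ⟨?_, fun h => ?_⟩
  · rintro ⟨k, hk, rfl⟩
    rw [← map_mul, hk, map_mul]
  · obtain ⟨k, rfl⟩ := hC (mem_centralizer_singleton_iff.2 h)
    exact ⟨k, hf (by rw [map_mul, h, map_mul]), rfl⟩

theorem con_push [Fintype G] [Fintype K] (hf : Function.Injective f) {u : K}
    (hC : centralizer {f u} ≤ f.range) (h : Blk (centralizer {u}) φ) (χ ψ : G → ℂ) :
    con p (f u) (push f φ) χ ψ = con p u φ (fun x => χ (f x)) fun x => ψ (f x) := by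
  classical
  rw [con, con, ← map_cent hf hC, card_map_of_injective hf]
  refine congrArg _ (Finset.sum_bij (fun k _ => f k) (fun k hk => ?_) (fun _ _ _ _ e => hf e)
    (fun g hg => ?_) fun k _ => by rw [bp_push hf h]).symm
  · simp only [Finset.mem_filter, Finset.mem_univ, true_and] at hk ⊢
    rw [pp_map, hk]
  · simp only [Finset.mem_filter, Finset.mem_univ, true_and] at hg ⊢
    obtain ⟨k, rfl⟩ := hC (hg ▸ mem_centralizer_pp g)
    exact ⟨k, hf (by rw [← pp_map, hg]), rfl⟩

omit hp in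
theorem con_sum [Fintype G] {ι : Type*} (s : Finset ι) (c : ι → ℂ) (F : ι → G → ℂ) (u : G)
    (φ : MonoidAlgebra (resField M) G) (ψ : G → ℂ) :
    con p u φ (∑ i ∈ s, c i • F i) ψ = ∑ i ∈ s, c i * con p u φ (F i) ψ := by
  simp only [con, bp_sum, Finset.sum_mul, Finset.mul_sum]
  rw [Finset.sum_comm]
  exact Finset.sum_congr rfl fun i _ => Finset.sum_congr rfl fun g _ => by ring

end push

section NA

variable [Finite G] {A : Type*} [Group A]

variable (p) in
/-- the characters of a nilpotent block with abelian defect group -/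
structure NA (b : Set (IrrCharacter G)) (P : Subgroup G) (ε : MonoidAlgebra (resField M) G)
    (j : A ≃* P) (θ : (A →* ℂˣ) → IrrCharacter G) : Prop where
  hb : IsPBlock M b
  hm : MaxP p ⊤ (eB M b) P ε
  hn : NilB p ⊤ (eB M b)
  ab : ∀ u v : A, u * v = v * u
  inj : Function.Injective θ
  mem : ∀ ξ, ξ ∈ b ↔ ∃ l, θ l = ξ
  eq : ∀ l, (θ l).1 = sst p P ε (extendByZero P (linF (l.comp j.symm.toMonoidHom))) (θ 1).1
  ht : blockHeight p b (θ 1).1 = 0
  deg : ∀ l, charDegree (θ l).1 = charDegree (θ 1).1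

variable {b : Set (IrrCharacter G)} {P : Subgroup G} {ε : MonoidAlgebra (resField M) G}
  {j : A ≃* P} {θ : (A →* ℂˣ) → IrrCharacter G}

theorem exists_NA (hM : IsPModular p M) (hb : IsPBlock M b) (hm : MaxP p ⊤ (eB M b) P ε)
    (hn : NilB p ⊤ (eB M b)) (ab : ∀ u v : A, u * v = v * u) (j : A ≃* P) {θ₀ : IrrCharacter G}
    (h₀ : θ₀ ∈ b) : ∃ θ, NA p b P ε j θ ∧ θ 1 = θ₀ := by
  haveI := Fintype.ofFinite G
  have ab' : ∀ u v : P, u * v = v * u := fun u v => j.symm.injective (by rw [map_mul, ab, map_mul])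
  have hd : ∀ l, charDegree (linIrr ab' l).1 = 1 := fun l =>
    charDegree_eq_of_apply_one (show ((l 1 : ℂˣ) : ℂ) = _ by simp)
  have h0 : blockHeight p b θ₀.1 = 0 := by
    obtain ⟨χ, h1, h2⟩ := exists_blockHeight_eq_zero p hb.nonempty
    obtain ⟨Φ, hΦ⟩ := hn.exists_equiv hM hb hm h1 h2
    obtain ⟨l, hl⟩ := ((linIrr ab').trans Φ).surjective ⟨θ₀, h₀⟩
    have := (hΦ (linIrr ab' l)).2
    rw [hd, one_mul, show Φ (linIrr ab' l) = _ from hl] at this
    rwa [blockHeight_eq, this, ← blockHeight_eq]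
  obtain ⟨Φ, hΦ⟩ := hn.exists_equiv hM hb hm h₀ h0
  let e := ((MulEquiv.monoidHomCongrLeftEquiv (N := ℂˣ) j).trans (linIrr ab')).trans Φ
  have h1 : (e 1).1 = θ₀ := Subtype.ext <| ((hΦ _).1.trans (hm.sst_const hM hb h₀ (c := 1)
    fun u hu => by rw [extendByZero_of_mem _ hu]; rfl)).trans (one_smul _ _)
  refine ⟨fun l => (e l).1, ⟨hb, hm, hn, ab, Subtype.val_injective.comp e.injective,
    fun ξ => ⟨fun h => ⟨e.symm ⟨ξ, h⟩, by simp⟩, ?_⟩, fun l => ?_, by rwa [h1], fun l => ?_⟩, h1⟩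
  · rintro ⟨l, rfl⟩; exact (e l).2
  · rw [h1]; exact (hΦ _).1
  · rw [h1]; exact (hΦ _).2.trans ((congrArg (· * _) (hd _)).trans (one_mul _))

namespace NA

variable (hM : IsPModular p M) (h : NA p b P ε j θ)
include h

theorem mem' (l : A →* ℂˣ) : θ l ∈ b := (h.mem _).2 ⟨l, rfl⟩

theorem deg' (l : A →* ℂˣ) : (θ l).1 1 = charDegree (θ 1).1 := by rw [← h.deg l, coe_deg]

theorem le_cent (u : A) : P ≤ centralizer {(j u : G)} := fun x hx =>
  mem_centralizer_singleton_iff.2 (by
    obtain ⟨v, hv⟩ := j.surjective ⟨x, hx⟩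
    have := congrArg (fun w => (j w : G)) (h.ab v u)
    simpa [hv] using this)

variable [Fintype (A →* ℂˣ)]

theorem cmb_one : cmb θ (fun _ => 1) = idem b :=
  (isCen_cmb _).ext_omega (isCen_idem b) fun ξ => by
    by_cases e : ∃ l, θ l = ξ
    · rw [omega_idem_of_mem ((h.mem ξ).2 e)]
      obtain ⟨l, rfl⟩ := e
      exact omega_cmb h.inj _ l
    · rw [omega_idem_of_notMem (mt (h.mem ξ).1 e), omega_cmb_of_ne _ (not_exists.1 e)]

include hM

theorem fSt (l : A →* ℂˣ) : FSt p P ε (extendByZero P (linF (l.comp j.symm.toMonoidHom))) :=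
  h.hn.fSt hM h.hm (isIrrCharacter_linear _).isClassFunction

theorem sle (u : A) : SLE p ⊤ (zpowers (j u : G)) (sp p P ε (j u)) P ε := h.hm.bp.sle_sp hM (j u).2

theorem bp_eq (l : A →* ℂˣ) {u : A} {g : G} (hg : pp p g = j u) :
    bp (centralizer {(j u : G)}) (sp p P ε (j u)) (θ l).1 g =
      l u * bp (centralizer {(j u : G)}) (sp p P ε (j u)) (θ 1).1 g := by
  rw [h.eq l, sst, bp_star hM (h.fSt hM l).wt_inv (θ 1).2.isClassFunction (h.sle hM u).blk_cent hg,
    (h.fSt hM l).wt_eq' (h.sle hM u), extendByZero_coe]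
  simp [linF]

variable [Fintype G]

theorem bp_any {ψ : G → ℂ} (hψ : IsClassFunction G ψ) {u : A} {g : G} (hg : pp p g = j u) :
    bp (centralizer {(j u : G)}) (sp p P ε (j u)) ψ g = (∑ l, classInner ψ (θ l).1 * l u) *
      bp (centralizer {(j u : G)}) (sp p P ε (j u)) (θ 1).1 g := by
  classical
  conv_lhs => rw [hψ.eq_sum]
  rw [bp_sum, Finset.sum_mul, ← Finset.sum_subset (Finset.subset_univ (Finset.univ.image θ)),
    Finset.sum_image fun _ _ _ _ e => h.inj e]
  · exact Finset.sum_congr rfl fun l _ => by rw [h.bp_eq hM l hg, mul_assoc]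
  · intro ξ _ hξ
    have h1 := ξ.2.isPBlock_blockOf (M := M)
    rw [bp_eq_zero hM h1 (mem_blockOf_self ξ) (h.sle hM u).blk_cent (fun h2 => hξ ?_) hg, mul_zero]
    obtain ⟨l, hl⟩ := (h.mem ξ).1 (eB_inj h1.isBlockUnion h.hb.isBlockUnion
      (h2.unique hM (h.hm.bpo.of_sle hM (h.sle hM u))) ▸ mem_blockOf_self ξ)
    exact Finset.mem_image.2 ⟨l, Finset.mem_univ _, hl⟩

theorem con_any {ψ ψ' : G → ℂ} (hψ : IsClassFunction G ψ) (hψ' : IsClassFunction G ψ') (u : A) :
    Nat.card A * con p (j u : G) (sp p P ε (j u)) ψ ψ' =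
      (∑ l, classInner ψ (θ l).1 * l u) * conj (∑ l, classInner ψ' (θ l).1 * l u) := by
  classical
  have h1 : ∀ ψ ψ', IsClassFunction G ψ → con p (j u : G) (sp p P ε (j u)) ψ ψ' =
      (∑ l, classInner ψ (θ l).1 * l u) * con p (j u : G) (sp p P ε (j u)) (θ 1).1 ψ' :=
    fun ψ ψ' hψ => by
      rw [con, con, mul_left_comm, Finset.mul_sum _ _ (∑ l, _)]
      exact congrArg _ (Finset.sum_congr rfl fun g hg => by
        rw [h.bp_any hM hψ (Finset.mem_filter.1 hg).2, mul_assoc])
  have hc := (θ 1).2.isClassFunction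
  have h2 := h.hn.card_mul_con hM h.hb h.hm (h.mem' 1) h.ht (h.sle hM u)
  rw [inf_eq_left.2 (h.le_cent u), ← Nat.card_congr j.toEquiv] at h2
  rw [h1 _ _ hψ, ← conj_con hM hψ' hc, h1 _ _ hψ', map_mul, conj_con hM hc hc]
  linear_combination (∑ l, classInner ψ (θ l).1 * l u) *
    conj (∑ l, classInner ψ' (θ l).1 * (l u : ℂ)) * h2

theorem con_eq (l k : A →* ℂˣ) (u : A) :
    Nat.card A * con p (j u : G) (sp p P ε (j u)) (θ l).1 (θ k).1 = l u * conj (k u : ℂ) := by
  classical
  simp [h.con_any hM (θ l).2.isClassFunction (θ k).2.isClassFunction, classInner_irr, h.inj.eq_iff]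

theorem fact : (Nat.card G).factorization p = (Nat.card A * charDegree (θ 1).1).factorization p := by
  have h1 := ((isDefectGroup_iff_defG_top hM h.hb).2 h.hm.defG).factorization_card hM h.hb
  rw [Nat.card_congr j.toEquiv, Nat.factorization_mul Nat.card_pos.ne' (deg_pos _).ne',
    Finsupp.add_apply, h1, (blockHeight_eq_zero_iff_eq (h.mem' 1)).1 h.ht, add_comm,
    minVal_add_blockDefect h.hb.nonempty]

theorem isInt_cmb (u : A) : IsInt M (cmb θ fun l => l u) := fun g => by
  classical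
  haveI : Finite A := .of_equiv _ j.toEquiv.symm
  haveI := Fintype.ofFinite A
  have hn : Nat.card A * charDegree (θ 1).1 ≠ 0 := mul_ne_zero Nat.card_pos.ne' (deg_pos _).ne'
  have h1 : ∑ l : A →* ℂˣ, (l u : ℂ) • extendByZero P (linF (l.comp j.symm.toMonoidHom)) =
      (Nat.card A : ℂ) • fun x => if x = (j u⁻¹ : G) then 1 else 0 := funext fun x => by
    simp only [Finset.sum_apply, Pi.smul_apply, smul_eq_mul]
    by_cases hx : x ∈ P
    · obtain ⟨v, hv⟩ := j.surjective ⟨x, hx⟩
      obtain rfl : (j v : G) = x := congrArg Subtype.val hv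
      simp only [extendByZero_coe, linF, MonoidHom.comp_apply, MulEquiv.coe_toMonoidHom,
        MulEquiv.symm_apply_apply, ← Units.val_mul, ← map_mul, SetLike.coe_eq_coe,
        EmbeddingLike.apply_eq_iff_eq]
      split_ifs with e
      · simp [e, ← card_linear h.ab, -Nat.card_eq_fintype_card, Fintype.card_eq_nat_card]
      · rw [sum_linear_apply h.ab fun e' => e (eq_inv_of_mul_eq_one_right e'), mul_zero]
    · rw [if_neg fun e : x = _ => hx (e ▸ (j u⁻¹).2)]
      simp [extendByZero_of_notMem _ hx]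
  have h2 : (cmb θ fun l => l u).coeff g =
      ((Nat.card A * charDegree (θ 1).1 : ℕ) / Nat.card G : ℂ) *
        sst p P ε (fun x => if x = (j u⁻¹ : G) then 1 else 0) (θ 1).1 g⁻¹ := by
    have h3 := congrFun (sst_sum (p := p) (P := P) (ε := ε) Finset.univ (fun l : A →* ℂˣ => (l u : ℂ))
      (fun l => extendByZero P (linF (l.comp j.symm.toMonoidHom))) (θ 1).1) g⁻¹
    have h4 := congrFun (sst_sum (p := p) (P := P) (ε := ε) {()} (fun _ => (Nat.card A : ℂ))
      (fun _ x => if x = (j u⁻¹ : G) then 1 else 0) (θ 1).1) g⁻¹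
    simp only [Finset.sum_singleton, Pi.smul_apply, smul_eq_mul] at h4
    rw [h1, h4] at h3
    simp only [cmb, coeff_sum, Finset.sum_apply', coeff_smul, Finsupp.smul_apply, coeff_idem, blockCoeff_singleton,
      smul_eq_mul, h.deg', ← h.eq, Finset.sum_apply, Pi.smul_apply,
      fun l => ((θ l).2.isCharacter.apply_inv g).symm] at h3 ⊢
    rw [Nat.cast_mul, mul_comm (Nat.card A : ℂ), mul_div_right_comm, mul_assoc, h3, Finset.mul_sum]
    exact Finset.sum_congr rfl fun l _ => by ring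
  rw [h2]
  refine (memLocalRing_natDiv hM hn Nat.card_pos.ne' (h.fact hM).le).mul
    (memLocalRing_sum fun φ _ => Cfsg.Lib.Block.Cfsg.MemLocalRing.mul ?_
      ((oc_of_isGen (isGen_bp (θ 1).2.isGeneralizedCharacter)).mem ⟨_, mem_centralizer_pp g⁻¹⟩))
  simp only [wt]
  split_ifs
  exacts [memLocalRing_one, memLocalRing_zero, memLocalRing_zero]

theorem unit : ∃ c, MemLocalRing M (Nat.card A * (idem {θ 1}).coeff c) ∧
    ¬ MemLocalIdeal M (Nat.card A * (idem {θ 1}).coeff c) := by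
  haveI : Finite A := .of_equiv _ j.toEquiv.symm
  have hn : Nat.card A * charDegree (θ 1).1 ≠ 0 := mul_ne_zero Nat.card_pos.ne' (deg_pos _).ne'
  obtain ⟨g, hg⟩ : ∃ g, ¬ MemLocalIdeal M (blockCoeff b g) := by
    by_contra! h1
    exact h.hm.blk'.ne_zero ((redA_eq_zero_iff h.hb.isBlockUnion.isInt_idem).2 h1)
  obtain ⟨χ, h1, h2⟩ := h.hb.isBlockUnion.exists_not_mem_of_coeff hM hg
  obtain ⟨l, rfl⟩ := (h.mem χ).1 h1
  rw [h.eq, h.hm.sst_regular hM h.hb (h.mem' 1) (fun h3 => hg (by
    rw [blockCoeff_eq_zero_of_int hM h.hb.isBlockUnion.isInt_idem (by rwa [orderOf_inv] at h3)]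
    exact memLocalIdeal_zero)), extendByZero_of_mem _ P.one_mem] at h2
  have e : Nat.card A * (idem {θ 1}).coeff g =
      ((Nat.card A * charDegree (θ 1).1 : ℕ) / Nat.card G : ℂ) * (θ 1).1 g⁻¹ := by
    rw [coeff_idem, blockCoeff_singleton, h.deg', (θ 1).2.isCharacter.apply_inv]
    push_cast; ring
  have h3 := memLocalRing_natDiv hM hn Nat.card_pos.ne' (h.fact hM).le
  refine ⟨g, e ▸ h3.mul ((θ 1).2.isCharacter.memLocalRing _), e ▸ not_memLocalIdeal_mul h3 ?_ ?_⟩
  · rw [memLocalIdeal_natDiv_iff hM hn Nat.card_pos.ne', h.fact hM]; exact lt_irrefl _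
  · simpa [show (⟨1, P.one_mem⟩ : P) = 1 from rfl, linF] using h2

theorem cent {z : A} (hz : (j z : G) ∈ center G) :
    ∃ ω, MemLocalIdeal M (ω - 1) ∧ ∀ l, (θ l).1 (j z) = ω * l z * charDegree (θ 1).1 := by
  obtain ⟨k, hk⟩ := pow_of_mem_pgroup h.hm.bp.isPGroup (j z).2
  obtain ⟨ω, h1⟩ := (θ 1).2.exists_linear_of_le_center (Z := center G) le_rfl
  refine ⟨ω ⟨_, hz⟩, memLocalIdeal_sub_one_of_pow_prime_pow hM (k := k) ?_, fun l => ?_⟩
  · rw [← hk, ← Units.val_pow_eq_pow_val, ← map_pow, show (⟨_, hz⟩ : center G) ^ _ = 1 from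
      Subtype.ext (pow_orderOf_eq_one _), map_one, Units.val_one]
  have hp' : pp p (j z : G) = j z := by simpa using pp_mul (Commute.one_right _) ⟨k, hk⟩ (by
    simpa using hp.out.one_lt.ne')
  rw [h.eq l, h.hm.sst_apply hM h.hb (h.mem' 1) (c := l z) fun x _ => by
    rw [hp', mem_center_iff.1 hz, mul_inv_cancel_right, extendByZero_coe]; simp [linF], ← h.deg' 1,
    mul_right_comm, ← h1 ⟨_, hz⟩, mul_one, mul_comm]

theorem act {σ : G ≃* G} {α : A ≃* A} (hσ : ∀ u, σ (j u) = j (α u))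
    (hε : push σ.toMonoidHom ε = ε) : irrCongr σ '' b = b ∧ ∀ k, irrCongr σ (θ 1) = θ k → ∀ l,
    irrCongr σ (θ (l.comp α.toMonoidHom)) = θ (l * k) := by
  haveI : Finite A := .of_equiv _ j.toEquiv.symm
  have hf : Function.Injective σ.toMonoidHom := σ.injective
  have hP : P.map σ.toMonoidHom = P := eq_of_le_of_card_ge (by
    rintro _ ⟨x, hx, rfl⟩
    obtain ⟨v, hv⟩ := j.surjective ⟨x, hx⟩
    obtain rfl : (j v : G) = x := congrArg Subtype.val hv
    exact (hσ v).symm ▸ (j _).2) (card_map_of_injective hf).ge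
  have ht : (⊤ : Subgroup G).map σ.toMonoidHom = ⊤ := map_top_of_surjective _ σ.surjective
  have h1 := (maxP_push_iff hf).2 h.hm
  rw [ht, hP, hε, push_eB_equiv] at h1
  have h2 := eB_inj (h.hb.isBlockUnion.irrCongr σ) h.hb.isBlockUnion (h1.bpo.unique hM h.hm.bpo)
  refine ⟨h2, fun k hk l => ?_⟩
  obtain ⟨i, hi⟩ := (h.mem _).1 (h2.le ⟨_, h.mem' (l.comp α.toMonoidHom), rfl⟩)
  rw [← hi]
  refine congrArg θ (MonoidHom.ext fun v => Units.ext ?_)
  obtain ⟨u, rfl⟩ := α.surjective v
  have h3 := (h.sle hM u).push hf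
  rw [ht, hP, hε, MonoidHom.map_zpowers] at h3
  have h4 := con_push (p := p) hf (fun x _ => σ.surjective x)
    (h.sle hM u).blk_cent (θ i).1 (θ k).1
  have h5 := h.con_eq hM i k (α u)
  have h6 := h.con_eq hM (l.comp α.toMonoidHom) 1 u
  rw [← h3.sp_eq hM] at h4
  simp only [MulEquiv.coe_toMonoidHom, hσ] at h4
  simp only [hi, ← hk, ← hσ, irrCongr_apply_map] at h4
  rw [hi, ← hk, ← hσ, h4, h6] at h5
  have h7 : conj (k (α u) : ℂ) * k (α u) = 1 := by
    rw [← (isIrrCharacter_linear k).isCharacter.apply_inv, ← Units.val_mul, ← map_mul]; simp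
  rw [MonoidHom.mul_apply, Units.val_mul, ← mul_one (i _ : ℂ), ← h7, ← mul_assoc, ← h5]
  simp

end NA

end NA

end Cfsg.Lib.Small
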