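import Cfsg.Agent.Lib.Small.DadeF

/-!
# Generalized decomposition numbers of blocks whose proper local blocks are nilpotent
-/

set_option autoImplicit false
set_option linter.unusedSectionVars false

namespace Cfsg.Lib.Small

open Cfsg.Lib.Block Cfsg.Lib.Block2 Cfsg.Lib.Char Cfsg.Lib.Amalg MonoidAlgebra Subgroup
open scoped ComplexConjugate

variable {G : Type*} [Group G] [Finite G] {p : ℕ} [hp : Fact p.Prime] {M : Ideal AlgInt} [M.IsMaximal]

variable (p M) in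
/-- abstract generalized decomposition numbers -/
structure AD (B : Finset (IrrCharacter G)) {A : Type*} [Group A] [Fintype A] (E : Subgroup (MulAut A))
    (d : IrrCharacter G → A → ℂ) : Prop where
  val : ∀ x : G, p ∣ orderOf x → ∃ w : A → ℂ, w 1 = 0 ∧ (∀ u, MemLocalRing M (w u) ∧
    MemLocalRing M (Nat.card A * w u / Nat.card (centralizer ({x} : Set G)))) ∧
    ∀ χ ∈ B, χ.1 x = ∑ u, d χ u * w u
  orth : ∀ u v, u ≠ 1 → (∃ α ∈ E, α u = v) → ∑ χ ∈ B, d χ u * conj (d χ v) = Nat.card A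
  orth' : ∀ u v, u ≠ 1 → v ≠ 1 → (¬ ∃ α ∈ E, α u = v) → ∑ χ ∈ B, d χ u * conj (d χ v) = 0
  orth0 : ∀ x : G, ¬ p ∣ orderOf x → ∀ v, v ≠ 1 → ∑ χ ∈ B, χ.1 x * conj (d χ v) = 0
  cnj : ∀ χ u, conj (d χ u) = d χ u⁻¹
  inv : ∀ χ, ∀ α ∈ E, ∀ u, d χ (α u) = d χ u
  ne : ∀ χ ∈ B, ∀ u, u ≠ 1 → d χ u ≠ 0

/-- the inertial quotient as a group of automorphisms -/
def inE (P : Subgroup G) (ε : MonoidAlgebra (resField M) G) : Subgroup (MulAut P) :=
  (P.normalizerMonoidHom.comp (inclusion (stabP_le_norm (H := ⊤) (φ := ε)))).range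

omit hp in
theorem mem_inE {P : Subgroup G} {ε : MonoidAlgebra (resField M) G} {α : MulAut P} :
    α ∈ inE P ε ↔ ∃ t ∈ stabP ⊤ P ε, ∀ u, (α u : G) = t * u * t⁻¹ :=
  ⟨fun ⟨t, h⟩ => ⟨t, t.2, fun _ => h ▸ rfl⟩, fun ⟨t, ht, h⟩ =>
    ⟨⟨t, ht⟩, MulEquiv.ext fun u => Subtype.ext (h u).symm⟩⟩

omit hp in
theorem exists_inE {P : Subgroup G} {ε : MonoidAlgebra (resField M) G} {t : G} (ht : t ∈ stabP ⊤ P ε) :
    ∃ α ∈ inE P ε, ∀ u, (α u : G) = t * u * t⁻¹ := ⟨_, ⟨⟨t, ht⟩, rfl⟩, fun _ => rfl⟩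

omit hp in
theorem card_inE (P : Subgroup G) (ε : MonoidAlgebra (resField M) G) :
    Nat.card (inE P ε) = (𝐂 P).relIndex (stabP ⊤ P ε) := by
  rw [inE, ← index_ker, ← MonoidHom.comap_ker, normalizerMonoidHom_ker]
  rfl

variable (p) in
/-- generalized decomposition numbers, given by the contributions -/
structure FD [Fintype G] (B : Finset (IrrCharacter G)) (P : Subgroup G)
    (ε : MonoidAlgebra (resField M) G) (d : IrrCharacter G → P → ℂ) : Prop where
  hB : IsPBlock M (B : Set (IrrCharacter G))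
  hm : MaxP p ⊤ (eB M (B : Set (IrrCharacter G))) P ε
  ab : P ≤ 𝐂 P
  int : ∀ χ u, IsIntegral ℤ (d χ u)
  cnj : ∀ χ u, conj (d χ u) = d χ u⁻¹
  hcon : ∀ χ ∈ B, ∀ ψ ∈ B, ∀ u : P, u ≠ 1 →
    Nat.card P * con p (u : G) (sp p P ε u) χ.1 ψ.1 = d χ u * conj (d ψ u)
  inv : ∀ χ, ∀ α ∈ inE P ε, ∀ u, d χ (α u) = d χ u

namespace FD

variable [Fintype G] {B : Finset (IrrCharacter G)} {P : Subgroup G}
  {ε : MonoidAlgebra (resField M) G} {d : IrrCharacter G → P → ℂ}
  (hM : IsPModular p M) (h : FD p B P ε d)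
include hM h

theorem defG (u : P) : DefG p (𝐂 (zpowers (u : G))) (sp p P ε u) P := by
  simpa only [top_inf_eq] using (h.hm.cent_of_comm hM (le_centralizer_iff.1
    (zpowers_le.2 (h.ab u.2))) (h.hm.bp.sle_sp hM u.2)).defG

theorem unit {χ₀ : IrrCharacter G} (h₀ : χ₀ ∈ B) (h0 : blockHeight p B χ₀.1 = 0) {u : P} (hu : u ≠ 1) :
    ¬ MemLocalIdeal M (d χ₀ u) := fun h1 => by
  haveI := Fintype.ofFinite (𝐂 (zpowers (u : G)))
  have h2 := h.hm.bp.sle_sp hM u.2
  obtain ⟨h3, h4⟩ := (h.hm.bpo.of_sle hM h2).exists_ctr hM h.hB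
  refine ctr_notMem hM (centralizer_zpowers_eq _) (pow_of_mem_pgroup h.hm.bp.isPGroup u.2) h3 h₀ h₀
    h0 h0 ?_
  rw [h4, ← Nat.cast_pow, ← (h.defG hM u).card_eq_pow hM h2.bp.blk_top, h.hcon _ h₀ _ h₀ u hu, h.cnj]
  exact h1.mul_right (memLocalRing_of_isIntegral (h.int _ _))

theorem bp_eq {χ ψ : IrrCharacter G} (hχ : χ ∈ B) (hψ : ψ ∈ B) {u : P} (hu : u ≠ 1) {g : G}
    (hg : pp p g = u) : d ψ u * bp (centralizer {(u : G)}) (sp p P ε u) χ.1 g =
      d χ u * bp (centralizer {(u : G)}) (sp p P ε u) ψ.1 g := by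
  haveI := Fintype.ofFinite (centralizer ({(u : G)} : Set G))
  have hn : (Nat.card P : ℂ) ≠ 0 := Nat.cast_ne_zero.2 Nat.card_pos.ne'
  have h1 := fun {χ ψ : IrrCharacter G} (hχ : χ ∈ B) (hψ : ψ ∈ B) => (con_eq hM χ.2.isClassFunction
    rfl (pow_of_mem_pgroup h.hm.bp.isPGroup u.2)).symm.trans
      ((eq_inv_mul_iff_mul_eq₀ hn).2 (h.hcon χ hχ ψ hψ u hu))
  have h2 : d ψ u • fsub p (bset (centralizer {(u : G)}) (sp p P ε u)) u χ.1 -
      d χ u • fsub p (bset (centralizer {(u : G)}) (sp p P ε u)) u ψ.1 = 0 := by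
    rw [← classInner_self_eq_zero]
    simp only [classInner_sub_left, classInner_sub_right, classInner_smul_left, classInner_smul_right,
      h1 hχ hχ, h1 hχ hψ, h1 hψ hχ, h1 hψ hψ]
    ring
  obtain ⟨s, rfl, hc, -, hs⟩ := hg ▸ isPPart_pp (p := p) g
  have := congrFun h2 ⟨s, mem_centralizer_singleton_iff.2 hc.symm⟩
  simp only [Pi.sub_apply, Pi.smul_apply, fsub_apply rfl χ.2.isClassFunction,
    fsub_apply rfl ψ.2.isClassFunction, ← orderOf_coe, hs, if_false, smul_eq_mul] at this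
  exact sub_eq_zero.1 this

theorem ad [Fintype P] : AD p M B (inE P ε) d := by
  classical
  have hn : (Nat.card P : ℂ) ≠ 0 := Nat.cast_ne_zero.2 Nat.card_pos.ne'
  obtain ⟨χ₀, h₀, h0⟩ := exists_blockHeight_eq_zero p h.hB.nonempty
  have hc := χ₀.2.isClassFunction
  have hu := fun u hu => ne_zero_of_not_memLocalIdeal (h.unit hM h₀ h0 (u := u) hu)
  have hmor : ∀ {u g : G}, BMor p ⊤ P ε (zpowers u) g → ∃ t ∈ stabP ⊤ P ε, g * u * g⁻¹ = t * u * t⁻¹ :=
    fun {u g} hg => by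
      obtain ⟨y, hy, c, hc, rfl⟩ := hg.exists_of_comm hM h.hm h.ab
      exact ⟨y, hy, by rw [mul_assoc y, ← hc.2 u (mem_zpowers u)]; group⟩
  let η : P → G → ℂ := fun v x => if ∃ t ∈ stabP ⊤ P ε, t * v * t⁻¹ = x then 1 else 0
  have hiff : ∀ (v x : G), ∀ y ∈ stabP ⊤ P ε, (∃ t ∈ stabP ⊤ P ε, t * v * t⁻¹ = y * x * y⁻¹) ↔
      ∃ t ∈ stabP ⊤ P ε, t * v * t⁻¹ = x := fun v x y hy =>
    ⟨fun ⟨t, ht, e⟩ => ⟨y⁻¹ * t, mul_mem (inv_mem hy) ht, by
      rw [← MulAut.conj_apply, map_mul, MulAut.mul_apply, MulAut.conj_apply t, e]; simp [mul_assoc]⟩,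
      fun ⟨t, ht, e⟩ => ⟨y * t, mul_mem hy ht, e ▸ by group⟩⟩
  have hη : ∀ v, FSt p P ε (η v) := fun v u g hg => by
    obtain ⟨y, hy, e⟩ := hmor hg
    simp only [η, e, hiff _ _ y hy]
  have key : ∀ v : P, v ≠ 1 → sst p P ε (η v) χ₀.1 =
      ∑ χ ∈ B, (d χ₀ v * conj (d χ v) / Nat.card P) • χ.1 := fun v hv => by
    rw [((hη v).isClassFunction_sst hc).eq_sum, ← Finset.sum_subset (Finset.subset_univ B)
      fun χ _ hχ => by rw [h.hm.classInner_sst_eq_zero hM h.hB h₀ hχ, zero_smul]]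
    refine Finset.sum_congr rfl fun χ hχ => congrArg (· • _) ?_
    let O := Finset.univ.filter fun x => ∃ t ∈ stabP ⊤ P ε, t * v * t⁻¹ = x
    have hO : (O.card : ℂ) ≠ 0 :=
      Nat.cast_ne_zero.2 (Finset.card_ne_zero.2 ⟨v, by simpa [O] using ⟨1, one_mem _, by simp⟩⟩)
    rw [h.hm.classInner_sst hM h.hB (hη v) h₀ χ.2.isClassFunction,
      ← Finset.sum_subset (s₁ := O) (fun x hx => ?_) fun x _ hx => by
        rw [show η v x = 0 from if_neg (by simpa [O] using hx), zero_mul, zero_div],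
      Finset.sum_congr rfl (g := fun _ => d χ₀ v * conj (d χ v) / Nat.card P / O.card) fun x hx => ?_,
      Finset.sum_const, nsmul_eq_mul, mul_div_cancel₀ _ hO]
    · obtain ⟨t, ht, rfl⟩ := (Finset.mem_filter.1 hx).2
      obtain ⟨α, hα, e⟩ := exists_inE ht
      have h1 : nF p P ε (t * v * t⁻¹) = O.card := by
        rw [nF, ← Set.ncard_coe_finset]
        congr 1
        ext y
        simp only [O, Finset.coe_filter, Finset.mem_univ, true_and, Set.mem_ofPred_eq]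
        refine ⟨fun ⟨g, hg, e⟩ => ?_, fun ⟨g, hg, e'⟩ => ⟨g * t⁻¹, h.hm.bp.bMor_of_stab hM
          (zpowers_le.2 (e v ▸ (α v).2)) (mul_mem hg (inv_mem ht)), e' ▸ by group⟩⟩
        obtain ⟨y, hy, e'⟩ := hmor hg
        exact ⟨y * t, mul_mem hy ht, by rw [← e, e']; group⟩
      rw [show η v _ = 1 from if_pos ⟨t, ht, rfl⟩, one_mul, h1, ← e, ← h.inv _ α hα, ← h.inv χ α hα,
        ← h.hcon _ h₀ _ hχ _ (by simpa using hv), mul_div_cancel_left₀ _ hn]
    · obtain ⟨t, ht, rfl⟩ := (Finset.mem_filter.1 hx).2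
      simpa using (mem_normalizer_iff.1 (stabP_le_norm ht) _).1 v.2
  have key2 : ∀ u v : P, u ≠ 1 → v ≠ 1 → d χ₀ v * ∑ χ ∈ B, d χ u * conj (d χ v) =
      η v u * d χ₀ u * Nat.card P := fun u v hu1 hv => by
    have h1 := (hη v).con_sst hM hc (ψ := χ₀.1) (h.hm.bp.sle_sp hM u.2)
    rw [key v hv, con_sum, ← mul_right_inj' hn, Finset.mul_sum, mul_left_comm, h.hcon _ h₀ _ h₀ u hu1,
      Finset.sum_congr rfl fun χ hχ => by rw [mul_left_comm, h.hcon _ hχ _ h₀ u hu1]] at h1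
    refine mul_right_cancel₀ ((map_ne_zero (starRingEnd ℂ)).2 (hu u hu1)) ?_
    rw [mul_right_comm _ (Nat.card P : ℂ), mul_assoc (η v u), ← h1, Finset.mul_sum, Finset.sum_mul,
      Finset.sum_mul]
    exact Finset.sum_congr rfl fun χ _ => by field_simp
  refine ⟨fun x hx => ?_, ?_, fun u v hu1 hv e => ?_, fun x hx v hv => ?_, h.cnj, h.inv,
    fun χ hχ u hu1 e => ?_⟩
  · have : ∀ φ ∈ blks M (centralizer {pp p x}), ∃ w : P → ℂ, w 1 = 0 ∧ (∀ u, MemLocalRing M (w u) ∧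
        MemLocalRing M (Nat.card P * w u / Nat.card (centralizer ({x} : Set G)))) ∧
        ∀ χ ∈ B, bp (centralizer {pp p x}) φ χ.1 x = ∑ u, d χ u * w u := fun φ hφ => by
      by_cases h1 : BPO p ⊤ (eB M (B : Set (IrrCharacter G))) (zpowers (pp p x)) φ
      swap
      · exact ⟨0, rfl, fun _ => by simpa using memLocalRing_zero, fun χ hχ => by
          simpa using bp_eq_zero hM h.hB hχ (mem_blks.1 hφ) h1 rfl⟩
      obtain ⟨y, hy⟩ := (h.hm.exists_sle_iff hM).2 h1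
      let u : P := ⟨_, hy.le (mem_zpowers _)⟩
      have hu1 : u ≠ 1 := fun e => (isPPart_pp (p := p) x).not_dvd_orderOf (by
        rwa [conj_eq_one_iff.1 (congrArg Subtype.val e), inv_one, one_mul])
      have hg : pp p (y * x * y⁻¹) = u := pp_conj y x
      have h2 := (memLocalRing_of_isIntegral (h.int χ₀ u)).inv (h.unit hM h₀ h0 hu1)
      have h3 := oc_of_isGen (M := M) χ₀.2.isGeneralizedCharacter
      refine ⟨Pi.single u (bp (centralizer {(u : G)}) (sp p P ε u) χ₀.1 (y * x * y⁻¹) * (d χ₀ u)⁻¹),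
        Pi.single_eq_of_ne hu1.symm _, fun v => ?_, fun χ hχ => ?_⟩
      · by_cases e : v = u
        · rw [e, Pi.single_eq_same, ← mul_assoc, mul_div_right_comm, ← card_cj y (centralizer _),
            cj_centralizer_singleton]
          exact ⟨((oc_of_isGen (isGen_bp χ₀.2.isGeneralizedCharacter)).mem
            ⟨_, hg ▸ mem_centralizer_pp _⟩).mul h2, (h3.bp_div hM hg (h.hm.bp.sle_sp hM u.2).blk_cent
              (centralizer_zpowers_eq (u : G) ▸ h.defG hM u)).mul h2⟩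
        · simpa [Pi.single_eq_of_ne e] using memLocalRing_zero
      · rw [Finset.sum_eq_single u (fun v _ e => by rw [Pi.single_eq_of_ne e, mul_zero]) (by simp),
          Pi.single_eq_same, ← mul_assoc, ← h.bp_eq hM hχ h₀ hu1 hg, mul_comm,
          inv_mul_cancel_left₀ (hu u hu1), hy.sp_eq hM, ← bp_conj χ.2.isClassFunction (mem_blks.1 hφ) y,
          cj_centralizer_singleton]
    choose! w h1 h2 h3 using this
    refine ⟨∑ φ ∈ blks M (centralizer {pp p x}), w φ, ?_, fun u => ?_, fun χ hχ => ?_⟩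
    · rw [Finset.sum_apply]; exact Finset.sum_eq_zero h1
    · rw [Finset.sum_apply, Finset.mul_sum, Finset.sum_div]
      exact ⟨memLocalRing_sum fun φ hφ => (h2 φ hφ u).1, memLocalRing_sum fun φ hφ => (h2 φ hφ u).2⟩
    · rw [← sum_bp (M := M) (centralizer {pp p x}) χ.1 x, Finset.sum_congr rfl fun φ hφ => h3 φ hφ χ hχ,
        Finset.sum_comm]
      simp only [Finset.sum_apply, Finset.mul_sum]
  · rintro u _ hu1 ⟨α, hα, rfl⟩
    have := key2 u u hu1 hu1
    rw [show η u u = 1 from if_pos ⟨1, one_mem _, by simp⟩, one_mul] at this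
    simpa only [h.inv _ α hα] using mul_left_cancel₀ (hu u hu1) this
  · have := key2 u v hu1 hv
    rw [show η v u = 0 from if_neg fun ⟨t, ht, e'⟩ => e ?_, zero_mul, zero_mul] at this
    · exact (mul_eq_zero.1 this).resolve_left (hu v hv)
    · obtain ⟨α, hα, e2⟩ := exists_inE (inv_mem ht)
      exact ⟨α, hα, Subtype.ext (by rw [e2, ← e']; group)⟩
  · have := congrFun (key v hv) x
    rw [h.hm.sst_regular hM h.hB h₀ hx, show η v 1 = 0 from if_neg fun ⟨t, _, e⟩ =>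
      hv (Subtype.ext (conj_eq_one_iff.1 e)), zero_mul, Finset.sum_apply] at this
    refine mul_left_cancel₀ (div_ne_zero (hu v hv) hn) ?_
    rw [mul_zero, this, Finset.mul_sum]
    exact Finset.sum_congr rfl fun χ _ => by rw [Pi.smul_apply, smul_eq_mul]; ring
  · refine h.hm.con_ne_zero_of_major hM h.hB (h.hm.bp.sle_sp hM u.2) (h.ab u.2) hχ h₀ h0 ?_
    rw [← mul_eq_zero_iff_left hn, h.hcon _ hχ _ h₀ u hu1, e, zero_mul]

end FD

section free

variable {A : Type*} [Group A] [Fintype A] (E : Subgroup (MulAut A))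

/-- orbit sums of linear characters -/
noncomputable def orb (μ : A →* ℂˣ) (u : A) : ℂ := ∑ᶠ α : E, (μ (α.1 u) : ℂ)

/-- conjugate linear characters -/
def Rel (μ l : A →* ℂˣ) : Prop := ∃ α ∈ E, μ.comp α.toMonoidHom = l

/-- fixed point free action -/
def Free : Prop := ∀ α ∈ E, ∀ u, u ≠ 1 → α u = u → α = 1

variable {E} {μ l k : A →* ℂˣ}

theorem Rel.refl (μ : A →* ℂˣ) : Rel E μ μ := ⟨1, one_mem _, rfl⟩

theorem Rel.symm (h : Rel E μ l) : Rel E l μ := by
  obtain ⟨α, hα, rfl⟩ := h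
  exact ⟨α⁻¹, inv_mem hα, MonoidHom.ext fun u => by simp⟩

theorem Rel.trans (h : Rel E μ l) (h' : Rel E l k) : Rel E μ k := by
  obtain ⟨α, hα, rfl⟩ := h
  obtain ⟨β, hβ, rfl⟩ := h'
  exact ⟨α * β, mul_mem hα hβ, rfl⟩

theorem Rel.ne_one (h : Rel E μ l) (hμ : μ ≠ 1) : l ≠ 1 := by
  rintro rfl
  obtain ⟨α, -, rfl⟩ := h.symm
  exact hμ rfl

theorem Rel.orb_eq (h : Rel E μ l) : orb E μ = orb E l := by
  obtain ⟨α, hα, rfl⟩ := h
  exact funext fun u => (finsum_comp_equiv (Equiv.mulLeft (⟨α, hα⟩ : E))).symm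

theorem Free.eq_one (hE : Free E) {α : MulAut A} (hα : α ∈ E) (hμ : μ ≠ 1)
    (h : μ.comp α.toMonoidHom = μ) : α = 1 := by
  by_contra h1
  have : Function.Injective fun u => u⁻¹ * α u := fun u v e => by
    by_contra h2
    refine h1 (hE α hα (u * v⁻¹) (mul_inv_eq_one.not.2 h2) ?_)
    rw [map_mul, map_inv, mul_inv_eq_iff_eq_mul, mul_assoc, ← inv_mul_eq_iff_eq_mul]
    exact e
  refine hμ (MonoidHom.ext fun v => ?_)
  obtain ⟨u, rfl⟩ := Finite.surjective_of_injective this v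
  rw [map_mul, show μ (α u) = μ u from DFunLike.congr_fun h u]
  simp

theorem Free.inj (hE : Free E) (hμ : μ ≠ 1) : Function.Injective fun α : E => μ.comp α.1.toMonoidHom :=
  fun α β e => Subtype.ext (mul_inv_eq_one.1 (hE.eq_one (mul_mem α.2 (inv_mem β.2)) hμ
    (MonoidHom.ext fun u => (DFunLike.congr_fun e (β.1⁻¹ u)).trans (by simp))))

open scoped Classical in
theorem Free.inner_orb (hE : Free E) (hμ : μ ≠ 1) (l : A →* ℂˣ) :
    classInner (orb E μ) (linF l) = if Rel E μ l then 1 else 0 := by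
  haveI := Fintype.ofFinite E
  have : orb E μ = ∑ α : E, linF (μ.comp α.1.toMonoidHom) := funext fun u => by
    rw [orb, finsum_eq_sum_of_fintype, Finset.sum_apply]; rfl
  simp only [this, classInner_sum_left, classInner_linF]
  split_ifs with h
  · obtain ⟨α, hα, rfl⟩ := h
    simp only [(hE.inj hμ).eq_iff (b := ⟨α, hα⟩), Finset.sum_ite_eq', Finset.mem_univ, if_true]
  · exact Finset.sum_eq_zero fun α _ => if_neg fun e => h ⟨α, α.2, e⟩

open scoped Classical in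
theorem Free.inner_orb' (hE : Free E) (hμ : μ ≠ 1) (l : A →* ℂˣ) :
    classInner (orb E μ) (oneSub l) = if Rel E μ l then -1 else 0 := by
  rw [oneSub, classInner_sub_right, hE.inner_orb hμ, hE.inner_orb hμ,
    if_neg fun h => h.ne_one hμ rfl]
  split_ifs <;> simp

theorem inner_oneSub_congr {f g : A → ℂ} (h : ∀ u, u ≠ 1 → f u = g u) (l : A →* ℂˣ) :
    classInner f (oneSub l) = classInner g (oneSub l) :=
  congrArg _ (Finset.sum_congr rfl fun u _ => by
    by_cases e : u = 1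
    · simp [e, oneSub_one]
    · rw [h u e])

theorem inner_const (hl : l ≠ 1) (c : ℂ) : classInner (fun _ => c) (oneSub l) = c := by
  classical
  rw [show (fun _ => c) = c • linF (1 : A →* ℂˣ) from funext fun _ => by simp [linF],
    classInner_smul_left, oneSub, classInner_sub_right, classInner_linF, classInner_linF, if_neg hl.symm]
  simp

theorem Free.sum_rel (hE : Free E) {u : A} (hu : u ≠ 1) (F : A → ℂ)
    [DecidablePred fun v => ∃ α ∈ E, α u = v] :
    ∑ v with ∃ α ∈ E, α u = v, F v = ∑ᶠ α : E, F (α.1 u) := by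
  haveI := Fintype.ofFinite E
  rw [finsum_eq_sum_of_fintype]
  refine (Finset.sum_bij (fun α _ => α.1 u) (fun α _ => by simpa using ⟨α, α.2, rfl⟩)
    (fun α _ β _ e => ?_) (fun v hv => ?_) fun _ _ => rfl).symm
  · exact Subtype.ext (eq_of_inv_mul_eq_one (hE _ (mul_mem (inv_mem α.2) β.2) u hu
      (by simp [← show α.1 u = β.1 u from e])))
  · obtain ⟨α, hα, e⟩ := (Finset.mem_filter.1 hv).2
    exact ⟨⟨α, hα⟩, Finset.mem_univ _, e⟩

end free

variable {B : Finset (IrrCharacter G)} {A : Type*} [Group A] [Fintype A] {E : Subgroup (MulAut A)}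
  {d : IrrCharacter G → A → ℂ}

namespace AD

variable (h : AD p M B E d)
include h

theorem comp {A' : Type*} [Group A'] [Fintype A'] (j : A' ≃* A) {E' : Subgroup (MulAut A')}
    (hE : ∀ u v, (∃ α ∈ E', α u = v) ↔ ∃ α ∈ E, α (j u) = j v) :
    AD p M B E' fun χ u => d χ (j u) where
  val x hx := by
    obtain ⟨w, h1, h2, h3⟩ := h.val x hx
    exact ⟨fun u => w (j u), by simpa using h1, fun u => Nat.card_congr j.toEquiv ▸ h2 (j u),
      fun χ hχ => (h3 χ hχ).trans (j.toEquiv.sum_comp fun u => d χ u * w u).symm⟩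
  orth u v hu e := Nat.card_congr j.toEquiv ▸ h.orth _ _ (by simpa using hu) ((hE u v).1 e)
  orth' u v hu hv e := h.orth' _ _ (by simpa using hu) (by simpa using hv) (mt (hE u v).2 e)
  orth0 x hx v hv := h.orth0 x hx _ (by simpa using hv)
  cnj χ u := by rw [h.cnj, map_inv]
  inv χ α hα u := by
    obtain ⟨β, hβ, e⟩ := (hE u _).1 ⟨α, hα, rfl⟩
    rw [← e, h.inv χ β hβ]
  ne χ hχ u hu := h.ne χ hχ _ (by simpa using hu)

theorem sum_eq_zero {x : G} (hx : ¬ p ∣ orderOf x) {w : A → ℂ} (hw : w 1 = 0) :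
    ∑ χ ∈ B, χ.1 x * ∑ u, d χ u * w u = 0 := by
  simp only [Finset.mul_sum]
  rw [Finset.sum_comm]
  refine Finset.sum_eq_zero fun u _ => ?_
  by_cases e : u = 1
  · simp [e, hw]
  · have := h.orth0 x hx u⁻¹ (by simpa using e)
    simp only [h.cnj, inv_inv] at this
    simp only [← mul_assoc, ← Finset.sum_mul, this, zero_mul]

theorem perfect (hM : IsPModular p M) {H : Type*} [Group H] [Finite H] {c : Finset (IrrCharacter H)}
    {d' : IrrCharacter H → A → ℂ} (h' : AD p M c E d') {I : IrrCharacter H → IrrCharacter G}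
    {ε : IrrCharacter H → ℤ} (hI : Set.BijOn I c B) (hε : ∀ η ∈ c, ε η = 1 ∨ ε η = -1)
    (hd : ∀ η ∈ c, ∀ u, u ≠ 1 → d (I η) u = ε η * d' η u) : IsPerfectIsometry p M c B I ε := by
  classical
  haveI := Fintype.ofFinite G
  haveI := Fintype.ofFinite H
  refine ⟨hI, hε, ?_⟩
  have hK : ∀ x y, signedBijectionKernel c I ε x y = ∑ η ∈ c, ε η * (I η).1 x * η.1 y := fun x y =>
    finsum_mem_coe_finset _ _
  have hε' : ∀ η ∈ c, (ε η : ℂ) * ε η = 1 := fun η hη => by rcases hε η hη with e | e <;> simp [e]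
  have hw : ∀ w : A → ℂ, w 1 = 0 → ∀ η ∈ c, ∑ u, d (I η) u * w u = ε η * ∑ u, d' η u * w u :=
    fun w hw η hη => by
      rw [Finset.mul_sum]
      refine Finset.sum_congr rfl fun u _ => ?_
      by_cases e : u = 1
      · simp [e, hw]
      · rw [hd η hη u e, mul_assoc]
  have h1 : ∀ x y, ¬ p ∣ orderOf x → p ∣ orderOf y → signedBijectionKernel c I ε x y = 0 :=
    fun x y hx hy => by
      obtain ⟨w, h1, -, h3⟩ := h'.val y hy
      rw [hK, ← h.sum_eq_zero hx h1, ← Finset.sum_nbij I hI.1 hI.2.1 hI.2.2 fun η hη => rfl]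
      exact Finset.sum_congr rfl fun η hη => by rw [h3 η hη, hw w h1 η hη]; ring
  have h2 : ∀ x y, p ∣ orderOf x → ¬ p ∣ orderOf y → signedBijectionKernel c I ε x y = 0 :=
    fun x y hx hy => by
      obtain ⟨w, h1, -, h3⟩ := h.val x hx
      rw [hK, ← h'.sum_eq_zero hy h1]
      exact Finset.sum_congr rfl fun η hη => by
        rw [h3 _ (hI.1 hη), hw w h1 η hη, ← mul_assoc, hε' η hη]; ring
  intro x y
  by_cases hx : p ∣ orderOf x <;> by_cases hy : p ∣ orderOf y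
  · obtain ⟨w, a1, a2, a3⟩ := h.val x hx
    obtain ⟨w', b1, b2, b3⟩ := h'.val y hy
    have h3 : signedBijectionKernel c I ε x y =
        ∑ u, ∑ v, if ∃ α ∈ E, α u = v⁻¹ then Nat.card A * w u * w' v else 0 := by
      rw [hK, Finset.sum_congr rfl fun η hη => by
        rw [a3 _ (hI.1 hη), hw w a1 η hη, ← mul_assoc, hε' η hη, one_mul, b3 η hη, Finset.sum_mul_sum],
        Finset.sum_comm]
      refine Finset.sum_congr rfl fun u _ => Finset.sum_comm.trans (Finset.sum_congr rfl fun v _ => ?_)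
      by_cases e1 : u = 1
      · simp [e1, a1]
      by_cases e2 : v = 1
      · simp [e2, b1]
      have h4 : ∑ η ∈ c, d' η u * w u * (d' η v * w' v) =
          (∑ η ∈ c, d' η u * conj (d' η v⁻¹)) * w u * w' v := by
        simp only [h'.cnj, inv_inv, Finset.sum_mul]
        exact Finset.sum_congr rfl fun _ _ => by ring
      split_ifs with e
      · rw [h4, h'.orth _ _ e1 e]
      · rw [h4, h'.orth' _ _ e1 (by simpa using e2) e, zero_mul, zero_mul]
    simp only [h3, Finset.sum_div]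
    refine ⟨memLocalRing_sum fun u _ => memLocalRing_sum fun v _ => ?_, memLocalRing_sum fun u _ =>
      memLocalRing_sum fun v _ => ?_, .inl (iff_of_false (· hx) (· hy))⟩ <;> split_ifs
    · convert (a2 u).2.mul (b2 v).1 using 1; ring
    · simpa using memLocalRing_zero
    · convert (b2 v).2.mul (a2 u).1 using 1; ring
    · simpa using memLocalRing_zero
  · simpa [h2 x y hx hy] using memLocalRing_zero
  · simpa [h1 x y hx hy] using memLocalRing_zero
  · refine ⟨OC.div_card (f := fun x => signedBijectionKernel c I ε x y) hM ?_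
      (fun g hg => h2 g y hg hy) x, OC.div_card (f := fun y => signedBijectionKernel c I ε x y) hM ?_
      (fun g hg => h1 x g hx hg) y, .inl (iff_of_true hx hy)⟩
    · convert oc_sum (M := M) c (a := fun η => ε η * η.1 y) (F := fun η => (I η).1) (fun η _ =>
        (memLocalRing_intCast _).mul (η.2.isCharacter.memLocalRing y)) fun η _ =>
        oc_of_isGen (I η).2.isGeneralizedCharacter using 2
      simp [hK, mul_right_comm]
    · convert oc_sum (M := M) c (a := fun η => ε η * (I η).1 x) (F := fun η => η.1) (fun η _ =>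
        (memLocalRing_intCast _).mul ((I η).2.isCharacter.memLocalRing x)) fun η _ =>
        oc_of_isGen η.2.isGeneralizedCharacter using 2
      simp [hK]

open scoped Classical in
theorem gram (hE : Free E) {l k : A →* ℂˣ} (hl : l ≠ 1) (hk : k ≠ 1) :
    ∑ χ ∈ B, classInner (d χ) (oneSub l) * conj (classInner (d χ) (oneSub k)) =
      Nat.card E + if Rel E k l then 1 else 0 := by
  haveI := Fintype.ofFinite E
  have hn : (Nat.card A : ℂ) ≠ 0 := Nat.cast_ne_zero.2 Nat.card_pos.ne'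
  have h1 : classInner (fun u => Nat.card E - orb E k u) (oneSub l) =
      Nat.card E + if Rel E k l then 1 else 0 := by
    rw [← Pi.sub_def (fun _ => (Nat.card E : ℂ)), classInner_sub_left, inner_const hl, hE.inner_orb' hk]
    split_ifs <;> simp
  simp only [← h1, classInner_def, map_mul, map_sum, map_inv₀, map_natCast, Complex.conj_conj]
  simp only [mul_mul_mul_comm (Nat.card A : ℂ)⁻¹, ← Finset.mul_sum, mul_assoc (Nat.card A : ℂ)⁻¹]
  simp only [Finset.sum_mul_sum]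
  rw [Finset.sum_comm, Finset.mul_sum]
  refine congrArg _ (Finset.sum_congr rfl fun u _ => ?_)
  by_cases hu : u = 1
  · simp [hu, oneSub_one]
  rw [Finset.sum_comm, Finset.sum_congr rfl (g := fun v => if ∃ α ∈ E, α u = v then
    Nat.card A * (oneSub k v * conj (oneSub l u)) else 0) fun v _ => ?_, ← Finset.sum_filter,
    ← Finset.mul_sum, inv_mul_cancel_left₀ hn, ← Finset.sum_mul, hE.sum_rel hu]
  · simp [oneSub_apply, orb, finsum_eq_sum_of_fintype]
  by_cases hv : v = 1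
  · simp [hv, oneSub_one]
  simp only [mul_mul_mul_comm (d _ u), ← Finset.sum_mul]
  split_ifs with e
  · rw [h.orth u v hu e, mul_comm (conj _)]
  · rw [h.orth' u v hu hv e, zero_mul]

theorem sum_reg {x : G} (hx : ¬ p ∣ orderOf x) (l : A →* ℂˣ) :
    ∑ χ ∈ B, χ.1 x * classInner (d χ) (oneSub l) = 0 := by
  simp only [classInner_def, mul_left_comm _ (Nat.card A : ℂ)⁻¹, ← Finset.mul_sum]
  rw [h.sum_eq_zero hx (by simp [oneSub_one]), mul_zero]

end AD

variable (p M) in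
/-- Dade's description of the characters of a block -/
structure DD (B : Finset (IrrCharacter G)) {A : Type*} [Group A] [Fintype A] (E : Subgroup (MulAut A))
    (d : IrrCharacter G → A → ℂ) (X Y : Finset (IrrCharacter G)) (δ : IrrCharacter G → ℤ) (δ₀ : ℤ)
    (μ : IrrCharacter G → A →* ℂˣ) : Prop extends AD p M B E d where
  cover : ∀ χ, χ ∈ B ↔ χ ∈ X ∨ χ ∈ Y
  disj : Disjoint X Y
  cardX : X.card = Nat.card E
  sX : ∀ χ ∈ X, δ χ = 1 ∨ δ χ = -1
  s0 : δ₀ = 1 ∨ δ₀ = -1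
  dX : ∀ χ ∈ X, ∀ u, u ≠ 1 → d χ u = δ χ
  dY : ∀ ψ ∈ Y, ∀ u, u ≠ 1 → d ψ u = -δ₀ * orb E (μ ψ) u
  μne : ∀ ψ ∈ Y, μ ψ ≠ 1
  uniq : ∀ l, l ≠ 1 → ∃! ψ, ψ ∈ Y ∧ Rel E (μ ψ) l
  reg : ∀ ψ ∈ Y, ∀ x, ¬ p ∣ orderOf x → δ₀ * ψ.1 x + ∑ χ ∈ X, δ χ * χ.1 x = 0

theorem AD.exists_DD (h : AD p M B E d) (hE : Free E) (ab : ∀ u v : A, u * v = v * u) [Nontrivial A]
    (ht : ∀ χ ∈ B, ∃ δ : ℤ, (δ = 1 ∨ δ = -1) ∧
      ((∀ u, u ≠ 1 → d χ u = δ) ∨ ∃ μ, μ ≠ 1 ∧ ∀ u, u ≠ 1 → d χ u = δ * orb E μ u)) :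
    ∃ X Y δ δ₀ μ, DD p M B E d X Y δ δ₀ μ := by
  classical
  haveI := Fintype.ofFinite (A →* ℂˣ)
  obtain ⟨l₀, hl₀⟩ : ∃ l : A →* ℂˣ, l ≠ 1 := by
    haveI := Finite.one_lt_card_iff_nontrivial.1 ((card_linear ab).symm ▸ Finite.one_lt_card (α := A))
    exact exists_ne 1
  have hs : ∀ {δ : ℤ}, δ = 1 ∨ δ = -1 → (δ : ℂ) * conj (δ : ℂ) = 1 := by rintro _ (rfl | rfl) <;> simp
  obtain ⟨X, Y, δ, μ, h1, h2, h3, h4, h5, h6, h7⟩ : ∃ (X Y : Finset (IrrCharacter G))
      (δ : IrrCharacter G → ℤ) (μ : IrrCharacter G → A →* ℂˣ), B = X ∪ Y ∧ Disjoint X Y ∧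
      X.card = Nat.card E ∧ (∀ χ ∈ B, δ χ = 1 ∨ δ χ = -1) ∧ (∀ χ ∈ X, ∀ u, u ≠ 1 → d χ u = δ χ) ∧
      (∀ ψ ∈ Y, μ ψ ≠ 1 ∧ ∀ u, u ≠ 1 → d ψ u = δ ψ * orb E (μ ψ) u) ∧
      ∀ l, l ≠ 1 → ∃! ψ, ψ ∈ Y ∧ Rel E (μ ψ) l := by
    by_cases hc : ∀ l k : A →* ℂˣ, l ≠ 1 → k ≠ 1 → Rel E l k
    · have ho : ∀ μ, μ ≠ 1 → ∀ u, u ≠ 1 → orb E μ u = -1 := fun μ hμ u hu => by
        rw [apply_eq_neg_sum ab (orb E μ) hu, apply_eq_neg_sum ab (fun _ => -1) hu]
        refine congrArg _ (Finset.sum_congr rfl fun l _ => congrArg (· * _) ?_)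
        by_cases e : l = 1
        · simp [e, oneSub, classInner_zero_right]
        · rw [hE.inner_orb' hμ, if_pos (hc _ _ hμ e), inner_const e]
      have : ∀ χ ∈ B, ∃ δ : ℤ, (δ = 1 ∨ δ = -1) ∧ ∀ u, u ≠ 1 → d χ u = δ := fun χ hχ => by
        obtain ⟨δ, h1, h2 | ⟨μ, hμ, h2⟩⟩ := ht χ hχ
        exacts [⟨δ, h1, h2⟩, ⟨-δ, by omega, fun u hu => by simp [h2 u hu, ho μ hμ u hu]⟩]
      choose! δ h1 h2 using this
      have h3 := h.gram hE hl₀ hl₀
      rw [if_pos (.refl _), Finset.sum_congr rfl fun χ hχ => by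
        rw [inner_oneSub_congr (h2 χ hχ), inner_const hl₀, hs (h1 χ hχ)], Finset.sum_const,
        nsmul_one] at h3
      replace h3 : B.card = Nat.card E + 1 := by exact_mod_cast h3
      obtain ⟨ψ, hψ⟩ := Finset.card_pos.1 (h3.symm ▸ Nat.succ_pos _ : 0 < B.card)
      refine ⟨B.erase ψ, {ψ}, Function.update δ ψ (-δ ψ), fun _ => l₀, ?_, by simp,
        by rw [Finset.card_erase_of_mem hψ, h3]; rfl, fun χ hχ => ?_, fun χ hχ u hu => ?_,
        fun χ hχ => ⟨hl₀, fun u hu => ?_⟩, fun l hl => ⟨ψ, ⟨by simp, hc _ _ hl₀ hl⟩, by simp +contextual⟩⟩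
      · rw [Finset.union_comm, ← Finset.insert_eq, Finset.insert_erase hψ]
      · have := h1 χ hχ
        by_cases e : χ = ψ
        · rw [e, Function.update_self, ← e]; omega
        · rwa [Function.update_of_ne e]
      · rw [Function.update_of_ne (Finset.ne_of_mem_erase hχ), h2 χ (Finset.mem_of_mem_erase hχ) u hu]
      · simp [Finset.mem_singleton.1 hχ, ho _ hl₀ u hu, h2 ψ hψ u hu]
    · choose! δ h1 h2 using ht
      let X := B.filter fun χ => ∀ u, u ≠ 1 → d χ u = δ χ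
      have : ∀ χ ∈ B \ X, ∃ μ, μ ≠ 1 ∧ ∀ u, u ≠ 1 → d χ u = δ χ * orb E μ u := fun χ hχ =>
        (h2 χ (Finset.mem_sdiff.1 hχ).1).resolve_left fun e =>
          (Finset.mem_sdiff.1 hχ).2 (Finset.mem_filter.2 ⟨(Finset.mem_sdiff.1 hχ).1, e⟩)
      choose! μ h3 h4 using this
      have hX : X ⊆ B := Finset.filter_subset _ _
      have key : ∀ l k, l ≠ 1 → k ≠ 1 → X.card + ((B \ X).filter fun ψ =>
          Rel E (μ ψ) l ∧ Rel E (μ ψ) k).card = Nat.card E + if Rel E k l then 1 else 0 :=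
        fun l k hl hk => by
          have h5 := h.gram hE hl hk
          rw [← Finset.sum_sdiff hX, add_comm, Finset.sum_congr rfl fun χ hχ => by
            rw [inner_oneSub_congr (Finset.mem_filter.1 hχ).2, inner_oneSub_congr
              (Finset.mem_filter.1 hχ).2, inner_const hl, inner_const hk, hs (h1 χ (hX hχ))],
            Finset.sum_congr (s₁ := B \ X) rfl (g := fun ψ => if Rel E (μ ψ) l ∧ Rel E (μ ψ) k then 1
              else 0) fun χ hχ => ?_] at h5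
          · simp only [Finset.sum_const, nsmul_one, Finset.sum_boole] at h5
            exact_mod_cast h5
          · simp only [inner_oneSub_congr (g := (δ χ : ℂ) • orb E (μ χ)) (h4 χ hχ),
              classInner_smul_left, hE.inner_orb' (h3 χ hχ), map_mul]
            rw [mul_mul_mul_comm, hs (h1 χ (Finset.mem_sdiff.1 hχ).1)]
            by_cases e1 : Rel E (μ χ) l <;> by_cases e2 : Rel E (μ χ) k <;> simp [e1, e2]
      push Not at hc
      obtain ⟨l, k, hl, hk, hlk⟩ := hc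
      have h5 := key k l hk hl
      rw [if_neg hlk, Finset.filter_false_of_mem fun ψ _ e => hlk (e.2.symm.trans e.1)] at h5
      refine ⟨X, B \ X, δ, μ, (Finset.union_sdiff_of_subset hX).symm, Finset.disjoint_sdiff, h5, h1,
        fun χ hχ => (Finset.mem_filter.1 hχ).2, fun χ hχ => ⟨h3 χ hχ, h4 χ hχ⟩, fun l hl => ?_⟩
      have h6 := key l l hl hl
      rw [if_pos (.refl _), show X.card = Nat.card E from h5, add_right_inj, Finset.card_eq_one] at h6
      obtain ⟨ψ, h6⟩ := h6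
      simp only [Finset.ext_iff, Finset.mem_filter, and_self, Finset.mem_singleton] at h6
      exact ⟨ψ, (h6 ψ).2 rfl, fun χ => (h6 χ).1⟩
  have h8 : ∀ ψ ∈ Y, ∀ x, ¬ p ∣ orderOf x → δ ψ * ψ.1 x = ∑ χ ∈ X, δ χ * χ.1 x := fun ψ hψ x hx => by
    have := h.sum_reg hx (μ ψ)
    rw [h1, Finset.sum_union h2, Finset.sum_eq_single_of_mem ψ hψ fun χ hχ e => by
      rw [inner_oneSub_congr (g := (δ χ : ℂ) • orb E (μ χ)) (h6 χ hχ).2, classInner_smul_left,
        hE.inner_orb' (h6 χ hχ).1, if_neg fun r => e ((h7 _ (h6 ψ hψ).1).unique ⟨hχ, r⟩ ⟨hψ, .refl _⟩),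
        mul_zero, mul_zero], inner_oneSub_congr (g := (δ ψ : ℂ) • orb E (μ ψ)) (h6 ψ hψ).2,
      classInner_smul_left, hE.inner_orb' (h6 ψ hψ).1, if_pos (.refl _), Finset.sum_congr rfl
        fun χ hχ => by rw [inner_oneSub_congr (h5 χ hχ), inner_const (h6 ψ hψ).1, mul_comm]] at this
    linear_combination -this
  obtain ⟨ψ₀, ⟨h₀, -⟩, -⟩ := h7 l₀ hl₀
  have hY : ∀ ψ ∈ Y, ψ ∈ B := fun ψ hψ => h1 ▸ Finset.mem_union_right _ hψ
  have h9 : ∀ ψ ∈ Y, δ ψ = δ ψ₀ := fun ψ hψ => by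
    have h1' : ¬ p ∣ orderOf (1 : G) := by simpa using hp.out.one_lt.ne'
    have := (h8 ψ hψ 1 h1').trans (h8 ψ₀ h₀ 1 h1').symm
    rw [← coe_deg, ← coe_deg] at this
    replace this : δ ψ * charDegree ψ.1 = δ ψ₀ * charDegree ψ₀.1 := by exact_mod_cast this
    have := deg_pos ψ
    have := deg_pos ψ₀
    rcases h4 ψ (hY ψ hψ) with e | e <;> rcases h4 ψ₀ (hY ψ₀ h₀) with e' | e' <;> simp_all
  exact ⟨X, Y, δ, -δ ψ₀, μ, h, fun χ => by rw [h1, Finset.mem_union], h2, h3,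
    fun χ hχ => h4 χ (h1 ▸ Finset.mem_union_left _ hχ), by have := h4 _ (hY _ h₀); omega, h5,
    fun ψ hψ u hu => by simp [(h6 ψ hψ).2 u hu, h9 ψ hψ], fun ψ hψ => (h6 ψ hψ).1, h7,
    fun ψ hψ x hx => by rw [← h8 ψ hψ x hx, h9 ψ hψ]; simp⟩

namespace DD

variable {X Y : Finset (IrrCharacter G)} {δ : IrrCharacter G → ℤ} {δ₀ : ℤ}
  {μ : IrrCharacter G → A →* ℂˣ} (h : DD p M B E d X Y δ δ₀ μ)
include h

theorem memX {χ : IrrCharacter G} (hχ : χ ∈ X) : χ ∈ B := (h.cover χ).2 (.inl hχ)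

theorem memY {χ : IrrCharacter G} (hχ : χ ∈ Y) : χ ∈ B := (h.cover χ).2 (.inr hχ)

theorem sq {χ : IrrCharacter G} (hχ : χ ∈ X) : δ χ * δ χ = 1 := by
  rcases h.sX χ hχ with e | e <;> simp [e]

theorem sq0 : δ₀ * δ₀ = 1 := by rcases h.s0 with e | e <;> simp [e]

theorem nonemptyX : X.Nonempty := Finset.card_pos.1 (h.cardX ▸ Nat.card_pos)

theorem sum_Y (hE : Free E) [Fintype (A →* ℂˣ)] (F : (A →* ℂˣ) → ℂ) :
    ∑ ψ ∈ Y, ∑ᶠ α : E, F ((μ ψ).comp α.1.toMonoidHom) = ∑ l, F l - F 1 := by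
  classical
  haveI := Fintype.ofFinite E
  simp only [finsum_eq_sum_of_fintype]
  rw [← Finset.sum_erase_eq_sub (Finset.mem_univ 1), ← Finset.sum_product']
  refine Finset.sum_bij (fun x _ => (μ x.1).comp x.2.1.toMonoidHom) (fun x hx => ?_)
    (fun x hx y hy e => ?_) (fun l hl => ?_) fun _ _ => rfl
  · simpa using Rel.ne_one ⟨_, x.2.2, rfl⟩ (h.μne _ (Finset.mem_product.1 hx).1)
  · have h1 := h.μne _ (Finset.mem_product.1 hx).1
    have h2 : x.1 = y.1 := (h.uniq _ (Rel.ne_one ⟨_, x.2.2, rfl⟩ h1)).unique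
      ⟨(Finset.mem_product.1 hx).1, _, x.2.2, rfl⟩ ⟨(Finset.mem_product.1 hy).1, _, y.2.2, e.symm⟩
    exact Prod.ext h2 (hE.inj h1 (by simpa only [← h2] using e))
  · obtain ⟨ψ, ⟨h1, α, hα, e⟩, -⟩ := h.uniq l (Finset.ne_of_mem_erase hl)
    exact ⟨(ψ, ⟨α, hα⟩), by simpa using h1, e⟩

theorem cardY (hE : Free E) (ab : ∀ u v : A, u * v = v * u) :
    Y.card * Nat.card E + 1 = Nat.card A := by
  haveI := Fintype.ofFinite (A →* ℂˣ)
  haveI := Fintype.ofFinite E
  have := h.sum_Y hE fun _ => 1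
  simp only [finsum_eq_sum_of_fintype, Finset.sum_const, Finset.card_univ, nsmul_one, nsmul_eq_mul,
    ← Nat.card_eq_fintype_card, card_linear ab, eq_sub_iff_add_eq, mul_one] at this
  exact_mod_cast this

theorem cong (hM : IsPModular p M) {χ χ' : IrrCharacter G} (hχ : χ ∈ X) (hχ' : χ' ∈ X) :
    δ χ * charDegree χ.1 ≡ δ χ' * charDegree χ'.1 [ZMOD p ^ (Nat.card G).factorization p] := by
  classical
  haveI := Fintype.ofFinite G
  have h1 := (oc_sum (M := M) Finset.univ (a := ![(δ χ' : ℂ), (-δ χ : ℤ)]) (F := ![χ'.1, χ.1])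
    (fun i _ => by fin_cases i <;> exact memLocalRing_intCast _) fun i _ => by
      fin_cases i
      exacts [oc_of_isGen χ'.2.isGeneralizedCharacter, oc_of_isGen χ.2.isGeneralizedCharacter]).div_card
    hM (fun x hx => ?_) 1
  · refine Int.modEq_iff_dvd.2 (pow_dvd_of_memLocalRing hM _ ?_)
    have h2 := Nat.ordProj_mul_ordCompl_eq_self (Nat.card G) p
    convert h1.mul (memLocalRing_natCast (Nat.card G / p ^ (Nat.card G).factorization p)) using 1
    rw [show centralizer ({1} : Set G) = ⊤ by simp [eq_top_iff', mem_centralizer_singleton_iff],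
      card_top, div_mul_eq_mul_div, div_eq_div_iff (by simp [hp.out.ne_zero])
        (Nat.cast_ne_zero.2 Nat.card_pos.ne'), mul_assoc, ← Nat.cast_pow, ← Nat.cast_mul, mul_comm
        (_ / _), h2]
    simp [coe_deg, sub_eq_add_neg]
  · obtain ⟨w, h1, -, h2⟩ := h.val x hx
    have h3 : ∀ χ ∈ X, δ χ * χ.1 x = ∑ u, w u := fun χ hχ => by
      rw [h2 χ (h.memX hχ), Finset.mul_sum]
      refine Finset.sum_congr rfl fun u _ => ?_
      by_cases e : u = 1
      · simp [e, h1]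
      · rw [h.dX χ hχ u e, ← mul_assoc, ← Int.cast_mul, h.sq hχ]; simp
    simp [h3 χ hχ, h3 χ' hχ']

theorem congY (hM : IsPModular p M) {ψ χ : IrrCharacter G} (hψ : ψ ∈ Y) (hχ : χ ∈ X) :
    charDegree ψ.1 ≡ -(Nat.card E * δ₀ * δ χ * charDegree χ.1)
      [ZMOD p ^ (Nat.card G).factorization p] := by
  have h1 := h.reg ψ hψ 1 (by simpa using hp.out.one_lt.ne')
  simp only [← coe_deg] at h1
  replace h1 : δ₀ * charDegree ψ.1 + ∑ χ ∈ X, δ χ * charDegree χ.1 = 0 := by exact_mod_cast h1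
  have h2 := (Int.ModEq.sum fun χ' hχ' => h.cong hM hχ' hχ).mul_left (-δ₀)
  rw [Finset.sum_const, h.cardX, nsmul_eq_mul] at h2
  convert h2 using 1
  · linear_combination δ₀ * h1 - charDegree ψ.1 * h.sq0
  · ring

theorem height (hM : IsPModular p M) (he : ¬ p ∣ Nat.card E) (hd : blockDefect p (B : Set (IrrCharacter G)) ≠ 0)
    {χ : IrrCharacter G} (hχ : χ ∈ B) : blockHeight p (B : Set (IrrCharacter G)) χ.1 = 0 := by
  have hne : (B : Set (IrrCharacter G)).Nonempty := ⟨χ, hχ⟩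
  obtain ⟨χ₀, h₀, h0⟩ := exists_minVal_eq p hne
  have h1 : (p : ℤ) ^ (Block.minVal p (B : Set (IrrCharacter G)) + 1) ∣ p ^ (Nat.card G).factorization p :=
    pow_dvd_pow _ (by have := minVal_add_blockDefect (p := p) hne; omega)
  have h2 : ∀ χ : IrrCharacter G, (p : ℤ) ^ (Block.minVal p (B : Set (IrrCharacter G)) + 1) ∣ charDegree χ.1 ↔
      Block.minVal p (B : Set (IrrCharacter G)) < (charDegree χ.1).factorization p := fun χ => by
    rw [← Nat.cast_pow, Int.natCast_dvd_natCast, hp.out.pow_dvd_iff_le_factorization (deg_pos χ).ne']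
    rfl
  have hu : ∀ χ ∈ X, IsUnit (δ χ) := fun χ hχ => .of_mul_eq_one _ (h.sq hχ)
  obtain ⟨χ₁, h₁⟩ := h.nonemptyX
  have key : ∀ χ ∈ B, ((p : ℤ) ^ (Block.minVal p (B : Set (IrrCharacter G)) + 1) ∣ charDegree χ.1 ↔
      (p : ℤ) ^ (Block.minVal p (B : Set (IrrCharacter G)) + 1) ∣ charDegree χ₁.1) := fun χ hχ => by
    rcases (h.cover χ).1 hχ with hχ | hχ
    · rw [← (hu χ hχ).dvd_mul_left, ((h.cong hM hχ h₁).of_dvd h1).dvd_iff, (hu χ₁ h₁).dvd_mul_left]
    · rw [((h.congY hM hχ h₁).of_dvd h1).dvd_iff, dvd_neg, mul_assoc, mul_assoc]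
      exact ⟨fun e => (hu χ₁ h₁).dvd_mul_left.1 ((IsUnit.of_mul_eq_one _ h.sq0).dvd_mul_left.1
        ((Nat.isCoprime_iff_coprime.2 ((Nat.Prime.coprime_iff_not_dvd hp.out).2
          he)).pow_left.dvd_of_dvd_mul_left e)), fun e => ((e.mul_left _).mul_left _).mul_left _⟩
  rw [Block.blockHeight_eq_zero_iff, ← not_lt, ← h2, key χ hχ, ← key χ₀ h₀, h2, h0]
  exact lt_irrefl _

theorem rank (hE : Free E) (ab : ∀ u v : A, u * v = v * u) [Nontrivial A] :
    blockRank p (B : Set (IrrCharacter G)) = Nat.card E := by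
  classical
  haveI := Fintype.ofFinite (A →* ℂˣ)
  haveI := Fintype.ofFinite E
  have h1 : VB p (B : Set (IrrCharacter G)) = Submodule.span ℂ (Set.range fun χ : X => Small.reg p χ.1.1) := by
    refine le_antisymm (Submodule.span_le.2 ?_) (Submodule.span_le.2 ?_)
    · rintro _ ⟨ψ, hψ, rfl⟩
      rcases (h.cover ψ).1 hψ with hψ | hψ
      · exact Submodule.subset_span ⟨⟨ψ, hψ⟩, rfl⟩
      · have : Small.reg p ψ.1 = ∑ χ : X, (-(δ₀ * δ χ) : ℂ) • Small.reg p χ.1.1 := funext fun x => by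
          by_cases hx : p ∣ orderOf x
          · simp [reg_of_dvd _ hx]
          · simp only [Finset.sum_apply, Pi.smul_apply, reg_of_not_dvd _ hx, smul_eq_mul, neg_mul,
              mul_assoc, Finset.sum_neg_distrib, ← Finset.mul_sum]
            have h2 : (δ₀ : ℂ) * δ₀ = 1 := by exact_mod_cast h.sq0
            rw [Finset.sum_coe_sort X fun χ => δ χ * χ.1 x]
            linear_combination δ₀ * h.reg ψ hψ x hx - ψ.1 x * h2
        change Small.reg p ψ.1 ∈ _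
        exact this ▸ Submodule.sum_mem _ fun χ _ => Submodule.smul_mem _ _ (Submodule.subset_span ⟨χ, rfl⟩)
    · rintro _ ⟨χ, rfl⟩
      exact reg_mem_VB (h.memX χ.2)
  rw [blockRank_eq, h1, finrank_span_eq_card, Fintype.card_coe, h.cardX]
  haveI := Fintype.ofFinite G
  refine Fintype.linearIndependent_iff.2 fun a ha => ?_
  have hn : (Nat.card A : ℂ) ≠ 0 := Nat.cast_ne_zero.2 Nat.card_pos.ne'
  have h2 : (Nat.card A : ℂ) • ∑ χ : X, a χ • χ.1.1 = (∑ χ : X, a χ * δ χ) •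
      ∑ ψ ∈ Y, ((δ₀ : ℂ) • ψ.1 + ∑ χ ∈ X, (δ χ : ℂ) • χ.1) := funext fun x => by
    simp only [Pi.smul_apply, Finset.sum_apply, Pi.add_apply, smul_eq_mul]
    by_cases hx : p ∣ orderOf x
    swap
    · have := congrFun ha x
      simp only [Finset.sum_apply, Pi.smul_apply, reg_of_not_dvd _ hx, smul_eq_mul] at this
      rw [this, Finset.sum_eq_zero fun ψ hψ => h.reg ψ hψ x hx]; simp
    obtain ⟨w, h1, -, h2⟩ := h.val x hx
    have h3 : ∀ χ ∈ X, χ.1 x = δ χ * ∑ u, w u := fun χ hχ => by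
      rw [h2 χ (h.memX hχ), Finset.mul_sum]
      refine Finset.sum_congr rfl fun u _ => ?_
      by_cases e : u = 1
      · simp [e, h1]
      · rw [h.dX χ hχ u e]
    have h4 : ∑ ψ ∈ Y, δ₀ * ψ.1 x = ∑ u, w u := by
      rw [Finset.sum_congr rfl fun ψ hψ => by rw [h2 ψ (h.memY hψ), Finset.mul_sum], Finset.sum_comm]
      refine Finset.sum_congr rfl fun u _ => ?_
      by_cases e : u = 1
      · simp [e, h1]
      have h5 : ∑ ψ ∈ Y, orb E (μ ψ) u = -1 :=
        (h.sum_Y hE fun l => l u).trans (by rw [sum_linear_apply ab e]; simp)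
      have h6 : (δ₀ : ℂ) * δ₀ = 1 := by exact_mod_cast h.sq0
      rw [Finset.sum_congr rfl (g := fun ψ => -orb E (μ ψ) u * w u) fun ψ hψ => by
        rw [h.dY ψ hψ u e]; linear_combination -orb E (μ ψ) u * w u * h6, ← Finset.sum_mul,
        Finset.sum_neg_distrib, h5]
      simp
    rw [Finset.sum_add_distrib, h4, Finset.sum_const, Finset.sum_congr (s₁ := X) rfl fun χ hχ => by
      rw [h3 χ hχ, ← mul_assoc, ← Int.cast_mul, h.sq hχ], Finset.sum_const, h.cardX, ← h.cardY hE ab,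
      Finset.sum_congr rfl fun (χ : X) _ => by rw [h3 χ χ.2, ← mul_assoc], ← Finset.sum_mul]
    push_cast; ring
  obtain ⟨ψ, hψ⟩ : Y.Nonempty := Finset.card_pos.1 (Nat.pos_of_ne_zero fun e => by
    have := h.cardY hE ab
    rw [e, zero_mul, zero_add] at this
    exact Finite.one_lt_card.ne this)
  have h3 := congrArg (classInner · ψ.1) h2
  have h4 : ∀ χ ∈ X, χ ≠ ψ := fun χ hχ e => Finset.disjoint_left.1 h.disj hχ (e ▸ hψ)
  simp only [classInner_smul_left, classInner_sum_left, classInner_add_left, classInner_irr,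
    Finset.sum_congr rfl fun χ hχ => congrArg ((δ χ : ℂ) * ·) (if_neg (h4 χ hχ)),
    fun χ : X => if_neg (t := (1 : ℂ)) (e := 0) (h4 χ χ.2)] at h3
  have h5 : (δ₀ : ℂ) ≠ 0 := by rcases h.s0 with e | e <;> simp [e]
  simp only [mul_zero, Finset.sum_const_zero, add_zero, mul_ite, mul_one, Finset.sum_ite_eq', hψ,
    if_true, zero_eq_mul, h5, or_false] at h3
  rw [h3, zero_smul, smul_eq_zero_iff_right hn] at h2
  exact Fintype.linearIndependent_iff.1 ((irr_linearIndependent G).comp _ Subtype.val_injective) a h2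

theorem perfect (hM : IsPModular p M) {H : Type*} [Group H] [Finite H] {c X' Y' : Finset (IrrCharacter H)}
    {d' : IrrCharacter H → A → ℂ} {δ' : IrrCharacter H → ℤ} {δ₀' : ℤ} {μ' : IrrCharacter H → A →* ℂˣ}
    (h' : DD p M c E d' X' Y' δ' δ₀' μ') : ∃ I ε, IsPerfectIsometry p M c (B : Set (IrrCharacter G)) I ε ∧
      (∀ η ∈ X', ∃ χ ∈ X, ε η = δ χ * δ' η) ∧ ∀ η ∈ Y', ε η = δ₀ * δ₀' := by
  classical
  haveI : Nonempty (IrrCharacter G) := ⟨h.nonemptyX.choose⟩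
  obtain ⟨f, hf⟩ := X'.finite_toSet.exists_bijOn_of_encard_eq (t := (X : Set (IrrCharacter G))) (by
    rw [Set.encard_coe_eq_coe_finsetCard, Set.encard_coe_eq_coe_finsetCard, h'.cardX, h.cardX])
  choose! g h1 h2 using fun η hη => h.uniq _ (h'.μne η hη)
  have hd : ∀ η ∈ Y', η ∉ X' := fun η hη => Finset.disjoint_right.1 h'.disj hη
  have hg : Set.BijOn g Y' Y := ⟨fun η hη => (h1 η hη).1, fun η hη η' hη' e =>
    (h'.uniq _ (h'.μne η hη)).unique ⟨hη, .refl _⟩ ⟨hη', (h1 η' hη').2.symm.trans (e ▸ (h1 η hη).2)⟩,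
    fun ψ hψ => by
      obtain ⟨η, ⟨h3, h4⟩, -⟩ := h'.uniq _ (h.μne ψ hψ)
      exact ⟨η, h3, (h2 η h3 ψ ⟨hψ, h4.symm⟩).symm⟩⟩
  refine ⟨fun η => if η ∈ X' then f η else g η, fun η => if η ∈ X' then δ (f η) * δ' η else δ₀ * δ₀',
    h.toAD.perfect hM h'.toAD ?_ (fun η hη => ?_) fun η hη u hu => ?_,
    fun η hη => ⟨f η, hf.1 hη, if_pos hη⟩, fun η hη => if_neg (hd η hη)⟩
  · rw [show (c : Set (IrrCharacter H)) = (X' : Set _) ∪ (Y' : Set _) from Set.ext fun η => h'.cover η,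
      show (B : Set (IrrCharacter G)) = (X : Set _) ∪ (Y : Set _) from Set.ext fun η => h.cover η]
    have e1 := hf.congr (f₂ := fun η => if η ∈ X' then f η else g η) fun η hη => (if_pos hη).symm
    have e2 := hg.congr (f₂ := fun η => if η ∈ X' then f η else g η) fun η hη => (if_neg (hd η hη)).symm
    exact e1.union e2 ((Set.injOn_union (Finset.disjoint_coe.2 h'.disj)).2 ⟨e1.injOn, e2.injOn,
      fun a ha b hb e => Finset.disjoint_left.1 h.disj (e1.1 ha) (by simpa only [e, Finset.mem_coe] using e2.1 hb)⟩)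
  · split_ifs with e
    · rcases h.sX _ (hf.1 e) with e1 | e1 <;> rcases h'.sX _ e with e2 | e2 <;> simp [e1, e2]
    · rcases h.s0 with e1 | e1 <;> rcases h'.s0 with e2 | e2 <;> simp [e1, e2]
  · split_ifs with e
    · rw [h.dX _ (hf.1 e) u hu, h'.dX _ e u hu, ← Int.cast_mul, mul_assoc, h'.sq e, mul_one]
    · replace e := ((h'.cover η).1 hη).resolve_left e
      have h3 : (δ₀' : ℂ) * δ₀' = 1 := by exact_mod_cast h'.sq0
      rw [h.dY _ (hg.1 e) u hu, h'.dY _ e u hu, (h1 η e).2.orb_eq]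
      push_cast
      linear_combination δ₀ * orb E (μ' η) u * h3

end DD

end Cfsg.Lib.Small
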