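import Cfsg.Agent.Lib.Small.DadeG
import Cfsg.Agent.S4633

/-!
# Dade's theorem on blocks with cyclic defect groups
-/

set_option autoImplicit false
set_option linter.unusedSectionVars false

namespace Cfsg.Lib.Small

open Cfsg.Lib.Block Cfsg.Lib.Block2 Cfsg.Lib.Char Cfsg.Lib.Amalg MonoidAlgebra Subgroup
open scoped ComplexConjugate

variable {G : Type*} [Group G] [Finite G] {p : ℕ} [hp : Fact p.Prime] {M : Ideal AlgInt} [M.IsMaximal]

theorem push_cjC {S : Type*} [CommRing S] {Q : Subgroup G} (g : 𝐍 Q) (a : MonoidAlgebra S (𝐂 Q)) :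
    incl _ (push (cjC g).toMonoidHom a) = cjA (g : G) (incl _ a) := by
  rw [← incl_cjN]
  refine congrArg _ (ga_ext fun x => ?_)
  obtain ⟨x, rfl⟩ := (cjC g).surjective x
  exact (coeff_push_apply (f := (cjC g).toMonoidHom) (cjC g).injective a x).trans
    (Block2.coeff_domCongr _ a x).symm

theorem irrCongr_cjC {Q : Subgroup G} (g : 𝐍 Q) (ξ : IrrCharacter (𝐂 Q)) : irrCongr (cjC g) ξ = g • ξ :=
  Subtype.ext (funext fun c => by rw [cjAct_apply, map_inv]; rfl)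

theorem classInner_smul {Q : Subgroup G} [Fintype (𝐂 Q)] (g : 𝐍 Q) {χ : G → ℂ}
    (hχ : IsClassFunction G χ) (ξ : IrrCharacter (𝐂 Q)) :
    classInner (fun c : 𝐂 Q => χ c) (g • ξ).1 = classInner (fun c : 𝐂 Q => χ c) ξ.1 := by
  rw [← classInner_comp_equiv (cjC g), ← irrCongr_cjC]
  simp only [irrCongr_apply_map, coe_cjC, hχ _ _]

theorem Free.bij {A : Type*} [Group A] [Fintype A] {E : Subgroup (MulAut A)} (hE : Free E)
    {α : MulAut A} (hα : α ∈ E) (h1 : α ≠ 1) :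
    Function.Bijective fun l : A →* ℂˣ => l.comp α.toMonoidHom * l⁻¹ :=
  Finite.injective_iff_bijective.1 fun l k e => by
    by_contra h
    refine h1 (hE.eq_one hα (mul_inv_eq_one.not.2 h) (MonoidHom.ext fun u => ?_))
    have := DFunLike.congr_fun e u
    simp only [MonoidHom.mul_apply, MonoidHom.comp_apply, MonoidHom.inv_apply] at this ⊢
    rw [mul_inv_eq_iff_eq_mul] at this
    rw [this, mul_right_comm, mul_inv_cancel_comm, mul_comm]

variable (p) in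
/-- a pair below a maximal pair with abelian defect group, whose block is nilpotent -/
structure LP (β : MonoidAlgebra (resField M) G) (P : Subgroup G) (ε : MonoidAlgebra (resField M) G)
    (Q : Subgroup G) (φ : MonoidAlgebra (resField M) G) : Prop where
  hm : MaxP p ⊤ β P ε
  ab : P ≤ 𝐂 P
  sle : SLE p ⊤ Q φ P ε
  le : ∀ t ∈ stabP ⊤ P ε, t ∈ 𝐂 Q → t ∈ 𝐂 P

namespace LP

variable {β ε φ : MonoidAlgebra (resField M) G} {P Q : Subgroup G} (hM : IsPModular p M)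
  (h : LP p β P ε Q φ)
include h

theorem CC : 𝐂 P ≤ 𝐂 Q := centralizer_le (SetLike.coe_mono h.sle.le)

theorem PC : P ≤ 𝐂 Q := h.ab.trans h.CC

/-- the defect group inside the centralizer -/
noncomputable def j : P ≃* P.subgroupOf (𝐂 Q) := (subgroupOfEquivOfLe h.PC).symm

theorem incl_ε : incl (𝐂 Q) (res (𝐂 Q) ε) = ε := (h.hm.bp.supp.mono h.CC).incl_res

theorem comm (u v : P) : u * v = v * u := Subtype.ext (h.ab v.2 u u.2)

theorem blk : IsPBlock M (bset (𝐂 Q) φ) := h.sle.bp.blk_top.isPBlock_bset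

theorem mem_stab {g : 𝐍 Q} {ξ : IrrCharacter (𝐂 Q)} (h1 : ξ ∈ bset (𝐂 Q) φ)
    (h2 : g • ξ ∈ bset (𝐂 Q) φ) : (g : G) ∈ stabP ⊤ Q φ := by
  have h3 := (h.blk.irrCongr (cjC g)).eq_of_mem h.blk ⟨ξ, h1, irrCongr_cjC g ξ⟩ h2
  have h4 := push_cjC g (eB M (bset (𝐂 Q) φ))
  rw [push_eB_equiv, h3, ← EB, h.sle.bp.blk_top.EB_bset] at h4
  exact mem_stabP.2 ⟨mem_top _, g.2, h4.symm⟩

include hM

theorem exists_NA {θ₀ : IrrCharacter (𝐂 Q)} (h₀ : θ₀ ∈ bset (𝐂 Q) φ) :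
    ∃ θ, NA p (bset (𝐂 Q) φ) (P.subgroupOf (𝐂 Q)) (res (𝐂 Q) ε) h.j θ ∧ θ 1 = θ₀ := by
  have h1 := h.hm.cent_of_comm hM h.PC h.sle
  have h2 := (h1.nilB_iff_of_comm hM h.ab).2 fun g hg =>
    h.le g (mem_stabP.2 ⟨mem_top _, (mem_stabP.1 hg).2⟩) (mem_stabP.1 hg).1.2
  have e : push (𝐂 Q).subtype (eB M (bset (𝐂 Q) φ)) = φ := h.sle.bp.blk_top.EB_bset
  have e' : (⊤ : Subgroup (𝐂 Q)).map (𝐂 Q).subtype = ⊤ ⊓ 𝐂 Q := by
    rw [← MonoidHom.range_eq_map, range_subtype, top_inf_eq]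
  refine Small.exists_NA hM h.blk ((maxP_push_iff (subtype_injective _)).1 ?_)
    ((nilB_push_iff (subtype_injective _)).1 ?_) h.comm h.j h₀
  · rwa [e, e', subgroupOf_map_subtype, inf_eq_left.2 h.PC, push_subtype, h.incl_ε]
  · rwa [e, e']

variable {θ : (P →* ℂˣ) → IrrCharacter (𝐂 Q)}
  (hθ : NA p (bset (𝐂 Q) φ) (P.subgroupOf (𝐂 Q)) (res (𝐂 Q) ε) h.j θ)
include hθ
variable [Fintype (P →* ℂˣ)]

theorem sp_eq {u : P} (hu : centralizer {(u : G)} ≤ 𝐂 Q) :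
    sp p P ε u = push (𝐂 Q).subtype (sp p (P.subgroupOf (𝐂 Q)) (res (𝐂 Q) ε) (h.j u)) := by
  have h1 := (hθ.sle hM u).push (subtype_injective _)
  rw [← MonoidHom.range_eq_map, range_subtype, subgroupOf_map_subtype, inf_eq_left.2 h.PC,
    push_subtype _ (res _ _), h.incl_ε, MonoidHom.map_zpowers] at h1
  exact (h1.of_ge (by rwa [top_inf_eq, centralizer_zpowers_eq]) le_top).sp_eq hM

theorem con_eq [Fintype G] [Fintype (𝐂 Q)] {u : P} (hu : centralizer {(u : G)} ≤ 𝐂 Q) {χ ψ : G → ℂ}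
    (hχ : IsClassFunction G χ) (hψ : IsClassFunction G ψ) : Nat.card P * con p (u : G) (sp p P ε u) χ ψ =
      (∑ l, classInner (fun c : 𝐂 Q => χ c) (θ l).1 * l u) *
        conj (∑ l, classInner (fun c : 𝐂 Q => ψ c) (θ l).1 * l u) := by
  rw [← hθ.con_any hM (hχ.restrict _) (hψ.restrict _), h.sp_eq hM hθ hu]
  exact congrArg _ (con_push (u := (h.j u : 𝐂 Q)) (subtype_injective _) (by rwa [range_subtype])
    (hθ.sle hM u).blk_cent χ ψ)

theorem act {g : 𝐍 Q} (hg : (g : G) ∈ stabP ⊤ P ε) {α : MulAut P} (hα : ∀ u, (α u : G) = g * u * (g : G)⁻¹) :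
    ∃ k, g • θ 1 = θ k ∧ ∀ l, g • θ (l.comp α.toMonoidHom) = θ (l * k) := by
  haveI := Fintype.ofFinite (𝐂 Q)
  obtain ⟨h1, h2⟩ := hθ.act hM (σ := cjC g) (α := α) (fun u => Subtype.ext (hα u).symm)
    (incl_injective _ (by rw [push_cjC, h.incl_ε, (mem_stabP.1 hg).2.2]))
  obtain ⟨k, hk⟩ := (hθ.mem _).1 (h1.le ⟨_, hθ.mem' 1, rfl⟩)
  simp only [irrCongr_cjC] at h2 hk
  exact ⟨k, hk.symm, h2 k hk.symm⟩

omit hθ in
theorem exists_stable [Fintype P] (hE : Free (inE P ε))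
    (hab : ∀ g ∈ stabP ⊤ P ε, ∀ g' ∈ stabP ⊤ P ε, g * g' * g⁻¹ * g'⁻¹ ∈ 𝐂 P) :
    ∃ θ, NA p (bset (𝐂 Q) φ) (P.subgroupOf (𝐂 Q)) (res (𝐂 Q) ε) h.j θ ∧
      ∀ g : 𝐍 Q, (g : G) ∈ stabP ⊤ P ε → ∀ α : MulAut P, (∀ u, (α u : G) = g * u * (g : G)⁻¹) →
        ∀ l, g • θ (l.comp α.toMonoidHom) = θ l := by
  suffices ∃ θ₀ ∈ bset (𝐂 Q) φ, ∀ g : 𝐍 Q, (g : G) ∈ stabP ⊤ P ε → g • θ₀ = θ₀ by
    obtain ⟨θ₀, h1, h2⟩ := this
    obtain ⟨θ, hθ, rfl⟩ := h.exists_NA hM h1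
    refine ⟨θ, hθ, fun g hg α hα l => ?_⟩
    obtain ⟨k, h3, h4⟩ := h.act hM hθ hg hα
    rw [h4, ← hθ.inj ((h2 g hg).symm.trans h3)]
    exact congrArg θ (mul_one l)
  obtain ⟨θ₀, h₀⟩ := h.blk.nonempty
  by_cases hc : ∀ g : 𝐍 Q, (g : G) ∈ stabP ⊤ P ε → (g : G) ∈ 𝐂 P
  · exact ⟨θ₀, h₀, fun g hg => smul_eq_of_mem (h.CC (hc g hg)) _⟩
  push Not at hc
  obtain ⟨t, ht, ht'⟩ := hc
  obtain ⟨θ, hθ, -⟩ := h.exists_NA hM h₀
  obtain ⟨α, hα, e⟩ := exists_inE ht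
  obtain ⟨k, -, h1⟩ := h.act hM hθ ht e
  have hb := hE.bij hα fun e' => ht' fun u hu => by
    have := e ⟨u, hu⟩
    rw [e'] at this
    exact eq_mul_inv_iff_mul_eq.1 this
  have h2 : ∀ l, t • θ l = θ l ↔ (l.comp α⁻¹.toMonoidHom).comp α.toMonoidHom *
      (l.comp α⁻¹.toMonoidHom)⁻¹ = k := fun l => by
    have : (l.comp α⁻¹.toMonoidHom).comp α.toMonoidHom = l := MonoidHom.ext fun u => by simp
    have h1 := h1 (l.comp α⁻¹.toMonoidHom)
    rw [this] at h1 ⊢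
    rw [h1, hθ.inj.eq_iff]
    exact eq_comm.trans ((mul_inv_eq_iff_eq_mul (G := P →* ℂˣ)).trans
      (Eq.congr_right (mul_comm (G := P →* ℂˣ) k _))).symm
  have h3 : Function.Bijective fun l : P →* ℂˣ => l.comp α⁻¹.toMonoidHom :=
    (MulEquiv.monoidHomCongrLeftEquiv α).bijective
  obtain ⟨l, hl⟩ := (hb.comp h3).2 k
  refine ⟨θ l, hθ.mem' l, fun g hg => ?_⟩
  obtain ⟨β, -, e'⟩ := exists_inE hg
  obtain ⟨k', -, h4⟩ := h.act hM hθ hg e'
  have h5 := h4 (l.comp β⁻¹.toMonoidHom)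
  rw [show (l.comp β⁻¹.toMonoidHom).comp β.toMonoidHom = l from MonoidHom.ext fun u => by simp] at h5
  rw [h5]
  refine congrArg θ ((hb.comp h3).1 (((h2 _).1 ?_).trans hl.symm))
  rw [← h5, ← smul_eq_of_mem (n := g * t * g⁻¹ * t⁻¹) (h.CC (hab _ hg _ ht)) (t • g • θ l), ← mul_smul,
    ← mul_smul, inv_mul_cancel_right, inv_mul_cancel_right, mul_smul, (h2 l).2 hl]

theorem cd (D : PAdic p) (hD : ∀ a : AlgInt, a ∈ M ↔ D.v a < 1) (hcyc : IsCyclic P)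
    (hQ : Nat.card Q = p) (hN : stabP ⊤ P ε ≤ 𝐍 Q)
    (hgen : ∃ t₀ ∈ stabP ⊤ P ε, ∀ t ∈ stabP ⊤ P ε, ∃ j : ℕ, ∃ c ∈ 𝐂 P, t = t₀ ^ j * c)
    (hst : ∀ g : 𝐍 Q, (g : G) ∈ stabP ⊤ P ε → ∀ α : MulAut P, (∀ u, (α u : G) = g * u * (g : G)⁻¹) →
        ∀ l, g • θ (l.comp α.toMonoidHom) = θ l) :
    CD D Q (stabP ⊤ Q φ) P (Nat.card (inE P ε)) (charDegree (θ 1).1) θ := by
  haveI := Fintype.ofFinite (𝐂 Q)
  have hv : ∀ {z}, MemLocalRing M z → D.v z ≤ 1 := by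
    rintro _ ⟨a, b, hb, rfl⟩
    rw [map_div₀, le_antisymm (val_le_one_of_isIntegral _ b.2) (not_lt.1 (mt (hD b).2 hb)), div_one]
    exact val_le_one_of_isIntegral _ a.2
  have hv' : ∀ {z}, MemLocalRing M z → ¬ MemLocalIdeal M z → ¬ D.v z < 1 := fun {z} h1 h2 h3 => by
    have := mul_lt_one_of_nonneg_of_lt_one_left zero_le h3 (hv (h1.inv h2))
    rw [← map_mul, mul_inv_cancel₀ (ne_zero_of_not_memLocalIdeal h2), map_one] at this
    exact lt_irrefl _ this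
  have hH := h.hm.stabP_eq_of_comm hM h.PC h.sle
  rw [inf_eq_left.2 hN, top_inf_eq] at hH
  have hcen : ∀ z : 𝐂 Q, (z : G) ∈ Q → z ∈ center (𝐂 Q) := fun z hz =>
    mem_center_iff.2 fun g => Subtype.ext (g.2 _ hz).symm
  refine ⟨hcyc, h.hm.bp.isPGroup, h.sle.le, hQ, hθ.inj, hθ.deg', fun u c => hv (hθ.isInt_cmb hM u c),
    ?_, fun z hz hz' => ?_, fun x hx c hc hcx => ?_, hH ▸ le_sup_right, stabP_le_norm, ?_, ?_, ?_,
    fun g hg => ?_, fun g hg l l' e => hg (h.mem_stab (hθ.mem' l) (e ▸ hθ.mem' l'))⟩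
  · obtain ⟨c, h1, h2⟩ := hθ.unit hM
    exact ⟨c, hv' h1 h2⟩
  · obtain ⟨ω, h1, h2⟩ := hθ.cent hM (z := z) (hcen _ hz')
    exact ⟨ω, D.v_lt_of_memLocalIdeal hD h1, h2⟩
  · rw [hθ.cmb_one] at hx
    obtain ⟨y, -, hy⟩ := hθ.hm.defG.exists_cj_le (zpowers c) le_top (isPGroup_zpowers ⟨1, by simpa⟩)
      (brauer_ne_zero_iff.2 ⟨x, zpowers_le.2 (mem_centralizer_singleton_iff.2 hcx), fun e => hx
        (D.v_lt_of_memLocalIdeal hD ((red_eq_zero_iff (h.blk.isInt_idem x)).1 e))⟩)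
    rw [cj_zpowers, zpowers_le] at hy
    have h1 : zpowers ((y * c * y⁻¹ : 𝐂 Q) : G) = Q := PGrp.eq_of_card_eq_of_isCyclic hcyc
      (zpowers_le.2 hy) h.sle.le (by
        rw [Nat.card_zpowers, orderOf_coe, hQ, ← hc]; exact MulEquiv.orderOf_eq (MulAut.conj y) c)
    have h2 := mem_center_iff.1 (hcen _ (h1.le (mem_zpowers _))) y⁻¹
    rw [← mul_assoc, ← mul_assoc, inv_mul_cancel, one_mul, mul_left_inj] at h2
    rw [h2]
    exact h1.le (mem_zpowers _)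
  · obtain ⟨t₀, h1, h2⟩ := hgen
    refine ⟨t₀, hH ▸ mem_sup_left h1, fun g hg => ?_⟩
    obtain ⟨y, hy, c, hc, rfl⟩ := h.hm.exists_mul_of_comm hM h.PC h.sle hg
    obtain ⟨j, c', hc', rfl⟩ := h2 y hy
    exact ⟨j, c' * c, mul_mem (h.CC hc') hc.2, mul_assoc _ _ _⟩
  · rw [card_inE, hH, Core.relIndex_sup_of_le_normalizer (hN.trans norm_le_norm_cent),
      ← inf_relIndex_right, ← inf_relIndex_right (𝐂 P)]
    congr 1
    exact Subgroup.ext fun g => ⟨fun e => ⟨h.le g e.2 e.1, e.2⟩, fun e => ⟨h.CC e.1, e.2⟩⟩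
  · simpa only [card_inE, top_inf_eq, sup_eq_right.2 h.ab] using h.hm.not_dvd hM
  · obtain ⟨y, hy, c, hc, e⟩ := h.hm.exists_mul_of_comm hM h.PC h.sle hg
    obtain ⟨α, -, hα⟩ := exists_inE hy
    refine ⟨α, fun l => ?_, fun z hz => by rw [hα, e, mul_assoc y c, ← hc.2 z hz]; group⟩
    rw [show g = ⟨y, hN hy⟩ * ⟨c, centralizer_le_normalizer _ hc.2⟩ from Subtype.ext e, mul_smul,
      smul_eq_of_mem (n := ⟨c, _⟩) hc.2, hst ⟨y, hN hy⟩ hy α hα]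

end LP

theorem sum_small {A : Type*} [Group A] [Fintype A] {E : Subgroup (MulAut A)} (hE : Free E)
    {S : Finset (A →* ℂˣ)} (hS : ∀ l ∈ S, ∀ α ∈ E, l.comp α.toMonoidHom ∈ S) (hc : S.card ≤ Nat.card E)
    (hne : S.Nonempty) :
    (∀ u, ∑ l ∈ S, (l u : ℂ) = 1) ∨ ∃ μ, μ ≠ 1 ∧ ∀ u, ∑ l ∈ S, (l u : ℂ) = orb E μ u := by
  classical
  haveI := Fintype.ofFinite E
  by_cases h : ∃ μ ∈ S, μ ≠ 1
  · obtain ⟨μ, h1, h2⟩ := h
    refine .inr ⟨μ, h2, fun u => ?_⟩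
    rw [← Finset.eq_of_subset_of_card_le (s := Finset.univ.image fun α : E => μ.comp α.1.toMonoidHom)
      (Finset.image_subset_iff.2 fun α _ => hS μ h1 α α.2) (by
        rwa [Finset.card_image_of_injective _ (hE.inj h2), Finset.card_univ, ← Nat.card_eq_fintype_card]),
      Finset.sum_image fun _ _ _ _ e => hE.inj h2 e, orb, finsum_eq_sum_of_fintype]
    rfl
  · push Not at h
    exact .inl fun u => by
      rw [Finset.eq_singleton_iff_nonempty_unique_mem.2 ⟨hne, h⟩]; simp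

/-- **Dade's theorem.** -/
theorem exists_DD (hM : IsPModular p M) {B : Finset (IrrCharacter G)}
    (hB : IsPBlock M (B : Set (IrrCharacter G))) {P : Subgroup G} [Fintype P]
    (hPD : IsDefectGroup p M B P) (hP1 : P ≠ ⊥) (hcyc : IsCyclic P) {c : Set (IrrCharacter (𝐂 P))}
    (hc : IsInducedBlock M (𝐂 P) c B) : Free (inE P (EB M c)) ∧ Nat.card (inE P (EB M c)) ∣ p - 1 ∧
      ∃ d X Y δ δ₀ μ, DD p M B (inE P (EB M c)) d X Y δ δ₀ μ := by
  classical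
  haveI := Fintype.ofFinite G
  haveI := Fintype.ofFinite (P →* ℂˣ)
  haveI := (nontrivial_iff_ne_bot P).2 hP1
  have hP := hPD.isPGroup
  have hm := hc.maxP hM hPD
  haveI := PGrp.isMulCommutative_of_isCyclic hcyc
  have hPC : P ≤ 𝐂 P := le_centralizer P
  haveI : ((𝐂 P).subgroupOf (stabP ⊤ P (EB M c))).Normal :=
    normal_subgroupOf_of_le_normalizer (stabP_le_norm.trans norm_le_norm_cent)
  obtain ⟨h1, h2, h3⟩ := Agent.S4633.result p M hM B hB P hPD hP1 hcyc c hc _ fun _ => mem_stabP_top_iff hc.1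
  have hE : Free (inE P (EB M c)) := fun α hα u hu e => by
    obtain ⟨t, ht, h⟩ := mem_inE.1 hα
    have := h3 t ht u u.2 (by simpa using hu) (by rw [← h, e])
    exact MulEquiv.ext fun v => Subtype.ext (by rw [h, ← this v v.2]; simp)
  refine ⟨hE, card_inE P (EB M c) ▸ h2, ?_⟩
  obtain ⟨z, hz⟩ := exists_prime_orderOf_dvd_card' p (dvd_card_of_isPGroup_ne_bot hP hP1)
  have hZ : zpowers (z : G) ≤ P := zpowers_le.2 z.2
  obtain ⟨φ, hφ⟩ := hm.bp.exists_sle hM hZ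
  have hz1 : (z : G) ≠ 1 := fun e => hp.out.ne_one (by rw [← hz, ← orderOf_coe, e, orderOf_one])
  have h : LP p _ P (EB M c) _ φ := ⟨hm, hPC, hφ, fun t ht e =>
    h3 t ht z z.2 hz1 (mul_inv_eq_iff_eq_mul.2 (e _ (mem_zpowers _)).symm)⟩
  have hN := stabP_le_norm (H := ⊤) (φ := EB M c) |>.trans
    (PGrp.normalizer_le_normalizer_of_isCyclic hcyc hZ)
  obtain ⟨θ, hθ, hst⟩ := h.exists_stable hM hE fun g hg g' hg' => by
    have := IsCyclic.isMulCommutative.is_comm.comm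
      (QuotientGroup.mk (s := (𝐂 P).subgroupOf (stabP ⊤ P (EB M c))) ⟨g, hg⟩⁻¹) (QuotientGroup.mk ⟨g', hg'⟩⁻¹)
    have := QuotientGroup.eq.1 ((QuotientGroup.mk_mul _ _ _).trans (this.trans (QuotientGroup.mk_mul _ _ _).symm)).symm
    simpa [mem_subgroupOf, mul_assoc] using this
  obtain ⟨D, hD⟩ := exists_padic hM
  haveI := Fintype.ofFinite (𝐂 (zpowers (z : G)))
  have hcd := h.cd hM hθ D hD hcyc (by rw [Nat.card_zpowers, orderOf_coe, hz]) hN (by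
    obtain ⟨q, hq⟩ := h1.exists_generator
    obtain ⟨t₀, rfl⟩ := QuotientGroup.mk_surjective q
    refine ⟨t₀, t₀.2, fun t ht => ?_⟩
    obtain ⟨j, hj⟩ := mem_powers_iff_mem_zpowers.2 (hq (QuotientGroup.mk ⟨t, ht⟩))
    have := QuotientGroup.eq.1 ((QuotientGroup.mk_pow _ t₀ j).trans hj)
    exact ⟨j, _, mem_subgroupOf.1 this, by simp⟩) hst
  have hinv : ∀ χ : IrrCharacter G, ∀ α ∈ inE P (EB M c), ∀ l : P →* ℂˣ,
      classInner (fun c : 𝐂 (zpowers (z : G)) => χ.1 c) (θ (l.comp α.toMonoidHom)).1 =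
        classInner (fun c : 𝐂 (zpowers (z : G)) => χ.1 c) (θ l).1 :=
    fun χ α hα l => by
      obtain ⟨t, ht, e⟩ := mem_inE.1 hα
      rw [← hst ⟨t, hN ht⟩ ht α e l, classInner_smul _ χ.2.isClassFunction]
  choose n hn using fun (χ : IrrCharacter G) l =>
    (χ.2.isCharacter.restrict (𝐂 (zpowers (z : G)))).classInner_nat (θ l).2.isCharacter
  have hF : FD p B P (EB M c) fun χ u =>
      ∑ l, classInner (fun c : 𝐂 (zpowers (z : G)) => χ.1 c) (θ l).1 * l u := by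
    refine ⟨hB, hm, hPC, fun χ u => IsIntegral.sum _ fun l _ => ?_, fun χ u => ?_,
      fun χ _ ψ _ u hu => h.con_eq hM hθ ?_ χ.2.isClassFunction ψ.2.isClassFunction, fun χ α hα u => ?_⟩
    · exact (hn χ l ▸ isIntegral_natCast _).mul ((isIrrCharacter_linear l).isCharacter.isIntegral u)
    · simp only [map_sum, map_mul, hn, map_natCast, ← (isIrrCharacter_linear _).isCharacter.apply_inv]
    · rw [← centralizer_zpowers_eq]
      refine centralizer_le (SetLike.coe_mono (zpowers_le.2 (PGrp.mem_zpowers_of_pow_eq_one hcyc z.2 u.2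
        (orderOf_dvd_iff_pow_eq_one.1 ?_))))
      rw [orderOf_coe, hz]
      exact dvd_orderOf_of_mem_isPGroup hM.1 hP u.2 (by simpa using hu)
    · refine Fintype.sum_equiv (MulEquiv.monoidHomCongrLeftEquiv α.symm) _ _ fun l => ?_
      rw [← hinv χ α hα l]
      rfl
  refine ⟨_, (hF.ad hM).exists_DD hE h.comm fun χ hχ => ?_⟩
  obtain ⟨k, Λ, e1, e2, e3⟩ := hcd.main χ
  have hΛ : ∀ α ∈ inE P (EB M c), ∀ l, l.comp α.toMonoidHom ∈ Λ ↔ l ∈ Λ := fun α hα l => by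
    have := hinv χ α hα l
    refine ⟨fun a => by_contra fun b => ?_, fun a => by_contra fun b => ?_⟩
    · rw [e1 _ a, e2 _ b] at this; simp at this
    · rw [e1 _ a, e2 _ b] at this; simp at this
  have hd : ∀ u, u ≠ 1 →
      ∑ l, classInner (fun c : 𝐂 (zpowers (z : G)) => χ.1 c) (θ l).1 * l u = ∑ l ∈ Λ, (l u : ℂ) :=
    fun u hu => by
      have e0 : ∑ l : P →* ℂˣ, (k : ℂ) * l u = 0 := by
        rw [← Finset.mul_sum, sum_linear_apply h.comm hu, mul_zero]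
      rw [← Finset.sum_ite_mem_eq Λ]
      refine .trans ?_ ((congrArg _ e0).trans (add_zero _))
      rw [← Finset.sum_add_distrib]
      refine Finset.sum_congr rfl fun l _ => ?_
      split_ifs with a
      · rw [e1 l a]; ring
      · rw [e2 l a, zero_add]
  have hd' : ∀ u, u ≠ 1 → ∑ l ∈ Λ, (l u : ℂ) = -∑ l ∈ Λᶜ, (l u : ℂ) := fun u hu => by
    rw [eq_neg_iff_add_eq_zero, Finset.sum_add_sum_compl, sum_linear_apply h.comm hu]
  obtain ⟨u₀, hu₀⟩ := exists_ne (1 : P)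
  have hne := (hF.ad hM).ne χ hχ u₀ hu₀
  rw [hd u₀ hu₀] at hne
  rcases e3 with e3 | e3
  · rcases sum_small hE (fun l hl α hα => (hΛ α hα l).2 hl) e3 (Finset.nonempty_of_sum_ne_zero hne)
      with a | ⟨μ, a1, a2⟩
    · exact ⟨1, .inl rfl, .inl fun u hu => by simp [hd u hu, a]⟩
    · exact ⟨1, .inl rfl, .inr ⟨μ, a1, fun u hu => by simp [hd u hu, a2]⟩⟩
  · rcases sum_small hE (S := Λᶜ) (fun l hl α hα => by rwa [Finset.mem_compl, hΛ α hα, ← Finset.mem_compl]) (by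
      rw [Finset.card_compl, ← Nat.card_eq_fintype_card, card_linear h.comm]; omega)
      (Finset.nonempty_of_sum_ne_zero (neg_ne_zero.1 (hd' u₀ hu₀ ▸ hne))) with a | ⟨μ, a1, a2⟩
    · exact ⟨-1, .inr rfl, .inl fun u hu => by simp [hd u hu, hd' u hu, a]⟩
    · exact ⟨-1, .inr rfl, .inr ⟨μ, a1, fun u hu => by simp [hd u hu, hd' u hu, a2]⟩⟩

theorem exists_DD' (hM : IsPModular p M) {B : Set (IrrCharacter G)} (hB : IsPBlock M B) {P : Subgroup G}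
    [Fintype P] (hP1 : P ≠ ⊥) (hcyc : IsCyclic P) {ε : MonoidAlgebra (resField M) G}
    (hm : MaxP p ⊤ (eB M B) P ε) : Free (inE P ε) ∧ Nat.card (inE P ε) ∣ p - 1 ∧
      ∃ B' : Finset (IrrCharacter G), B = B' ∧ ∃ d X Y δ δ₀ μ, DD p M B' (inE P ε) d X Y δ δ₀ μ := by
  obtain ⟨B, rfl⟩ := (Set.toFinite B).exists_finset_coe
  obtain ⟨c, hc, rfl⟩ := hm.bp.exists_eq
  obtain ⟨h1, h2, h3⟩ := exists_DD hM hB ((isDefectGroup_iff_defG_top hM hB).2 hm.defG) hP1 hcyc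
    ((isInducedBlock_cent_iff hM hm.bp.isPGroup hB hc).2 hm.bpo)
  exact ⟨h1, h2, B, rfl, h3⟩

theorem eq_of_card_mulAut {A : Type*} [Group A] [Finite A] (hA : IsCyclic A) (hP : IsPGroup p A)
    {E E' : Subgroup (MulAut A)} (h : Nat.card E = Nat.card E') (hd : Nat.card E ∣ p - 1) : E = E' := by
  by_cases h2 : p = 2
  · subst h2
    rw [card_eq_one.1 (Nat.dvd_one.1 hd), card_eq_one.1 (h.symm.trans (Nat.dvd_one.1 hd))]
  obtain ⟨n, hn⟩ := IsPGroup.iff_card.1 hP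
  haveI : IsCyclic (ZMod (Nat.card A))ˣ := hn ▸ ZMod.isCyclic_units_of_prime_pow p hp.out h2 n
  haveI := (IsCyclic.mulAutMulEquiv A).isCyclic.2 this
  exact PGrp.eq_of_card_eq_of_isCyclic (C := ⊤) inferInstance le_top le_top h

namespace DD

variable {B X Y : Finset (IrrCharacter G)} {A : Type*} [Group A] [Fintype A] {E : Subgroup (MulAut A)}
  {d : IrrCharacter G → A → ℂ} {δ : IrrCharacter G → ℤ} {δ₀ : ℤ} {μ : IrrCharacter G → A →* ℂˣ}
  (h : DD p M B E d X Y δ δ₀ μ) {A' : Type*} [Group A'] [Fintype A']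
include h

theorem comp (j : A' ≃* A) : DD p M B (E.comap (MulAut.congr j).toMonoidHom) (fun χ u => d χ (j u)) X Y δ δ₀
    fun χ => (μ χ).comp j.toMonoidHom := by
  let e : E.comap (MulAut.congr j).toMonoidHom ≃ E :=
    (MulAut.congr j).toEquiv.subtypeEquiv fun _ => Iff.rfl
  have hm : ∀ α ∈ E, (MulAut.congr j).symm α ∈ E.comap (MulAut.congr j).toMonoidHom := fun α h =>
    mem_comap.2 (by rwa [MulEquiv.coe_toMonoidHom, MulEquiv.apply_symm_apply])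
  refine ⟨h.toAD.comp j fun u v => ⟨fun ⟨α, h1, h2⟩ => ⟨_, h1, by simp [h2]⟩, fun ⟨α, h1, h2⟩ =>
    ⟨_, hm α h1, by simp [h2]⟩⟩, h.cover, h.disj,
    h.cardX.trans (Nat.card_congr e).symm, h.sX, h.s0, fun χ hχ u hu => h.dX χ hχ _ (by simpa using hu),
    fun ψ hψ u hu => ?_, fun ψ hψ e => h.μne ψ hψ (MonoidHom.ext fun u => ?_), fun l hl => ?_, h.reg⟩
  · rw [h.dY ψ hψ _ (by simpa using hu), orb, orb, ← finsum_comp_equiv e]
    exact congrArg _ (finsum_congr fun α => congrArg (fun v => (μ ψ (j (α.1 v)) : ℂ)) (j.symm_apply_apply u))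
  · simpa using DFunLike.congr_fun e (j.symm u)
  · refine (existsUnique_congr fun ψ => and_congr_right fun _ => ?_).1
      (h.uniq (l.comp j.symm.toMonoidHom) fun e => hl (MonoidHom.ext fun u => ?_))
    · refine ⟨fun ⟨α, h1, h2⟩ => ⟨_, hm α h1, MonoidHom.ext fun u => ?_⟩,
        fun ⟨α, h1, h2⟩ => ⟨_, h1, MonoidHom.ext fun u => ?_⟩⟩
      · simpa using DFunLike.congr_fun h2 (j u)
      · simpa using DFunLike.congr_fun h2 (j.symm u)
    · simpa using DFunLike.congr_fun e (j u)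

theorem perfect' (hM : IsPModular p M) {H : Type*} [Group H] [Finite H] {c X' Y' : Finset (IrrCharacter H)}
    {E' : Subgroup (MulAut A')} {d' : IrrCharacter H → A' → ℂ} {δ' : IrrCharacter H → ℤ} {δ₀' : ℤ}
    {μ' : IrrCharacter H → A' →* ℂˣ} (h' : DD p M c E' d' X' Y' δ' δ₀' μ') (hA : IsCyclic A)
    (hA' : IsCyclic A') (hP : IsPGroup p A') (h1 : Nat.card A' = Nat.card A) (h2 : Nat.card E' = Nat.card E)
    (h3 : Nat.card E' ∣ p - 1) : ∃ I ε, IsPerfectIsometry p M c (B : Set (IrrCharacter G)) I ε ∧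
      (∀ η ∈ X', ∃ χ ∈ X, ε η = δ χ * δ' η) ∧ ∀ η ∈ Y', ε η = δ₀ * δ₀' := by
  have h4 := h.comp (mulEquivOfCyclicCardEq h1)
  rw [← eq_of_card_mulAut hA' hP (h2.trans (h.cardX.symm.trans h4.cardX)) h3] at h4
  exact h4.perfect hM h'

end DD

end Cfsg.Lib.Small
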