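import Cfsg.Agent.Lib.Hall.FS
import Cfsg.Agent.Lib.Char.Integral
import Cfsg.Agent.Lib.Char.Classes
import Mathlib.Combinatorics.Enumerative.DoubleCounting

/-!
# Groups with `χ(1) - χ(u) = 4` or `χ(u) = 0` for all non-principal irreducible characters
-/

set_option autoImplicit false
set_option linter.unusedSectionVars false

namespace Cfsg.Lib.Small.F4

open Cfsg.Lib.Char Cfsg.Lib.Hall
open scoped ComplexConjugate

variable {G : Type*} [Group G] [Fintype G] {u : G} {φ ψ χ θ τ : G → ℂ} {a b : ℤ}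

local notation "⟪" x ", " y "⟫" => classInner x y

noncomputable def av : (G → ℂ) →+ ℂ where
  toFun f := ⟪f, 1⟫
  map_zero' := classInner_zero_left _
  map_add' _ _ := classInner_add_left _ _ _

theorem ci (φ ψ : G → ℂ) : ⟪φ, ψ⟫ = av (φ * star ψ) := classInner_eq_mul_conj_one φ ψ

/-- identities between inner products -/
macro "cl_ring" : tactic => `(tactic| (simp only [ci, ← map_add, ← map_sub]; congr 1; simp only [star_mul', star_add, star_sub, star_star, star_one, star_pow]; ring))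

theorem irr1 : IsIrrCharacter G 1 := isIrrCharacter_one

theorem irr_star (h : IsIrrCharacter G χ) : IsIrrCharacter G (star χ) := h.conj

theorem ch_star (h : IsCharacter G χ) : IsCharacter G (star χ) := h.conj

theorem ci_ne (h : IsIrrCharacter G χ) (h' : IsIrrCharacter G ψ) {m n : ℤ} (e : χ 1 = m) (e' : ψ 1 = n)
    (hn : m ≠ n) : ⟪χ, ψ⟫ = 0 :=
  h.classInner_of_ne h' fun k => hn (by rw [k, e'] at e; exact_mod_cast e.symm)

def Hy (u : G) : Prop := ∀ χ, IsIrrCharacter G χ → χ ≠ 1 → χ 1 - χ u = 4 ∨ χ u = 0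

theorem Hy.ne (h : Hy u) (hχ : IsIrrCharacter G χ) (h1 : χ ≠ 1) : χ u ≠ χ 1 := fun e => by
  rcases h χ hχ h1 with k | k
  · rw [e, sub_self] at k; norm_num at k
  · exact hχ.apply_one_ne_zero (e ▸ k)

theorem Hy.lin (h : Hy u) (l : G →* ℂˣ) (g : G) : l g = 1 := by
  by_contra hg
  have h1 : ‖(l u : ℂ)‖ = 1 := norm_eq_one_of_pow_orderOf (g := u) (by
    rw [← Units.val_pow_eq_pow_val, ← map_pow, pow_orderOf_eq_one, map_one, Units.val_one])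
  rcases h _ (isIrrCharacter_linear l) (fun e => hg (Units.val_eq_one.1 (congrFun e g))) with k | k
  · have : (l u : ℂ) = -3 := by simp only [map_one, Units.val_one] at k; linear_combination -k
    rw [this] at h1; norm_num at h1
  · exact (l u).ne_zero k

theorem Hy.det (h : Hy u) {n : ℕ} (X : G →* Matrix (Fin n) (Fin n) ℂ) (g : G) : (X g).det = 1 :=
  congrArg Units.val (h.lin (Matrix.detMonoidHom.comp X).toHomUnits g)

theorem Hy.sq3 (h : Hy u) (hχ : IsCharacter G χ) (h3 : χ 1 = 3) (g : G) :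
    χ (g * g) = χ g ^ 2 - 2 * star χ g := by
  have h4 : star χ g = χ g⁻¹ := (hχ.apply_inv g).symm
  obtain ⟨n, ρ, rfl⟩ := hχ
  obtain rfl : n = 3 := by exact_mod_cast (show ((n : ℕ) : ℂ) = (3 : ℕ) by simpa using h3)
  have h5 : repMat ρ g⁻¹ = (repMat ρ g).adjugate :=
    Matrix.right_inv_eq_right_inv (A := repMat ρ g) (by rw [← map_mul, mul_inv_cancel, map_one])
      (by rw [Matrix.mul_adjugate, h.det, one_smul])
  rw [h4, ← trace_repMat, ← trace_repMat, ← trace_repMat, h5, map_mul]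
  simp only [Matrix.adjugate_fin_three, Matrix.trace_fin_three, Matrix.mul_apply, Fin.sum_univ_three]
  simp
  ring

theorem Hy.sq2 (h : Hy u) (hχ : IsCharacter G χ) (h2 : χ 1 = 2) (g : G) : χ (g * g) = χ g ^ 2 - 2 := by
  obtain ⟨n, ρ, rfl⟩ := hχ
  obtain rfl : n = 2 := by exact_mod_cast (show ((n : ℕ) : ℂ) = (2 : ℕ) by simpa using h2)
  have h5 := h.det (repMat ρ) g
  rw [← trace_repMat, ← trace_repMat, map_mul]
  simp only [Matrix.det_fin_two, Matrix.trace_fin_two, Matrix.mul_apply, Fin.sum_univ_two] at h5 ⊢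
  linear_combination -2 * h5

theorem Hy.ker (h : Hy u) (hφ : IsCharacter G φ) (h0 : ⟪φ, 1⟫ = 0) (e : φ u = φ 1) : φ = 0 := by
  by_contra hn
  obtain ⟨χ, h1, h2⟩ := hφ.isClassFunction.exists_classInner_ne_zero hn
  exact h.ne h1 (fun k => h2 (k ▸ h0))
    (h1.mem_charKer.1 (hφ.charKer_le_of_classInner_ne_zero h1 h2 (hφ.mem_charKer.2 e)))

theorem ci_norm (hχ : IsIrrCharacter G χ) : ⟪χ * star χ, 1⟫ = 1 := by
  rw [← hχ.classInner_self]; cl_ring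

theorem ch_adj (hχ : IsIrrCharacter G χ) : IsCharacter G (χ * star χ - 1) ∧ ⟪χ * star χ - 1, 1⟫ = 0 :=
  ⟨(hχ.isCharacter.mul (ch_star hχ.isCharacter)).sub_of_classInner_ne_zero irr1 (by simp [ci_norm hχ]), by
    rw [classInner_sub_left, ci_norm hχ, irr1.classInner_self, sub_self]⟩

/-- degree and value of a non-principal irreducible character -/
theorem Hy.exists_dv (h : Hy u) (hχ : IsIrrCharacter G χ) (h1 : χ ≠ 1) :
    ∃ d v : ℤ, χ 1 = d ∧ χ u = v ∧ 2 ≤ d ∧ (v = 0 ∨ d - v = 4 ∧ 3 ≤ d) := by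
  obtain ⟨n, hn, e⟩ := hχ.exists_pos_degree
  have h2 : n ≠ 1 := by
    rintro rfl
    obtain ⟨l, rfl⟩ := hχ.isCharacter.exists_linear_of_degree_one (by simpa using e)
    exact h1 (funext fun g => by simp [h.lin l g])
  rcases h χ hχ h1 with k | k
  · have k' : χ u = ((n - 4 : ℤ) : ℂ) := by push_cast; linear_combination e - k
    refine ⟨n, n - 4, by simp [e], k', by omega, Or.inr ⟨by ring, ?_⟩⟩
    by_contra h3
    obtain rfl : n = 2 := by omega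
    have := congrFun (h.ker (ch_adj hχ).1 (ch_adj hχ).2 (by simp [k', e])) 1
    simp [e] at this
    norm_num at this
  · exact ⟨n, 0, by simp [e], by simp [k], by omega, Or.inl rfl⟩

/-- a character without principal constituent, of degree `a` and with value `b` at `u` -/
structure NT (u : G) (φ : G → ℂ) (a b : ℤ) : Prop where
  ch : IsCharacter G φ
  d : φ 1 = a
  v : φ u = b
  o : ⟪φ, 1⟫ = 0

/-- the irreducible characters of degree three -/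
structure T (u : G) (θ : G → ℂ) : Prop where
  irr : IsIrrCharacter G θ
  d : θ 1 = (3 : ℤ)
  v : θ u = (-1 : ℤ)

theorem T.star (h : T u θ) : T u (star θ) := ⟨irr_star h.irr, by simp [h.d], by simp [h.v]⟩

theorem NT.star (h : NT u φ a b) : NT u (star φ) a b :=
  ⟨ch_star h.ch, by simp [h.d], by simp [h.v], by
    rw [← star_one (G → ℂ)]; exact (classInner_conj_conj _ _).trans (classInner_eq_zero_comm.1 h.o)⟩

theorem NT.sub (h : NT u φ a b) (hχ : IsIrrCharacter G χ) (h1 : ⟪φ, χ⟫ ≠ 0) {c d : ℤ} (e : χ 1 = c)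
    (e' : χ u = d) : NT u (φ - χ) (a - c) (b - d) :=
  ⟨h.ch.sub_of_classInner_ne_zero hχ h1, by simp [h.d, e], by simp [h.v, e'], by
    rw [classInner_sub_left, h.o, hχ.classInner_of_ne irr1 fun k => h1 (k ▸ h.o), sub_self]⟩

theorem NT.subT (h : NT u φ a b) (hθ : T u θ) (h1 : ⟪φ, θ⟫ ≠ 0) : NT u (φ - θ) (a - 3) (b + 1) := by
  simpa using h.sub hθ.irr h1 hθ.d hθ.v

structure Core (u : G) : Prop where
  hy : Hy u
  sq : u * u = 1

namespace Core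

variable (h : Core u)
include h

theorem exists_dv (hχ : IsIrrCharacter G χ) (h1 : χ ≠ 1) :
    ∃ d v : ℤ, χ 1 = d ∧ χ u = v ∧ 3 ≤ d ∧ 4 ≤ d - v ∧ (v = 0 ∨ d - v = 4) ∧ (0 ≤ v ∨ T u χ) := by
  obtain ⟨d, v, e, e', h2, h3⟩ := h.hy.exists_dv hχ h1
  have h4 : 4 ≤ d - v ∧ 3 ≤ d := by
    rcases h3 with rfl | h3
    · have : d ≠ 2 := by
        rintro rfl
        have := h.hy.sq2 hχ.isCharacter (by simpa using e) u
        rw [h.sq, e, e'] at this; norm_num at this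
      have : d ≠ 3 := by
        rintro rfl
        have := h.hy.sq3 hχ.isCharacter (by simpa using e) u
        rw [h.sq, e, Pi.star_apply, e'] at this; norm_num at this
      omega
    · omega
  refine ⟨d, v, e, e', h4.2, h4.1, by omega, ?_⟩
  by_cases h5 : 0 ≤ v
  · exact Or.inl h5
  obtain ⟨rfl, rfl⟩ : d = 3 ∧ v = -1 := by omega
  exact Or.inr ⟨hχ, e, e'⟩

theorem split (hφ : NT u φ a b) (ha : a ≠ 0) : ∃ (χ : G → ℂ) (d v : ℤ), IsIrrCharacter G χ ∧ χ 1 = d ∧ χ u = v ∧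
    3 ≤ d ∧ 4 ≤ d - v ∧ (v = 0 ∨ d - v = 4) ∧ (0 ≤ v ∨ T u χ) ∧ ⟪φ, χ⟫ ≠ 0 ∧ NT u (φ - χ) (a - d) (b - v) := by
  obtain ⟨χ, h1, h2⟩ := hφ.ch.isClassFunction.exists_classInner_ne_zero fun k => ha (by
    have := hφ.d; rw [k, Pi.zero_apply] at this; exact_mod_cast this.symm)
  obtain ⟨d, v, e, e', h3, h4, h5, h6⟩ := h.exists_dv h1 fun k => h2 (k ▸ hφ.o)
  exact ⟨χ, d, v, h1, e, e', h3, h4, h5, h6, h2, hφ.sub h1 h2 e e'⟩

theorem aux (n : ℕ) : ∀ {φ : G → ℂ} {a b : ℤ}, NT u φ a b → a.toNat = n →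
    (φ = 0 ∧ a = 0 ∧ b = 0 ∨ 3 ≤ a ∧ 4 ≤ a - b) ∧ (0 ≤ b ∨ ∃ θ, T u θ ∧ ⟪φ, θ⟫ ≠ 0) := by
  induction n using Nat.strong_induction_on with | _ n ih
  intro φ a b hφ hn
  by_cases ha : a = 0
  · have h0 := hφ.ch.eq_zero_of_apply_one (by simp [hφ.d, ha])
    have : b = 0 := by have := hφ.v; rw [h0, Pi.zero_apply] at this; exact_mod_cast this.symm
    exact ⟨Or.inl ⟨h0, ha, this⟩, Or.inl this.ge⟩
  obtain ⟨χ, d, v, h1, e, e', h3, h4, h5, h6, h2, h7⟩ := h.split hφ ha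
  obtain ⟨m, hm⟩ := h7.ch.exists_nat_degree
  have hm' : a - d = m := by rw [h7.d] at hm; exact_mod_cast hm
  obtain ⟨h8, h9⟩ := ih _ (by omega) h7 rfl
  refine ⟨Or.inr (by omega), ?_⟩
  rcases h6 with h6 | h6
  swap
  · exact Or.inr ⟨χ, h6, h2⟩
  rcases h9 with h9 | ⟨θ, h9, h10⟩
  · exact Or.inl (by omega)
  refine Or.inr ⟨θ, h9, fun k => ?_⟩
  obtain ⟨i, hi⟩ := h7.ch.classInner_nat h9.irr.isCharacter
  obtain ⟨j, hj⟩ := h1.isCharacter.classInner_nat h9.irr.isCharacter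
  rw [hi] at h10
  rw [classInner_sub_left, k, hj] at hi
  have : (i + j : ℕ) = 0 := by exact_mod_cast (show ((i : ℂ) + j) = 0 by linear_combination -hi)
  exact h10 (by simp [show i = 0 by omega])

theorem bound (hφ : NT u φ a b) : φ = 0 ∧ a = 0 ∧ b = 0 ∨ 3 ≤ a ∧ 4 ≤ a - b := (h.aux _ hφ rfl).1

theorem exists_T (hφ : NT u φ a b) (hb : b < 0) : ∃ θ, T u θ ∧ NT u (φ - θ) (a - 3) (b + 1) := by
  obtain ⟨θ, h1, h2⟩ := (h.aux _ hφ rfl).2.resolve_left hb.not_ge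
  exact ⟨θ, h1, hφ.subT h1 h2⟩

theorem irr (hφ : NT u φ a b) (ha : a ≠ 0) (h1 : a < 6 ∨ a - b < 8) : IsIrrCharacter G φ := by
  obtain ⟨χ, d, v, h1, e, e', h3, h4, h5, h6, h2, h7⟩ := h.split hφ ha
  rcases h.bound h7 with h8 | h8
  · rwa [sub_eq_zero.1 h8.1]
  · omega

theorem nine (hφ : NT u φ 9 1) : ⟪φ, φ⟫ = 2 := by
  obtain ⟨χ, d, v, h1, e, e', h3, h4, h5, h6, h2, h7⟩ := h.split hφ (by norm_num)
  have h8 := h.bound h7
  have h9 := h.irr h7 (by omega) (by omega)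
  have h10 := ci_ne h1 h9 e h7.d (by omega)
  have : ⟪φ, φ⟫ = ⟪χ, χ⟫ + ⟪φ - χ, φ - χ⟫ + ⟪χ, φ - χ⟫ + ⟪φ - χ, χ⟫ := by cl_ring
  rw [this, h10, classInner_eq_zero_comm.1 h10, h1.classInner_self, h9.classInner_self]; norm_num

theorem ten (hφ : NT u φ 10 (-2)) : ∃ α β δ, T u α ∧ T u β ∧ IsIrrCharacter G δ ∧ δ 1 = (4 : ℤ) ∧ φ = α + β + δ := by
  obtain ⟨α, h1, h2⟩ := h.exists_T hφ (by norm_num)
  obtain ⟨β, h3, h4⟩ := h.exists_T h2 (by norm_num)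
  exact ⟨α, β, _, h1, h3, h.irr h4 (by norm_num) (by norm_num), by simpa using h4.d, by ring⟩

theorem two (hθ : T u θ) (hτ : T u τ) (hn : θ ≠ star τ) : ⟪θ * star θ, τ * star τ⟫ = 2 := by
  have : NT u (θ * τ) 9 1 := ⟨hθ.irr.isCharacter.mul hτ.irr.isCharacter, by simp [hθ.d, hτ.d]; norm_num,
    by simp [hθ.v, hτ.v], by rw [← hθ.irr.classInner_of_ne hτ.star.irr hn]; cl_ring⟩
  rw [← h.nine this]; cl_ring

theorem sym (hθ : T u θ) : IsCharacter G (θ ^ 2 - star θ) := by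
  obtain ⟨S, A, h1, -, h2, h3⟩ := hθ.irr.isCharacter.exists_sym_alt
  convert h1 using 1
  ext g
  have := h.hy.sq3 hθ.irr.isCharacter (by simpa using hθ.d) g
  simp only [Pi.sub_apply, Pi.pow_apply]
  linear_combination (h2 g + h3 g - this) / 2

theorem data (hn : ∀ τ, T u τ → star τ ≠ τ) (hθ : T u θ) (hψ : IsIrrCharacter G ψ) (e : θ * star θ = 1 + ψ)
    {σ : G → ℂ} (e' : θ ^ 2 = σ + star θ) :
    IsIrrCharacter G σ ∧ σ 1 = (6 : ℤ) ∧ σ u = (2 : ℤ) ∧ ⟪σ * star σ, ψ⟫ = 3 ∧ ∃ α β, T u α ∧ T u β ∧ α ≠ β ∧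
      ⟪θ * σ, α⟫ ≠ 0 ∧ ⟪θ * σ, β⟫ ≠ 0 ∧ ⟪ψ ^ 2, α⟫ ≠ 0 ∧ ⟪ψ ^ 2, β⟫ ≠ 0 ∧
      ∀ τ, T u τ → ⟪ψ ^ 2, τ⟫ ≠ 0 → τ = α ∨ τ = β ∨ τ = star α ∨ τ = star β := by
  obtain rfl : σ = θ ^ 2 - star θ := by rw [e']; ring
  obtain rfl : ψ = θ * star θ - 1 := by rw [e]; ring
  set σ := θ ^ 2 - star θ with hσ
  set ψ := θ * star θ - 1 with hψ'
  have hθ' := hθ.star
  have p1 : ψ 1 = (8 : ℤ) := by simp [ψ, hθ.d]; norm_num
  have pu : ψ u = (0 : ℤ) := by simp [ψ, hθ.v]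
  have p0 : ⟪ψ, 1⟫ = 0 := (ch_adj hθ.irr).2
  have s0 : NT u σ 6 2 := ⟨h.sym hθ, by simp [σ, hθ.d]; norm_num, by simp [σ, hθ.v]; norm_num, by
    have : ⟪σ, 1⟫ = ⟪θ, star θ⟫ - ⟪star θ, 1⟫ := by rw [hσ]; cl_ring
    rw [this, hθ.irr.classInner_of_ne hθ'.irr (hn θ hθ).symm, ci_ne hθ'.irr irr1 hθ'.d (n := 1) (by simp) (by norm_num),
      sub_self]⟩
  have s1 := h.irr s0 (by norm_num) (by norm_num)
  have s2 : ∀ {τ}, T u τ → ⟪σ, τ⟫ = 0 := fun hτ => ci_ne s1 hτ.irr s0.d hτ.d (by norm_num)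
  have c1 : IsCharacter G (θ * σ) := hθ.irr.isCharacter.mul s0.ch
  have c2 : ⟪θ * σ, 1⟫ = 0 := by rw [← s2 hθ']; cl_ring
  have c3 : ⟪θ * σ, ψ⟫ ≠ 0 := by
    have : ⟪θ * σ, ψ⟫ = ⟪σ * σ, θ⟫ + ⟪σ, σ⟫ + ⟪σ, star θ⟫ - ⟪θ * σ, 1⟫ := by rw [hψ', hσ]; cl_ring
    obtain ⟨n, hn⟩ := (s0.ch.mul s0.ch).classInner_nat hθ.irr.isCharacter
    rw [this, hn, s1.classInner_self, s2 hθ', c2, add_zero, sub_zero]
    exact_mod_cast n.succ_ne_zero
  have c4 : NT u (θ * σ - ψ) 10 (-2) := by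
    simpa using NT.sub (u := u) (a := 18) (b := -2) ⟨c1, by simp [hθ.d, s0.d]; norm_num, by simp [hθ.v, s0.v], c2⟩
      hψ c3 p1 pu
  obtain ⟨α, β, δ, hα, hβ, hδ, d1, eS⟩ := h.ten c4
  set S := θ * σ - ψ with hS
  have q1 : ∀ {τ}, T u τ → ⟪ψ, τ⟫ = 0 := fun hτ => ci_ne hψ hτ.irr p1 hτ.d (by norm_num)
  have q2 : ∀ {τ}, T u τ → ⟪S, τ⟫ = ⟪α, τ⟫ + ⟪β, τ⟫ := fun hτ => by
    rw [eS, classInner_add_left, classInner_add_left, ci_ne hδ hτ.irr d1 hτ.d (by norm_num), add_zero]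
  have q3 : ⟪ψ, S⟫ = 0 := by
    rw [eS, classInner_add_right, classInner_add_right, q1 hα, q1 hβ, ci_ne hψ hδ p1 d1 (by norm_num)]; simp
  have q4 : ⟪σ * star σ, ψ⟫ = 3 + ⟪β, α⟫ + ⟪α, β⟫ := by
    have k1 : ⟪σ * star σ, ψ⟫ = ⟪S, S⟫ + ⟪ψ, S⟫ + ⟪S, ψ⟫ + ⟪ψ, ψ⟫ - ⟪σ, σ⟫ := by rw [hS, hψ']; cl_ring
    have k2 : ⟪S, S⟫ = ⟪S, α⟫ + ⟪S, β⟫ + ⟪α, δ⟫ + ⟪β, δ⟫ + ⟪δ, δ⟫ := by rw [eS]; cl_ring
    rw [k1, k2, q3, classInner_eq_zero_comm.1 q3, hψ.classInner_self, s1.classInner_self, q2 hα, q2 hβ,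
      hα.irr.classInner_self, hβ.irr.classInner_self, hδ.classInner_self, ci_ne hα.irr hδ hα.d d1 (by norm_num),
      ci_ne hβ.irr hδ hβ.d d1 (by norm_num)]
    ring
  have w1 := (s0.ch.mul (ch_star s0.ch)).sub_classInner_smul hψ
  have hαβ : α ≠ β := by
    rintro rfl
    obtain ⟨m, hm⟩ := w1.exists_nat_degree
    simp only [q4, hα.irr.classInner_self, Pi.sub_apply, Pi.mul_apply, Pi.smul_apply, Pi.star_apply, s0.d, p1] at hm
    have : (m : ℤ) = -4 := by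
      exact_mod_cast (show (m : ℂ) = ((-4 : ℤ) : ℂ) by rw [← hm]; simp; norm_num)
    omega
  rw [hα.irr.classInner_of_ne hβ.irr hαβ, hβ.irr.classInner_of_ne hα.irr hαβ.symm, add_zero, add_zero] at q4
  rw [q4] at w1
  have w2 : ⟪σ * star σ - (3 : ℂ) • ψ, 1⟫ = 1 := by
    rw [classInner_sub_left, classInner_smul_left, p0, ci_norm s1]; simp
  have w3 : NT u (σ * star σ - (3 : ℂ) • ψ - 1) 11 3 :=
    ⟨w1.sub_of_classInner_ne_zero irr1 (by simp [w2]), by simp [s0.d, p1]; norm_num, by simp [s0.v, pu]; norm_num, by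
      rw [classInner_sub_left, w2, irr1.classInner_self, sub_self]⟩
  set W := σ * star σ - (3 : ℂ) • ψ - 1 with hW
  have w4 : ∀ {τ}, T u τ → ⟪W, τ⟫ = 0 := fun {τ} hτ => by
    by_contra k
    have k1 : star W = W := by simp [hW, hψ', mul_comm]
    have k2 : ⟪W - τ, star τ⟫ ≠ 0 := by
      rw [classInner_sub_left, hτ.irr.classInner_of_ne hτ.star.irr (hn τ hτ).symm, sub_zero, ← k1]
      exact fun k3 => k (classInner_eq_zero_comm.1 ((classInner_conj_conj _ _).symm.trans k3))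
    have := h.bound ((w3.subT hτ k).subT hτ.star k2)
    omega
  have w5 : ∀ {τ}, T u τ → ⟪ψ ^ 2, τ⟫ = ⟪α, τ⟫ + ⟪β, τ⟫ + (⟪star α, τ⟫ + ⟪star β, τ⟫) := fun {τ} hτ => by
    have k1 : ψ ^ 2 = 1 + (4 : ℂ) • ψ + W + S + star S := by
      ext g; simp [hW, hS, hσ, hψ']; ring
    have k2 : ⟪star S, τ⟫ = ⟪star α, τ⟫ + ⟪star β, τ⟫ := by
      rw [eS, star_add, star_add, classInner_add_left, classInner_add_left,
        ci_ne (irr_star hδ) hτ.irr (m := 4) (by simp [d1]) hτ.d (by norm_num), add_zero]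
    rw [k1]
    simp only [classInner_add_left, classInner_smul_left, q1 hτ, w4 hτ, q2 hτ, k2,
      ci_ne irr1 hτ.irr (m := 1) (by simp) hτ.d (by norm_num)]
    ring
  have w6 : ∀ {τ}, T u τ → ⟪α, τ⟫ + ⟪β, τ⟫ = 1 → ⟪θ * σ, τ⟫ ≠ 0 ∧ ⟪ψ ^ 2, τ⟫ ≠ 0 := fun {τ} hτ k => by
    obtain ⟨n, hn⟩ := (hα.star.irr.isCharacter.add hβ.star.irr.isCharacter).classInner_nat hτ.irr.isCharacter
    rw [w5 hτ, k, ← classInner_add_left, hn, show θ * σ = S + ψ by rw [hS]; ring, classInner_add_left, q1 hτ, q2 hτ, k]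
    exact ⟨by simp, by exact_mod_cast (by omega : 1 + n ≠ 0)⟩
  have w7 := w6 hα (by rw [hα.irr.classInner_self, hβ.irr.classInner_of_ne hα.irr hαβ.symm, add_zero])
  have w8 := w6 hβ (by rw [hβ.irr.classInner_self, hα.irr.classInner_of_ne hβ.irr hαβ, zero_add])
  refine ⟨s1, s0.d, s0.v, q4, α, β, hα, hβ, hαβ, w7.1, w8.1, w7.2, w8.2, fun τ hτ k => ?_⟩
  by_contra! k1
  refine k ?_
  rw [w5 hτ, hα.irr.classInner_of_ne hτ.irr k1.1.symm, hβ.irr.classInner_of_ne hτ.irr k1.2.1.symm,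
    hα.star.irr.classInner_of_ne hτ.irr k1.2.2.1.symm, hβ.star.irr.classInner_of_ne hτ.irr k1.2.2.2.symm]
  simp

theorem three (hφ : NT u φ 18 (-2)) (h4 : ⟪φ, φ⟫ = 4) {α β γ : G → ℂ} (hα : T u α) (hβ : T u β) (hγ : T u γ)
    (h1 : α ≠ β) (h2 : α ≠ γ) (h3 : β ≠ γ) (k1 : ⟪φ, α⟫ ≠ 0) (k2 : ⟪φ, β⟫ ≠ 0) (k3 : ⟪φ, γ⟫ ≠ 0) : False := by
  have e1 := hα.irr.classInner_of_ne hβ.irr h1
  have e2 := hα.irr.classInner_of_ne hγ.irr h2
  have e3 := hβ.irr.classInner_of_ne hγ.irr h3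
  have hR : NT u (φ - α - β - γ) 9 1 := by
    simpa using ((hφ.subT hα k1).subT hβ (by rwa [classInner_sub_left, e1, sub_zero])).subT hγ
      (by rwa [classInner_sub_left, classInner_sub_left, e2, e3, sub_zero, sub_zero])
  have c := (hα.irr.isCharacter.add hβ.irr.isCharacter).add hγ.irr.isCharacter
  obtain ⟨n, hn⟩ := hR.ch.classInner_nat c
  have : ⟪φ, φ⟫ = ⟪φ - α - β - γ, φ - α - β - γ⟫ + ⟪φ - α - β - γ, α + β + γ⟫ + ⟪α + β + γ, φ - α - β - γ⟫ +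
    ⟪α, α⟫ + ⟪β, β⟫ + ⟪γ, γ⟫ + ⟪α, β⟫ + ⟪α, γ⟫ + ⟪β, γ⟫ + ⟪β, α⟫ + ⟪γ, α⟫ + ⟪γ, β⟫ := by cl_ring
  rw [h4, h.nine hR, c.classInner_comm hR.ch, hn, e1, e2, e3, classInner_eq_zero_comm.1 e1,
    classInner_eq_zero_comm.1 e2, classInner_eq_zero_comm.1 e3, hα.irr.classInner_self, hβ.irr.classInner_self,
    hγ.irr.classInner_self] at this
  have : 2 * n + 1 = 0 := by exact_mod_cast (show 2 * (n : ℂ) + 1 = 0 by linear_combination -this)
  omega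

end Core

theorem Hy.exists_w (h : Hy u) (hu : u ≠ 1) : ∃ w : IrrCharacter G → ℤ, (∀ χ, χ.1 1 * χ.1 u = w χ) ∧ ∑ χ, w χ = 0 ∧
    (∀ χ, T u χ.1 → w χ = -3) ∧ ∀ χ, ¬ T u χ.1 → 0 ≤ w χ := by
  have : ∀ χ : IrrCharacter G, ∃ w : ℤ, χ.1 1 * χ.1 u = w ∧ (T u χ.1 → w = -3) ∧ (¬ T u χ.1 → 0 ≤ w) := fun χ => by
    by_cases hT : T u χ.1
    · exact ⟨-3, by simp [hT.d, hT.v], fun _ => rfl, fun k => (k hT).elim⟩
    by_cases h1 : χ.1 = 1
    · exact ⟨1, by simp [h1], fun k => (hT k).elim, fun _ => one_pos.le⟩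
    obtain ⟨d, v, e, e', h2, h3⟩ := h.exists_dv χ.2 h1
    refine ⟨d * v, by simp [e, e'], fun k => (hT k).elim, fun _ => mul_nonneg (by omega) ?_⟩
    by_contra h4
    obtain ⟨rfl, rfl⟩ : d = 3 ∧ v = -1 := by omega
    exact hT ⟨χ.2, e, e'⟩
  choose w h1 h2 h3 using this
  refine ⟨w, h1, ?_, h2, h3⟩
  have := sum_degree_mul_apply u
  simp only [h1, regChar_of_ne hu] at this
  exact_mod_cast this

theorem Core.real (h : Core u) (hu : u ≠ 1) (hθ : T u θ) : star θ = θ := by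
  classical
  by_contra hn
  obtain ⟨hc, h0⟩ := ch_adj hθ.irr
  set ψ := θ * star θ - 1 with hψ'
  have n1 : ∀ {τ}, T u τ → θ ≠ star τ → ⟪τ * star τ - 1, ψ⟫ = 1 := fun {τ} hτ k => by
    have : ⟪τ * star τ - 1, ψ⟫ = ⟪θ * star θ, τ * star τ⟫ - ⟪θ * star θ, 1⟫ - ⟪τ * star τ - 1, 1⟫ := by
      rw [hψ']; cl_ring
    rw [this, h.two hθ hτ k, ci_norm hθ.irr, (ch_adj hτ.irr).2]; norm_num
  have hψ := hc.isIrrCharacter_of_norm_one (n1 hθ (Ne.symm hn))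
  have p1 : ψ 1 = (8 : ℤ) := by simp [ψ, hθ.d]; norm_num
  have n2 : ∀ {τ}, T u τ → τ * star τ = 1 + ψ := fun {τ} hτ => by
    by_cases k : θ = star τ
    · rw [hψ', k, star_star]; ring
    · have := ((ch_adj hτ.irr).1.sub_of_classInner_ne_zero hψ (by simp [n1 hτ k])).eq_zero_of_apply_one (by
        simp [hτ.d, p1]; norm_num)
      linear_combination this
  have n3 : ∀ τ, T u τ → star τ ≠ τ := fun τ hτ k => by
    obtain ⟨n, hn⟩ := (h.sym hτ).classInner_nat hτ.irr.isCharacter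
    have : ⟪ψ, τ⟫ = ⟪τ ^ 2 - star τ, τ⟫ + ⟪τ, τ⟫ - ⟪1, τ⟫ := by
      rw [show ψ = τ * star τ - 1 by rw [n2 hτ]; ring]
      simp only [ci, ← map_add, ← map_sub, k]; congr 1; ring
    rw [hn, hτ.irr.classInner_self, ci_ne irr1 hτ.irr (m := 1) (by simp) hτ.d (by norm_num),
      ci_ne hψ hτ.irr p1 hτ.d (by norm_num), sub_zero] at this
    exact n.succ_ne_zero (by exact_mod_cast this.symm)
  have D := fun τ (hτ : T u τ) => h.data n3 hτ hψ (n2 hτ) (σ := τ ^ 2 - star τ) (by ring)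
  obtain ⟨-, -, -, -, α, β, -, -, -, -, -, -, -, hT0⟩ := D θ hθ
  obtain ⟨w, w1, w2, w3, w4⟩ := h.hy.exists_w hu
  set TT := Finset.univ.filter fun χ : IrrCharacter G => T u χ.1 with hTT
  set A := Finset.univ.filter fun χ : IrrCharacter G => χ.1 1 = (6 : ℤ) ∧ χ.1 u = (2 : ℤ) with hA
  have mT : ∀ {χ}, χ ∈ TT ↔ T u χ.1 := by simp [hTT]
  have c1 : TT.card ≤ 4 * A.card := by
    refine Finset.card_le_mul_card_image_of_maps_to
      (f := fun τ => if k : T u τ.1 then ⟨_, (D _ k).1⟩ else principalIrr G) (fun τ hτ => ?_) 4 fun σ _ => ?_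
    · rw [dif_pos (mT.1 hτ)]
      exact Finset.mem_filter.2 ⟨Finset.mem_univ _, (D _ (mT.1 hτ)).2.1, (D _ (mT.1 hτ)).2.2.1⟩
    set F := TT.filter fun τ => (if k : T u τ.1 then ⟨_, (D _ k).1⟩ else principalIrr G) = σ with hF
    have mF : ∀ τ ∈ F, T u τ.1 ∧ τ.1 ^ 2 - star τ.1 = σ.1 := fun τ hτ => by
      obtain ⟨k1, k2⟩ := Finset.mem_filter.1 hτ
      rw [dif_pos (mT.1 k1)] at k2
      exact ⟨mT.1 k1, congrArg Subtype.val k2⟩
    set T0 := ({α, β, star α, star β} : Finset (G → ℂ)).filter (T u) with hT0'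
    have := Finset.card_mul_le_card_mul (s := F) (t := T0) (m := 2) (n := 2) (fun τ γ => ⟪τ.1 * σ.1, γ⟫ ≠ 0)
      (fun τ hτ => ?_) fun γ hγ => ?_
    · have : T0.card ≤ 4 := (Finset.card_filter_le _ _).trans Finset.card_le_four
      omega
    · obtain ⟨k1, k2⟩ := mF τ hτ
      obtain ⟨-, -, -, -, γ, δ, a1, a2, a3, a4, a5, a6, a7, -⟩ := D _ k1
      rw [k2] at a4 a5
      refine Finset.one_lt_card.2 ⟨γ, ?_, δ, ?_, a3⟩
      · simp only [Finset.mem_bipartiteAbove, hT0', Finset.mem_filter, Finset.mem_insert, Finset.mem_singleton]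
        exact ⟨⟨hT0 γ a1 a6, a1⟩, a4⟩
      · simp only [Finset.mem_bipartiteAbove, hT0', Finset.mem_filter, Finset.mem_insert, Finset.mem_singleton]
        exact ⟨⟨hT0 δ a2 a7, a2⟩, a5⟩
    · have hγ' := (Finset.mem_filter.1 hγ).2
      by_contra k
      obtain ⟨x, y, z, hx, hy, hz, xy, xz, yz⟩ := Finset.two_lt_card_iff.1 (not_le.1 k)
      simp only [Finset.mem_bipartiteBelow] at hx hy hz
      obtain ⟨x1, x2⟩ := mF x hx.1
      obtain ⟨s1, s2, s3, s4, -⟩ := D _ x1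
      rw [x2] at s1 s2 s3 s4
      have e : ∀ τ : G → ℂ, ⟪star γ * σ.1, star τ⟫ = ⟪τ * σ.1, γ⟫ := fun τ => by cl_ring
      have i : ∀ {x y : IrrCharacter G}, x ≠ y → star x.1 ≠ star y.1 := fun k k' => k (Subtype.ext (star_injective k'))
      refine h.three (φ := star γ * σ.1) ⟨hγ'.star.irr.isCharacter.mul s1.isCharacter, by simp [hγ'.d, s2]; norm_num,
        by simp [hγ'.v, s3], by rw [← ci_ne s1 hγ'.irr s2 hγ'.d (by norm_num)]; cl_ring⟩ ?_ x1.star (mF y hy.1).1.star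
        (mF z hz.1).1.star (i xy) (i xz) (i yz) (e _ ▸ hx.2) (e _ ▸ hy.2) (e _ ▸ hz.2)
      have : ⟪star γ * σ.1, star γ * σ.1⟫ = ⟪σ.1 * star σ.1, ψ⟫ + ⟪σ.1, σ.1⟫ := by
        rw [show ψ = γ * star γ - 1 by rw [n2 hγ']; ring]; cl_ring
      rw [this, s4, s1.classInner_self]; norm_num
  have c2 : ∑ χ, ((if χ ∈ TT then -3 else 0) + (if χ ∈ A then 12 else 0) + if χ = principalIrr G then 1 else 0) ≤
      ∑ χ, w χ := Finset.sum_le_sum fun χ _ => by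
    by_cases k1 : χ ∈ TT
    · have k := mT.1 k1
      rw [if_pos k1, if_neg fun k2 => by have := (Finset.mem_filter.1 k2).2.2.symm.trans k.v; norm_cast at this, w3 χ k,
        if_neg fun k2 => by have := k.d; rw [k2] at this; norm_num [principalIrr] at this]
      simp
    by_cases k2 : χ ∈ A
    · obtain ⟨-, k3, k4⟩ := Finset.mem_filter.1 k2
      have := w1 χ
      rw [k3, k4] at this
      rw [if_neg k1, if_pos k2, if_neg fun k2 => by rw [k2] at k3; norm_num [principalIrr] at k3,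
        show w χ = 12 by exact_mod_cast (show (w χ : ℂ) = ((12 : ℤ) : ℂ) by rw [← this]; norm_num)]
      simp
    rw [if_neg k1, if_neg k2]
    split_ifs with k3
    · have := w1 χ
      rw [k3] at this
      rw [k3, show w (principalIrr G) = 1 by exact_mod_cast (show (w _ : ℂ) = 1 by rw [← this]; simp [principalIrr])]
      simp
    · simpa using w4 χ (mt mT.2 k1)
  simp only [Finset.sum_add_distrib, w2, Finset.sum_ite_mem, Finset.univ_inter, Finset.sum_const, Finset.sum_ite_eq',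
    Finset.mem_univ, if_true, nsmul_eq_mul] at c2
  omega

theorem Hy.exists_T (h : Hy u) (hu : u ≠ 1) : ∃ θ, T u θ := by
  obtain ⟨w, w1, w2, w3, w4⟩ := h.exists_w hu
  by_contra! k
  have := (Finset.sum_eq_zero_iff_of_nonneg fun χ _ => w4 χ (k _)).1 w2 (principalIrr G) (Finset.mem_univ _)
  have h2 := w1 (principalIrr G)
  rw [this] at h2
  simp [principalIrr] at h2

theorem Core.exists_five (h : Core u) (hu : u ≠ 1) : ∃ α β ω : G → ℂ, T u α ∧ T u β ∧ α ≠ β ∧ IsIrrCharacter G ω ∧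
    ω 1 = (5 : ℤ) ∧ ω u = (1 : ℤ) ∧ ∀ θ, T u θ → θ = α ∨ θ = β := by
  have n1 : ∀ {τ}, T u τ → NT u (τ ^ 2 - τ - 1) 5 1 := fun {τ} hτ => by
    have k := h.sym hτ
    have k1 := ci_norm hτ.irr
    rw [h.real hu hτ] at k k1
    have k2 : ⟪τ ^ 2 - τ, 1⟫ = 1 := by
      rw [classInner_sub_left, pow_two, k1, ci_ne hτ.irr irr1 hτ.d (n := 1) (by simp) (by norm_num), sub_zero]
    exact ⟨k.sub_of_classInner_ne_zero irr1 (by simp [k2]), by simp [hτ.d]; norm_num, by simp [hτ.v],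
      by rw [classInner_sub_left, k2, irr1.classInner_self, sub_self]⟩
  have n2 := fun {τ} (hτ : T u τ) => h.irr (n1 hτ) (by norm_num) (by norm_num)
  obtain ⟨θ, hθ⟩ := h.hy.exists_T hu
  set ω := θ ^ 2 - θ - 1 with hω
  have n3 : ∀ {τ}, T u τ → τ ^ 2 - τ - 1 = ω := fun {τ} hτ => by
    by_cases k : θ = τ
    · rw [hω, k]
    refine (n2 hτ).eq_of_classInner_ne_zero (n2 hθ) fun k1 => ?_
    rw [hω] at k1
    have k2 := h.two hτ hθ (by rw [h.real hu hθ]; exact Ne.symm k)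
    rw [h.real hu hθ, h.real hu hτ, show τ * τ = 1 + τ + (τ ^ 2 - τ - 1) by ring,
      show θ * θ = 1 + θ + (θ ^ 2 - θ - 1) by ring] at k2
    simp only [classInner_add_left, classInner_add_right, k1, irr1.classInner_self, (n1 hτ).o,
      classInner_eq_zero_comm.1 (n1 hθ).o, ci_ne irr1 hθ.irr (m := 1) (by simp) hθ.d (by norm_num),
      ci_ne hτ.irr irr1 hτ.d (n := 1) (by simp) (by norm_num), hτ.irr.classInner_of_ne hθ.irr (Ne.symm k),
      ci_ne hτ.irr (n2 hθ) hτ.d (n1 hθ).d (by norm_num), ci_ne (n2 hτ) hθ.irr (n1 hτ).d hθ.d (by norm_num)] at k2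
    norm_num at k2
  obtain ⟨S, Λ, -, l1, l2, l3⟩ := (n1 hθ).ch.exists_sym_alt
  have n4 : ∀ {τ}, T u τ → Λ = τ * ω - ω := fun {τ} hτ => by
    ext g
    have k := h.hy.sq3 hτ.irr.isCharacter (by simpa using hτ.d) g
    have k1 := l2 g
    have k2 := l3 g
    rw [h.real hu hτ] at k
    rw [← hω, ← n3 hτ] at k1 k2
    rw [← n3 hτ]
    simp only [Pi.sub_apply, Pi.pow_apply, Pi.mul_apply, Pi.one_apply, k] at k1 k2 ⊢
    linear_combination (k2 - k1) / 2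
  have o1 := n1 hθ
  have o2 := n2 hθ
  rw [← hω] at o1 o2
  have n5 : ∀ {τ}, T u τ → ⟪ω, τ⟫ = 0 := fun hτ => ci_ne o2 hτ.irr o1.d hτ.d (by norm_num)
  have n6 : NT u Λ 10 (-2) := ⟨l1, by simp [n4 hθ, hθ.d, o1.d]; norm_num, by simp [n4 hθ, hθ.v, o1.v]; norm_num, by
    have : ⟪θ * ω - ω, 1⟫ = ⟪ω, star θ⟫ - ⟪ω, 1⟫ := by cl_ring
    rw [n4 hθ, this, n5 hθ.star, o1.o, sub_self]⟩
  obtain ⟨α, β, δ, hα, hβ, hδ, d1, eS⟩ := h.ten n6
  have n7 : ∀ {τ}, T u τ → ⟪α, τ⟫ + ⟪β, τ⟫ = 1 := fun {τ} hτ => by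
    have k1 : ⟪Λ, τ⟫ = ⟪α, τ⟫ + ⟪β, τ⟫ := by
      rw [eS, classInner_add_left, classInner_add_left, ci_ne hδ hτ.irr d1 hτ.d (by norm_num), add_zero]
    have k2 : ⟪τ * ω - ω, τ⟫ = ⟪ω, star τ ^ 2 - star τ - 1⟫ + ⟪ω, star τ⟫ + ⟪ω, 1⟫ - ⟪ω, τ⟫ := by
      have := h.real hu hτ
      simp only [ci, ← map_add, ← map_sub, star_sub, star_pow, star_star, star_one, this]; congr 1; ring
    rw [← k1, n4 hτ, k2, n3 hτ.star, n5 hτ.star, n5 hτ, o1.o, o2.classInner_self]; simp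
  refine ⟨α, β, ω, hα, hβ, ?_, o2, o1.d, o1.v, fun τ hτ => ?_⟩
  · rintro rfl
    have := n7 hα
    rw [hα.irr.classInner_self] at this; norm_num at this
  · by_contra! k
    have := n7 hτ
    rw [hα.irr.classInner_of_ne hτ.irr k.1.symm, hβ.irr.classInner_of_ne hτ.irr k.2.symm] at this
    norm_num at this

/-- the only irreducible characters not vanishing at `u` have degrees `1, 3, 3, 5` -/
theorem Hy.sum_eq (h : Hy u) (hu : u ≠ 1) {α β ω : G → ℂ} (hα : T u α) (hβ : T u β) (hn : α ≠ β)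
    (hω : IsIrrCharacter G ω) (d : ω 1 = (5 : ℤ)) (v : ω u = (1 : ℤ)) (hT : ∀ θ, T u θ → θ = α ∨ θ = β)
    (F : (G → ℂ) → ℂ) : ∑ χ : IrrCharacter G, F χ.1 * conj (χ.1 u) = F 1 - F α - F β + F ω := by
  classical
  obtain ⟨w, w1, w2, w3, w4⟩ := h.exists_w hu
  let s : Finset (IrrCharacter G) := {⟨1, irr1⟩, ⟨α, hα.irr⟩, ⟨β, hβ.irr⟩, ⟨ω, hω⟩}
  have ne : ∀ {x y : G → ℂ} {m n : ℤ}, x 1 = m → y 1 = n → m ≠ n → x ≠ y := fun e e' k k' =>
    k (by rw [k', e'] at e; exact_mod_cast e.symm)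
  have o : (1 : G → ℂ) 1 = (1 : ℤ) := by simp
  have hs : ∀ f : IrrCharacter G → ℂ, ∑ χ ∈ s, f χ = f ⟨1, irr1⟩ + f ⟨α, hα.irr⟩ + f ⟨β, hβ.irr⟩ + f ⟨ω, hω⟩ := fun f => by
    rw [Finset.sum_insert (by simp [ne o hα.d, ne o hβ.d, ne o d]), Finset.sum_insert (by simp [hn, ne hα.d d]),
      Finset.sum_pair (by simp [ne hβ.d d])]
    ring
  have h1 : ∑ χ ∈ s, w χ = 0 := by
    have := hs fun χ => w χ
    simp only [← w1, hα.d, hα.v, hβ.d, hβ.v, d, v] at this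
    simp only [w1] at this
    exact_mod_cast (show ((∑ χ ∈ s, w χ : ℤ) : ℂ) = 0 by push_cast; rw [this]; norm_num)
  rw [← Finset.sum_add_sum_compl s, h1, zero_add] at w2
  have h2 := (Finset.sum_eq_zero_iff_of_nonneg fun χ hχ => w4 χ fun k => Finset.mem_compl.1 hχ (by
    rcases hT _ k with k | k <;> simp [s, Subtype.ext_iff, k])).1 w2
  rw [← Finset.sum_add_sum_compl s, hs, Finset.sum_eq_zero fun χ hχ => by
    rw [(mul_eq_zero.1 ((w1 χ).trans (by simp [h2 χ hχ]))).resolve_left χ.2.apply_one_ne_zero, map_zero, mul_zero]]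
  simp [hα.v, hβ.v, v]
  ring

end Cfsg.Lib.Small.F4
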