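import Cfsg.Agent.Lib.Small.Glue1

/-!
# Gluing local characters for blocks with abelian defect group and Frobenius inertial quotient
-/

set_option autoImplicit false
set_option linter.unusedSectionVars false

namespace Cfsg.Lib.Small

open Cfsg.Lib.Block Cfsg.Lib.Block2 Cfsg.Lib.Char Cfsg.Lib.Amalg MonoidAlgebra Subgroup
open scoped ComplexConjugate

variable {G : Type*} [Group G] [Finite G] {p : ℕ} [hp : Fact p.Prime] {M : Ideal AlgInt} [M.IsMaximal]

theorem sle_sup_cent {H Q R P : Subgroup G} {φ ψ ε : MonoidAlgebra (resField M) G} (h0 : BP p H Q φ)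
    (h : SLE p (H ⊓ 𝐂 Q) R ψ P ε) : SLE p H (Q ⊔ R) ψ (Q ⊔ P) ε := by
  induction h with
  | refl h => exact .refl (h0.sup_of_cent h)
  | @head R ψ R' ψ' P ε h _ ih =>
    have h1 : Supp (𝐂 Q) ψ := h.bp.supp'.mono inf_le_right
    exact .head ⟨h0.sup_of_cent h.bp, h0.sup_of_cent h.bp', sup_le_sup_left h.le _,
      sup_le (le_sup_left.trans le_normalizer) ((le_inf (h.bp'.le.trans (inf_le_right.trans
        (centralizer_le_normalizer _))) h.norm).trans norm_inf_norm_le_norm_sup),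
      h1.isFixed_centralizer.sup h.fixed, by rw [sup_comm, h1.brauer_inf, h.eq]⟩ ih

open scoped Classical in
variable (p) in
/-- the block of `C(W)` in the pair below the given one -/
noncomputable def sW (P : Subgroup G) (ε : MonoidAlgebra (resField M) G) (W : Subgroup G) :
    MonoidAlgebra (resField M) G := if h : ∃ φ, SLE p ⊤ W φ P ε then h.choose else 0

variable (p) in
/-- the part of a class function in the block of `C(W)` -/
noncomputable def bW (P : Subgroup G) (ε : MonoidAlgebra (resField M) G) (W : Subgroup G) (χ : G → ℂ) :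
    G → ℂ := bp (𝐂 W) (sW p P ε W) χ

open scoped Classical in
variable (p) in
/-- contributions inside `C(W)` -/
noncomputable def cA [Fintype G] (P : Subgroup G) (ε : MonoidAlgebra (resField M) G) (W : Subgroup G) (v : G)
    (χ ψ : G → ℂ) : ℂ :=
  (Nat.card (𝐂 W) : ℂ)⁻¹ * ∑ g with pp p g = v ∧ g ∈ 𝐂 W, bW p P ε W χ g * conj (ψ g)

variable {β ε φ : MonoidAlgebra (resField M) G} {P Q W : Subgroup G} {χ ψ : G → ℂ}

theorem sle_sW (hM : IsPModular p M) (h : BP p ⊤ P ε) (hW : W ≤ P) : SLE p ⊤ W (sW p P ε W) P ε := by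
  have h1 := h.exists_sle hM hW
  rw [sW, dif_pos h1]; exact h1.choose_spec

theorem bW_zpowers (u : G) : bW p P ε (zpowers u) χ = bp (centralizer {u}) (sp p P ε u) χ := by
  rw [bW, centralizer_zpowers_eq]; rfl

theorem cA_zpowers [Fintype G] (u : G) : cA p P ε (zpowers u) u χ ψ = con p u (sp p P ε u) χ ψ := by
  classical
  rw [cA, con, bW_zpowers, centralizer_zpowers_eq]
  exact congrArg _ (Finset.sum_congr (Finset.filter_congr fun g _ =>
    and_iff_left_of_imp fun h => h ▸ mem_centralizer_pp g) fun _ _ => rfl)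

theorem bW_mul {t : G} {c : ℂ} (h : ∀ g, χ (g * t) = c * χ g) (v : G) :
    bW p P ε W χ (v * t) = c * bW p P ε W χ v := by
  haveI := Fintype.ofFinite G
  simp only [bW, bp, charExt_mul_single, ← mul_assoc _ v, h, Finset.mul_sum, mul_left_comm c]

namespace LP

variable (hM : IsPModular p M) (h : LP p β P ε Q φ)
include h

theorem cent_map (u : P) : (centralizer {(h.j u : 𝐂 Q)}).map (𝐂 Q).subtype = 𝐂 (Q ⊔ zpowers (u : G)) := by
  ext g
  rw [centralizer_sup', centralizer_zpowers_eq, mem_inf, mem_map]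
  simp only [mem_centralizer_singleton_iff]
  exact ⟨fun ⟨k, h1, h2⟩ => h2 ▸ ⟨k.2, congrArg Subtype.val h1⟩, fun ⟨h1, h2⟩ => ⟨⟨g, h1⟩, Subtype.ext h2, rfl⟩⟩

include hM

theorem pp_j (u : P) : pp p (h.j u : 𝐂 Q) = h.j u := by
  simpa using pp_mul (Commute.one_right _) (pow_of_mem_pgroup
    (h.hm.bp.isPGroup.of_equiv h.j) (h.j u).2) (by simpa using hp.out.one_lt.ne')

variable {θ : (P →* ℂˣ) → IrrCharacter (𝐂 Q)}
  (hθ : NA p (bset (𝐂 Q) φ) (P.subgroupOf (𝐂 Q)) (res (𝐂 Q) ε) h.j θ) [Fintype (P →* ℂˣ)]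
include hθ

theorem sW_eq (u : P) : sW p P ε (Q ⊔ zpowers (u : G)) =
    push (𝐂 Q).subtype (sp p (P.subgroupOf (𝐂 Q)) (res (𝐂 Q) ε) (h.j u)) := by
  have h1 := (hθ.sle hM u).push (subtype_injective _)
  rw [← MonoidHom.range_eq_map, range_subtype, subgroupOf_map_subtype, inf_eq_left.2 h.PC,
    push_subtype _ (res _ _), h.incl_ε, MonoidHom.map_zpowers] at h1
  have h2 := sle_sup_cent h.sle.bp (h1.of_ge (inf_le_left.trans inf_le_right) (le_inf le_top le_rfl))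
  rw [sup_eq_right.2 h.sle.le] at h2
  exact (sle_sW hM h.hm.bp h2.le).unique hM h2

theorem bW_eq (u : P) (χ : G → ℂ) (k : 𝐂 Q) : bW p P ε (Q ⊔ zpowers (u : G)) χ k =
    bp (centralizer {(h.j u : 𝐂 Q)}) (sp p (P.subgroupOf (𝐂 Q)) (res (𝐂 Q) ε) (h.j u))
      (fun c : 𝐂 Q => χ c) k := by
  rw [bW, h.sW_eq hM hθ, ← h.cent_map]
  exact bp_push (subtype_injective _) (hθ.sle hM u).blk_cent χ k

variable [Fintype G] [Fintype (𝐂 Q)]

theorem cA_eq (u : P) (χ ψ : G → ℂ) : cA p P ε (Q ⊔ zpowers (u : G)) u χ ψ =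
    con p (h.j u : 𝐂 Q) (sp p (P.subgroupOf (𝐂 Q)) (res (𝐂 Q) ε) (h.j u)) (fun c => χ c) fun c => ψ c := by
  classical
  rw [cA, con, ← card_map_of_injective (subtype_injective (𝐂 Q)), h.cent_map]
  refine congrArg _ (Finset.sum_bij (fun (k : 𝐂 Q) _ => (k : G)) (fun k hk => ?_) (fun _ _ _ _ e => Subtype.ext e)
    (fun g hg => ?_) fun k _ => by rw [h.bW_eq hM hθ]).symm
  · simp only [Finset.mem_filter, Finset.mem_univ, true_and] at hk ⊢
    exact ⟨(pp_map (f := (𝐂 Q).subtype) k).trans (congrArg Subtype.val hk),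
      h.cent_map u ▸ mem_map_of_mem _ (hk ▸ mem_centralizer_pp k)⟩
  · simp only [Finset.mem_filter, Finset.mem_univ, true_and] at hg ⊢
    have h1 : g ∈ 𝐂 Q := centralizer_le (SetLike.coe_mono le_sup_left) hg.2
    exact ⟨⟨g, h1⟩, Subtype.ext ((pp_map (f := (𝐂 Q).subtype) ⟨g, h1⟩).symm.trans hg.1), rfl⟩

theorem cA_any (hχ : IsClassFunction (𝐂 Q) fun c => χ c) (hψ : IsClassFunction (𝐂 Q) fun c => ψ c) (u : P) :
    Nat.card P * cA p P ε (Q ⊔ zpowers (u : G)) u χ ψ =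
      (∑ l, classInner (fun c : 𝐂 Q => χ c) (θ l).1 * l u) *
        conj (∑ l, classInner (fun c : 𝐂 Q => ψ c) (θ l).1 * l u) := by
  rw [h.cA_eq hM hθ, hθ.con_any hM hχ hψ]

theorem bW_any (hχ : IsClassFunction (𝐂 Q) fun c => χ c) (u : P) :
    bW p P ε (Q ⊔ zpowers (u : G)) χ u = (∑ l, classInner (fun c : 𝐂 Q => χ c) (θ l).1 * l u) *
      bW p P ε (Q ⊔ zpowers (u : G)) (extendByZero (𝐂 Q) (θ 1).1) u := by
  refine (h.bW_eq hM hθ u χ (h.j u)).trans ((hθ.bp_any hM hχ (h.pp_j hM u)).trans (congrArg _ ?_))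
  refine Eq.trans ?_ (h.bW_eq hM hθ u _ (h.j u)).symm
  simp only [extendByZero_coe]

end LP

variable (p) in
/-- the normalised local values -/
noncomputable def FW (P : Subgroup G) (ε : MonoidAlgebra (resField M) G) (r : Subgroup G → ℝ) (χ : G → ℂ) (T : Subgroup G) (v : P) : ℂ :=
  r (T ⊔ zpowers (v : G)) * bW p P ε (T ⊔ zpowers (v : G)) χ v

variable (p) in
/-- the inductive property of the normalisation -/
def PrW [Fintype G] (P : Subgroup G) (ε : MonoidAlgebra (resField M) G) (r : Subgroup G → ℝ)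
    (T : Subgroup G) : Prop := T ≠ ⊥ → T ≤ P →
  (∀ v ∈ T, ∀ χ ψ : G → ℂ, (IsClassFunction (𝐂 T) fun c => χ c) → (IsClassFunction (𝐂 T) fun c => ψ c) →
    Nat.card P * cA p P ε T v χ ψ = r T * bW p P ε T χ v * conj (r T * bW p P ε T ψ v)) ∧
  ∀ χ : G → ℂ, (IsGeneralizedCharacter (𝐂 T) fun c => χ c) → IsGeneralizedCharacter P (FW p P ε r χ T)

theorem FW_sup (r : Subgroup G → ℝ) (χ : G → ℂ) (T : Subgroup G) (v : P) :
    FW p P ε r χ (T ⊔ zpowers (v : G)) v = FW p P ε r χ T v := by rw [FW, FW, sup_assoc, sup_idem]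

theorem exists_glue [Fintype G] [Fintype P] (hP : P ≤ 𝐂 P) {r : Subgroup G → ℝ} {T : Subgroup G} (hT : T ≤ P)
    (ih : ∀ W, T < W → PrW p P ε r W) (hχ : IsGeneralizedCharacter (𝐂 T) fun c => χ c) (μ : T → ℂ)
    (hμ : ∀ (t : T) g, χ (g * t) = μ t * χ g) : ∃ Θ, IsGeneralizedCharacter P Θ ∧
      (∀ (t : T) v, Θ (inclusion hT t * v) = μ t * Θ v) ∧ ∀ v : P, (v : G) ∉ T → Θ v = FW p P ε r χ T v := by
  obtain ⟨Θ, h1, h2⟩ := glue (fun v : P => zpowers (v : G)) hT (fun v => zpowers_le.2 v.2) (FW p P ε r χ)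
    (FW_sup r χ) ⟨⟨⟨{Θ | IsGeneralizedCharacter P Θ ∧ ∀ (t : T) v, Θ (inclusion hT t * v) = μ t * Θ v},
      fun a b => ⟨a.1.add b.1, fun t v => by rw [Pi.add_apply, a.2, b.2, Pi.add_apply, mul_add]⟩⟩,
      isGeneralizedCharacter_zero, by simp⟩, fun a => ⟨a.1.neg, fun t v => by simp [a.2]⟩⟩
    fun W h1 h2 => ⟨(ih W h1 h1.ne_bot h2).2 χ
      (hχ.comp (inclusion (centralizer_le (SetLike.coe_mono h1.le)))), fun t v => by
      have e : W ⊔ zpowers ((t : G) * v) = W ⊔ zpowers (v : G) := le_antisymm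
        (sup_le le_sup_left (zpowers_le.2 (mul_mem_sup (h1.le t.2) (mem_zpowers _))))
        (sup_le le_sup_left (zpowers_le.2 (by
          simpa using mul_mem_sup (inv_mem (h1.le t.2)) (mem_zpowers ((t : G) * v)))))
      rw [FW, FW, coe_mul, coe_inclusion, e, hP v.2 t (hT t.2), bW_mul (hμ t), mul_left_comm]⟩
  exact ⟨Θ, h1.1, h1.2, fun v hv => h2 v (mt zpowers_le.1 hv)⟩

theorem exists_PrW [Fintype G] [Fintype P] (hM : IsPModular p M) (hm : MaxP p ⊤ β P ε) (hP : P ≤ 𝐂 P)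
    (hE : Free (inE P ε)) : ∃ r, ∀ T, PrW p P ε r T := by
  classical
  refine exists_rec _ (fun r r' T e h h1 h2 => ?_) fun r T ih => ?_
  · rw [← e T le_rfl]
    refine ⟨(h h1 h2).1, fun χ hχ => ?_⟩
    convert (h h1 h2).2 χ hχ using 1
    exact funext fun v => by rw [FW, FW, e _ le_sup_left]
  by_cases hT : T ≠ ⊥ ∧ T ≤ P
  swap
  · exact ⟨0, fun h1 h2 => (hT ⟨h1, h2⟩).elim⟩
  haveI := Fintype.ofFinite (P →* ℂˣ)
  haveI := Fintype.ofFinite (𝐂 T)
  have h : LP p β P ε T (sW p P ε T) := by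
    obtain ⟨⟨u, hu⟩, hu1⟩ := ne_bot_iff_exists_ne_one.1 hT.1
    exact ⟨hm, hP, sle_sW hM hm.bp hT.2, fun t ht h => (LP.of_free hM hm hP hE (u := ⟨u, hT.2 hu⟩)
      (by simpa using hu1)).le t ht (centralizer_le (SetLike.coe_mono (zpowers_le.2 hu)) h)⟩
  obtain ⟨θ₀, h₀⟩ := h.blk.nonempty
  obtain ⟨θ, hθ, -⟩ := h.exists_NA hM h₀
  have hTC : T ≤ 𝐂 T := hT.2.trans h.PC
  obtain ⟨μ, hμ⟩ := (θ 1).2.exists_linear_of_le_center (Z := T.subgroupOf (𝐂 T)) fun z hz =>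
    mem_center_iff.2 fun g => Subtype.ext (g.2 _ hz).symm
  obtain ⟨ξ, hξ⟩ : ∃ ξ, ξ = extendByZero (𝐂 T) (θ 1).1 := ⟨_, rfl⟩
  have h1 : (fun c : 𝐂 T => ξ c) = (θ 1).1 := funext fun c => by rw [hξ, extendByZero_coe]
  have hc : IsClassFunction (𝐂 T) fun c => ξ c := h1 ▸ (θ 1).2.isClassFunction
  let ν : T →* ℂˣ := μ.comp (subgroupOfEquivOfLe hTC).symm.toMonoidHom
  have hν : ∀ (t : T) g, ξ (g * t) = ν t * ξ g := fun t g => by
    by_cases hg : g ∈ 𝐂 T
    · rw [← hg t t.2]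
      exact (congrFun h1 (⟨t, hTC t.2⟩ * ⟨g, hg⟩)).trans ((hμ ⟨_, t.2⟩ _).trans
        (congrArg _ (congrFun h1 ⟨g, hg⟩).symm))
    · rw [hξ, extendByZero_of_notMem _ hg, extendByZero_of_notMem _
        (mt (mul_mem_cancel_right (hTC t.2)).1 hg), mul_zero]
  have h2 : ∀ v : P, ∑ l, classInner (fun c : 𝐂 T => ξ c) (θ l).1 * l v = 1 := fun v => by
    simp [h1, classInner_irr, hθ.inj.eq_iff]
  obtain ⟨Θ, h3, h4, h5⟩ := exists_glue hP hT.2 ih (h1 ▸ (θ 1).2.isGeneralizedCharacter) (fun t => ν t) hν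
  obtain ⟨s, h6, l, h7, h8⟩ := exists_sign_lin' h.comm h3 (T.subgroupOf P)
    (ν.comp (subgroupOfEquivOfLe hT.2).toMonoidHom) (fun t v => h4 ⟨_, t.2⟩ v) fun v hv => by
      have h6 : T < T ⊔ zpowers (v : G) := left_lt_sup.2 (mt zpowers_le.1 hv)
      have h7 := hc.comp (inclusion (centralizer_le (SetLike.coe_mono h6.le)))
      rw [h5 v hv, FW, ← (ih _ h6 h6.ne_bot (sup_le hT.2 (zpowers_le.2 v.2))).1 v
        (mem_sup_right (mem_zpowers _)) ξ ξ h7 h7, h.cA_any hM hθ hc hc, h2, map_one, mul_one]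
  have hd : (charDegree (θ 1).1 : ℂ) ≠ 0 := Nat.cast_ne_zero.2 (deg_pos _).ne'
  have h9 : ∀ v : P, FW p P ε (Function.update r T (s / charDegree (θ 1).1)) ξ T v = s * l v := fun v => by
    by_cases hv : (v : G) ∈ T
    · have := bW_mul (p := p) (P := P) (ε := ε) (W := T) (hν ⟨v, hv⟩) 1
      rw [one_mul, ← coe_one (𝐂 T), bW, bp_eq hc, h1, blockPart_irr_of_mem (hθ.mem' 1), hθ.deg'] at this
      rw [FW, sup_eq_left.2 (zpowers_le.2 hv), Function.update_self, bW, this, h7 ⟨v, hv⟩]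
      push_cast
      field_simp
      rfl
    · rw [FW, Function.update_of_ne (left_lt_sup.2 (mt zpowers_le.1 hv)).ne', ← FW, ← h5 v hv, h8 v hv]
  have h10 : ∀ χ : G → ℂ, (IsClassFunction (𝐂 T) fun c => χ c) → ∀ v : P,
      FW p P ε (Function.update r T (s / charDegree (θ 1).1)) χ T v =
        (∑ k, classInner (fun c : 𝐂 T => χ c) (θ k).1 * k v) * (s * l v) := fun χ hχ v => by
    rw [← h9, FW, FW, h.bW_any hM hθ hχ, ← hξ, mul_left_comm]
  refine ⟨s / charDegree (θ 1).1, fun _ _ => ⟨fun v hv χ ψ hχ hψ => ?_, fun χ hχ => ?_⟩⟩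
  · have e1 := h10 χ hχ ⟨v, hT.2 hv⟩
    have e2 := h10 ψ hψ ⟨v, hT.2 hv⟩
    have e3 := h.cA_any hM hθ hχ hψ ⟨v, hT.2 hv⟩
    rw [FW, sup_eq_left.2 (zpowers_le.2 hv)] at e1 e2
    rw [sup_eq_left.2 (zpowers_le.2 hv)] at e3
    rw [e1, e2, e3, map_mul, mul_mul_mul_comm, map_mul _ (s : ℂ), ← (isCharacter_linear l).apply_inv,
      mul_mul_mul_comm (s : ℂ), ← Units.val_mul, ← map_mul]
    rcases h6 with rfl | rfl <;> simp
  · choose n hn using fun k => hχ.classInner_int (θ k).2.isGeneralizedCharacter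
    convert (isGeneralizedCharacter_sum Finset.univ fun k _ =>
      (isCharacter_linear k).isGeneralizedCharacter.intCast_smul (n k)).mul
      ((isCharacter_linear l).isGeneralizedCharacter.intCast_smul s) using 1
    exact funext fun v => by simp [h10 χ hχ.isClassFunction, hn]

end Cfsg.Lib.Small
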