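import Cfsg.Agent.Lib.Small.Klein

/-!
# Combinatorial lemmas for gluing local characters of an abelian defect group
-/

set_option autoImplicit false
set_option linter.unusedSectionVars false

namespace Cfsg.Lib.Small

open Cfsg.Lib.Block Cfsg.Lib.Block2 Cfsg.Lib.Char Cfsg.Lib.Amalg MonoidAlgebra Subgroup
open scoped ComplexConjugate

theorem abs_sum_le_sum_sq {ι : Type*} (s : Finset ι) (g : ι → ℤ) : |∑ i ∈ s, g i| ≤ ∑ i ∈ s, g i ^ 2 :=
  (Finset.abs_sum_le_sum_abs _ _).trans (Finset.sum_le_sum fun i _ => by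
    rw [← sq_abs]; exact Int.le_self_sq _)

theorem lemU_num {n S N : ℤ} (h1 : 2 * |S| ≤ n) (h2 : |S| ≤ N) (h3 : 1 ≤ N) :
    n - 1 ≤ n * N - S ^ 2 ∧ (n * N - S ^ 2 = n - 1 → N = 1) := by
  rw [← sq_abs]
  have h0 := abs_nonneg S
  generalize |S| = a at *
  rcases h3.eq_or_lt with rfl | h4
  · exact ⟨by nlinarith, fun _ => rfl⟩
  · have : n ≤ n * N - a ^ 2 := by nlinarith
    exact ⟨by omega, fun _ => by omega⟩

theorem exists_single_of_sum_sq {ι : Type*} [Fintype ι] [DecidableEq ι] {g : ι → ℤ} (h : ∑ i, g i ^ 2 = 1) :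
    ∃ i s, (s = 1 ∨ s = -1) ∧ ∀ j, g j = if j = i then s else 0 := by
  obtain ⟨i, -, hi⟩ := Finset.exists_ne_zero_of_sum_ne_zero (h ▸ one_ne_zero : ∑ i, g i ^ 2 ≠ 0)
  rw [← Finset.add_sum_erase _ _ (Finset.mem_univ i)] at h
  have h1 : 0 ≤ ∑ j ∈ Finset.univ.erase i, g j ^ 2 := Finset.sum_nonneg fun _ _ => sq_nonneg _
  have h2 := (sq_nonneg (g i)).lt_of_ne' hi
  have h3 : g i ^ 2 = 1 := by omega
  refine ⟨i, g i, sq_eq_one_iff.1 h3, fun j => ?_⟩
  split_ifs with e
  · rw [e]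
  · exact pow_eq_zero_iff two_ne_zero |>.1 ((Finset.sum_eq_zero_iff_of_nonneg fun _ _ => sq_nonneg _).1
      (show ∑ j ∈ Finset.univ.erase i, g j ^ 2 = 0 by omega) j (by simpa using e))

theorem lemU {ι : Type*} [Fintype ι] [DecidableEq ι] (f : ι → ℤ) : (∃ c, ∀ i, f i = c) ∨
    ((Fintype.card ι : ℤ) - 1 ≤ Fintype.card ι * ∑ i, f i ^ 2 - (∑ i, f i) ^ 2 ∧
      (Fintype.card ι * ∑ i, f i ^ 2 - (∑ i, f i) ^ 2 = Fintype.card ι - 1 →
        ∃ c i s, (s = 1 ∨ s = -1) ∧ ∀ j, f j = c + if j = i then s else 0)) := by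
  rcases isEmpty_or_nonempty ι with h | h
  · exact .inl ⟨0, h.elim⟩
  have hn : (0 : ℤ) < Fintype.card ι := by exact_mod_cast Fintype.card_pos
  obtain ⟨c, hc⟩ : ∃ c : ℤ, 2 * |∑ i, f i - Fintype.card ι * c| ≤ Fintype.card ι := by
    refine ⟨(2 * ∑ i, f i + Fintype.card ι) / (2 * Fintype.card ι), ?_⟩
    have h1 := Int.emod_add_mul_ediv (2 * ∑ i, f i + Fintype.card ι) (2 * Fintype.card ι)
    have h2 := Int.emod_nonneg (2 * ∑ i, f i + Fintype.card ι) (by omega : 2 * (Fintype.card ι : ℤ) ≠ 0)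
    have h3 := Int.emod_lt_of_pos (2 * ∑ i, f i + Fintype.card ι) (by omega : 0 < 2 * (Fintype.card ι : ℤ))
    rw [mul_assoc] at h1
    rcases abs_cases (∑ i, f i - Fintype.card ι * ((2 * ∑ i, f i + Fintype.card ι) / (2 * Fintype.card ι)))
      with e | e <;> omega
  have e1 : ∑ i, f i - Fintype.card ι * c = ∑ i, (f i - c) := by simp
  have e2 : Fintype.card ι * ∑ i, f i ^ 2 - (∑ i, f i) ^ 2 =
      Fintype.card ι * ∑ i, (f i - c) ^ 2 - (∑ i, (f i - c)) ^ 2 := by
    simp only [← e1, sub_sq, Finset.sum_add_distrib, Finset.sum_sub_distrib, ← Finset.sum_mul,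
      ← Finset.mul_sum, Finset.sum_const, Finset.card_univ, nsmul_eq_mul]
    ring
  by_cases h0 : ∑ i, (f i - c) ^ 2 = 0
  · exact .inl ⟨c, fun i => sub_eq_zero.1 (pow_eq_zero_iff two_ne_zero |>.1
      ((Finset.sum_eq_zero_iff_of_nonneg fun _ _ => sq_nonneg _).1 h0 i (Finset.mem_univ i)))⟩
  rw [e1] at hc
  obtain ⟨h1, h2⟩ := lemU_num hc (abs_sum_le_sum_sq _ _)
    ((Finset.sum_nonneg fun _ _ => sq_nonneg _).lt_of_ne' h0)
  refine .inr ⟨e2 ▸ h1, fun h3 => ?_⟩
  obtain ⟨i, s, h4, h5⟩ := exists_single_of_sum_sq (h2 (e2 ▸ h3))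
  exact ⟨c, i, s, h4, fun j => by rw [← h5 j]; ring⟩

section count

variable {B ι : Type*} [Fintype ι] [DecidableEq ι] {s : Finset B} {a : B → ι → ℤ} {e : ℕ}
  (hG : ∀ i j, ∑ x ∈ s, a x i * a x j = e + if i = j then 1 else 0)

theorem row_bound {r : ι → ℤ} (hr : ∃ i, r i ≠ 0) :
    (Fintype.card ι : ℤ) ≤ (Fintype.card ι + 1) * ∑ i, r i ^ 2 - (∑ i, r i) ^ 2 := by
  obtain ⟨i, hi⟩ := hr
  rcases lemU r with ⟨c, hc⟩ | ⟨h1, -⟩
  · simp only [hc, Finset.sum_const, Finset.card_univ, nsmul_eq_mul] at hi ⊢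
    have := Int.add_one_le_of_lt (sq_pos_of_ne_zero hi)
    nlinarith
  · have := (Int.add_one_le_of_lt (sq_pos_of_ne_zero hi)).trans
      (Finset.single_le_sum (f := fun i => r i ^ 2) (fun _ _ => sq_nonneg _) (Finset.mem_univ i))
    linarith

theorem row_num {t e N S : ℤ} (h1 : t - 1 ≤ t * N - S ^ 2) (h2 : (1 + e * t) * N - e * S ^ 2 < 1 + e * t)
    (h3 : |S| ≤ N) (h4 : 1 ≤ N) (h5 : e + 2 ≤ t) (h6 : 1 ≤ e) : (t + 1) * N - S ^ 2 = t := by
  have h7 : t * N - S ^ 2 = t - 1 := by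
    by_contra h
    have : t ≤ t * N - S ^ 2 := by omega
    nlinarith
  have h8 : N ≤ e := by nlinarith
  have h9 : S ^ 2 ≤ N ^ 2 := by rw [← sq_abs]; exact pow_le_pow_left₀ (abs_nonneg _) h3 2
  have : N = 1 := by
    by_contra h
    have : 2 ≤ N := by omega
    nlinarith
  rw [this] at h7 ⊢
  linarith

theorem row_eq {r : ι → ℤ} (hr : ∃ i, r i ≠ 0) (he : 1 ≤ e) (he3 : e ≤ 3) (ht : e + 2 ≤ Fintype.card ι)
    (h : (1 + e * Fintype.card ι) * ∑ i, r i ^ 2 - e * (∑ i, r i) ^ 2 < 1 + e * Fintype.card ι) :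
    (Fintype.card ι + 1) * ∑ i, r i ^ 2 - (∑ i, r i) ^ 2 = Fintype.card ι := by
  obtain ⟨i, hi⟩ := hr
  rcases lemU r with ⟨c, hc⟩ | ⟨h1, -⟩
  · simp only [hc, Finset.sum_const, Finset.card_univ, nsmul_eq_mul] at hi h ⊢
    have h1 := Int.add_one_le_of_lt (sq_pos_of_ne_zero hi)
    have h2 : (e : ℤ) ≤ 3 := by exact_mod_cast he3
    have h3 : (e : ℤ) + 2 ≤ Fintype.card ι := by exact_mod_cast ht
    have h4 : c ^ 2 ≤ 3 := by
      by_contra h5
      nlinarith
    have h5 : c ^ 2 = 1 := by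
      have : c ≤ 1 := by nlinarith
      have : -1 ≤ c := by nlinarith
      nlinarith
    rw [mul_pow, h5]; ring
  · exact row_num h1 h (abs_sum_le_sum_sq _ _) ((Int.add_one_le_of_lt (sq_pos_of_ne_zero hi)).trans
      (Finset.single_le_sum (f := fun i => r i ^ 2) (fun _ _ => sq_nonneg _) (Finset.mem_univ i)))
      (by exact_mod_cast ht) (by exact_mod_cast he)

include hG

theorem sum_rows : ∑ x ∈ s, ((Fintype.card ι + 1) * ∑ i, a x i ^ 2 - (∑ i, a x i) ^ 2) =
    (Fintype.card ι * (e + Fintype.card ι) : ℤ) := by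
  rw [Finset.sum_sub_distrib, ← Finset.mul_sum]
  simp only [sq, Finset.sum_mul_sum]
  rw [Finset.sum_comm, Finset.sum_comm (s := s)]
  simp only [Finset.sum_comm (s := s), hG, if_true, Finset.sum_add_distrib, Finset.sum_const,
    Finset.card_univ, nsmul_eq_mul, Finset.sum_ite_eq, Finset.mem_univ]
  ring

theorem card_le_of_gram [Nonempty ι] (hne : ∀ x ∈ s, ∃ i, a x i ≠ 0) : s.card ≤ e + Fintype.card ι := by
  have h1 := Finset.sum_le_sum fun x hx => row_bound (hne x hx)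
  rw [sum_rows hG, Finset.sum_const, nsmul_eq_mul, mul_comm] at h1
  exact_mod_cast le_of_mul_le_mul_left h1 (by exact_mod_cast Fintype.card_pos)

theorem card_eq_of_gram (hne : ∀ x ∈ s, ∃ i, a x i ≠ 0) (he : 1 ≤ e) (he3 : e ≤ 3)
    (ht : e + 2 ≤ Fintype.card ι) {deg : B → ℤ} (hd : ∀ x ∈ s, deg x ≠ 0)
    (hd' : ∀ i, ∑ x ∈ s, deg x * a x i = 0) : s.card = e + Fintype.card ι := by
  classical
  have h1 := Finset.sum_congr rfl fun x hx => row_eq (hne x hx) he he3 ht ?_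
  · rw [sum_rows hG, Finset.sum_const, nsmul_eq_mul, mul_comm (s.card : ℤ)] at h1
    exact_mod_cast (mul_left_cancel₀ (by omega) h1).symm
  obtain ⟨c, hc⟩ : ∃ c : ι → ℤ, c = fun i => (1 + e * Fintype.card ι) * a x i - e * ∑ j, a x j := ⟨_, rfl⟩
  obtain ⟨m, hm⟩ : ∃ m, m = ∑ i, c i * a x i := ⟨_, rfl⟩
  have h2 : (1 + e * Fintype.card ι) * ∑ i, a x i ^ 2 - e * (∑ i, a x i) ^ 2 = m := by
    simp only [hm, hc, sub_mul, Finset.sum_sub_distrib, mul_assoc, ← Finset.mul_sum, sq]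
  have h3 : ∑ y ∈ s, (∑ i, c i * a y i) ^ 2 = (1 + e * Fintype.card ι) * m := by
    simp only [sq, Finset.sum_mul_sum, mul_mul_mul_comm (c _) (a _ _)]
    rw [Finset.sum_comm, hm, Finset.mul_sum]
    refine Finset.sum_congr rfl fun i _ => ?_
    rw [Finset.sum_comm]
    simp only [← Finset.mul_sum, hG, mul_add, Finset.sum_add_distrib, mul_ite, mul_one, mul_zero,
      Finset.sum_ite_eq, Finset.mem_univ, if_true, ← Finset.sum_mul]
    simp only [hc, Finset.sum_sub_distrib, ← Finset.mul_sum, Finset.sum_const, Finset.card_univ,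
      nsmul_eq_mul]
    ring
  have h4 : ∑ y ∈ s, deg y * ∑ i, c i * a y i = 0 := by
    simp only [Finset.mul_sum, mul_left_comm (deg _)]
    rw [Finset.sum_comm]
    simp only [← Finset.mul_sum, hd', mul_zero, Finset.sum_const_zero]
  rw [← Finset.add_sum_erase _ _ hx, ← hm] at h3 h4
  have h5 : 0 ≤ ∑ y ∈ s.erase x, (∑ i, c i * a y i) ^ 2 := Finset.sum_nonneg fun _ _ => sq_nonneg _
  have h6 : (0 : ℤ) < 1 + e * Fintype.card ι := by positivity
  rw [h2]
  by_contra! h7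
  have h8 : ∑ y ∈ s.erase x, (∑ i, c i * a y i) ^ 2 = 0 := by nlinarith
  rw [Finset.sum_eq_zero fun y hy => by
    rw [pow_eq_zero_iff two_ne_zero |>.1 ((Finset.sum_eq_zero_iff_of_nonneg fun _ _ => sq_nonneg _).1
      h8 y hy), mul_zero], add_zero] at h4
  exact mul_ne_zero (hd x hx) (by omega) h4

end count

theorem exists_rec {α β : Type*} [Finite α] [PartialOrder α] [Nonempty β] [DecidableEq α]
    (Pr : (α → β) → α → Prop) (h1 : ∀ r r' T, (∀ W, T ≤ W → r W = r' W) → Pr r T → Pr r' T)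
    (h2 : ∀ r T, (∀ W, T < W → Pr r W) → ∃ b, Pr (Function.update r T b) T) : ∃ r, ∀ T, Pr r T := by
  haveI := Fintype.ofFinite α
  suffices ∀ U : Finset α, (∀ T ∈ U, ∀ W, T ≤ W → W ∈ U) → ∃ r, ∀ T ∈ U, Pr r T from
    (this Finset.univ (by simp)).imp fun r h T => h T (Finset.mem_univ T)
  intro U
  induction U using Finset.strongInduction with
  | H U ih =>
    intro hU
    rcases U.eq_empty_or_nonempty with rfl | hne
    · exact ⟨fun _ => Classical.arbitrary β, by simp⟩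
    obtain ⟨T, hT⟩ := U.exists_minimal hne
    obtain ⟨r, hr⟩ := ih _ (Finset.erase_ssubset hT.1) fun V hV W h => Finset.mem_erase.2
      ⟨fun e => (Finset.mem_erase.1 hV).1 (hT.eq_of_ge (Finset.mem_of_mem_erase hV) (e ▸ h)).symm,
        hU V (Finset.mem_of_mem_erase hV) W h⟩
    obtain ⟨b, hb⟩ := h2 r T fun W h => hr W (Finset.mem_erase.2 ⟨h.ne', hU T hT.1 W h.le⟩)
    refine ⟨Function.update r T b, fun V hV => ?_⟩
    by_cases e : V = T
    · exact e ▸ hb
    · exact h1 r _ V (fun W h => (Function.update_of_ne (fun e' : W = T =>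
        e (hT.eq_of_ge hV (h.trans_eq e')).symm) _ _).symm) (hr V (Finset.mem_erase.2 ⟨e, hV⟩))

theorem glue {ι A : Type*} [SemilatticeSup ι] [OrderBot ι] [Fintype A] (z : A → ι) {T P : ι} (hT : T ≤ P)
    (hz : ∀ v, z v ≤ P) (F : ι → A → ℂ) (hF : ∀ W v, F (W ⊔ z v) v = F W v) (K : AddSubgroup (A → ℂ))
    (hK : ∀ W, T < W → W ≤ P → F W ∈ K) : ∃ Θ ∈ K, ∀ v, ¬ z v ≤ T → Θ v = F T v := by
  classical
  refine ⟨-∑ S ∈ (Finset.univ.filter fun v => ¬ z v ≤ T).powerset.erase ∅,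
    (-1 : ℤ) ^ S.card • F (T ⊔ S.sup z), neg_mem (sum_mem fun S hS => zsmul_mem (hK _ ?_ ?_) _),
    fun v hv => ?_⟩
  · obtain ⟨v, hv⟩ := Finset.nonempty_iff_ne_empty.2 (Finset.mem_erase.1 hS).1
    exact left_lt_sup.2 fun h => (Finset.mem_filter.1 (Finset.mem_powerset.1
      (Finset.mem_erase.1 hS).2 hv)).2 ((Finset.le_sup hv).trans h)
  · exact sup_le hT (Finset.sup_le fun v _ => hz v)
  rw [Finset.sum_erase_eq_sub (Finset.empty_mem_powerset _),
    ← Finset.insert_erase (s := Finset.univ.filter _) (a := v) (by simpa using hv),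
    Finset.sum_powerset_insert (Finset.notMem_erase _ _), ← Finset.sum_add_distrib, neg_sub, Pi.sub_apply,
    Finset.sum_apply, Finset.sum_eq_zero fun S hS => ?_]
  · simp
  rw [Finset.card_insert_of_notMem fun h => Finset.notMem_erase _ _ (Finset.mem_powerset.1 hS h),
    Finset.sup_insert, sup_comm (z v), ← sup_assoc]
  simp [hF, pow_succ]

section ab

variable {A : Type*} [Group A] [Fintype A] {f : A → ℂ}

theorem exists_sign_lin (ab : ∀ u v : A, u * v = v * u) (hf : IsGeneralizedCharacter A f)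
    (h1 : ∀ v, v ≠ 1 → f v * conj (f v) = 1) :
    ∃ s : ℤ, (s = 1 ∨ s = -1) ∧ ∃ l : A →* ℂˣ, ∀ v, v ≠ 1 → f v = s * l v := by
  classical
  haveI := Fintype.ofFinite (A →* ℂˣ)
  choose n hn using fun l : A →* ℂˣ => hf.classInner_int (isCharacter_linear l).isGeneralizedCharacter
  have h2 : ∀ v, f v = ∑ l, n l * (l v : ℂ) := fun v => by
    rw [apply_eq_sum_linear ab f v]; exact Finset.sum_congr rfl fun l _ => congrArg (· * _) (hn l)
  have hc : Fintype.card (A →* ℂˣ) = Nat.card A := by rw [← card_linear ab, Nat.card_eq_fintype_card]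
  rcases lemU n with ⟨c, h3⟩ | ⟨-, h3⟩
  · refine ⟨1, .inl rfl, 1, fun v hv => ?_⟩
    have := h1 v hv
    simp [h2, h3, ← Finset.mul_sum, sum_linear_apply ab hv] at this
  obtain ⟨c, l, s, h4, h5⟩ := h3 (by
    have h4 := card_mul_classInner f f
    rw [← Finset.add_sum_erase _ _ (Finset.mem_univ 1), Finset.sum_congr rfl fun v hv =>
      h1 v (Finset.ne_of_mem_erase hv), hf.isClassFunction.classInner_eq_sum, ← (linIrr ab).sum_comp,
      Finset.sum_congr rfl (g := fun l => (n l : ℂ) ^ 2) fun l _ => by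
        rw [← conj_classInner f]
        erw [hn l]
        rw [map_intCast, sq], h2 1, Finset.sum_const, Finset.card_erase_of_mem (Finset.mem_univ _),
      Finset.card_univ, ← Nat.card_eq_fintype_card, nsmul_one, Nat.cast_pred Nat.card_pos] at h4
    simp only [map_one, Units.val_one, mul_one, map_sum, map_intCast] at h4
    rw [hc]
    exact_mod_cast (show (Nat.card A : ℂ) * ∑ l, (n l : ℂ) ^ 2 - (∑ l, (n l : ℂ)) ^ 2 = Nat.card A - 1 by
      linear_combination h4))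
  refine ⟨s, h4, l, fun v hv => ?_⟩
  simp [h2, h5, add_mul, Finset.sum_add_distrib, ← Finset.mul_sum, sum_linear_apply ab hv]

theorem exists_sign_lin' (ab : ∀ u v : A, u * v = v * u) (hf : IsGeneralizedCharacter A f)
    (T : Subgroup A) (μ : T →* ℂˣ) (h0 : ∀ (t : T) v, f (t * v) = μ t * f v)
    (h1 : ∀ v, v ∉ T → f v * conj (f v) = 1) :
    ∃ s : ℤ, (s = 1 ∨ s = -1) ∧ ∃ l : A →* ℂˣ, (∀ t : T, l t = μ t) ∧ ∀ v, v ∉ T → f v = s * l v := by
  classical
  letI : CommGroup A := { (inferInstance : Group A) with mul_comm := ab }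
  obtain ⟨k, hk⟩ := MonoidHom.domRestrict_surjective (M := ℂ) T μ
  replace hk : ∀ t : T, k t = μ t := fun t => DFunLike.congr_fun hk t
  haveI := Fintype.ofFinite (A ⧸ T)
  let g : A ⧸ T → ℂ := Quotient.lift (fun v => k v⁻¹ * f v) fun a b h => by
    have := h0 ⟨_, QuotientGroup.leftRel_apply.1 h⟩ a
    rw [mul_comm, mul_inv_cancel_left, ← hk] at this
    simp [this, ← mul_assoc, mul_left_comm (k b : ℂ)⁻¹]
  have hg : ∀ v : A, g v = k v⁻¹ * f v := fun _ => rfl
  have hk' : ∀ v, (k v⁻¹ : ℂ) * conj (k v⁻¹ : ℂ) = 1 := fun v => by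
    rw [← (isCharacter_linear k).apply_inv, ← Units.val_mul, ← map_mul]; simp
  obtain ⟨s, h2, l, h3⟩ := exists_sign_lin (f := g) mul_comm
    ((isClassFunction_of_comm mul_comm g).isGeneralizedCharacter_of_classInner fun χ hχ => by
      rw [← classInner_comp_surjective (QuotientGroup.mk' T) (QuotientGroup.mk'_surjective T)]
      exact (((isCharacter_linear k).inv.isGeneralizedCharacter).mul hf).classInner_int
        (hχ.isGeneralizedCharacter.comp _)) fun v hv => by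
      obtain ⟨v, rfl⟩ := QuotientGroup.mk_surjective v
      rw [hg, map_mul, mul_mul_mul_comm, hk', h1 v (mt (QuotientGroup.eq_one_iff v).2 hv), mul_one]
  refine ⟨s, h2, k * l.comp (QuotientGroup.mk' T), fun t => by
    simp [hk, (QuotientGroup.eq_one_iff (t : A)).2 t.2], fun v hv => ?_⟩
  have := h3 v (mt (QuotientGroup.eq_one_iff v).1 hv)
  rw [hg, map_inv, Units.val_inv_eq_inv_val, inv_mul_eq_iff_eq_mul₀ (Units.ne_zero _)] at this
  simp [this, mul_left_comm]

theorem sum_gen_int (hf : IsGeneralizedCharacter A f) (C : Subgroup A) [DecidableEq (Subgroup A)] :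
    ∃ n : ℤ, ∑ v with zpowers v = C, f v = n := by
  classical
  induction C using WellFoundedLT.induction with
  | ind C ih =>
    haveI := Fintype.ofFinite (Subgroup A)
    obtain ⟨m, hm⟩ := (hf.restrict C).classInner_int isGeneralizedCharacter_one
    have h1 := card_mul_classInner (fun x : C => f x) fun _ => 1
    simp only [hm, map_one, mul_one] at h1
    rw [← Finset.sum_subtype (Finset.univ.filter (· ∈ C)) (by simp) f,
      ← Finset.sum_fiberwise_of_maps_to (t := Finset.univ.filter (· ≤ C)) (g := zpowers)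
        (by simp), ← Finset.add_sum_erase _ _ (a := C) (by simp)] at h1
    have h2 : ∀ D ≤ C, (Finset.univ.filter (· ∈ C)).filter (zpowers · = D) =
        Finset.univ.filter (zpowers · = D) := fun D hD => by
      ext v
      simpa using fun h => hD (h ▸ mem_zpowers v)
    choose! n hn using ih
    rw [h2 C le_rfl, Finset.sum_congr (s₁ := Finset.erase _ _) rfl fun D hD => by
      have := Finset.mem_erase.1 hD
      rw [h2 D (by simpa using this.2), hn D (lt_of_le_of_ne (by simpa using this.2) this.1)]] at h1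
    exact ⟨_, by rw [← sub_eq_iff_eq_add.2 h1]; norm_cast⟩

theorem sum_mul_int (hf : IsGeneralizedCharacter A f) {w : A → ℤ}
    (hw : ∀ u v, zpowers u = zpowers v → w u = w v) : ∃ n : ℤ, ∑ v, w v * f v = n := by
  classical
  rw [← Finset.sum_fiberwise_of_maps_to (t := Finset.univ.image zpowers) (g := zpowers) (by simp)]
  refine (Subring.mem_bot.1 (sum_mem fun C hC => ?_)).imp fun _ => Eq.symm
  obtain ⟨u, -, rfl⟩ := Finset.mem_image.1 hC
  obtain ⟨n, hn⟩ := sum_gen_int hf (zpowers u)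
  rw [Finset.sum_congr rfl fun v hv => by rw [hw v u (Finset.mem_filter.1 hv).2], ← Finset.mul_sum, hn]
  exact mul_mem (intCast_mem _ _) (intCast_mem _ _)

variable {M : Ideal AlgInt} [M.IsMaximal] {g : A → ℂ}

theorem OC.smul (h : OC M f) {c : ℂ} (hc : MemLocalRing M c) : OC M (c • f) := by
  simpa using oc_sum {()} (a := fun _ => c) (F := fun _ => f) (fun _ _ => hc) fun _ _ => h

theorem OC.add (h : OC M f) (h' : OC M g) : OC M (f + g) :=
  ⟨h.1.add h'.1, fun χ => classInner_add_left f g _ ▸ (h.2 χ).add (h'.2 χ)⟩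

theorem OC.mul (h : OC M f) (h' : OC M g) : OC M (f * g) :=
  h'.of_irr (LinearMap.mulLeft ℂ f) fun χ => h.of_irr (LinearMap.mulRight ℂ χ.1) fun ψ =>
    oc_of_isGen (ψ.2.isGeneralizedCharacter.mul χ.2.isGeneralizedCharacter)

theorem oc_prod {ι : Type*} (s : Finset ι) {F : ι → A → ℂ} (h : ∀ i ∈ s, OC M (F i)) :
    OC M (∏ i ∈ s, F i) :=
  Finset.prod_induction F (OC M) (fun _ _ => OC.mul) (oc_of_isGen isGeneralizedCharacter_one) h

theorem OC.exists_inv (h : OC M f) (h1 : ∀ v, v ≠ 1 → ¬ MemLocalIdeal M (f v)) :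
    ∃ g, OC M g ∧ ∀ v, v ≠ 1 → f v * g v = 1 := by
  classical
  have : ∀ s : Finset A, ∃ g, OC M g ∧ ∀ v, ∏ u ∈ s, (f u - f v) = ∏ u ∈ s, f u - f v * g v := fun s => by
    induction s using Finset.induction_on with
    | empty => exact ⟨0, oc_of_isGen isGeneralizedCharacter_zero, by simp⟩
    | insert u s hu ih =>
      obtain ⟨g, h2, h3⟩ := ih
      refine ⟨f u • g + ((∏ u ∈ s, f u) • 1 + (-1 : ℂ) • (f * g)), (h2.smul (h.mem u)).add
        (((oc_of_isGen isGeneralizedCharacter_one).smul (memLocalRing_prod fun u _ => h.mem u)).add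
          ((h.mul h2).smul memLocalRing_one.neg)), fun v => ?_⟩
      simp only [Finset.prod_insert hu, h3, Pi.add_apply, Pi.smul_apply, Pi.mul_apply, Pi.one_apply,
        smul_eq_mul]
      ring
  obtain ⟨g, h2, h3⟩ := this (Finset.univ.erase 1)
  have h4 : ¬ MemLocalIdeal M (∏ u ∈ Finset.univ.erase 1, f u) :=
    (Finset.prod_induction f (fun z => MemLocalRing M z ∧ ¬ MemLocalIdeal M z)
      (fun _ _ a b => ⟨a.1.mul b.1, not_memLocalIdeal_mul a.1 a.2 b.2⟩)
      ⟨memLocalRing_one, not_memLocalIdeal_one⟩ fun u hu => ⟨h.mem u, h1 u (Finset.ne_of_mem_erase hu)⟩).2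
  refine ⟨_, h2.smul ((memLocalRing_prod fun u _ => h.mem u).inv h4), fun v hv => ?_⟩
  have := h3 v
  rw [Finset.prod_eq_zero (i := v) (by simpa using hv) (sub_self _), eq_comm, sub_eq_zero] at this
  rw [Pi.smul_apply, smul_eq_mul, mul_left_comm, ← this, inv_mul_cancel₀ (ne_zero_of_not_memLocalIdeal h4)]

end ab

end Cfsg.Lib.Small
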