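import Cfsg.Agent.Lib.Small.Glue

/-!
# Blocks with abelian defect group and Frobenius inertial quotient
-/

set_option autoImplicit false
set_option linter.unusedSectionVars false

namespace Cfsg.Lib.Small

open Cfsg.Lib.Block Cfsg.Lib.Block2 Cfsg.Lib.Char Cfsg.Lib.Amalg MonoidAlgebra Subgroup
open scoped ComplexConjugate

variable {G : Type*} [Group G] [Finite G] {p : ℕ} [hp : Fact p.Prime] {M : Ideal AlgInt} [M.IsMaximal]
  {B : Finset (IrrCharacter G)} {P : Subgroup G} {ε : MonoidAlgebra (resField M) G}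

theorem exists_sign_inv {A : Type*} [Group A] [Fintype A] {E : Subgroup (MulAut A)}
    (hM : IsPModular p M) (hA : IsPGroup p A) (he : ¬ p ∣ Nat.card E) {Θ : A → ℂ}
    (hΘ : IsGeneralizedCharacter A Θ) (hu : ∀ u, u ≠ 1 → ¬ MemLocalIdeal M (Θ u)) {w : E → A → ℤ}
    (h1 : ∀ α u, w α u = 1 ∨ w α u = -1) (h2 : ∀ α u, u ≠ 1 → Θ (α.1 u) = w α u * Θ u) :
    ∃ f, OC M f ∧ (∀ u, u ≠ 1 → f u = (∏ᶠ α, w α u : ℤ)) ∧
      ∀ β u, u ≠ 1 → (∏ᶠ α, w α (β.1 u)) * w β u = ∏ᶠ α, w α u := by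
  haveI := Fintype.ofFinite E
  obtain ⟨g, h3, h4⟩ := (oc_of_isGen hΘ).exists_inv hu
  simp only [finprod_eq_prod_of_fintype]
  refine ⟨∏ α : E, (fun u => Θ (α.1 u)) * g, oc_prod _ fun α _ =>
    (oc_of_isGen (hΘ.comp α.1.toMonoidHom)).mul h3, fun u hu => ?_, fun β u hu1 => ?_⟩
  · rw [Finset.prod_apply, Int.cast_prod]
    exact Finset.prod_congr rfl fun α _ => by rw [Pi.mul_apply, h2 α u hu, mul_assoc, h4 u hu, mul_one]
  have h5 : ∀ α, w α (β.1 u) * w β u = w (α * β) u := fun α => by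
    have := h2 (α * β) u hu1
    rw [coe_mul, MulAut.mul_apply, h2 α _ (by simpa using hu1), h2 β u hu1, ← mul_assoc] at this
    exact_mod_cast mul_right_cancel₀ (ne_zero_of_not_memLocalIdeal (hu u hu1)) this
  rw [← Equiv.prod_comp (Equiv.mulRight β) fun α => w α u]
  simp only [Equiv.coe_mulRight, ← h5, Finset.prod_mul_distrib, Finset.prod_const, Finset.card_univ]
  rcases h1 β u with e | e
  · rw [e, one_pow]
  have h6 : ∀ v, MemLocalIdeal M (Θ v - Θ 1) := fun v => by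
    obtain ⟨χ, ψ, a1, a2, rfl⟩ := hΘ
    convert (char_sub_deg_mem hM a1 (IsPGroup.iff_orderOf.1 hA v)).sub
      (char_sub_deg_mem hM a2 (IsPGroup.iff_orderOf.1 hA v)) using 1
    simp only [Pi.sub_apply]; ring
  have h7 := (h6 u).sub_trans (h6 (β.1 u)).sub_symm
  rw [h2 β u hu1, e, show Θ u - (-1 : ℤ) * Θ u = (2 : ℕ) * Θ u by push_cast; ring] at h7
  obtain rfl := (Nat.prime_dvd_prime_iff_eq hp.out Nat.prime_two).1 ((memLocalIdeal_natCast_iff hM 2).1
    ((h7.mem_or_mem (memLocalRing_natCast 2)).resolve_right (hu u hu1)))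
  rw [e, Odd.neg_one_pow (by rwa [← Nat.not_even_iff_odd, even_iff_two_dvd, ← Nat.card_eq_fintype_card])]

theorem exists_FD_glue [Fintype G] [Fintype P] (hM : IsPModular p M)
    (hB : IsPBlock M (B : Set (IrrCharacter G))) (hm : MaxP p ⊤ (eB M (B : Set (IrrCharacter G))) P ε)
    (hP : P ≤ 𝐂 P) (hE : Free (inE P ε)) :
    ∃ d, FD p B P ε d ∧ ∀ χ l, ∃ n : ℤ, classInner (d χ) (oneSub l) = n := by
  classical
  obtain ⟨r, hr⟩ := exists_PrW hM hm hP hE
  have hn : (Nat.card P : ℂ) ≠ 0 := Nat.cast_ne_zero.2 Nat.card_pos.ne'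
  obtain ⟨b, hb⟩ : ∃ b : IrrCharacter G → P → ℂ, ∀ χ u, b χ u = bW p P ε (zpowers (u : G)) χ.1 u :=
    ⟨_, fun _ _ => rfl⟩
  obtain ⟨ρ, hρ⟩ : ∃ ρ : P → ℝ, ∀ u, ρ u = r (zpowers (u : G)) := ⟨_, fun _ => rfl⟩
  choose Θ h1 h2 using fun χ : IrrCharacter G => (exists_glue hP bot_le (fun W _ => hr W)
    (χ.2.isGeneralizedCharacter.restrict _) (fun _ => 1) fun t g => by
      rw [mem_bot.1 t.2, mul_one, one_mul]).imp fun _ h => And.intro h.1 h.2.2
  replace h2 : ∀ χ u, u ≠ 1 → Θ χ u = ρ u * b χ u := fun χ u hu => by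
    rw [h2 χ u (by simpa using hu), FW, bot_sup_eq, hρ, hb]
  have h3 : ∀ (χ ψ : IrrCharacter G) (u : P), u ≠ 1 →
      Nat.card P * con p (u : G) (sp p P ε u) χ.1 ψ.1 = Θ χ u * conj (Θ ψ u) := fun χ ψ u hu => by
    rw [← cA_zpowers, (hr _ (by simpa using hu) (zpowers_le.2 u.2)).1 u (mem_zpowers _) _ _
      (χ.2.isClassFunction.restrict _) (ψ.2.isClassFunction.restrict _), h2 χ u hu, h2 ψ u hu, hρ, hb, hb]
  have h4 : ∀ χ, ∀ α ∈ inE P ε, ∀ u, b χ (α u) = b χ u := fun χ α hα u => by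
    obtain ⟨t, ht, e⟩ := mem_inE.1 hα
    have := (hm.bp.sle_sp hM u.2).cjA_of_stab ht
    rw [cj_zpowers] at this
    rw [hb, hb, bW_zpowers, bW_zpowers, e, this.sp_eq hM, ← cj_centralizer_singleton,
      bp_conj χ.2.isClassFunction (hm.bp.sle_sp hM u.2).blk_cent]
  have h5 : ∀ χ ψ : IrrCharacter G, ∀ α ∈ inE P ε, ∀ u : P,
      con p (α u : G) (sp p P ε (α u)) χ.1 ψ.1 = con p (u : G) (sp p P ε u) χ.1 ψ.1 := fun χ ψ α hα u => by
    obtain ⟨t, ht, e⟩ := mem_inE.1 hα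
    rw [e, (hm.bp.fCj_of_stab hM u.2 ht).con_eq hM χ.2.isClassFunction ψ.2.isClassFunction]
  obtain ⟨χ₀, h₀, h0⟩ := exists_blockHeight_eq_zero p hB.nonempty
  have h6 : ∀ u, u ≠ 1 → ¬ MemLocalIdeal M (Θ χ₀ u) := fun u hu h1' => by
    haveI := Fintype.ofFinite (𝐂 (zpowers (u : G)))
    have h2 := hm.bp.sle_sp hM u.2
    obtain ⟨a3, a4⟩ := (hm.bpo.of_sle hM h2).exists_ctr hM hB
    have hd : DefG p (𝐂 (zpowers (u : G))) (sp p P ε u) P := by
      simpa only [top_inf_eq] using (hm.cent_of_comm hM (le_centralizer_iff.1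
        (zpowers_le.2 (hP u.2))) h2).defG
    refine ctr_notMem hM (centralizer_zpowers_eq _) (pow_of_mem_pgroup hm.bp.isPGroup u.2) a3 h₀ h₀
      h0 h0 ?_
    rw [a4, ← Nat.cast_pow, ← hd.card_eq_pow hM h2.bp.blk_top, h3 _ _ u hu, ← (h1 _).apply_inv]
    exact h1'.mul_right (memLocalRing_of_isIntegral ((h1 _).isIntegral _))
  let w : inE P ε → P → ℤ := fun α u => if ρ (α.1 u) = ρ u then 1 else -1
  have h7 : ∀ α u, w α u = 1 ∨ w α u = -1 := fun α u => by simp only [w]; split_ifs <;> simp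
  have h8 : ∀ α u, u ≠ 1 → (ρ (α.1 u) : ℂ) = w α u * ρ u := fun α u hu => by
    have hu' : α.1 u ≠ 1 := by simpa using hu
    have a1 := h3 χ₀ χ₀ _ hu'
    have a2 := (mul_ne_zero_iff.1 (h2 _ u hu ▸ ne_zero_of_not_memLocalIdeal (h6 u hu))).2
    rw [h5 _ _ _ α.2, h3 _ _ u hu, h2 _ u hu, h2 _ _ hu', h4 _ _ α.2, map_mul, map_mul, Complex.conj_ofReal,
      Complex.conj_ofReal, mul_mul_mul_comm, mul_mul_mul_comm (ρ (α.1 u) : ℂ),
      mul_left_inj' (mul_ne_zero a2 ((map_ne_zero _).2 a2)), mul_self_eq_mul_self_iff] at a1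
    simp only [w]
    split_ifs with e
    · simp [e]
    · rw [a1.resolve_left fun e' => e (by exact_mod_cast e'.symm)]; simp
  have h9 : ∀ χ α u, u ≠ 1 → Θ χ (α.1 u) = w α u * Θ χ u := fun χ α u hu => by
    rw [h2 _ _ (by simpa using hu), h2 _ u hu, h4 _ _ α.2, h8 α u hu, mul_assoc]
  have h10 : ∀ u v : P, zpowers u = zpowers v → ∏ᶠ α, w α u = ∏ᶠ α, w α v := fun u v e => by
    have a1 : ∀ u v : P, zpowers u = zpowers v → ρ u = ρ v := fun u v e => by
      rw [hρ, hρ, ← coe_subtype, ← MonoidHom.map_zpowers, ← MonoidHom.map_zpowers, e]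
    refine finprod_congr fun α => ?_
    simp only [w]
    rw [a1 u v e, a1 (α.1 u) (α.1 v) ((MonoidHom.map_zpowers α.1.toMonoidHom u).symm.trans
      (e ▸ MonoidHom.map_zpowers α.1.toMonoidHom v))]
  obtain ⟨f, a1, a2, a3⟩ := exists_sign_inv hM hm.bp.isPGroup (by
    simpa only [card_inE, top_inf_eq, sup_eq_right.2 hP] using hm.not_dvd hM) (h1 χ₀) h6 h7 (h9 χ₀)
  have a4 : ∀ u, ((∏ᶠ α, w α u : ℤ) : ℂ) * (∏ᶠ α, w α u : ℤ) = 1 := fun u => by
    haveI := Fintype.ofFinite (inE P ε)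
    rw [← Int.cast_mul, finprod_eq_prod_of_fintype, ← Finset.prod_mul_distrib, Finset.prod_eq_one
      fun α _ => by rcases h7 α u with e | e <;> simp [e], Int.cast_one]
  refine ⟨fun χ u => if u = 1 then 0 else (∏ᶠ α, w α u : ℤ) * Θ χ u, ⟨hB, hm, hP, fun χ u => ?_,
    fun χ u => ?_, fun χ _ ψ _ u hu => ?_, fun χ α hα u => ?_⟩, fun χ l => ?_⟩
  · split_ifs
    exacts [isIntegral_zero, (isIntegral_intCast _).mul ((h1 χ).isIntegral u)]
  · simp only [inv_eq_one, (h1 χ).apply_inv, h10 u⁻¹ u zpowers_inv]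
    split_ifs <;> simp
  · rw [if_neg hu, if_neg hu, map_mul, map_intCast, mul_mul_mul_comm, a4, one_mul, h3 χ ψ u hu]
  · by_cases hu : u = 1
    · simp [hu]
    · rw [if_neg hu, if_neg (by simpa using hu), h9 χ ⟨α, hα⟩ u hu, ← mul_assoc, ← Int.cast_mul,
        a3 ⟨α, hα⟩ u hu]
  · obtain ⟨m, hm'⟩ := sum_mul_int ((h1 χ).mul (isGeneralizedCharacter_oneSub l).conj) h10
    obtain ⟨k, hk⟩ := IsPGroup.iff_card.1 hm.bp.isPGroup
    have b1 : classInner (fun u => (∏ᶠ α, w α u : ℤ) * Θ χ u) (oneSub l) = m / p ^ k := by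
      rw [classInner_def, ← hm', hk, Nat.cast_pow, div_eq_inv_mul]
      simp only [mul_assoc, Pi.mul_apply]
    have b2 := (a1.mul (oc_of_isGen (h1 χ))).2
    obtain ⟨n, rfl⟩ := pow_dvd_of_memLocalRing (n := m) hM k (by
      rw [← b1, inner_oneSub_congr (g := f * Θ χ) fun u hu => by rw [Pi.mul_apply, a2 u hu], oneSub,
        classInner_sub_right]
      exact (b2 ⟨_, isIrrCharacter_linear 1⟩).sub (b2 ⟨_, isIrrCharacter_linear l⟩))
    refine ⟨n, (inner_oneSub_congr (fun u hu => if_neg hu) l).trans (b1.trans ?_)⟩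
    push_cast
    exact mul_div_cancel_left₀ _ (pow_ne_zero _ (Nat.cast_ne_zero.2 hp.out.ne_zero))

section count

variable {A : Type*} [Group A] [Fintype A] {E : Subgroup (MulAut A)} {d : IrrCharacter G → A → ℂ}

theorem Free.exists_reps (hE : Free E) (ab : ∀ u v : A, u * v = v * u) :
    ∃ (t : ℕ) (μ : Fin t → A →* ℂˣ), t * Nat.card E + 1 = Nat.card A ∧ (∀ i, μ i ≠ 1) ∧
      ∀ l, l ≠ 1 → ∃! i, Rel E (μ i) l := by
  classical
  haveI := Fintype.ofFinite (A →* ℂˣ)
  let s : Setoid {l : A →* ℂˣ // l ≠ 1} := ⟨fun a b => Rel E a.1 b.1, fun _ => .refl _, .symm, .trans⟩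
  let e := (Finite.equivFin (Quotient s)).symm
  have h1 : ∀ l, l ≠ 1 → ∃! i, Rel E (e i).out.1 l := fun l hl =>
    ⟨e.symm (Quotient.mk s ⟨l, hl⟩), by
      simp only [e.apply_symm_apply]; exact Quotient.mk_out (s := s) ⟨l, hl⟩, fun i hi =>
      e.eq_symm_apply.2 ((Quotient.out_eq _).symm.trans (Quotient.sound (s := s) hi))⟩
  refine ⟨_, fun i => (e i).out.1, ?_, fun i => (e i).out.2, h1⟩
  have h2 := Nat.card_eq_of_bijective (fun x : Fin _ × E => (⟨(e x.1).out.1.comp x.2.1.toMonoidHom,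
    Rel.ne_one ⟨_, x.2.2, rfl⟩ (e x.1).out.2⟩ : {l : A →* ℂˣ // l ≠ 1})) ⟨fun x y h => by
      replace h := congrArg Subtype.val h
      have h2 : x.1 = y.1 := (h1 _ (Rel.ne_one ⟨_, x.2.2, rfl⟩ (e x.1).out.2)).unique
        ⟨_, x.2.2, rfl⟩ ⟨_, y.2.2, h.symm⟩
      exact Prod.ext h2 (hE.inj (e x.1).out.2 (by simpa only [← h2] using h)), fun l => by
      obtain ⟨i, ⟨α, hα, h⟩, -⟩ := h1 l.1 l.2
      exact ⟨(i, ⟨α, hα⟩), Subtype.ext h⟩⟩
  rw [Nat.card_prod, Nat.card_fin] at h2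
  rw [h2, ← card_linear ab, Nat.card_eq_fintype_card, Fintype.card_subtype_compl, Fintype.card_subtype_eq,
    Nat.card_eq_fintype_card, Nat.sub_add_cancel Fintype.card_pos]

theorem AD.inner_rel (h : AD p M B E d) (χ : IrrCharacter G) {μ l : A →* ℂˣ} (e : Rel E μ l) :
    classInner (d χ) (oneSub l) = classInner (d χ) (oneSub μ) := by
  obtain ⟨α, hα, rfl⟩ := e
  rw [← classInner_comp_equiv α (d χ) (oneSub μ)]
  simp only [h.inv χ α hα]
  rfl

theorem AD.count (h : AD p M B E d) (hE : Free E) (ab : ∀ u v : A, u * v = v * u) [Nontrivial A]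
    (hi : ∀ χ l, ∃ n : ℤ, classInner (d χ) (oneSub l) = n) : ∃ t, t * Nat.card E + 1 = Nat.card A ∧
      B.card = blockRank p (B : Set (IrrCharacter G)) + t ∧ B.card ≤ Nat.card E + t ∧
        (Nat.card E ≤ 3 → Nat.card E + 2 ≤ t → B.card = Nat.card E + t) := by
  classical
  haveI := Fintype.ofFinite (A →* ℂˣ)
  haveI := Fintype.ofFinite G
  obtain ⟨t, μ, h1, h2, h3⟩ := hE.exists_reps ab
  choose a ha using fun χ i => hi χ (μ i)
  have hG : ∀ i j, ∑ χ ∈ B, a χ i * a χ j = Nat.card E + if i = j then 1 else 0 := fun i j => by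
    have := h.gram hE (h2 i) (h2 j)
    simp only [ha, map_intCast, show Rel E (μ j) (μ i) ↔ i = j from
      ⟨fun e => (h3 _ (h2 i)).unique (.refl _) e, fun e => e ▸ .refl _⟩] at this
    exact_mod_cast this
  have hz : ∀ (s : Finset (IrrCharacter G)) (x : IrrCharacter G → ℂ), (∀ i, ∑ χ ∈ s, x χ * a χ i = 0) →
      ∀ u, u ≠ 1 → ∑ χ ∈ s, x χ * d χ u = 0 := fun s x hx u hu => by
    simp only [fun χ => apply_eq_neg_sum ab (d χ) hu, mul_neg, Finset.sum_neg_distrib, Finset.mul_sum,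
      ← mul_assoc]
    rw [Finset.sum_comm, neg_eq_zero]
    refine Finset.sum_eq_zero fun l _ => ?_
    rw [← Finset.sum_mul]
    by_cases e : l = 1
    · simp [e, oneSub, classInner_zero_right]
    · obtain ⟨i, hi, -⟩ := h3 l e
      simp only [h.inner_rel _ hi, ha, hx, zero_mul]
  have hne : ∀ χ ∈ B, ∃ i, a χ i ≠ 0 := fun χ hχ => by
    obtain ⟨u, hu⟩ := exists_ne (1 : A)
    by_contra! h4
    exact h.ne χ hχ u hu (by simpa using hz {χ} 1 (by simp [h4]) u hu)
  have hreg : ∀ x, ¬ p ∣ orderOf x → ∀ i, ∑ χ ∈ B, χ.1 x * a χ i = 0 := fun x hx i => by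
    simpa only [ha] using h.sum_reg hx (μ i)
  haveI : Nonempty (Fin t) := ⟨⟨0, Nat.pos_of_ne_zero fun e => by
    rw [e, zero_mul, zero_add] at h1
    exact Finite.one_lt_card.ne h1⟩⟩
  refine ⟨t, h1, ?_, by simpa using card_le_of_gram hG hne, fun e1 e2 => by
    simpa using card_eq_of_gram hG hne Nat.card_pos e1 (by simpa using e2)
      (deg := fun χ => charDegree χ.1) (fun χ _ => Nat.cast_ne_zero.2 (deg_pos χ).ne') fun i => by
        have := hreg 1 (by simpa using hp.out.one_lt.ne') i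
        simp only [← coe_deg] at this
        exact_mod_cast this⟩
  let L := Fintype.linearCombination ℂ fun χ : B => Small.reg p χ.1.1
  have h4 : LinearMap.range L = VB p (B : Set (IrrCharacter G)) := by
    rw [Fintype.range_linearCombination, VB]
    congr 1
    ext f
    simp [pRegularPart_eq]
  have h5 := L.finrank_range_add_finrank_ker
  rw [h4, ← blockRank_eq, Module.finrank_fintype_fun_eq_card, Fintype.card_coe] at h5
  rw [← h5, add_right_inj]
  have hL : ∀ x, x ∈ LinearMap.ker L ↔ ∀ g, ¬ p ∣ orderOf g → ∑ χ : B, x χ * χ.1.1 g = 0 := fun x => by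
    simp only [L, LinearMap.mem_ker, Fintype.linearCombination_apply, funext_iff, Finset.sum_apply,
      Pi.smul_apply, smul_eq_mul, Pi.zero_apply]
    refine forall_congr' fun g => ?_
    by_cases hg : p ∣ orderOf g
    · simp [reg_of_dvd _ hg, hg]
    · simp [reg_of_not_dvd _ hg, hg]
  let N : Matrix B (Fin t) ℂ := fun χ i => a χ i
  refine le_antisymm ?_ ?_
  · refine (LinearMap.finrank_le_finrank_of_injective (f := N.vecMulLinear.domRestrict (LinearMap.ker L))
      ((injective_iff_map_eq_zero _).2 fun x hx => Subtype.ext (funext (Fintype.linearIndependent_iff.1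
        ((irr_linearIndependent G).comp _ Subtype.val_injective) x.1 (funext fun g => ?_))))).trans_eq
      (by simp)
    simp only [Finset.sum_apply, Pi.smul_apply, smul_eq_mul, Function.comp_apply, Pi.zero_apply]
    by_cases hg : p ∣ orderOf g
    swap
    · exact (hL _).1 x.2 g hg
    obtain ⟨w, b1, -, b2⟩ := h.val g hg
    simp only [fun χ : B => b2 χ χ.2, Finset.mul_sum, ← mul_assoc]
    rw [Finset.sum_comm]
    refine Finset.sum_eq_zero fun u _ => ?_
    by_cases e : u = 1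
    · simp [e, b1]
    have := hz B (fun χ => if h : χ ∈ B then x.1 ⟨χ, h⟩ else 0) (fun i => by
      rw [← Finset.sum_coe_sort]
      simpa [Matrix.vecMul, dotProduct] using congrFun hx i) u e
    rw [← Finset.sum_coe_sort] at this
    simp only [SetLike.coe_mem, dif_pos] at this
    rw [← Finset.sum_mul, this, zero_mul]
  · refine Eq.trans_le (by simp) (LinearMap.finrank_le_finrank_of_injective
      (f := N.mulVecLin.codRestrict (LinearMap.ker L) fun c => (hL _).2 fun g hg => ?_)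
      ((injective_iff_map_eq_zero _).2 fun c hc => ?_))
    · simp only [Matrix.mulVecLin_apply, Matrix.mulVec, dotProduct, Finset.sum_mul]
      rw [Finset.sum_comm]
      refine Finset.sum_eq_zero fun i _ => ?_
      have := hreg g hg i
      rw [← Finset.sum_coe_sort] at this
      rw [← mul_zero (c i), ← this, Finset.mul_sum]
      exact Finset.sum_congr rfl fun χ _ => by ring
    replace hc : ∀ χ : B, ∑ i, a χ i * c i = 0 := congrFun (congrArg Subtype.val hc)
    have b1 : ∀ j, c j + Nat.card E * ∑ i, c i = 0 := fun j => by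
      have : ∑ χ : B, a χ j * ∑ i, a χ i * c i = 0 := by simp [hc]
      simp only [Finset.mul_sum, ← mul_assoc] at this
      rw [Finset.sum_comm] at this
      simp only [← Finset.sum_mul, ← Int.cast_mul, ← Int.cast_sum,
        fun i => Finset.sum_coe_sort B fun χ => a χ j * a χ i, hG] at this
      simpa [add_mul, Finset.sum_add_distrib, ← Finset.mul_sum, add_comm] using this
    have b2 := Finset.sum_congr (s₁ := Finset.univ) rfl fun j _ => b1 j
    rw [Finset.sum_add_distrib, Finset.sum_const, Finset.sum_const_zero, Finset.card_univ, Fintype.card_fin,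
      nsmul_eq_mul, ← mul_assoc, add_comm, ← add_one_mul, ← Nat.cast_mul, ← Nat.cast_succ,
      mul_eq_zero_iff_left (Nat.cast_ne_zero.2 (Nat.succ_ne_zero _))] at b2
    exact funext fun j => by simpa [b2] using b1 j

end count

/-- Blocks with abelian defect group and Frobenius inertial quotient. -/
theorem frob_count (hM : IsPModular p M) (hB : IsPBlock M (B : Set (IrrCharacter G)))
    (hm : MaxP p ⊤ (eB M (B : Set (IrrCharacter G))) P ε) (hP1 : P ≠ ⊥) (hP : P ≤ 𝐂 P)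
    (hE : Free (inE P ε)) : ∃ t, t * Nat.card (inE P ε) + 1 = Nat.card P ∧
      B.card = blockRank p (B : Set (IrrCharacter G)) + t ∧ B.card ≤ Nat.card (inE P ε) + t ∧
        (Nat.card (inE P ε) ≤ 3 → B.card = Nat.card (inE P ε) + t) := by
  classical
  haveI := Fintype.ofFinite G
  haveI := Fintype.ofFinite P
  haveI := (nontrivial_iff_ne_bot P).2 hP1
  have ab : ∀ u v : P, u * v = v * u := fun u v => Subtype.ext (hP v.2 u u.2)
  obtain ⟨d, h1, h2⟩ := exists_FD_glue hM hB hm hP hE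
  obtain ⟨t, h3, h4, h5, h6⟩ := (h1.ad hM).count hE ab h2
  refine ⟨t, h3, h4, h5, fun h7 => ?_⟩
  suffices (∃ d X Y δ δ₀ μ, DD p M B (inE P ε) d X Y δ δ₀ μ) ∨ Nat.card (inE P ε) + 2 ≤ t from
    this.elim (fun ⟨_, _, _, _, _, _, h⟩ => by rw [h4, h.rank hE ab]) (h6 h7)
  by_cases e1 : Nat.card (inE P ε) = 1
  · exact .inl (exists_DD_nil hM hB hP hm (card_eq_one.1 e1))
  by_cases e2 : IsCyclic P
  · obtain ⟨-, -, B', e, h⟩ := exists_DD' hM hB hP1 e2 hm
    exact .inl (Finset.coe_injective e ▸ h)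
  obtain ⟨k, hk⟩ := IsPGroup.iff_card.1 hm.bp.isPGroup
  by_cases e3 : Nat.card P = 4
  · obtain rfl : p = 2 := (Nat.prime_dvd_prime_iff_eq hp.out Nat.prime_two).1 (hp.out.dvd_of_dvd_pow
      (n := 2) (e3 ▸ dvd_card_of_isPGroup_ne_bot hm.bp.isPGroup hP1 :))
    exact .inl (exists_DD_klein hM hB ⟨e3, (not_isCyclic_iff_exponent_eq_prime Nat.prime_two e3).1 e2⟩
      hm).2.2
  refine .inr (not_lt.1 fun h8 => ?_)
  have h9 : ∀ q, q.Prime → Nat.card P ≠ q := fun q hq e =>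
    have := Fact.mk hq
    e2 (isCyclic_of_prime_card e)
  have := h9 3 (by norm_num)
  have := h9 5 (by norm_num)
  have := h9 7 (by norm_num)
  have := h9 13 (by norm_num)
  have : Nat.card P ≠ 10 := fun e => by
    have a1 := Nat.prime_eq_prime_of_dvd_pow Nat.prime_two hp.out (e.symm.trans hk ▸ (by norm_num : 2 ∣ 10))
    have a2 := Nat.prime_eq_prime_of_dvd_pow Nat.prime_five hp.out (e.symm.trans hk ▸ (by norm_num : 5 ∣ 10))
    omega
  have := Finite.one_lt_card (α := P)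
  have : 0 < Nat.card (inE P ε) := Nat.card_pos
  generalize Nat.card (inE P ε) = e at *
  interval_cases e <;> omega

end Cfsg.Lib.Small
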