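import Cfsg.Agent.Lib.Golay.Blk
import Cfsg.Agent.Lib.Golay.Label
import Cfsg.Agent.Lib.Golay.Trio

/-! Subgroups of small index in the large Mathieu groups. -/

set_option autoImplicit false
set_option maxRecDepth 100000

namespace Cfsg.Lib.Small

open Subgroup MulAction Cfsg.Lib.Golay
open scoped Pointwise

section gen
variable {G : Type*} [Group G] [Finite G]

theorem syl_cnt (H : Subgroup G) {p : ℕ} (hp : p.Prime) (h2 : ¬ p * p ∣ Nat.card H) :
    ∃ n, n % p = 1 ∧ ∀ t ∈ H, orderOf t = p →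
      Nat.card H = n * Nat.card ↥(H ⊓ normalizer (zpowers t : Set G)) := by
  haveI := Fact.mk hp
  refine ⟨Nat.card (Sylow p H), Eq.trans (card_sylow_modEq_one p H) (Nat.mod_eq_of_lt hp.one_lt),
    fun t ht h => ?_⟩
  have hle : zpowers t ≤ H := zpowers_le.2 ht
  have c : Nat.card ((zpowers t).subgroupOf H) = p := by
    rw [Nat.card_congr (subgroupOfEquivOfLe hle).toEquiv, Nat.card_zpowers, h]
  have h3 := ((zpowers t).subgroupOf H).card_mul_index
  rw [c] at h3
  rw [Sylow.card_eq_index_normalizer ((IsPGroup.of_card (n := 1) (by rw [c, pow_one]) :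
    IsPGroup p ((zpowers t).subgroupOf H)).toSylow fun hd => h2 (h3 ▸ Nat.mul_dvd_mul_left p hd)),
    ← card_subgroupOf, subgroupOf_normalizer_eq hle]
  exact (index_mul_card _).symm

theorem norm_cnt (H : Subgroup G) {p : ℕ} (hp : p.Prime) {t : G} (h : orderOf t = p) :
    ∃ m, m ∣ p - 1 ∧ Nat.card ↥(H ⊓ normalizer (zpowers t : Set G)) =
      m * Nat.card ↥(H ⊓ centralizer {t}) := by
  let φ : ↥(H ⊓ normalizer (zpowers t : Set G)) →* MulAut (zpowers t) :=
    (zpowers t).normalizerMonoidHom.comp (inclusion inf_le_right)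
  have e : centralizer (zpowers t : Set G) = centralizer {t} := by
    rw [zpowers_eq_closure, centralizer_closure]
  refine ⟨Nat.card φ.range, ?_, ?_⟩
  · have := card_subgroup_dvd_card φ.range
    rwa [IsCyclic.card_mulAut, Nat.card_zpowers, h, Nat.totient_prime hp] at this
  · rw [card_eq_range_mul_ker φ, card_ker_eq φ (K := H ⊓ centralizer {t})
      (inf_le_inf_left _ (e ▸ centralizer_le_normalizer _)) fun g => ?_]
    have := (zpowers t).normalizerMonoidHom_ker
    rw [e] at this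
    exact (SetLike.ext_iff.1 this (inclusion inf_le_right g)).trans ⟨fun h => ⟨g.2.1, h⟩, fun h => h.2⟩

omit [Finite G] in
theorem conjA_comap (h : G) (K : Subgroup G) : ConjA h (K.comap (MulAut.conj h⁻¹).toMonoidHom) K :=
  fun g => by simp

theorem exists_order {K : Subgroup G} {p : ℕ} (hp : p.Prime) (h : p ∣ Nat.card K) :
    ∃ g ∈ K, orderOf g = p := by
  haveI := Fact.mk hp
  obtain ⟨g, hg⟩ := exists_prime_orderOf_dvd_card' p h
  exact ⟨g, g.2, by rw [orderOf_coe, hg]⟩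

omit [Finite G] in
theorem order_dvd {K : Subgroup G} {g : G} (hg : g ∈ K) : orderOf g ∣ Nat.card K :=
  K.orderOf_dvd_natCard hg

end gen

theorem card_mod_fix {α : Type*} [Fintype α] [DecidableEq α] {g : Equiv.Perm α} {p : ℕ} (hp : p.Prime)
    (h : orderOf g = p) {A : Finset α} (hA : ∀ a ∈ A, g a ∈ A) :
    A.card ≡ (A.filter fun a => g a = a).card [MOD p] := by
  haveI := Fact.mk hp
  let f : Function.End A := fun a => ⟨g a, hA a a.2⟩
  have hf : ∀ (k : ℕ) (a : A), ((f ^ k) a : α) = (g ^ k) a := fun k => by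
    induction k with
    | zero => exact fun _ => rfl
    | succ k ih => intro a; rw [pow_succ, pow_succ]; exact ih _
  have := Equiv.Perm.card_fixedPoints_modEq (f := f) (p := p) (n := 1) (funext fun a => Subtype.ext (by
    rw [hf, pow_one, ← h, pow_orderOf_eq_one]; rfl))
  rw [Fintype.card_coe] at this
  rwa [← Nat.card_eq_fintype_card, Nat.card_congr (β := (A.filter fun a => g a = a)) ⟨fun a =>
    ⟨a.1, Finset.mem_filter.2 ⟨a.1.2, congrArg Subtype.val a.2⟩⟩, fun a => ⟨⟨a, (Finset.mem_filter.1 a.2).1⟩,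
      Subtype.ext (Finset.mem_filter.1 a.2).2⟩, fun _ => rfl, fun _ => rfl⟩, Nat.card_eq_finsetCard] at this

theorem dvd_48 {g : Equiv.Perm GolayPt} (hg : g ∈ M24)
    (h : 5 ≤ (Finset.univ.filter fun a => g a = a).card) : orderOf g ∣ 48 := by
  obtain ⟨s, hs, h5⟩ := Finset.exists_subset_card_eq h
  let x : Fin 5 ↪ GolayPt := (Finset.equivFinOfCardEq h5).symm.toEmbedding.trans (Function.Embedding.subtype _)
  obtain ⟨σ, hσ, e⟩ := exists_M24_emb le_rfl emb5 x
  have c : Nat.card ↥(M24 ⊓ stabilizer (Equiv.Perm GolayPt) emb5) = 48 :=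
    card_stab_of_ncard_orbit (n := 5100480) ((congrArg Set.ncard card_M24_aux.2).trans
      (by rw [Set.ncard_univ, card_emb5])) card_M24
  rw [← c, ← ((ConjA.base hσ).inf_stab emb5).card_eq]
  refine order_dvd ⟨hg, Function.Embedding.ext fun i => ?_⟩
  show g (σ (emb5 i)) = σ (emb5 i)
  rw [e]
  exact (Finset.mem_filter.1 (hs ((Finset.equivFinOfCardEq h5).symm i).2)).2

/-- an invariant set of a subgroup of order divisible by `p ≥ 5`. -/
theorem inv_mod {K : Subgroup (Equiv.Perm GolayPt)} (hK : K ≤ M24) {p : ℕ} (hp : p.Prime) (h5 : 5 ≤ p)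
    (h48 : ¬ p ∣ 48) (hd : p ∣ Nat.card K) {A : Finset GolayPt} (hA : ∀ g ∈ K, ∀ a ∈ A, g a ∈ A) :
    A.card % p ≤ 24 % p := by
  obtain ⟨g, hg, h⟩ := exists_order hp hd
  have h1 : (Finset.univ.filter fun a => g a = a).card < p := by
    by_contra h'
    exact h48 (h ▸ dvd_48 (hK hg) (by omega))
  have h2 := card_mod_fix hp h (A := Finset.univ) fun _ _ => Finset.mem_univ _
  have h3 := card_mod_fix hp h (hA g hg)
  have h4 : (A.filter fun a => g a = a).card ≤ (Finset.univ.filter fun a => g a = a).card :=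
    Finset.card_le_card (Finset.filter_subset_filter _ (Finset.subset_univ _))
  rw [Finset.card_univ, card_golayPt] at h2
  unfold Nat.ModEq at h2 h3
  rw [h2, h3, Nat.mod_eq_of_lt h1, Nat.mod_eq_of_lt (h4.trans_lt h1)]
  exact h4

/-- the orbit of a point as a finite set. -/
theorem exists_orb (K : Subgroup (Equiv.Perm GolayPt)) (a : GolayPt) : ∃ A : Finset GolayPt,
    (∀ b, b ∈ A ↔ ∃ g ∈ K, g a = b) ∧ (∀ g ∈ K, ∀ b ∈ A, g b ∈ A) ∧
      Nat.card K = A.card * Nat.card ↥(K ⊓ stabilizer (Equiv.Perm GolayPt) a) := by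
  have h : ∀ b, b ∈ (Set.toFinite (orbit K a)).toFinset ↔ ∃ g ∈ K, g a = b := fun b => by
    rw [Set.Finite.mem_toFinset, mem_orbit_subgroup]; rfl
  refine ⟨_, h, fun g hg b hb => ?_, ?_⟩
  · obtain ⟨k, hk, rfl⟩ := (h b).1 hb
    exact (h _).2 ⟨g * k, mul_mem hg hk, rfl⟩
  · rw [← Set.ncard_eq_toFinset_card]; exact card_eq_orbit_mul K a

theorem smul_eq_of_inv {g : Equiv.Perm GolayPt} {A : Finset GolayPt} (h : ∀ a ∈ A, g a ∈ A) : g • A = A := by
  refine Finset.eq_of_subset_of_card_le (fun x hx => ?_) (by rw [Finset.card_smul_finset])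
  obtain ⟨y, hy, rfl⟩ := Finset.mem_smul_finset.mp hx
  exact h y hy

theorem inv_compl {K : Subgroup (Equiv.Perm GolayPt)} {A : Finset GolayPt} (h : ∀ g ∈ K, ∀ a ∈ A, g a ∈ A) :
    ∀ g ∈ K, ∀ a ∈ Aᶜ, g a ∈ Aᶜ := fun g hg a ha => by
  rw [Finset.mem_compl] at ha ⊢
  exact (apply_mem_iff_of_smul_eq (smul_eq_of_inv (h g hg)) a).not.2 ha

theorem inv_insert {K : Subgroup (Equiv.Perm GolayPt)} {A : Finset GolayPt} {x : GolayPt}
    (hx : ∀ g ∈ K, g x = x) (h : ∀ g ∈ K, ∀ a ∈ A, g a ∈ A) :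
    ∀ g ∈ K, ∀ a ∈ insert x A, g a ∈ insert x A := fun g hg a ha => by
  rcases Finset.mem_insert.1 ha with rfl | ha
  · rw [hx g hg]; exact Finset.mem_insert_self _ _
  · exact Finset.mem_insert_of_mem (h g hg a ha)

theorem card_compl' (A : Finset GolayPt) : Aᶜ.card = 24 - A.card := by
  rw [Finset.card_compl, card_golayPt]

theorem none_mem_O0 : (none : GolayPt) ∈ om 0x82402f := none_mem_om.2 (by decide +kernel)

theorem idx253_M23 {x : GolayPt} {K : Subgroup (Equiv.Perm GolayPt)}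
    (hK : K ≤ M24 ⊓ stabilizer (Equiv.Perm GolayPt) x) (hc : Nat.card K = 40320) :
    (∃ s : Finset GolayPt, s.card = 2 ∧ x ∉ s ∧
      K = M24 ⊓ stabilizer (Equiv.Perm GolayPt) s ⊓ stabilizer (Equiv.Perm GolayPt) x) ∨
    ∃ o ∈ octads, x ∈ o ∧
      K = M24 ⊓ stabilizer (Equiv.Perm GolayPt) o ⊓ stabilizer (Equiv.Perm GolayPt) x := by
  obtain ⟨σ, hσ, rfl⟩ := std_pt x
  have c1 := (ConjA.base hσ).inf_stab (none : GolayPt)
  have cE := conjA_comap σ E16
  obtain ⟨h, hh, e⟩ := exists_conj_le Nat.prime_two hK (n := 253) (by rw [c1.card_eq, hc]; exact card_M23)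
    (by norm_num) (P := E16.comap (MulAut.conj σ⁻¹).toMonoidHom)
    (IsPGroup.of_card (n := 4) (by rw [cE.card_eq, card_E16]; rfl))
    fun g hg => (c1 g).2 ⟨((cE g).1 hg).1, (mem_E16.1 ((cE g).1 hg)).2 _ none_mem_O0⟩
  have hτ : h⁻¹ * σ ∈ M24 := mul_mem (inv_mem hh.1) hσ
  have hx : (h⁻¹ * σ) • (none : GolayPt) = σ • (none : GolayPt) := by
    rw [mul_smul, inv_smul_eq_iff]; exact (show h • _ = _ from hh.2).symm
  generalize σ • (none : GolayPt) = x at *
  have hfix : ∀ g ∈ K, g x = x := fun g hg => (hK hg).2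
  have hxo : x ∈ (h⁻¹ * σ) • om 0x82402f := hx ▸ Finset.smul_mem_smul_finset none_mem_O0
  have ho := (smul_mem_octads_iff hτ).2 O0_mem
  obtain ⟨A, hA, hi, hd⟩ := exists_orb K ((h⁻¹ * σ) • gc.pt 4)
  have h1 : ((h⁻¹ * σ) • om 0x82402f)ᶜ ⊆ A := fun b hb => by
    obtain ⟨b, rfl⟩ := exists_eq_smul (h⁻¹ * σ) b
    rw [Finset.mem_compl, smul_mem_smul'] at hb
    obtain ⟨k, hk, rfl⟩ := exists_E16 pt4_not_mem hb
    refine (hA _).2 ⟨_, e (σ * k * σ⁻¹) ((cE _).2 (by simpa [mul_assoc] using hk)), ?_⟩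
    simp
  have h2 : x ∉ A := fun hxA => by
    obtain ⟨g, hg, e⟩ := (hA x).1 hxA
    rw [← hfix g hg, g.apply_eq_iff_eq, ← hx, smul_left_cancel_iff] at e
    exact pt4_not_mem (e ▸ none_mem_O0)
  have h3 := Finset.card_le_card h1
  have h4 := inv_mod (hK.trans inf_le_left) (p := 7) (by norm_num) (by norm_num) (by norm_num)
    (by rw [hc]; norm_num) (inv_insert hfix hi)
  have h4' := inv_mod (hK.trans inf_le_left) (p := 7) (by norm_num) (by norm_num) (by norm_num)
    (by rw [hc]; norm_num) hi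
  have h5 := Finset.card_le_univ (insert x A)
  rw [card_compl', ho.2] at h3
  rw [Finset.card_insert_of_notMem h2] at h4 h5
  rw [card_golayPt] at h5
  have h6 : A.card ∣ 40320 := hc ▸ Dvd.intro _ hd.symm
  have h7 : A.card = 16 ∨ A.card = 21 := by
    generalize A.card = n at h3 h4 h4' h5 h6 ⊢
    have : n ≤ 23 := by omega
    have : 16 ≤ n := by omega
    interval_cases n <;> omega
  rcases h7 with h7 | h7
  · refine Or.inr ⟨_, ho, hxo, eq_of_le_of_card_ge (fun g hg => ⟨⟨(hK hg).1, ?_⟩, (hK hg).2⟩) ?_⟩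
    · rw [← compl_compl ((h⁻¹ * σ) • om 0x82402f), Finset.eq_of_subset_of_card_le h1 (by
        rw [card_compl', ho.2, h7])]
      exact smul_eq_of_inv (inv_compl hi g hg)
    · rw [← hx, (((ConjA.base hτ).inf_stab (om 0x82402f)).inf_stab (none : GolayPt)).card_eq, hc]
      exact (stab_pt_cert gen_gHO inH_gHO 23 (by decide) (n := 8) (N := 40320) card_HO (by decide +kernel)).2.le
  · have h8 : (insert x A)ᶜ.card = 2 := by rw [card_compl', Finset.card_insert_of_notMem h2, h7]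
    have h9 : x ∉ (insert x A)ᶜ := by simp
    refine Or.inl ⟨_, h8, h9, eq_of_le_of_card_ge (fun g hg => ⟨⟨(hK hg).1,
      smul_eq_of_inv (inv_compl (inv_insert hfix hi) g hg)⟩, (hK hg).2⟩) ?_⟩
    generalize (insert x A)ᶜ = s at h8 h9
    obtain ⟨a, b, hab, rfl⟩ := Finset.card_eq_two.1 h8
    obtain ⟨τ, hτ, e1, e2, e3⟩ := exists_M24_three (a := none) (b := some 0) (c := gc.pt 1) (a' := a) (b' := b)
      (c' := x) (by decide) (by simp at h9 ⊢; tauto)
    have : ({a, b} : Finset GolayPt) = τ • om 0x800001 := by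
      rw [show om 0x800001 = {none, some 0} by decide +kernel, smul_pair, ← e1, ← e2]; rfl
    rw [this, show x = τ • gc.pt 1 from e3.symm,
      (((ConjA.base hτ).inf_stab (om 0x800001)).inf_stab (gc.pt 1)).card_eq, hc]
    exact (stab_pt_cert gen_gHD2 inH_gHD2 1 (by decide) (n := 22) (N := 40320) HD2_aux.2 (by decide +kernel)).2.le

end Cfsg.Lib.Small
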