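import Cfsg.Agent.Lib.Block2.EqDeg
import Cfsg.Agent.Lib.Block2.Har
import Cfsg.Agent.Lib.Small.SubsecSum

/-!
# Projective indecomposable characters: the number of simple modules, traces of automorphisms
-/

set_option autoImplicit false
set_option linter.unusedSectionVars false

namespace Cfsg.Lib.Small

open Cfsg.Lib.Block Cfsg.Lib.Block2 Cfsg.Lib.Char Cfsg.Lib.Amalg MonoidAlgebra Subgroup
open scoped ComplexConjugate

variable {G : Type*} [Group G] [Fintype G] {p : ℕ} [hp : Fact p.Prime] {M : Ideal AlgInt} [M.IsMaximal]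
  (W : Wed M G) {U : Set (IrrCharacter G)} [DecidablePred (· ∈ U)]

theorem exists_reg_coeff (hM : IsPModular p M) (hU : IsBlockUnion M U) [DecidablePred (· ∈ W.T U)] :
    ∃ n : IrrCharacter G → Fin W.n → ℂ,
      (∀ χ ψ : IrrCharacter G, classInner (reg p χ.1) ψ.1 = ∑ s, n χ s * W.dec ψ s) ∧
      ∀ r t, ∑ ξ with ξ ∈ U, n ξ t * W.dec ξ r = if r ∈ W.T U ∧ t = r then 1 else 0 := by
  have hq : ((p ^ (Nat.card G).factorization p : ℕ) : ℂ) ≠ 0 :=
    Nat.cast_ne_zero.2 (pow_ne_zero _ hp.out.ne_zero)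
  choose n hn using fun χ : IrrCharacter G => W.exists_int_of_PSp (mem_PSp hM
    (χ.2.isGeneralizedCharacter.indicator_regular (p := p)) fun g hg => by simp [hg])
  have h1 : ∀ χ ψ : IrrCharacter G, classInner (reg p χ.1) ψ.1 =
      ∑ s, (n χ s : ℂ) / (p ^ (Nat.card G).factorization p : ℕ) * W.dec ψ s := fun χ ψ => by
    simp only [div_mul_eq_mul_div, ← Finset.sum_div, ← hn, classInner_smul_left]
    rw [mul_div_cancel_left₀ _ hq]
  refine ⟨_, h1, fun r t => ?_⟩
  by_cases hr : r ∈ W.T U
  · have := Fintype.linearIndependent_iff.1 W.linearIndependent_dec (fun t => ∑ ξ : IrrCharacter G,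
      (n ξ t : ℂ) / (p ^ (Nat.card G).factorization p : ℕ) * W.dec ξ r - if t = r then 1 else 0)
      (funext fun ψ => by
        have h2 : reg p (pchar (W.i r)) = pchar (W.i r) := funext fun g => by
          by_cases hg : p ∣ orderOf g
          · rw [reg_of_dvd _ hg, pchar_eq_zero hM (W.isInt_i r) (W.i_mul_i r) hg]
          · exact reg_of_not_dvd _ hg
        have h3 := classInner_pchar ψ.2.isGeneralizedCharacter (W.i r)
        rw [← h2, pchar_eq_sum, reg_sum_smul] at h3
        simp only [classInner_sum_left, classInner_smul_left, W.charExt_i, h1, Finset.mul_sum] at h3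
        simp only [Finset.sum_apply, Pi.smul_apply, smul_eq_mul, sub_mul, Finset.sum_sub_distrib, ite_mul,
          one_mul, zero_mul, Finset.sum_ite_eq', Finset.mem_univ, if_true, Pi.zero_apply, Finset.sum_mul]
        rw [← h3, Finset.sum_comm, sub_eq_zero]
        exact Finset.sum_congr rfl fun _ _ => Finset.sum_congr rfl fun _ _ => by ring) t
    rw [Finset.sum_filter_of_ne fun ξ _ h => (W.mem_iff_of_dec hU (Nat.cast_ne_zero.1
      (right_ne_zero_of_mul h))).2 hr, sub_eq_zero.1 this]
    simp [hr]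
  · rw [if_neg fun h => hr h.1]
    exact Finset.sum_eq_zero fun ξ hξ => by
      rw [not_not.1 fun h => hr ((W.mem_iff_of_dec hU h).1 (Finset.mem_filter.1 hξ).2), Nat.cast_zero,
        mul_zero]

theorem card_T_eq (hM : IsPModular p M) (hU : IsBlockUnion M U) [DecidablePred (· ∈ W.T U)] :
    (Finset.univ.filter (· ∈ W.T U)).card = blockRank p U := by
  obtain ⟨n, h1, h2⟩ := exists_reg_coeff W hM hU
  have := sum_inner_reg_eq_rank hM hU
  simp only [h1] at this
  rw [Finset.sum_comm] at this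
  simp only [h2, and_true, Finset.sum_boole] at this
  exact_mod_cast this

theorem exists_trace (hM : IsPModular p M) (hU : IsBlockUnion M U) (α : G ≃* G) :
    ∃ N : ℕ, ∑ ξ with ξ ∈ U, classInner (reg p ξ.1) (fun g => ξ.1 (α g)) = N := by
  classical
  obtain ⟨W⟩ := nonempty_wed M G
  obtain ⟨n, h1, h2⟩ := exists_reg_coeff W hM hU
  choose m _ hm using fun t => W.exists_decomp (isInt_push α.toMonoidHom (W.isInt_i t))
    (by rw [← map_mul, W.i_mul_i])
  have h3 : ∀ ξ : IrrCharacter G, classInner (reg p ξ.1) (fun g => ξ.1 (α g)) =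
      ∑ t, ∑ r, m t r * (n ξ t * W.dec ξ r) := fun ξ => by
    refine (h1 ξ (irrCongr α.symm ξ)).trans (Finset.sum_congr rfl fun t _ => ?_)
    rw [← W.charExt_i, show charExt (irrCongr α.symm ξ).1 (W.i t) = _ from
      (charExt_mapDomain ξ.1 α.toMonoidHom _).symm, hm t _ ξ.2.isClassFunction, Finset.mul_sum]
    exact Finset.sum_congr rfl fun r _ => by rw [W.charExt_i, mul_left_comm]
  refine ⟨∑ t, ∑ r, m t r * if r ∈ W.T U ∧ t = r then 1 else 0, ?_⟩
  simp only [h3]
  rw [Finset.sum_comm]
  push_cast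
  refine Finset.sum_congr rfl fun t _ => Finset.sum_comm.trans (Finset.sum_congr rfl fun r _ => ?_)
  rw [← Finset.mul_sum, h2]

theorem le_card_fixed (hM : IsPModular p M) (hU : IsBlockUnion M U) {k : ℕ} (hk : k.Coprime (Nat.card G))
    (h1 : ∀ g : G, ¬ p ∣ orderOf g → g ^ k = g) :
    blockRank p U ≤ Nat.card {χ : IrrCharacter G // χ ∈ U ∧ ∀ g, χ.1 (g ^ k) = χ.1 g} := by
  classical
  have h2 : ∀ x : G, ∃ N : ℕ, ∑ g with pp p g = x, ∑ χ with χ ∈ U, χ.1 g * conj (χ.1 (g ^ k)) = N ∧
      (x = 1 → N = Nat.card G * blockRank p U) := fun x => by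
    by_cases h0 : x = 1
    · refine ⟨_, ?_, fun _ => rfl⟩
      rw [Nat.cast_mul, card_mul_rank_eq hM hU, Finset.sum_filter]
      refine Finset.sum_congr rfl fun g _ => ?_
      by_cases hg : p ∣ orderOf g
      · rw [if_pos hg, if_neg fun e => ((isPPart_pp g).eq_one_iff hp.out).1 (e.trans h0) hg]
      · rw [if_neg hg, if_pos ((pp_of_not_dvd hg).trans h0.symm), h1 g hg, Block2.finsum_mem_irr]
    simp only [h0, false_imp_iff, and_true]
    by_cases hx : ∃ j, orderOf x = p ^ j
    swap
    · exact ⟨0, by rw [Finset.filter_false_of_mem fun g _ (e : pp p g = x) =>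
        hx (e ▸ (isPPart_pp g).orderOf_eq)]; simp⟩
    haveI := Fintype.ofFinite (centralizer ({x} : Set G))
    rw [Finset.filter_congr (q := fun g => IsPPart p g x) fun g _ =>
      ⟨fun e : pp p g = x => e ▸ isPPart_pp g, fun e => e.pp_eq⟩, sum_isPPart_eq hx]
    have h3 : ∀ c : centralizer ({x} : Set G), ¬ p ∣ orderOf c → (x * c) ^ k = x ^ k * c := fun c hc => by
      rw [Commute.mul_pow (mem_centralizer_singleton_iff.1 c.2).symm, h1 c (by rwa [orderOf_coe])]
    by_cases hc : IsConj (x ^ k) x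
    · obtain ⟨y, hy⟩ := isConj_iff.1 hc
      have hn : y ∈ normalizer (centralizer ({x} : Set G) : Set G) := cj_eq_self_iff.1 (by
        conv_lhs => rw [← centralizer_pow_eq hk, cj_centralizer_singleton, hy])
      obtain ⟨N, hN⟩ := exists_trace hM (isBlockUnion_under (centralizer {x}) U)
        ((centralizer {x}).normalizerMonoidHom ⟨y, hn⟩)
      refine ⟨Nat.card (centralizer ({x} : Set G)) * N, ?_⟩
      rw [Nat.cast_mul, ← hN, Finset.mul_sum]
      simp only [card_mul_classInner]
      rw [Finset.sum_comm]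
      refine Finset.sum_congr rfl fun c _ => ?_
      split_ifs with h
      · simp [reg_of_dvd _ h]
      simp only [reg_of_not_dvd _ h, ← Block2.finsum_mem_irr]
      rw [← kernel_subsec hM hU rfl hx (by rwa [MulEquiv.orderOf_eq]) h, h3 c h]
      refine finsum_mem_congr rfl fun χ _ => congrArg (_ * conj ·) ?_
      rw [← χ.2.isClassFunction _ y, ← conj_mul, hy]
      rfl
    · refine ⟨0, (Finset.sum_eq_zero fun c _ => ?_).trans Nat.cast_zero.symm⟩
      split_ifs with h
      · rfl
      have hc' : Commute x c := (mem_centralizer_singleton_iff.1 c.2).symm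
      obtain ⟨j, hj⟩ := hx
      obtain ⟨i, -, hi⟩ := (Nat.dvd_prime_pow hp.out).1 (hj ▸ orderOf_pow_dvd (x := x) k)
      have := block_orthogonality_of_int hM hU.isInt_idem
        (isPPart_mul hc' ⟨j, hj⟩ (by rwa [orderOf_coe])) (isPPart_mul (hc'.pow_left k) ⟨i, hi⟩
          (by rwa [orderOf_coe])) fun e => hc e.symm
      simpa only [Block2.finsum_mem_irr, h3 c h, fun χ : IrrCharacter G => χ.2.isCharacter.apply_inv] using this
  choose N h3 h4 using h2
  have h5 := (Finset.sum_fiberwise Finset.univ (pp p) _).symm.trans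
    (Finset.sum_congr rfl fun x _ => by convert h3 x)
  rw [Finset.sum_comm, Finset.sum_congr rfl fun χ _ => by
    rw [← card_mul_classInner, show classInner χ.1 _ = _ from
      classInner_irr χ ⟨_, χ.2.comp_pow hk⟩], ← Finset.mul_sum, Finset.sum_boole, Finset.filter_filter] at h5
  refine Nat.le_of_mul_le_mul_left ?_ (Nat.card_pos (α := G))
  rw [← h4 1 rfl, Nat.card_eq_fintype_card (α := Subtype _), Fintype.card_subtype]
  refine (Finset.single_le_sum (fun _ _ => Nat.zero_le _) (Finset.mem_univ 1)).trans_eq ?_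
  rw [Finset.filter_congr fun χ _ => and_congr_right fun _ => show (∀ g, χ.1 (g ^ k) = χ.1 g) ↔
    χ = ⟨_, χ.2.comp_pow hk⟩ from ⟨fun h => Subtype.ext (funext fun g => (h g).symm),
      fun h g => (congrFun (congrArg Subtype.val h) g).symm⟩]
  exact_mod_cast h5.symm

end Cfsg.Lib.Small
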