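import Cfsg.Agent.Lib.Small.PM1
import Cfsg.Agent.Lib.Small.BrII
import Cfsg.Agent.Lib.Exc.AC2
import Cfsg.Agent.Lib.KS9.S4

/-!
# Groups with a Sylow subgroup of order `p` and an irreducible character of degree `p - 2`
-/

set_option autoImplicit false

namespace Cfsg.Lib.Small

open Subgroup Cfsg.Lib.Amalg Cfsg.Lib.Char Cfsg.Lib.Block Cfsg.Lib.Clifford Cfsg.Lib.Linear ZMod
open scoped ComplexConjugate

universe u

variable {G : Type u} [Group G] [Finite G] {p : ℕ} [hp : Fact p.Prime] {P : Subgroup G}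

omit hp in
theorem detChar_center {χ : G → ℂ} (h : IsCharacter G χ) {Z : Subgroup G} {lam : Z →* ℂˣ}
    (hl : ∀ (z : Z) (y : G), χ (z * y) = lam z * χ y) (z : Z) : detChar χ z = lam z ^ charDegree χ := by
  have h1 := detChar_comp h Z.subtype z
  rw [show (fun y : Z => χ (Z.subtype y)) = ∑ _i ∈ Finset.range (charDegree χ), fun y => (lam y : ℂ) by
    ext y
    have := hl y 1
    rw [mul_one, ← Char.Cfsg.IsCharacter.coe_charDegree h] at this
    simp [this, mul_comm], detChar_sum_lin] at h1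
  simpa using h1.symm

omit [Finite G] in
theorem mem_iff_of_card_two {A : Subgroup (ZMod p)ˣ} (h : Nat.card A = 2) (e : (ZMod p)ˣ) :
    e ∈ A ↔ e = 1 ∨ e = -1 := by
  have h1 : ∀ e ∈ A, e = 1 ∨ e = -1 := fun e he => by
    have := congrArg (fun u : A => ((u : (ZMod p)ˣ) : ZMod p)) (pow_card_eq_one' (x := (⟨e, he⟩ : A)))
    rw [h] at this
    rw [Units.ext_iff, Units.ext_iff]
    exact sq_eq_one_iff.1 this
  refine ⟨h1 e, ?_⟩
  rintro (rfl | rfl)
  · exact A.one_mem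
  · by_contra h2
    rw [(eq_bot_iff (a := A)).2 fun e he => (h1 e he).resolve_right fun h3 => h2 (h3 ▸ he), card_bot] at h
    omega

/-- The restriction to `C(P)` of an irreducible character of degree `p - 2`. -/
theorem DOne.restrict_pm2 (D : DOne p P) (hp5 : 5 < p) (χ : IrrCharacter G) (hd : charDegree χ.1 + 2 = p)
    (hx : ‖χ.1 D.x‖ ≠ ‖χ.1 1‖) : ∃ (k : ZMod p) (θ : 𝐂 P →* ℂˣ), k ≠ 0 ∧ θ D.x = 1 ∧ (∃ n, D.a n = -1) ∧
      ∀ c : 𝐂 P, χ.1 c = ((if D.π c = 0 then (p : ℂ) else 0) - stdAddChar (k * D.π c) -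
        stdAddChar (-k * D.π c)) * θ c := by
  classical
  have := Fintype.ofFinite G
  obtain ⟨M, hM⟩ := Block2.exists_isPModular hp.out
  have := hM.2.1
  obtain ⟨θ, hθ, hB⟩ := D.exists_kerP hM (isPBlock_blockOf χ) ⟨χ, mem_blockOf_self χ, fun h => by
    have := Nat.le_of_dvd (deg_pos χ) h; omega⟩
  obtain ⟨X, Y, κ, c, H⟩ := D.exists_tree hM hθ hB
  have hθP : ∀ (n : 𝐍 P) (u : 𝐂 P), (u : G) ∈ P → (n • θ).1 u = charDegree θ.1 := fun n u hu => by
    have := (hθ.smul n).apply_mul hu 1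
    rw [mul_one] at this
    rw [this, cjAct_apply, map_one, coe_deg]
  have hS : Nat.card (MulAction.stabilizer (𝐍 P) θ) = Nat.card (𝐂 P) * Nat.card (D.E θ) :=
    D.card_map_a (D.ker_le_stab θ)
  have hN : Nat.card (𝐍 P) = Nat.card (𝐂 P) * Nat.card D.a.range := by
    rw [← card_top, D.card_map_a le_top, MonoidHom.range_eq_map]
  have hm : Nat.card D.a.range ≤ charDegree χ.1 := D.card_range_le χ.2.isCharacter fun e => hx (by rw [e])
  have hE := Nat.le_of_dvd Nat.card_pos (D.card_E_dvd θ)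
  have hE0 : 0 < Nat.card (D.E θ) := Nat.card_pos
  have hθ0 := deg_pos θ
  have hY : 1 < Y.card := by
    have := H.card_Y
    rcases h : Y.card with _ | _ | k <;> rw [h] at this <;> omega
  have val := fun (u : 𝐂 P) (hu : D.π u ≠ 0) => D.value hM hθ hB (mem_blockOf_self χ) hu
  have hav : (p * av P χ.1 : ℂ) = ∑ u ∈ elems P, χ.1 u := by rw [sum_eq_av χ.2.isCharacter, D.card]
  have hχ : χ ∈ Y := ((H.mem χ).1 (mem_blockOf_self χ)).resolve_left fun hX => by
    obtain ⟨s, hs⟩ := D.card_E_dvd θ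
    have h1 : ∀ u ∈ P, u ≠ 1 → χ.1 u = ((-(c χ * s * charDegree θ.1) : ℤ) : ℂ) := fun u hu hu1 => by
      have h2 := D.π_ne_zero (u := ⟨u, D.le_C hu⟩) hu hu1
      have h3 := val _ h2
      simp only [H.const χ hX, ← Finset.mul_sum, sum_units_psi (mul_ne_zero (Units.ne_zero _) h2),
        hθP _ ⟨u, D.le_C hu⟩ hu, Finset.sum_const, Finset.card_univ, ← Nat.card_eq_fintype_card, hS, hN, hs,
        nsmul_eq_mul] at h3
      apply mul_left_cancel₀ (Nat.cast_ne_zero.2 (mul_pos (Nat.card_pos (α := 𝐂 P)) hE0).ne')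
      push_cast at h3 ⊢
      linear_combination h3
    generalize -(c χ * s * charDegree θ.1) = v at h1
    rw [sum_elems_erase P _ h1, D.card, ← coe_deg] at hav
    have h2 : (p * av P χ.1 : ℤ) = charDegree χ.1 + (p - 1) * v := by exact_mod_cast hav
    have h3 := χ.2.isCharacter.norm_le D.x
    rw [h1 _ D.x_mem D.x_ne_one, ← coe_deg] at hx h3
    simp only [Complex.norm_intCast, Complex.norm_natCast] at hx h3
    have h4 : |v| < charDegree χ.1 := by exact_mod_cast lt_of_le_of_ne h3 hx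
    rw [abs_lt] at h4
    have h5 : (p : ℤ) * (av P χ.1 - v) = charDegree χ.1 - v := by linear_combination h2
    have h6 : (av P χ.1 : ℤ) - v = 1 := by
      have : 0 < (av P χ.1 : ℤ) - v := (mul_pos_iff_of_pos_left (a := (p : ℤ)) (by omega)).1 (by omega)
      have : (av P χ.1 : ℤ) - v < 2 := lt_of_mul_lt_mul_left (a := (p : ℤ)) (by omega) (by omega)
      omega
    rw [h6] at h5
    omega
  have h1 : (p * av P χ.1 : ℤ) = charDegree χ.1 - κ * Nat.card D.a.range * charDegree θ.1 := by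
    have h2 := D.sum_P (fun u => Nat.card (MulAction.stabilizer (𝐍 P) θ) * χ.1 u) (fun j => if j = 0 then
      Nat.card (MulAction.stabilizer (𝐍 P) θ) * χ.1 1 else ∑ n : 𝐍 P, (∑ k : (ZMod p)ˣ, D.dd θ χ k *
        stdAddChar ((k : ZMod p) * ((D.a n⁻¹ : ZMod p) * j))) * charDegree θ.1) fun u hu => by
      split_ifs with h0
      · rw [show u = 1 from congrArg Subtype.val (D.eq_one_of_π (D.pow_eq_one hu) h0)]
      · simpa only [hθP _ ⟨u, D.le_C hu⟩ hu] using val _ h0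
    have h3 : ∀ k l : (ZMod p)ˣ, ∑ j : (ZMod p)ˣ, (stdAddChar ((k : ZMod p) * ((l : ZMod p) * (j : ZMod p))) : ℂ) = -1 :=
      fun k l => by rw [← sum_units_psi (k * l).ne_zero]; simp only [Units.val_mul, mul_comm, mul_left_comm]
    rw [← Finset.mul_sum, ← hav, ← sub_add_cancel (∑ k : ZMod p, _) _, ← sum_units_eq] at h2
    simp only [Units.ne_zero, if_false, if_true] at h2
    rw [Finset.sum_comm] at h2
    simp only [← Finset.sum_mul] at h2
    rw [Finset.sum_congr rfl fun n _ => Finset.sum_comm] at h2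
    simp only [← Finset.mul_sum, h3, ← Finset.sum_mul, ← Int.cast_sum, H.row χ hχ, Finset.sum_const,
      Finset.card_univ, ← Nat.card_eq_fintype_card, hS, hN, nsmul_eq_mul, ← coe_deg] at h2
    apply Int.cast_injective (α := ℂ)
    apply mul_left_cancel₀ (Nat.cast_ne_zero.2 (mul_pos (Nat.card_pos (α := 𝐂 P)) hE0).ne')
    push_cast at h2 ⊢
    linear_combination h2
  obtain ⟨A, hA, a1, a2, -⟩ := exists_coeffs (χ.2.isCharacter.comp (𝐂 P).subtype)
  have inj := D.lt_injective hθ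
  have dl : ∀ k, charDegree (D.lt k θ).1 = charDegree θ.1 := fun k => charDegree_eq_of_eq (by rw [lt_one, coe_deg])
  have a3 : charDegree χ.1 = (∑ k, A (D.lt k θ)) * charDegree θ.1 +
      ∑ ξ ∈ (Finset.univ.image (D.lt · θ))ᶜ, A ξ * charDegree ξ.1 := by
    rw [show charDegree χ.1 = _ from a2, ← Finset.sum_add_sum_compl (Finset.univ.image (D.lt · θ)),
      Finset.sum_image fun _ _ _ _ e => inj e, Finset.sum_mul]
    simp only [dl]
  have a4 : ∀ k : (ZMod p)ˣ, (A (D.lt k θ) : ℤ) = A (D.lt 0 θ) + D.dd θ χ k := fun k => by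
    apply Int.cast_injective (α := ℂ)
    push_cast
    rw [dd_eq, beta, classInner_sub_right, lt_zero, ← hA, ← hA]
    exact (add_sub_cancel _ _).symm
  have a5 : (∑ k, A (D.lt k θ) : ℤ) = p * A (D.lt 0 θ) + Nat.card (D.E θ) * κ := by
    rw [← sub_add_cancel (∑ k : ZMod p, _) _, ← sum_units_eq, Finset.sum_congr rfl fun k _ => a4 k,
      Finset.sum_add_distrib, H.row χ hχ, Finset.sum_const, Finset.card_univ, ZMod.card_units, nsmul_eq_mul,
      Nat.cast_sub hp.out.one_le]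
    push_cast; ring
  obtain ⟨ε, c₀, η, hε, -, hη, hηE, hdd⟩ := H.exc hY
  obtain ⟨l, hl⟩ := hη χ hχ
  have a6 : ∀ k, D.dd θ χ k = c₀ + if l⁻¹ * k ∈ D.E θ then ε else 0 := fun k => by
    split_ifs with h
    · exact (hdd χ hχ k).1 (hl ▸ (hηE l k).2 h)
    · rw [(hdd χ hχ k).2 fun e => h ((hηE l k).1 (hl.trans e)), add_zero]
  have a7 : (p - 1) * c₀ + Nat.card (D.E θ) * ε = Nat.card (D.E θ) * κ := by
    rw [← H.row χ hχ, ← Equiv.sum_comp (Equiv.mulLeft l)]
    simp only [a6, Equiv.coe_mulLeft, inv_mul_cancel_left, Finset.sum_add_distrib, Finset.sum_const,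
      Finset.card_univ, ZMod.card_units, nsmul_eq_mul, Nat.cast_sub hp.out.one_le, Finset.sum_ite,
      smul_zero, add_zero, Nat.card_eq_fintype_card, Fintype.card_subtype, Nat.cast_one]
  have a8 : (∑ k, A (D.lt k θ)) * charDegree θ.1 = charDegree χ.1 → ∀ c : 𝐂 P, χ.1 c =
      (A (D.lt 0 θ) * (if D.π c = 0 then (p : ℂ) else 0) +
        ∑ k : (ZMod p)ˣ, D.dd θ χ k * stdAddChar ((k : ZMod p) * D.π c)) * θ.1 c := fun e c => by
    have h2 : ∀ ξ ∈ (Finset.univ.image (D.lt · θ))ᶜ, A ξ * charDegree ξ.1 = 0 :=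
      Finset.sum_eq_zero_iff.1 (by omega)
    rw [show χ.1 c = _ from a1 c, ← Finset.sum_add_sum_compl (Finset.univ.image (D.lt · θ)),
      Finset.sum_image fun _ _ _ _ e => inj e, Finset.sum_eq_zero (s := _ᶜ) fun ξ hξ => by
        rw [(Nat.mul_eq_zero.1 (h2 ξ hξ)).resolve_right (deg_pos ξ).ne', Nat.cast_zero, zero_mul], add_zero,
      ← sum_psi, ← sub_add_cancel (∑ k : ZMod p, _) _, ← sum_units_eq, ← sub_add_cancel (∑ k : ZMod p, _) _,
      ← sum_units_eq]
    have h3 : ∀ k : (ZMod p)ˣ, (A (D.lt k θ) : ℂ) = A (D.lt 0 θ) + D.dd θ χ k := fun k => by exact_mod_cast a4 k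
    simp only [h3, lt_apply, add_mul, mul_add, Finset.sum_add_distrib, Finset.mul_sum, Finset.sum_mul, mul_assoc]
    ring
  have hY2 : 2 * Nat.card (D.E θ) ≤ p - 1 := H.card_Y ▸ Nat.mul_le_mul_right _ hY
  have hS' : ((∑ k, A (D.lt k θ) : ℕ) : ℤ) = ∑ k, (A (D.lt k θ) : ℤ) := by push_cast; rfl
  generalize ∑ k, A (D.lt k θ) = s at *
  have hm1 : Nat.card D.a.range ∣ p - 1 := by
    have := card_subgroup_dvd_card D.a.range
    rwa [Nat.card_eq_fintype_card (α := (ZMod p)ˣ), ZMod.card_units] at this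
  rw [← hS'] at a5
  have b1 : s * charDegree θ.1 ≤ charDegree χ.1 := by omega
  have b2 : s ≤ charDegree χ.1 := (Nat.le_mul_of_pos_right s hθ0).trans b1
  have small : ∀ {x b : ℤ}, 0 < b → -b < b * x → b * x < b → x = 0 := fun {x b} hb h2 h3 => by
    have : x < 1 := lt_of_mul_lt_mul_left (a := b) (by omega) hb.le
    have : -1 < x := lt_of_mul_lt_mul_left (a := b) (by omega) hb.le
    omega
  have hc₀ : Nat.card (D.E θ) ≤ 2 → c₀ = 0 := fun h => small (b := p - 1) (by omega)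
    (by rcases hε with e | e <;> rcases H.sign with e' | e' <;> rw [e, e'] at a7 <;> omega)
    (by rcases hε with e | e <;> rcases H.sign with e' | e' <;> rw [e, e'] at a7 <;> omega)
  rcases H.sign with rfl | rfl
  · have b3 : (A (D.lt 0 θ) : ℤ) = 0 := small (b := p) (by omega) (by omega) (by omega)
    have b4 : 0 < Nat.card D.a.range * charDegree θ.1 := mul_pos Nat.card_pos hθ0
    rw [one_mul] at h1
    rw [b3] at a5
    have b5 : (av P χ.1 : ℤ) = 0 := small (b := p) (by omega)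
      (lt_of_lt_of_le (by omega) (mul_nonneg (Int.natCast_nonneg _) (Int.natCast_nonneg _))) (by omega)
    have b6 : charDegree χ.1 = Nat.card D.a.range * charDegree θ.1 := by
      rw [b5] at h1; omega
    have b7 : Nat.card D.a.range = 1 := Nat.dvd_one.1 (by
      rw [show 1 = p - 1 - charDegree χ.1 by omega]; exact Nat.dvd_sub hm1 ⟨_, b6⟩)
    have b8 : D.E θ = ⊥ := card_eq_one.1 (by omega)
    rw [b7, one_mul] at b6
    have b9 := hc₀ (by omega)
    rw [b9, b8, card_bot] at a7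
    rw [b8, card_bot] at a5
    have := a8 (by rw [show s = 1 by omega, one_mul, b6]) D.x
    simp only [a6, b8, b9, mem_bot, inv_mul_eq_one, zero_add, show ε = 1 by omega, Int.cast_ite, Int.cast_one,
      Int.cast_zero, ite_mul, one_mul, zero_mul, Finset.sum_ite_eq, Finset.mem_univ, if_true,
      show A (D.lt 0 θ) = 0 by omega, Nat.cast_zero] at this
    have h2 := hθP 1 D.x D.x_mem
    rw [one_smul] at h2
    exact absurd (by rw [this, h2, ← b6, coe_deg, norm_mul, (stdAddChar (N := p)).norm_apply, one_mul]) hx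
  have b3 : (A (D.lt 0 θ) : ℤ) - 1 = 0 := small (b := p) (by omega) (by rw [mul_sub]; omega) (by rw [mul_sub]; omega)
  have b3' : A (D.lt 0 θ) = 1 := by omega
  rw [b3'] at a5
  have b4 : charDegree θ.1 = 1 := by
    by_contra h
    have := Nat.mul_le_mul_left s (show 2 ≤ charDegree θ.1 by omega)
    omega
  rw [b4] at h1
  have b5 : (av P χ.1 : ℤ) - 1 = 0 := small (b := p) (by omega) (by rw [mul_sub]; omega) (by rw [mul_sub]; omega)
  have b6 : Nat.card D.a.range = 2 := by rw [show av P χ.1 = 1 by omega] at h1; omega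
  have b7 : Nat.card (D.E θ) = 2 := by omega
  have b9 := hc₀ b7.le
  rw [b9, b7] at a7
  obtain ⟨μ, hμ⟩ := θ.2.isCharacter.exists_linear_of_degree_one (by rw [← coe_deg, b4, Nat.cast_one])
  have h2 := hθP 1 D.x D.x_mem
  rw [one_smul, b4, hμ] at h2
  refine ⟨l, μ, l.ne_zero, Units.ext (by simpa using h2), (mem_iff_of_card_two b6 _).2 (Or.inr rfl), fun c => ?_⟩
  have h3 : l ≠ -l := fun e => by
    have := (mem_iff_of_card_two b6 (-1)).2 (Or.inr rfl)
    have h4 : ((2 : ℕ) : ZMod p) = 0 := by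
      have := congrArg Units.val e
      rw [Units.val_neg, ← add_eq_zero_iff_eq_neg, ← two_mul] at this
      exact_mod_cast (mul_eq_zero.1 this).resolve_right l.ne_zero
    have := Nat.le_of_dvd two_pos ((ZMod.natCast_eq_zero_iff 2 p).1 h4)
    omega
  rw [a8 (by rw [b4]; omega) c, hμ, b3', ← Finset.sum_subset (Finset.subset_univ {l, -l}) fun k _ hk => ?_,
    Finset.sum_pair h3, a6, a6, b9, show ε = -1 by omega]
  · simp [mem_iff_of_card_two b7]; ring
  · simp only [Finset.mem_insert, Finset.mem_singleton, not_or] at hk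
    rw [a6, b9, if_neg]
    · simp
    · rw [mem_iff_of_card_two b7, inv_mul_eq_iff_eq_mul, inv_mul_eq_iff_eq_mul, mul_one, mul_neg, mul_one]
      exact not_or.2 hk

omit hp in
theorem norm_hom (f : G →* ℂˣ) (g : G) : ‖(f g : ℂ)‖ = 1 :=
  Complex.norm_eq_one_of_pow_eq_one (n := Nat.card G)
    (by rw [← Units.val_pow_eq_pow_val, ← map_pow, pow_card_eq_one', map_one, Units.val_one]) Nat.card_pos.ne'

omit hp in
theorem iter_sq {w : G} (ho : Odd (orderOf w)) {F : G → ℝ} {c : ℝ} (hc : 0 < c) (h0 : 0 ≤ F w)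
    (h : ∀ i, F (w ^ 2 ^ i) ^ 2 = c * F (w ^ 2 ^ (i + 1))) : F w = 0 ∨ F w = c := by
  have h1 : ∀ i, F w ^ 2 ^ i * c = c ^ 2 ^ i * F (w ^ 2 ^ i) := fun i => by
    induction i with
    | zero => simp [mul_comm]
    | succ i ih =>
      apply mul_right_cancel₀ hc.ne'
      rw [pow_succ 2 i, pow_mul (F w), pow_mul c, ← pow_succ 2 i]
      linear_combination (F w ^ 2 ^ i * c + c ^ 2 ^ i * F (w ^ 2 ^ i)) * ih + (c ^ 2 ^ i) ^ 2 * h i
  have h2 := h1 (orderOf w).totient
  have h3 : 1 < 2 ^ (orderOf w).totient := Nat.one_lt_two_pow (Nat.totient_pos.2 (orderOf_pos w)).ne'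
  rw [pow_eq_pow_iff_modEq.2 (Nat.ModEq.pow_totient (Nat.coprime_two_left.2 ho)), pow_one] at h2
  obtain ⟨n, hn⟩ : ∃ n, 2 ^ (orderOf w).totient = n + 1 + 1 := ⟨2 ^ (orderOf w).totient - 2, by omega⟩
  rw [hn] at h2
  refine or_iff_not_imp_left.2 fun h4 => (pow_left_inj₀ (n := n + 1) h0 hc.le n.succ_ne_zero).1 ?_
  exact mul_right_cancel₀ (mul_ne_zero h4 hc.ne') (by linear_combination h2)

omit hp [Finite G] in
theorem commute_of_central {a w : G} {m n : ℕ} (hc : m.Coprime n) (ha : a ^ m = 1) (hw : w ^ n = 1)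
    (hz : a * w * a⁻¹ * w⁻¹ ∈ center G) : Commute a w := by
  have h : ∀ g, Commute (a * w * a⁻¹ * w⁻¹) g := fun g => (mem_center_iff.1 hz g).symm
  have h1 := (h w).mul_pow n
  have h2 := (h a⁻¹).symm.mul_pow m
  rw [inv_mul_cancel_right, conj_pow, hw, mul_one, mul_one, mul_inv_cancel] at h1
  rw [show a⁻¹ * (a * w * a⁻¹ * w⁻¹) = w * a⁻¹ * w⁻¹ by group, conj_pow, inv_pow, ha, inv_one, mul_one, one_mul,
    mul_inv_cancel] at h2
  have := pow_gcd_eq_one.2 ⟨h2.symm, h1.symm⟩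
  rw [hc, pow_one] at this
  exact commutatorElement_eq_one_iff_commute.1 this

omit hp in
theorem conj_of_cent_two {s x : G} (hs : orderOf s = 2) (hC : ∀ y, Commute y s → y = 1 ∨ y = s)
    (hx : ¬ IsConj s x) (g : G) : g * x * g⁻¹ = x ∨ g * x * g⁻¹ = x⁻¹ := by
  classical
  have := Fintype.ofFinite G
  have h1 : ∀ {t}, IsConj s t → t * t = 1 ∧ t ≠ 1 := fun ht => by
    obtain ⟨c, rfl⟩ := isConj_iff.1 ht
    exact ⟨by rw [← sq, conj_pow, ← hs, pow_orderOf_eq_one]; simp, fun e => by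
      rw [mul_inv_eq_one, mul_eq_left] at e; simp [e] at hs⟩
  have h2 : centralizer {s} = zpowers s := le_antisymm (fun y hy => by
    rcases hC y (mem_centralizer_singleton_iff.1 hy) with rfl | rfl <;> simp)
    (zpowers_le.2 (mem_centralizer_singleton_iff.2 rfl))
  have h3 := (zpowers s).card_mul_index
  rw [Nat.card_zpowers, hs, ← h2, ← card_filter_isConj, Nat.card_eq_fintype_card] at h3
  have key : ∀ {t}, IsConj s t → ∀ g, IsConj s g ∨ IsConj s (t * g) := fun {t} ht g => by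
    have h4 : (Finset.univ.filter (IsConj s) ∪ Finset.univ.filter fun g => IsConj s (t * g)) = Finset.univ := by
      refine Finset.eq_univ_of_card _ ?_
      rw [Finset.card_union_of_disjoint (Finset.disjoint_filter.2 fun g _ hg e => ?_), ← h3, two_mul,
        Finset.card_equiv (s := Finset.univ.filter fun g => IsConj s (t * g)) (t := Finset.univ.filter (IsConj s))
          (Equiv.mulLeft t) (by simp)]
      obtain ⟨c, rfl⟩ := isConj_iff.1 ht
      have h5 : Commute g (c * s * c⁻¹) := by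
        have := inv_eq_of_mul_eq_one_right (h1 e).1
        rwa [mul_inv_rev, inv_eq_of_mul_eq_one_right (h1 hg).1, inv_eq_of_mul_eq_one_right (h1 ht).1] at this
      rcases hC (c⁻¹ * g * c) (by simpa [mul_assoc] using h5.conj c⁻¹) with e1 | e1
      · exact (h1 hg).2 (by simpa [mul_assoc, mul_inv_eq_one, inv_mul_eq_one] using e1)
      · exact (h1 e).2 (by rw [show g = c * s * c⁻¹ by rw [← e1]; group, (h1 ht).1])
    simpa only [Finset.mem_union, Finset.mem_filter, Finset.mem_univ, true_and] using h4.ge (Finset.mem_univ g)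
  have h4 : ∀ {t}, IsConj s t → t * x * t⁻¹ = x⁻¹ := fun ht => by
    rw [inv_eq_of_mul_eq_one_right (h1 ht).1, eq_inv_iff_mul_eq_one, mul_assoc,
      (h1 ((key ht x).resolve_left hx)).1]
  refine (key (IsConj.refl s) g).symm.imp (fun e => ?_) h4
  have h5 := h4 e
  rw [← h4 (IsConj.refl s), mul_inv_rev, ← mul_assoc, mul_left_inj, mul_assoc, mul_assoc, mul_right_inj] at h5
  rwa [mul_assoc]

omit hp in
/-- Groups in which centralizers of involutions have exponent two. -/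
theorem psl_of_cent (h : ∀ s y : G, orderOf s = 2 → Commute y s → y ^ 2 = 1) {s x : G} (hs : orderOf s = 2)
    (hx : Odd (orderOf x)) (e : s * x * s⁻¹ = x⁻¹) (hn : ¬ (zpowers x).Normal) :
    ∃ (F : Type) (_ : Field F) (_ : Fintype F) (a : ℕ), Fintype.card F = 2 ^ a ∧ 4 ≤ Fintype.card F ∧
      Nonempty (G ≃* PSL2 F) := by
  classical
  have := Fact.mk Nat.prime_two
  have h1 : Exc.AC G := fun t ht x y hx hy => by
    have := inv_eq_of_mul_eq_one_right ((sq _).symm.trans (h t _ ht (hx.mul_left hy)))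
    rw [mul_inv_rev, inv_eq_of_mul_eq_one_right ((sq _).symm.trans (h t _ ht hx)),
      inv_eq_of_mul_eq_one_right ((sq _).symm.trans (h t _ ht hy))] at this
    exact this.symm
  have h2 : Exc.ACT G := ⟨h1, fun s u x hs _ hx h3 h4 => h1 x (orderOf_eq_prime (h s x hs h3) hx) s u h3.symm h4.symm⟩
  have h3 : ¬ Commute s (x * s * x⁻¹) := fun hc => hn (by
    have h4 : x * s * x⁻¹ * s⁻¹ = x * (s * x * s⁻¹)⁻¹ := by group
    have h5 := h s _ hs (hc.symm.mul_left (Commute.refl s).inv_left)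
    rw [h4, e, inv_inv, ← sq, ← pow_mul] at h5
    rw [Exc.eq_one_of_odd_pow (k := 2) hx h5, zpowers_one_eq_bot]
    infer_instance)
  obtain ⟨s₁, h4, h5, h6⟩ : ∃ y, Commute y s ∧ y ≠ 1 ∧ y ≠ s := by
    by_contra! h4
    refine hn ⟨fun y ⟨k, hk⟩ g => ?_⟩
    rw [← hk, ← conj_zpow]
    rcases conj_of_cent_two hs (fun y hy => or_iff_not_imp_left.2 (h4 y hy)) (x := x) (fun hc => by
      obtain ⟨c, rfl⟩ := isConj_iff.1 hc
      rw [Invol.orderOf_conj, hs] at hx
      exact absurd hx (by decide)) g with e | e <;> simp [e, zpow_mem]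
  obtain ⟨F, _, _, hF, e⟩ := h2.psl hs (orderOf_eq_prime (h s _ hs h4) h5) h4 h6
    ((Invol.orderOf_conj x s).trans hs) h3
  obtain ⟨a, ha⟩ := IsPGroup.iff_card.1 (show IsPGroup 2 (centralizer {s}) from isPGroup_iff_mem.2 fun y hy =>
    ⟨1, h s y hs (mem_centralizer_singleton_iff.1 hy)⟩)
  refine ⟨F, _, _, a, hF.trans ha, ?_, e⟩
  have h7 : ({1, s, s₁} : Finset G) ⊆ elems (centralizer {s}) := by
    simp [Finset.insert_subset_iff, mem_elems, mem_centralizer_singleton_iff, h4.eq]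
  have h8 := Finset.card_le_card h7
  rw [Finset.card_eq_three.2 ⟨_, _, _, by rintro rfl; simp at hs, h5.symm, h6.symm, rfl⟩, card_elems, ha] at h8
  rw [hF, ha]
  exact Nat.pow_le_pow_right (i := 2) two_pos (by
    by_contra h9; have : a ≤ 1 := by omega
    have := Nat.pow_le_pow_right two_pos this; omega)

/-- The hypotheses: a projectively faithful character of degree `p - 2` trivial on central `2`-elements. -/
structure PM2 (D : DOne p P) (χ : IrrCharacter G) : Prop where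
  big : 5 < p
  deg : charDegree χ.1 + 2 = p
  cen : ∀ g, ‖χ.1 g‖ = ‖χ.1 1‖ → g ∈ center G
  two : ∀ z ∈ center G, ∀ a, z ^ 2 ^ a = 1 → χ.1 z = χ.1 1
  nc : (D.x : G) ∉ center G

namespace PM2

variable {D : DOne p P} {χ : IrrCharacter G} (h : PM2 D χ)
include h

omit [Finite G] in
theorem one : χ.1 1 = p - 2 := by rw [← coe_deg, ← h.deg]; simp

theorem res : ∃ (k : ZMod p) (θ : 𝐂 P →* ℂˣ), k ≠ 0 ∧ θ D.x = 1 ∧ (∃ n, D.a n = -1) ∧
    (∀ c : 𝐂 P, D.π c ≠ 0 → χ.1 c = -(stdAddChar (k * D.π c) + stdAddChar (-k * D.π c)) * θ c) ∧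
    ∀ c : 𝐂 P, D.π c = 0 → (c : G) ∈ center G ∧ χ.1 c = χ.1 1 * θ c := by
  obtain ⟨k, θ, h1, h2, h3, h4⟩ := D.restrict_pm2 h.big χ h.deg fun e => h.nc (h.cen _ e)
  refine ⟨k, θ, h1, h2, h3, fun c hc => by rw [h4, if_neg hc]; ring, fun c hc => ?_⟩
  have h5 : χ.1 c = χ.1 1 * θ c := by rw [h4, if_pos hc, hc, h.one]; simp; ring
  exact ⟨h.cen _ (by rw [h5, norm_mul, norm_hom, mul_one]), h5⟩

theorem alt_eq : ∃ r : ℕ, (∀ g : G, ¬ p ∣ orderOf g → Odd (orderOf g) → g ^ r = g * g) ∧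
    (∀ (g : G) a, g ^ 2 ^ a = 1 → g ^ r = g) ∧
    ∀ g, ¬ p ∣ orderOf g → χ.1 g ^ 2 - χ.1 (g * g) = (p - 3) * χ.1 (g ^ r) := by
  classical
  have := Fintype.ofFinite G
  have hp5 := h.big
  obtain ⟨k, θ, hk, hx, -, h1, h0⟩ := h.res
  obtain ⟨a, m, hm, hi⟩ := Nat.exists_eq_two_pow_mul_odd (index_ne_zero_of_finite (H := P))
  have c1 : (2 ^ a).Coprime m := (Nat.coprime_two_left.2 hm).pow_left a
  have c2 : p.Coprime P.index := (Nat.Prime.coprime_iff_not_dvd hp.out).2 D.ndvd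
  obtain ⟨r, r1, r2⟩ := Nat.chineseRemainder c1 1 2
  choose s s1 s2 using fun l : (ZMod p)ˣ => (⟨_, (Nat.chineseRemainder c2 (l : ZMod p).val r).2⟩ :
    ∃ s, s ≡ (l : ZMod p).val [MOD p] ∧ s ≡ r [MOD P.index])
  have s3 : ∀ l, (s l : ZMod p) = l := fun l => by
    rw [(ZMod.natCast_eq_natCast_iff _ _ _).2 (s1 l), natCast_zmod_val]
  have s4 : ∀ l, (s l).Coprime (Nat.card G) := fun l => by
    rw [D.card_G, Nat.coprime_mul_iff_right, Nat.Coprime, Nat.Coprime, (s1 l).gcd_eq, (s2 l).gcd_eq, hi]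
    refine ⟨ZMod.val_coe_unit_coprime l, Nat.Coprime.mul_right ?_ ?_⟩
    · rw [Nat.Coprime, r1.gcd_eq, Nat.gcd_one_left]
    · rw [Nat.Coprime, r2.gcd_eq]; exact Nat.coprime_two_left.2 hm
  have reg : ∀ {g : G}, ¬ p ∣ orderOf g → orderOf g ∣ P.index := fun {g} hg =>
    ((Nat.Prime.coprime_iff_not_dvd hp.out).2 hg).symm.dvd_of_dvd_mul_left (D.card_G ▸ orderOf_dvd_natCard g)
  have s5 : ∀ l {g : G}, ¬ p ∣ orderOf g → g ^ s l = g ^ r := fun l g hg =>
    pow_eq_pow_iff_modEq.2 ((s2 l).of_dvd (reg hg))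
  refine ⟨r, fun g hg ho => ?_, fun g b hb => ?_, ?_⟩
  · rw [← sq, pow_eq_pow_iff_modEq]
    exact r2.of_dvd (((Nat.coprime_two_right.2 ho).pow_right a).dvd_of_dvd_mul_left (hi ▸ reg hg))
  · obtain ⟨j, -, hj⟩ := (Nat.dvd_prime_pow Nat.prime_two).1 (orderOf_dvd_of_pow_eq_one hb)
    have h2 : ¬ p ∣ orderOf g := fun e => by
      have := (Nat.prime_dvd_prime_iff_eq hp.out Nat.prime_two).1 (hp.out.dvd_of_dvd_pow (hj ▸ e)); omega
    conv_rhs => rw [← pow_one g]
    exact pow_eq_pow_iff_modEq.2 (r1.of_dvd (Nat.Coprime.dvd_of_dvd_mul_right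
      (hj ▸ (Nat.coprime_two_left.2 hm).pow_left j) (hi ▸ reg h2)))
  let ξ : (ZMod p)ˣ → IrrCharacter G := fun l => ⟨fun g => χ.1 (g ^ s l), χ.2.comp_pow (s4 l)⟩
  have hχ1 : χ.1 1 ≠ 0 := χ.2.apply_one_ne_zero
  have vξ : ∀ l (c : 𝐂 P), D.π c ≠ 0 → (ξ l).1 c =
      -(stdAddChar ((l : ZMod p) * (k * D.π c)) + stdAddChar ((l : ZMod p) * (-k * D.π c))) * θ c ^ 2 := fun l c hc => by
    have h2 := h1 (c ^ s l) (by rw [D.π_pow, s3]; exact mul_ne_zero l.ne_zero hc)
    rw [D.π_pow, s3, mul_left_comm k, mul_left_comm (-k)] at h2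
    refine h2.trans (congrArg _ ?_)
    obtain ⟨y, hy, e⟩ := D.exists_decomp c
    have h3 : ¬ p ∣ orderOf (y : G) := by rw [orderOf_coe]; exact (D.π_eq_zero y).1 hy
    obtain ⟨h4, h5⟩ := h0 (y ^ s l * (y ^ 2)⁻¹) (by simp [D.π_mul, D.π_inv, D.π_pow, hy])
    rw [h.two _ h4 a (by
      rw [coe_mul, coe_inv, coe_pow, coe_pow, s5 l h3, ((Commute.refl _).pow_pow _ _).inv_right.mul_pow, inv_pow,
        mul_inv_eq_one, ← pow_mul, ← pow_mul, pow_eq_pow_iff_modEq]
      exact (r2.mul_right' _).of_dvd (mul_comm m _ ▸ hi ▸ reg h3)), eq_comm, mul_eq_left₀ hχ1, Units.val_eq_one,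
      map_mul, map_inv, mul_inv_eq_one, map_pow, map_pow] at h5
    rw [e, map_pow, map_mul, map_pow, hx, one_pow, one_mul, h5, Units.val_pow_eq_pow_val]
  have h2 : (2 : ZMod p) ≠ 0 := fun e => by
    have := Nat.le_of_dvd two_pos ((ZMod.natCast_eq_zero_iff 2 p).1 (by exact_mod_cast e)); omega
  let t : (ZMod p)ˣ := Units.mk0 2 h2
  have ht : t ≠ -t := fun e => by
    have := congrArg Units.val e
    rw [Units.val_neg, ← add_eq_zero_iff_eq_neg, ← two_mul] at this
    exact mul_ne_zero h2 h2 this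
  let L := ({t, -t} : Finset (ZMod p)ˣ)ᶜ
  obtain ⟨S, A, -, hA, e1, e2⟩ := χ.2.isCharacter.exists_sym_alt
  have e3 : ∀ g, 2 * A g = χ.1 g ^ 2 - χ.1 (g * g) := fun g => by rw [e1, e2]; ring
  have sing : ∀ g, p ∣ orderOf g → 2 * A g - ∑ l ∈ L, (ξ l).1 g = 0 := fun g hg => by
    obtain ⟨u, c, hc, e⟩ := D.exists_conj_π hg
    rw [← hA.isClassFunction.conj_eq g u, Finset.sum_congr rfl fun l _ => ((ξ l).2.isClassFunction.conj_eq g u).symm,
      e, e3, eq_sub_of_add_eq' (Finset.sum_add_sum_compl {t, -t} fun l => (ξ l).1 c), Finset.sum_pair ht, ← coe_mul,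
      h1 (c * c) (by rw [D.π_mul, ← two_mul]; exact mul_ne_zero h2 hc), h1 c hc]
    have h3 : stdAddChar (k * D.π c) * stdAddChar (-k * D.π c) = (1 : ℂ) := by
      rw [← AddChar.map_add_eq_mul]; simp
    simp only [vξ _ c hc, ← Finset.sum_mul, Finset.sum_neg_distrib, Finset.sum_add_distrib,
      sum_units_psi (mul_ne_zero hk hc), sum_units_psi (mul_ne_zero (neg_ne_zero.2 hk) hc)]
    simp only [D.π_mul, map_mul, mul_add, AddChar.map_add_eq_mul, t, Units.val_neg, Units.val_mk0, two_mul,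
      Units.val_mul, neg_mul, mul_neg, neg_neg, neg_add] at h3 ⊢
    linear_combination 2 * (θ c : ℂ) ^ 2 * h3
  obtain ⟨α, hα, a1, -⟩ := exists_coeffs hA
  let β : IrrCharacter G → ℕ := fun φ => (L.filter fun l => ξ l = φ).card
  have b1 : ∀ F : IrrCharacter G → ℂ, ∑ l ∈ L, F (ξ l) = ∑ φ, β φ * F φ := fun F => by
    rw [← Finset.sum_fiberwise L ξ]
    exact Finset.sum_congr rfl fun φ _ => by
      rw [Finset.sum_congr rfl fun l hl => by rw [(Finset.mem_filter.1 hl).2], Finset.sum_const, nsmul_eq_mul]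
  have b2 : β (ξ t) = 0 := Finset.card_eq_zero.2 (Finset.filter_eq_empty_iff.2 fun l hl e => by
    have h3 : D.π D.x ≠ 0 := by rw [D.π_x]; exact one_ne_zero
    have h4 := vξ l _ h3
    rw [e, vξ t _ h3, hx, D.π_x, mul_one, mul_one, mul_left_inj' (by simp), neg_inj] at h4
    have h5 : ∀ b, stdAddChar (b * k) * stdAddChar (b * -k) = (1 : ℂ) := fun b => by
      rw [← AddChar.map_add_eq_mul]; simp
    have h6 : (stdAddChar ((l : ZMod p) * k) - stdAddChar ((t : ZMod p) * k)) *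
        (stdAddChar ((l : ZMod p) * k) - stdAddChar ((t : ZMod p) * -k)) = (0 : ℂ) := by
      linear_combination h5 t - h5 l - stdAddChar ((l : ZMod p) * k) * h4
    simp only [L, Finset.mem_compl, Finset.mem_insert, Finset.mem_singleton, Units.ext_iff, Units.val_neg] at hl
    rw [mul_eq_zero, sub_eq_zero, sub_eq_zero, injective_stdAddChar.eq_iff, injective_stdAddChar.eq_iff,
      mul_neg, ← neg_mul, mul_left_inj' hk, mul_left_inj' hk] at h6
    exact hl h6)
  have b3 : ∀ φ, classInner (fun g => 2 * A g - ∑ l ∈ L, (ξ l).1 g) φ.1 = 2 * α φ - β φ := fun φ => by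
    rw [show (fun g => 2 * A g - ∑ l ∈ L, (ξ l).1 g) = (2 : ℂ) • A - ∑ l ∈ L, (ξ l).1 by ext; simp,
      classInner_sub_left, classInner_smul_left, hα, classInner_sum_left, b1 fun ψ => classInner ψ.1 φ.1]
    simp [classInner_irr]
  have b4 : ∀ φ, β φ ≤ 2 * α φ := fun φ => by
    rcases Nat.eq_zero_or_pos (β φ) with e | e
    · omega
    obtain ⟨l, hl⟩ := Finset.card_pos.1 e
    obtain rfl := (Finset.mem_filter.1 hl).2
    have h3 : (2 * α (ξ l) - β (ξ l) : ℂ) = 2 * α (ξ t) - β (ξ t) := by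
      rw [← b3, ← b3, ← sub_eq_zero, ← classInner_sub_right, classInner, Finset.sum_eq_zero fun g _ => ?_, mul_zero]
      by_cases hg : p ∣ orderOf g
      · rw [sing g hg, zero_mul]
      · simp [ξ, s5 _ hg]
    have : (2 * α (ξ l) - β (ξ l) : ℤ) = 2 * α (ξ t) - β (ξ t) := by exact_mod_cast h3
    omega
  have b5 : ∀ g, ¬ p ∣ orderOf g → ∑ l ∈ L, (ξ l).1 g = (p - 3) * χ.1 (g ^ r) := fun g hg => by
    simp only [ξ, s5 _ hg, L, Finset.sum_const, Finset.card_compl, Finset.card_pair ht, ZMod.card_units,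
      nsmul_eq_mul, Nat.sub_sub, Nat.cast_sub (show 1 + 2 ≤ p by omega)]
    norm_num
  have b6 : ∑ φ, (2 * α φ - β φ) * charDegree φ.1 = 0 := by
    have h3 := b5 1 (not_dvd_orderOf_one hp.out)
    have h4 := e3 1
    rw [b1 fun φ => φ.1 1, one_pow, h.one] at h3
    rw [mul_one, h.one, a1, Finset.mul_sum] at h4
    apply Nat.cast_injective (R := ℂ)
    simp only [Nat.cast_sum, Nat.cast_mul, Nat.cast_sub (b4 _), coe_deg, sub_mul, Finset.sum_sub_distrib, h3,
      Nat.cast_ofNat, mul_assoc, h4]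
    push_cast; ring
  intro g hg
  rw [← e3, ← b5 g hg, b1 fun φ => φ.1 g, a1, Finset.mul_sum]
  refine Finset.sum_congr rfl fun φ hφ => ?_
  have := (Nat.mul_eq_zero.1 (Finset.sum_eq_zero_iff.1 b6 φ hφ)).resolve_right (deg_pos φ).ne'
  rw [show β φ = 2 * α φ by have := b4 φ; omega]
  push_cast; ring

omit [Finite G] in
theorem norm_one : ‖χ.1 1‖ = p - 2 := by rw [← coe_deg, Complex.norm_natCast, ← h.deg]; simp

theorem val_odd {g : G} (hg : ¬ p ∣ orderOf g) (ho : Odd (orderOf g)) (hz : g ∉ center G) : χ.1 g = 0 := by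
  obtain ⟨r, h1, -, h3⟩ := h.alt_eq
  have hp5 : (5 : ℝ) < p := by exact_mod_cast h.big
  refine norm_eq_zero.1 ((iter_sq ho (F := fun g => ‖χ.1 g‖) (c := p - 2) (by linarith) (norm_nonneg _)
    fun i => ?_).resolve_right fun e => hz (h.cen g (e.trans h.norm_one.symm)))
  have h4 := orderOf_pow_dvd (x := g) (2 ^ i)
  have h5 := h3 _ (fun e => hg (e.trans h4))
  rw [h1 _ (fun e => hg (e.trans h4)) (ho.of_dvd_nat h4), ← pow_two, ← pow_mul, ← pow_succ] at h5
  rw [← norm_pow, ← h.norm_one, ← norm_mul, h.one]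
  exact congrArg _ (by linear_combination h5)

theorem val_two {a : ℕ} {g : G} (hg : g ^ 2 ^ a = 1) : g * g ∈ center G ∧ (g ∉ center G → χ.1 g = -1) := by
  obtain ⟨r, -, h2, h3⟩ := h.alt_eq
  have hp5 := h.big
  have h4 : ∀ {a} {g : G}, g ^ 2 ^ a = 1 → χ.1 g ^ 2 - χ.1 (g * g) = (p - 3) * χ.1 g := fun {a g} hg => by
    rw [h3 g fun e => ?_, h2 g a hg]
    have := (Nat.prime_dvd_prime_iff_eq hp.out Nat.prime_two).1
      (hp.out.dvd_of_dvd_pow (e.trans (orderOf_dvd_of_pow_eq_one hg)))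
    omega
  have sq : ∀ {a} {g : G}, g ^ 2 ^ a = 1 → (g * g) ^ 2 ^ a = 1 := fun hg => by
    rw [(Commute.refl _).mul_pow, hg, one_mul]
  have h5 : ∀ {a} {g : G}, g ^ 2 ^ a = 1 → g * g ∈ center G → g ∉ center G → χ.1 g = -1 := fun {a g} hg h1 hz => by
    have h6 := h4 hg
    rw [h.two _ h1 a (sq hg)] at h6
    have h7 : (χ.1 g - χ.1 1) * (χ.1 g - -1) = 0 := by rw [h.one] at h6 ⊢; linear_combination h6
    exact sub_eq_zero.1 ((mul_eq_zero.1 h7).resolve_left fun e => hz (h.cen g (by rw [sub_eq_zero.1 e])))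
  refine (fun h6 => ⟨h6, h5 hg h6⟩) ?_
  induction a generalizing g with
  | zero => rw [pow_zero, pow_one] at hg; simp [hg]
  | succ a ih =>
  by_contra hz
  have h6 := ih (g := g * g) (by rw [← pow_two, ← pow_mul, ← pow_succ', hg])
  have h7 := h4 hg
  rw [h5 (sq hg) h6 hz] at h7
  have h8 : χ.1 g⁻¹ = χ.1 g := by
    rw [χ.2.isCharacter.apply_inv]
    by_contra hne
    have h8 := congrArg conj h7
    simp only [map_sub, map_pow, map_mul, map_neg, map_one, map_natCast, map_ofNat] at h8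
    have h9 : χ.1 g + conj (χ.1 g) = p - 3 := mul_left_cancel₀ (sub_ne_zero.2 hne) (by linear_combination h8 - h7)
    have h10 : χ.1 g * conj (χ.1 g) = 1 := by linear_combination χ.1 g * h9 - h7
    rw [Complex.mul_conj, Complex.normSq_eq_norm_sq] at h10
    have h11 : ‖χ.1 g‖ = 1 := (pow_eq_one_iff_of_nonneg (norm_nonneg _) two_ne_zero).1 (by exact_mod_cast h10)
    have h12 := norm_add_le (χ.1 g) (conj (χ.1 g))
    rw [h9, Complex.norm_conj, h11, show (p : ℂ) - 3 = (p - 3 : ℕ) by rw [Nat.cast_sub (by omega)]; simp,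
      Complex.norm_natCast] at h12
    have : p - 3 ≤ 2 := by exact_mod_cast h12.trans_eq one_add_one_eq_two
    omega
  have h9 : ∀ j x, χ.1 ((g * g * (g * g)) ^ j * x) = χ.1 x := fun j x =>
    χ.2.isCharacter.apply_mul_of_eq_degree (h.two _ (pow_mem h6 j) (a + 1) (by
      rw [← pow_mul, mul_comm j, pow_mul, sq (sq hg), one_pow])) x
  obtain ⟨m, hm⟩ := χ.2.isGeneralizedCharacter.exists_int_of_pow (by positivity) hg fun k hk => by
    have h10 : k % 2 = 1 := Nat.odd_iff.1 (Nat.coprime_two_right.1 (hk.coprime_dvd_right (dvd_pow_self 2 a.succ_ne_zero)))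
    have h11 : g ^ 4 = g * g * (g * g) := by simp [pow_succ, mul_assoc]
    obtain ⟨j, rfl | rfl⟩ : ∃ j, k = 4 * j + 1 ∨ k = 4 * j + 3 := ⟨k / 4, by omega⟩
    · rw [pow_succ, pow_mul, h11, h9]
    · rw [pow_add, pow_mul, h11, h9, ← h8, ← h9 1 g⁻¹]; simp [pow_succ, mul_assoc]
  rw [hm] at h7
  have h10 : m * (p - 3 - m) = 1 := by exact_mod_cast (show (m : ℂ) * (p - 3 - m) = 1 by linear_combination -h7)
  rcases Int.eq_one_or_neg_one_of_mul_eq_one' h10 with e | e <;> omega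

theorem val_mix {a : ℕ} {u w : G} (hu : u ^ 2 ^ a = 1) (hw : ¬ p ∣ orderOf w) (ho : Odd (orderOf w))
    (hz : w ∉ center G) (hc : Commute u w) : ‖χ.1 (u * w)‖ = 0 ∨ ‖χ.1 (u * w)‖ = p - 3 := by
  obtain ⟨r, h1, h2, h3⟩ := h.alt_eq
  have hp5 : (5 : ℝ) < p := by exact_mod_cast h.big
  refine iter_sq ho (F := fun g => ‖χ.1 (u * g)‖) (c := p - 3) (by linarith) (norm_nonneg _) fun i => ?_
  have h4 := orderOf_pow_dvd (x := w) (2 ^ i)
  have h5 := hc.pow_right (2 ^ i)
  have h6 := h3 (u * w ^ 2 ^ i) fun e => by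
    rcases (Nat.Prime.dvd_mul hp.out).1 (e.trans h5.orderOf_mul_dvd_mul_orderOf) with e | e
    · have := (Nat.prime_dvd_prime_iff_eq hp.out Nat.prime_two).1
        (hp.out.dvd_of_dvd_pow (e.trans (orderOf_dvd_of_pow_eq_one hu)))
      have := h.big
      omega
    · exact hw (e.trans h4)
  have h7 := orderOf_pow_dvd (x := w) (2 ^ (i + 1))
  rw [h5.mul_pow, h1 _ (fun e => hw (e.trans h4)) (ho.of_dvd_nat h4), h2 u a hu, ← pow_two, h5.mul_pow, ← pow_two,
    ← pow_mul, ← pow_succ, χ.2.isCharacter.apply_mul_of_eq_degree (h.two (u ^ 2) (sq u ▸ (h.val_two hu).1) a (by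
      rw [← pow_mul, mul_comm, pow_mul, hu, one_pow])), h.val_odd (fun e => hw (e.trans h7)) (ho.of_dvd_nat h7) fun e => hz (by
      obtain ⟨j, hj⟩ := exists_pow_eq_self_of_coprime (x := w) ((Nat.coprime_two_left.2 ho).pow_left (i + 1))
      exact hj ▸ pow_mem e j), sub_zero] at h6
  rw [← norm_pow, h6, norm_mul, show (p : ℂ) - 3 = ((p - 3 : ℝ) : ℂ) by simp, Complex.norm_real,
    Real.norm_of_nonneg (by linarith)]

theorem pow_mem_center {g : G} (hg : p ∣ orderOf g) : g ^ p ∈ center G := by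
  obtain ⟨k, θ, -, -, -, -, h0⟩ := h.res
  obtain ⟨u, c, -, e⟩ := D.exists_conj_π hg
  have := (h0 (c ^ p) (by rw [D.π_pow, ZMod.natCast_self, zero_mul])).1
  rwa [coe_pow, ← e, conj_pow, Normal.mem_comm_iff inferInstance, inv_mul_cancel_left] at this

theorem cent {s y : G ⧸ center G} (hs : orderOf s = 2) (hc : Commute y s) : y ^ 2 = 1 := by
  classical
  have := Fact.mk Nat.prime_two
  have hp5 := h.big
  have lift : ∀ {q k : ℕ} [Fact q.Prime] {y : G ⧸ center G}, y ^ q ^ k = 1 → ∃ (g : G) (j : ℕ), g = y ∧ g ^ q ^ j = 1 :=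
    fun {q k} _ y hy => by
      obtain ⟨x, rfl⟩ := QuotientGroup.mk_surjective y
      obtain ⟨m, j, h1, h2⟩ := KS9.exists_pElt_pow (QuotientGroup.mk' (center G)) (x := x) hy
      exact ⟨_, j, h1, h2⟩
  by_cases h2 : ∀ q, q.Prime → q ∣ orderOf y → q = 2
  · obtain ⟨k, hk⟩ := eq_pow_of_forall_prime (orderOf_pos y).ne' h2
    obtain ⟨g, j, rfl, hg⟩ := lift (q := 2) (hk ▸ pow_orderOf_eq_one y)
    rw [sq, ← QuotientGroup.mk_mul, QuotientGroup.eq_one_iff]
    exact (h.val_two hg).1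
  push Not at h2
  obtain ⟨q, hq, h2, h3⟩ := h2
  have := Fact.mk hq
  have ho := hq.odd_of_ne_two h3
  have h4 := orderOf_pow_orderOf_div (orderOf_pos y).ne' h2
  replace hc := hc.pow_left (orderOf y / q)
  generalize y ^ (orderOf y / q) = v at h4 hc
  obtain ⟨u, a, rfl, hu⟩ := lift (q := 2) (k := 1) (y := s) (by rw [pow_one, ← hs, pow_orderOf_eq_one])
  obtain ⟨w, b, rfl, hw⟩ := lift (q := q) (k := 1) (y := v) (by rw [pow_one, ← h4, pow_orderOf_eq_one])
  have hu1 : u ∉ center G := fun e => by simp [(QuotientGroup.eq_one_iff u).2 e] at hs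
  exfalso
  rcases eq_or_ne q p with rfl | hqp
  · have h5 := hc.symm.orderOf_mul_eq_mul_orderOf_of_coprime (by rw [hs, h4]; exact Nat.coprime_two_left.2 ho)
    have h6 := (QuotientGroup.eq_one_iff _).2 (h.pow_mem_center (g := u * w) (((dvd_mul_left q 2).trans
      (by rw [← hs, ← h4, ← h5]; rfl)).trans (orderOf_map_dvd (QuotientGroup.mk' (center G)) (u * w))))
    rw [QuotientGroup.mk_pow, QuotientGroup.mk_mul, ← orderOf_dvd_iff_pow_eq_one, h5, hs, h4] at h6
    have := Nat.le_of_dvd hq.pos h6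
    omega
  have h5 : Commute u w := commute_of_central (((Nat.coprime_two_left.2 ho).pow_left a).pow_right b) hu hw
    ((QuotientGroup.eq_one_iff _).1 (commutatorElement_eq_one_iff_commute.2 hc.symm))
  obtain ⟨Φ, hΦ, e⟩ := (χ.2.isCharacter.mul χ.2.isCharacter.conj).exists_quotient (center G) fun z hz y => by
    obtain ⟨lam, hl⟩ := χ.2.exists_linear_of_le_center le_rfl
    have h1 := hl ⟨z, hz⟩ y
    have h2 := Complex.mul_conj' (lam ⟨z, hz⟩ : ℂ)
    rw [norm_hom, Complex.ofReal_one] at h2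
    simp only [Pi.mul_apply, h1, map_mul]
    linear_combination (χ.1 y * conj (χ.1 y)) * h2
  have h6 : ∀ g : G, Φ g = ‖χ.1 g‖ ^ 2 := fun g => (congrFun e g).symm.trans (Complex.mul_conj' _)
  have hH := (Nat.card_zpowers (w : G ⧸ center G)).trans h4
  have h7 : ∀ v ∈ zpowers (w : G ⧸ center G), v ≠ 1 → Φ v = 0 ∧ (Φ (u * v) = 0 ∨ Φ (u * v) = (p - 3) ^ 2) :=
    fun v hv hv1 => by
      obtain ⟨j, rfl⟩ := (mem_powers_iff_mem_zpowers).2 hv
      have h7 := (orderOf_pow_dvd (x := w) j).trans (orderOf_dvd_of_pow_eq_one hw)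
      have h8 : ¬ p ∣ orderOf (w ^ j) := fun e =>
        hqp ((Nat.prime_dvd_prime_iff_eq hp.out hq).1 (hp.out.dvd_of_dvd_pow (e.trans h7))).symm
      have h9 : w ^ j ∉ center G := fun e => hv1 ((QuotientGroup.eq_one_iff _).2 e)
      simp only [← QuotientGroup.mk_pow, ← QuotientGroup.mk_mul, h6]
      refine ⟨by simp [h.val_odd h8 (ho.pow.of_dvd_nat h7) h9], ?_⟩
      rcases h.val_mix hu h8 (ho.pow.of_dvd_nat h7) h9 (h5.pow_right j) with e | e <;> simp [e]
  obtain ⟨a', h8, h9⟩ := card_mul_av_sup hΦ hs (H := zpowers (w : G ⧸ center G)) (fun hm => h3 (by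
      rw [← hs, orderOf_eq_of_mem_card_prime hH hm fun e => by simp [e] at hs]))
    fun v hv => by obtain ⟨k, rfl⟩ := hv; exact hc.symm.zpow_right k
  have h10 := sum_eq_av hΦ (zpowers (w : G ⧸ center G))
  rw [sum_elems_erase _ _ fun v hv hv1 => (h7 v hv hv1).1, hH, ← QuotientGroup.mk_one, h6, h.norm_one] at h10
  rw [← Finset.add_sum_erase _ _ (mem_elems.2 (Subgroup.one_mem _)), mul_one, h6, (h.val_two hu).2 hu1, hH,
    Finset.sum_congr rfl (g := fun v => if Φ (u * v) = 0 then 0 else ((p : ℂ) - 3) ^ 2) fun v hv => by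
      rw [Finset.mem_erase, mem_elems] at hv
      split_ifs with e
      exacts [e, (h7 v hv.2 hv.1).2.resolve_left e], Finset.sum_ite, Finset.sum_const, Finset.sum_const] at h9
  generalize Finset.card (Finset.filter (fun v => ¬ Φ (u * v) = 0) _) = n at h9
  generalize av _ Φ = t at h8 h9 h10
  have h11 : ((p : ℤ) - 2) ^ 2 = q * t := by exact_mod_cast (show ((p : ℂ) - 2) ^ 2 = q * t by simpa using h10)
  have h12 : 1 + n * ((p : ℤ) - 3) ^ 2 = q * (2 * a' - t) := by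
    exact_mod_cast (show 1 + n * ((p : ℂ) - 3) ^ 2 = q * (2 * a' - t) by simpa using h9)
  obtain ⟨m, hm⟩ := (Nat.prime_iff_prime_int.1 hq).dvd_of_dvd_pow ⟨_, h11⟩
  have h13 : (q : ℤ) * a' ≤ q * t := by gcongr
  have h14 : n ≤ 1 := by
    by_contra h14
    have : 2 * ((p : ℤ) - 3) ^ 2 ≤ n * (p - 3) ^ 2 := by gcongr; omega
    nlinarith [show (5 : ℤ) < p by omega]
  have := Int.le_of_dvd (by positivity) (show (q : ℤ) ∣ 1 + n from
    ⟨2 * a' - t - n * (t - 2 * m), by linear_combination h12 - n * h11 + 2 * n * hm⟩)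
  have := hq.two_le
  omega

theorem psl (hn : ¬ P.Normal) : ∃ (F : Type) (_ : Field F) (_ : Fintype F) (a : ℕ), Fintype.card F = 2 ^ a ∧
    p = 2 ^ a + 1 ∧ Nonempty ((G ⧸ center G) ≃* Known.SL2 F) := by
  classical
  have := Fact.mk Nat.prime_two
  have hp5 := h.big
  obtain ⟨k, θ, -, -, ⟨n, h1⟩, -, h0⟩ := h.res
  have hx := D.orderOf_eq D.x_mem D.x_ne_one
  have h2 : (n : G) * D.x * (n : G)⁻¹ = (D.x : G)⁻¹ := by
    rw [D.conj_x, h1, eq_inv_iff_mul_eq_one, ← pow_succ, ← orderOf_dvd_iff_pow_eq_one, hx,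
      ← ZMod.natCast_eq_zero_iff]
    simp
  have h3 : ((n : G) * n) ∈ 𝐂 P := (D.a_eq_one_iff (n * n)).1 (by simp [h1])
  have h4 := D.π_cjC n ⟨_, h3⟩
  rw [show cjC n ⟨_, h3⟩ = ⟨_, h3⟩ from Subtype.ext (by rw [coe_cjC]; simp [mul_assoc]), h1, Units.val_neg, Units.val_one,
    neg_one_mul, eq_neg_iff_add_eq_zero, ← two_mul, mul_eq_zero] at h4
  have h5 := (h0 _ (h4.resolve_left fun e => by
    have := Nat.le_of_dvd two_pos ((ZMod.natCast_eq_zero_iff 2 p).1 (by exact_mod_cast e)); omega)).1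
  have h6 : orderOf ((D.x : G) : G ⧸ center G) = p := orderOf_eq_prime
    (by rw [← QuotientGroup.mk_pow, D.pow_eq_one D.x_mem, QuotientGroup.mk_one])
    fun e => h.nc ((QuotientGroup.eq_one_iff _).1 e)
  obtain ⟨F, _, _, a, hF, h4F, ⟨e⟩⟩ := psl_of_cent (fun _ _ => h.cent) (s := ((n : G) : G ⧸ center G))
    (x := (D.x : G)) (orderOf_eq_prime ((sq _).trans ((QuotientGroup.eq_one_iff _).2 h5)) fun e => by
      rw [← mem_center_iff.1 ((QuotientGroup.eq_one_iff _).1 e), mul_inv_cancel_right, eq_inv_iff_mul_eq_one,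
        ← sq, ← orderOf_dvd_iff_pow_eq_one, hx] at h2
      have := Nat.le_of_dvd two_pos h2
      omega) (h6.symm ▸ hp.out.odd_of_ne_two (by omega)) (congrArg QuotientGroup.mk h2) fun hN => hn (by
      refine normalizer_eq_top_iff.1 (eq_top_iff.2 fun g _ => D.mem_normalizer_of_conj D.x_mem D.x_ne_one ?_)
      obtain ⟨j, hj⟩ := hN.conj_mem _ (mem_zpowers _) g
      have h7 : ((D.x : G) ^ j)⁻¹ * (g * D.x * g⁻¹) ∈ center G := QuotientGroup.eq.1 hj
      refine D.mem_of_pow (v := ⟨_, (mul_mem_cancel_left (inv_mem (zpow_mem D.x.2 j))).1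
        (center_le_centralizer _ h7)⟩) ?_
      rw [conj_pow, D.pow_eq_one D.x_mem]; simp)
  have ha : a ≠ 0 := by rintro rfl; omega
  obtain ⟨e'⟩ := nonempty_sl_equiv_psl (F := F) (by
    rw [Nat.card_eq_fintype_card, hF]; exact even_two.pow_of_ne_zero ha)
  refine ⟨F, _, _, a, hF, ?_, ⟨e.trans e'.symm⟩⟩
  have c1 : Nat.card (G ⧸ center G) = 2 ^ a * (2 ^ a - 1) * (2 ^ a + 1) := by
    rw [Nat.card_congr (e.trans e'.symm).toEquiv, card_SL_two, Nat.card_eq_fintype_card, hF]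
  obtain ⟨S⟩ : Nonempty (Sylow 2 G) := inferInstance
  obtain ⟨b, hb⟩ := IsPGroup.iff_card.1 (S.2.to_le (inf_le_left (b := center G)))
  have c2 : 2 ^ (a + b) ∣ Nat.card S := S.pow_dvd_card_of_pow_dvd_card (by
    rw [card_eq_card_quotient_mul_card_subgroup (center G), c1, pow_add, ← hb]
    exact mul_dvd_mul ((dvd_mul_right _ _).mul_right _) (card_dvd_of_le inf_le_right))
  have c3 : ∑ u ∈ elems (S : Subgroup G), (χ.1 u + 1) = 2 ^ b * (p - 1) := by
    rw [← Finset.sum_subset (elems_mono (inf_le_left (b := center G))) fun u hu hu' => ?_,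
      Finset.sum_congr rfl (g := fun _ => (p : ℂ) - 1) fun u hu => ?_, Finset.sum_const, card_elems, hb]
    · simp
    · obtain ⟨j, hj⟩ := isPGroup_iff_mem.1 S.2 u (mem_elems.1 hu).1
      rw [h.two u (mem_elems.1 hu).2 j hj, h.one]; ring
    · obtain ⟨j, hj⟩ := isPGroup_iff_mem.1 S.2 u (mem_elems.1 hu)
      rw [(h.val_two hj).2 fun e => hu' (mem_elems.2 ⟨mem_elems.1 hu, e⟩), neg_add_cancel]
  rw [Finset.sum_add_distrib, sum_eq_av χ.2.isCharacter, Finset.sum_const, card_elems, nsmul_one, ← mul_add_one,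
    ← Nat.cast_pred hp.out.pos] at c3
  have c4 : Nat.card S * (av S χ.1 + 1) = 2 ^ b * (p - 1) := by exact_mod_cast c3
  have c5 := c2.trans ⟨_, c4.symm⟩
  rw [pow_add, mul_comm, Nat.mul_dvd_mul_iff_left (by positivity)] at c5
  have c6 := Nat.le_of_dvd (by omega) c5
  have c7 := h6 ▸ c1 ▸ orderOf_dvd_natCard ((D.x : G) : G ⧸ center G)
  rcases (Nat.Prime.dvd_mul hp.out).1 c7 with c8 | c8
  · rcases (Nat.Prime.dvd_mul hp.out).1 c8 with c8 | c8 <;> have := Nat.le_of_dvd (by omega) c8 <;> omega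
  · have := Nat.le_of_dvd (by omega) c8; omega

end PM2

/-- A faithful irreducible character of degree `p - 2`. -/
theorem sl2_of_degree_sub_two (hp5 : 5 < p) (hP : Nat.card P = p) (hi : ¬ p ∣ P.index) (hn : ¬ P.Normal)
    {ζ : G → ℂ} (hζ : IsIrrCharacter G ζ) (hf : charKer ζ = ⊥) (hd : charDegree ζ + 2 = p) :
    ∃ (a : ℕ) (F : Type) (_ : Field F) (_ : Fintype F), p = 2 ^ a + 1 ∧ Fintype.card F = 2 ^ a ∧
      Nonempty (G ≃* Known.SL2 F × center G) := by
  obtain ⟨D⟩ := exists_dOne hP hi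
  obtain ⟨lam, hl⟩ := hζ.exists_linear_of_le_center le_rfl
  have ho : Odd (charDegree ζ) := by
    have := hp.out.odd_of_ne_two (by omega)
    rw [← hd, Nat.odd_add] at this
    exact this.2 even_two
  obtain ⟨c, m, hm, hG⟩ := Nat.exists_eq_two_pow_mul_odd (Nat.card_pos (α := G)).ne'
  obtain ⟨j, hj⟩ := Nat.exists_mul_mod_eq_of_coprime 1 ((Nat.coprime_two_right.2 ho).pow_right c) (by positivity)
  let δ : G →* ℂˣ := MonoidHom.toHomUnits ⟨⟨detChar ζ, detChar_one ζ⟩, detChar_mul ζ⟩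
  have hδ : ∀ z : center G, δ z = lam z ^ charDegree ζ := fun z => Units.ext (detChar_center hζ.isCharacter hl z)
  have h : PM2 D ⟨_, hζ.linear_mul (δ ^ j)⁻¹⟩ := ⟨hp5, by
    rw [← hd]; congr 1; exact charDegree_eq_of_eq (by simp [Char.Cfsg.IsCharacter.coe_charDegree hζ.isCharacter]),
    fun g hg => hζ.charCenter_eq_center hf ▸ hζ.mem_charCenter.2 (by simpa only [norm_mul, norm_hom, one_mul] using hg),
    fun z hz a ha => by
      have h1 := hl ⟨z, hz⟩ 1
      have h2 : orderOf (lam ⟨z, hz⟩) ∣ 2 ^ c := (orderOf_map_dvd lam _).trans (by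
        rw [← orderOf_coe]
        exact (((Nat.coprime_two_left.2 hm).pow_left a).coprime_dvd_left
          (orderOf_dvd_of_pow_eq_one ha)).dvd_of_dvd_mul_right (hG ▸ orderOf_dvd_natCard z))
      have h3 : (δ ^ j) z = lam ⟨z, hz⟩ := by
        rw [MonoidHom.pow_apply, hδ ⟨z, hz⟩, ← pow_mul]
        exact (pow_eq_pow_iff_modEq.2 (Nat.ModEq.of_dvd h2 hj.2)).trans (pow_one _)
      rw [mul_one] at h1
      simp [h1, h3],
    fun e => hn (D.zpowers_eq D.x_mem D.x_ne_one ▸ PGrp.normal_of_le_center (zpowers_le.2 e))⟩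
  obtain ⟨F, _, _, a, hF, ha, ⟨e⟩⟩ := h.psl hn
  have he : Even (Nat.card F) := by
    rw [Nat.card_eq_fintype_card, hF]; exact even_two.pow_of_ne_zero (by rintro rfl; omega)


  let π := e.toMonoidHom.comp (QuotientGroup.mk' (center G))
  have hk : π.ker = center G := by rw [← MonoidHom.comap_ker, (MonoidHom.ker_eq_bot_iff _).2 e.injective]; simp
  refine ⟨a, F, _, _, ha, hF, hk ▸ Exc.nonempty_equiv_prod_ker (e.surjective.comp (QuotientGroup.mk'_surjective _))
    hk.le ?_ fun x h1 h2 => Exc.eq_one_of_cyclic_sylow hk.le h1 h2 fun r hr hd S _ hS => ?_⟩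
  · exact sl_commutator_eq_top (Or.inr (exists_sq_ne_one_of_four_le_card (by rw [Nat.card_eq_fintype_card]; omega)))
  · have := Fact.mk hr
    have h3 : x ∈ center G := hk ▸ h2
    have h4 : x ^ charDegree ζ = 1 := by
      have h4 := hl (⟨x, h3⟩ ^ charDegree ζ) 1
      rw [map_pow, ← hδ, show δ (⟨x, h3⟩ : center G) = 1 from Units.ext (detChar_of_mem_commutator ζ h1)] at h4
      exact mem_bot.1 (hf ▸ hζ.mem_charKer.2 (by simpa using h4))
    have h5 : Odd r := ho.of_dvd_nat (hd.trans (orderOf_dvd_of_pow_eq_one h4))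
    refine sl2_isCyclic_of_isPGroup ?_ (by rintro rfl; exact absurd h5 (by decide)) hS
    obtain ⟨k, rfl⟩ := h5
    simp [two_eq_zero_of_even he]

end Cfsg.Lib.Small
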