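import Cfsg.Agent.Lib.Small.TITr
import Mathlib.RingTheory.Polynomial.DegreeLT
import Mathlib.LinearAlgebra.Eigenspace.Semisimple

/-!
# `𝔰𝔩₂`-triples normalised by a unipotent element of order `p` and a torus
-/

set_option autoImplicit false

namespace Cfsg.Lib.Small

open Module Polynomial

variable {κ : Type*} [Field κ] {W : Type*} [AddCommGroup W] [Module κ W] [FiniteDimensional κ W]

theorem exists_eigen_notMem [IsAlgClosed κ] {τ : End κ W} {m : ℕ} (hm : (m : κ) ≠ 0) (h : τ ^ m = 1)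
    {K : Submodule κ W} (hK : K ≠ ⊤) : ∃ w, w ∉ K ∧ ∃ μ : κ, τ w = μ • w := by
  have := (End.isSemisimple_of_squarefree_aeval_eq_zero (f := τ)
    (X_pow_sub_one_separable_iff.2 hm).squarefree (by simp [h])).iSup_eigenspace_eq_top
  by_contra! h1
  exact hK (eq_top_iff.2 (this ▸ iSup_le fun μ w hw => by_contra fun h2 =>
    h1 w h2 μ (End.mem_eigenspace_iff.1 hw)))

/-- an `𝔰𝔩₂`-triple normalised by `x` and `t` -/
structure Sl2 (x t e h f : End κ W) : Prop where
  ef : e * f - f * e = h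
  he : h * e - e * h = -(2 : κ) • e
  hf : h * f - f * h = (2 : κ) • f
  tr : LinearMap.trace κ W (e * f) ≠ 0
  xe : x * e = e * x
  xh : x * h = (h + (2 : κ) • e) * x
  xf : x * f = (f + h + e) * x
  te : ∃ c : κ, t * e = c • (e * t)
  th : t * h = h * t
  tf : ∃ c : κ, t * f = c • (f * t)

theorem Sl2.push {U : Type*} [AddCommGroup U] [Module κ U] [FiniteDimensional κ U]
    {x t e h f : End κ U} (H : Sl2 x t e h f) {Φ : W →ₗ[κ] U} {Ψ : U →ₗ[κ] W}
    (h0 : ∀ u, Φ (Ψ u) = u) {x' t' : End κ W} (h1 : ∀ w, Φ (x' w) = x (Φ w))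
    (h2 : ∀ w, Φ (t' w) = t (Φ w)) (h3 : ∀ u, x' (Ψ u) = Ψ (x u)) (h4 : ∀ u, t' (Ψ u) = Ψ (t u)) :
    Sl2 x' t' (Ψ ∘ₗ e ∘ₗ Φ) (Ψ ∘ₗ h ∘ₗ Φ) (Ψ ∘ₗ f ∘ₗ Φ) := by
  have k : ∀ {a b : End κ U}, a = b → ∀ w, Ψ (a (Φ w)) = Ψ (b (Φ w)) := fun e w => by rw [e]
  obtain ⟨c, hc⟩ := H.te
  obtain ⟨c', hc'⟩ := H.tf
  refine ⟨LinearMap.ext fun w => ?_, LinearMap.ext fun w => ?_, LinearMap.ext fun w => ?_, ?_,
    LinearMap.ext fun w => ?_, LinearMap.ext fun w => ?_, LinearMap.ext fun w => ?_,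
    ⟨c, LinearMap.ext fun w => ?_⟩, LinearMap.ext fun w => ?_, ⟨c', LinearMap.ext fun w => ?_⟩⟩
  · simpa [h0] using k H.ef w
  · simpa [h0] using k H.he w
  · simpa [h0] using k H.hf w
  · rw [End.mul_eq_comp, LinearMap.comp_assoc, LinearMap.trace_comp_comm']
    convert H.tr using 2
    ext u
    simp [h0]
  · simpa [h1, h3] using k H.xe w
  · simpa [h1, h3] using k H.xh w
  · simpa [h1, h3] using k H.xf w
  · simpa [h2, h4] using k hc w
  · simpa [h2, h4] using k H.th w
  · simpa [h2, h4] using k hc' w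

theorem casimir_eq_zero {e h f : End κ W} (hh : e * f - f * e = h) (h1 : h * e - e * h = -(2 : κ) • e)
    {c : κ} (h2 : h * h = (4 : κ) • (f * e) + (2 : κ) • h + c • 1)
    (h3 : LinearMap.trace κ W (e * f) = 0) : c * finrank κ W = 0 := by
  have h4 : LinearMap.trace κ _ h = 0 := by
    rw [← hh, map_sub, LinearMap.trace_mul_comm, sub_self]
  have h5 := congrArg (fun z => LinearMap.trace κ _ (z * f)) h1
  have h6 := congrArg (LinearMap.trace κ _) h2
  nth_rw 2 [← hh] at h6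
  simp only [sub_mul, mul_sub, map_sub, map_add, map_smul, smul_mul_assoc, h3, h4, smul_zero,
    LinearMap.trace_mul_comm κ f e, LinearMap.trace_one, zero_add] at h5 h6
  rwa [← mul_assoc, ← mul_assoc, LinearMap.trace_mul_comm κ _ e, ← mul_assoc, h5, eq_comm] at h6

theorem exists_sl2_poly {l : ℕ} (h0 : (l : κ) * (l * l - 1) ≠ 0) {a : κ} (ha : a ≠ 0) (ν : κ)
    {x t : End κ (degreeLT κ l)} (hx : ∀ q, (x q).1 = taylor 1 q.1)
    (ht : ∀ q, (t q).1 = ν • q.1.comp (C a * X)) : ∃ e h f, Sl2 x t e h f := by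
  obtain ⟨c, hc⟩ : ∃ c : κ, l = c + 1 := ⟨l - 1, by ring⟩
  let e : End κ (degreeLT κ l) := derivative.restrict fun q hq =>
    mem_degreeLT.2 (degree_derivative_le.trans_lt (mem_degreeLT.1 hq))
  let f : End κ (degreeLT κ l) := (LinearMap.mulLeft κ (X * X) ∘ₗ derivative -
      LinearMap.mulLeft κ (C c * X)).restrict fun q hq => by
    rw [mem_degreeLT, degree_lt_iff_coeff_zero] at hq ⊢
    rintro (_ | _ | m) hm
    · simp [mul_assoc]
    · obtain rfl | rfl : l = 0 ∨ l = 1 := by omega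
      · simp at h0
      · simp at h0
    · rcases hm.eq_or_lt with rfl | hm
      · have : c = m + 1 := by push_cast at hc; linear_combination -hc
        simp [mul_assoc, coeff_derivative, coeff_C_mul, ← this, mul_comm c]
      · simp [mul_assoc, coeff_derivative, hq (m + 1) (by omega)]
  have he : ∀ q, (e q).1 = derivative q.1 := fun _ => rfl
  have hf : ∀ q, (f q).1 = X * X * derivative q.1 - C c * X * q.1 := fun _ => rfl
  obtain ⟨h, hh⟩ : ∃ h, e * f - f * e = h := ⟨_, rfl⟩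
  have hh' : ∀ q, (h q).1 = 2 * X * derivative q.1 - C c * q.1 := fun q => by
    simp [← hh, he, hf]; ring
  have h1 : h * e - e * h = -(2 : κ) • e := by
    ext q : 2
    simp [hh', he, smul_eq_C_mul, C_ofNat, mul_add, add_mul, add_comm, mul_assoc]
  have h2 : h * h = (4 : κ) • (f * e) + (2 : κ) • h + (c * (c + 2)) • 1 := by
    ext q : 2
    simp [hh', he, hf, smul_eq_C_mul, C_ofNat]; ring
  have hd : ∀ q : κ[X], taylor 1 (derivative q) = derivative (taylor 1 q) := fun q => by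
    simp [taylor_apply, derivative_comp]
  refine ⟨e, h, f, hh, h1, ?_, fun h3 => h0 ?_, ?_, ?_, ?_, ⟨a⁻¹, ?_⟩, ?_, ⟨a, ?_⟩⟩
  · ext q : 2
    simp [hh', hf, smul_eq_C_mul, C_ofNat]; ring
  · have h6 := casimir_eq_zero hh h1 h2 h3
    rw [finrank_eq_card_basis (degreeLT.basis κ l), Fintype.card_fin] at h6
    rw [hc] at h6 ⊢
    linear_combination h6
  · ext q : 2
    simp [he, hx, hd]
  · ext q : 2
    simp [he, hh', hx, hd, smul_eq_C_mul, C_ofNat, two_mul]; ring
  · ext q : 2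
    simp [he, hh', hf, hx, hd]; ring
  · ext q : 2
    simp [he, ht, derivative_comp, ← smul_eq_C_mul, ha, smul_comm ν]
  · ext q : 2
    simp [hh', ht, derivative_comp, smul_eq_C_mul]; ring
  · ext q : 2
    simp [hf, ht, derivative_comp, smul_eq_C_mul]; ring

variable {p : ℕ} [hp : Fact p.Prime] [CharP κ p]

omit [FiniteDimensional κ W] in
theorem exists_phi {x : End κ W} {l : ℕ} (hl : l ≤ p) (hx : (x - 1) ^ l = 0) (ξ : Dual κ W) :
    ∃ Φ : W →ₗ[κ] degreeLT κ l, ∀ w (j : ℕ), (Φ w).1.eval (j : κ) = ξ ((x ^ j) w) := by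
  refine ⟨LinearMap.codRestrict _ (∑ k ∈ Finset.range l, (ξ ∘ₗ (x - 1) ^ k).smulRight
    ((k.factorial : κ)⁻¹ • descPochhammer κ k)) fun w => ?_, fun w j => ?_⟩
  · rw [LinearMap.sum_apply]
    refine Submodule.sum_mem _ fun k hk => Submodule.smul_mem _ _ (Submodule.smul_mem _ _ ?_)
    rw [mem_degreeLT, degree_eq_natDegree (monic_descPochhammer κ k).ne_zero, descPochhammer_natDegree]
    exact_mod_cast Finset.mem_range.1 hk
  · have h1 : x ^ j = ∑ k ∈ Finset.range l, (j.choose k : κ) • (x - 1) ^ k := by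
      have h2 := (Commute.one_right (x - 1)).add_pow j
      rw [sub_add_cancel] at h2
      rw [h2, Finset.sum_subset (Finset.range_mono (le_max_left (j + 1) l)),
        Finset.sum_subset (Finset.range_mono (le_max_right (j + 1) l))]
      · simp [Nat.cast_smul_eq_nsmul, (Nat.cast_commute _ _).eq]
      · intro k _ hk
        rw [pow_eq_zero_of_le (by simpa using hk) hx, smul_zero]
      · intro k _ hk
        rw [Nat.choose_eq_zero_of_lt (by simpa using hk), Nat.cast_zero, mul_zero]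
    simp only [LinearMap.codRestrict_apply, LinearMap.sum_apply, eval_finsetSum, h1, map_sum,
      LinearMap.smul_apply, map_smul, LinearMap.smulRight_apply, eval_smul,
      descPochhammer_eval_eq_descFactorial, Nat.descFactorial_eq_factorial_mul_choose]
    refine Finset.sum_congr rfl fun k hk => ?_
    have : (k.factorial : κ) ≠ 0 := by
      rw [Ne, CharP.cast_eq_zero_iff κ p, hp.out.dvd_factorial]
      exact not_le.2 ((Finset.mem_range.1 hk).trans_le hl)
    simp [this, mul_comm]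

theorem eq_of_eval_natCast {l : ℕ} (hl : l ≤ p) {q r : degreeLT κ l}
    (h : ∀ j : ℕ, q.1.eval (j : κ) = r.1.eval (j : κ)) : q = r := by
  classical
  have hc : ((Finset.range p).image (Nat.cast : ℕ → κ)).card = p := by
    rw [Finset.card_image_of_injOn (by simpa using CharP.natCast_injOn_Iio κ p), Finset.card_range]
  refine Subtype.ext (eq_of_degrees_lt_of_eval_finset_eq ((Finset.range p).image (Nat.cast : ℕ → κ))
    ((mem_degreeLT.1 q.2).trans_le (by rw [hc]; exact_mod_cast hl))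
    ((mem_degreeLT.1 r.2).trans_le (by rw [hc]; exact_mod_cast hl)) fun z hz => ?_)
  obtain ⟨j, -, rfl⟩ := Finset.mem_image.1 hz
  exact h j

theorem exists_sl2 [IsAlgClosed κ] {x t : End κ W} {d : ℕ} (hd : d + 1 < p) (hx : (x - 1) ^ d = 0)
    (hx1 : x ≠ 1) {m : ℕ} (hm : (m : κ) ≠ 0) (ht : t ^ m = 1) {a b : ℕ} (ha : (a : κ) ≠ 0)
    (h1 : x * t = t * x ^ a) (h2 : t * x = x ^ b * t) : ∃ e h f, Sl2 x t e h f := by
  classical
  have hN : IsNilpotent (x - 1) := ⟨d, hx⟩
  have hl := Nat.find_spec hN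
  have hld := Nat.find_min' hN hx
  have hl1 : (x - 1) ^ (Nat.find hN - 1) ≠ 0 ∧ 2 ≤ Nat.find hN := by
    have : ¬ Nat.find hN ≤ 1 := fun h => hx1 (sub_eq_zero.1 (by simpa using pow_eq_zero_of_le h hl))
    exact ⟨Nat.find_min hN (by omega), by omega⟩
  generalize Nat.find hN = l at hl hld hl1
  obtain ⟨w, hw, μ, hμ⟩ := exists_eigen_notMem hm ht (mt LinearMap.ker_eq_top.1 hl1.1)
  obtain ⟨ξ, hξ, ν, hν⟩ := exists_eigen_notMem (τ := t.dualMap) hm (by
    ext ξ v
    suffices ∀ j (ξ : Dual κ W), ((t.dualMap ^ j : End κ (Dual κ W)) ξ) v = ξ ((t ^ j) v) by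
      simp [this, ht]
    intro j
    induction j with
    | zero => simp
    | succ j ih => intro ξ; rw [pow_succ, End.mul_apply, ih, pow_succ']; rfl)
    (K := LinearMap.ker (Dual.eval κ W (((x - 1) ^ (l - 1)) w))) fun h =>
      hw ((forall_dual_apply_eq_zero_iff κ _).1 fun ξ => (h ▸ Submodule.mem_top : ξ ∈ _))
  obtain ⟨Φ, hΦ⟩ := exists_phi (by omega : l ≤ p) hl ξ
  let j : κ[X] →ₗ[κ] W := (LinearMap.applyₗ w) ∘ₗ (aeval (1 + (x - 1))).toLinearMap
  have hj : ∀ q, j q = aeval x q w := fun q => by simp [j]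
  have key : ∀ q, Φ (j q) = 0 → j q = 0 ∧ (q ∈ degreeLT κ l → q = 0) := fun q h0 => by
    by_cases hq : q = 0
    · simp [hq]
    obtain ⟨u, -, hu, e, r, hr⟩ := exists_aeval_eq hN hq
    have h3 : l ≤ q.rootMultiplicity 1 := by
      by_contra! h3
      have h4 : ∀ s : κ[X], ξ (aeval x s (j q)) = 0 := fun s => by
        rw [aeval_eq_sum_range]
        simp [← hΦ, h0]
      have h5 := h4 ((X - 1) ^ (l - 1 - q.rootMultiplicity 1))
      simp only [map_pow, map_sub, aeval_X, map_one, j, LinearMap.comp_apply, AlgHom.toLinearMap_apply,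
        LinearMap.applyₗ_apply_apply, e, ← End.mul_apply] at h5
      rw [← mul_assoc, ← pow_add, Nat.sub_add_cancel (by omega), hr, mul_add, ← mul_assoc, ← pow_succ,
        Nat.sub_add_cancel (by omega), hl, zero_mul, add_zero, ← Algebra.commutes, ← Algebra.smul_def,
        LinearMap.smul_apply, map_smul, smul_eq_zero_iff_right hu] at h5
      exact hξ h5
    refine ⟨by simp [j, -add_sub_cancel, e, pow_eq_zero_of_le h3 hl], fun h4 => ?_⟩
    have := natDegree_le_of_dvd (pow_rootMultiplicity_dvd q 1) hq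
    rw [natDegree_pow, natDegree_X_sub_C, mul_one] at this
    exact absurd ((natDegree_lt_iff_degree_lt hq).2 (mem_degreeLT.1 h4)) (by omega)
  let Θ := LinearEquiv.ofInjectiveEndo (Φ ∘ₗ j ∘ₗ (degreeLT κ l).subtype)
    ((injective_iff_map_eq_zero _).2 fun q hq => Subtype.ext ((key q hq).2 q.2))
  let Ψ := j ∘ₗ (degreeLT κ l).subtype ∘ₗ Θ.symm.toLinearMap
  have h0 : ∀ u, Φ (Ψ u) = u := Θ.apply_symm_apply
  have h3 : ∀ q, Ψ (Φ (j q)) = j q := fun q => by
    rw [← sub_eq_zero]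
    change j _ - _ = 0
    rw [← map_sub]
    exact (key _ (by rw [map_sub, map_sub, sub_eq_zero]; exact h0 _)).1
  let x' : End κ (degreeLT κ l) := (taylor 1).restrict fun q hq => taylor_mem_degreeLT.2 hq
  let t' : End κ (degreeLT κ l) := ν • (aeval (C (a : κ) * X)).toLinearMap.restrict fun q hq => by
    rw [mem_degreeLT, degree_lt_iff_coeff_zero] at hq ⊢
    intro k hk
    simp [← comp_eq_aeval, comp_C_mul_X_coeff, -map_natCast, hq k hk]
  have h4 : ∀ v, Φ (x v) = x' (Φ v) := fun v => eq_of_eval_natCast (by omega) fun k => by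
    change _ = (taylor 1 (Φ v).1).eval _
    rw [taylor_eval, ← Nat.cast_succ, hΦ, hΦ, pow_succ, End.mul_apply]
  have h5 : ∀ v, Φ (t v) = t' (Φ v) := fun v => eq_of_eval_natCast (by omega) fun k => by
    change _ = (ν • aeval (C (a : κ) * X) (Φ v).1).eval _
    have : x ^ k * t = t * x ^ (a * k) := by
      rw [pow_mul]; exact (SemiconjBy.pow_right h1.symm k).eq.symm
    rw [eval_smul, ← comp_eq_aeval, eval_comp, eval_mul, eval_C, eval_X, ← Nat.cast_mul, hΦ, hΦ,
      ← End.mul_apply, this]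
    exact LinearMap.congr_fun hν _
  obtain ⟨e, h, f, H⟩ := exists_sl2_poly (l := l) (by
    have : ∀ n : ℕ, 0 < n → n < p → (n : κ) ≠ 0 := fun n h1 h2 h3 =>
      Nat.not_dvd_of_pos_of_lt h1 h2 ((CharP.cast_eq_zero_iff κ p n).1 h3)
    convert mul_ne_zero (this l (by omega) (by omega)) (mul_ne_zero (this (l + 1) (by omega) (by omega))
      (this (l - 1) (by omega) (by omega))) using 2
    rw [Nat.cast_sub (by omega)]
    push_cast
    ring) ha ν (x := x') (t := t') (fun _ => rfl) fun q => by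
      rw [comp_eq_aeval]; rfl
  refine ⟨_, _, _, H.push h0 h4 h5 (fun u => ?_) fun u => ?_⟩
  · rw [← h0 u, ← h4]
    obtain ⟨q, hq⟩ : ∃ q, Ψ u = j q := ⟨_, rfl⟩
    have : x (j q) = j (X * q) := by simp [hj]
    rw [hq, h3, this, h3]
  · rw [← h0 u, ← h5]
    obtain ⟨q, hq⟩ : ∃ q, Ψ u = j q := ⟨_, rfl⟩
    have : t (j q) = j (μ • q.comp (X ^ b)) := by
      have : t * aeval x q = aeval (x ^ b) q * t := by
        simp only [aeval_eq_sum_range, Finset.mul_sum, Finset.sum_mul, mul_smul_comm, smul_mul_assoc,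
          (SemiconjBy.pow_right h2 _).eq]
      rw [hj, hj, ← End.mul_apply, this, End.mul_apply, hμ]
      simp [aeval_comp]
    rw [hq, h3, this, h3]

end Cfsg.Lib.Small
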