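import Cfsg.Agent.Lib.Small.Brauer
import Cfsg.Agent.Lib.Clifford.Bound
import Cfsg.Agent.Lib.PGrp.MaxClass

/-!
# Groups with a self-centralizing element of prime order
-/

set_option autoImplicit false

namespace Cfsg.Lib.Small

open Subgroup Cfsg.Lib.Amalg Cfsg.Lib.Char Cfsg.Lib.Clifford
open scoped commutatorElement

universe u

variable {G : Type u} [Group G] [Finite G] {p : ℕ} [hp : Fact p.Prime] {P : Subgroup G}

/-- The number of classes of elements of order `p`. -/
theorem DOne.card_classes (D : DOne p P) :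
    Nat.card {c : ConjClasses G // ∃ g : G, ConjClasses.mk g = c ∧ orderOf g = p} * (𝐂 P).relIndex (𝐍 P) + 1 = p := by
  obtain ⟨S, rfl⟩ := syl_top_iff.1 D.syl
  have h1 := card_orderOf_eq_prime S D.card
  have h2 : Nat.card {g : G // orderOf g = p} =
      Nat.card {c : ConjClasses G // ∃ g : G, ConjClasses.mk g = c ∧ orderOf g = p} * (𝐂 (S : Subgroup G)).index := by
    refine Invol.card_eq_mul_of_fibers ConjClasses.mk (fun g hg => ⟨g, rfl, hg⟩) ?_
    rintro _ ⟨g, rfl, hg⟩
    have := Invol.card_isConj_mul g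
    obtain ⟨h, hh⟩ := D.exists_conj_mem (v := g) (hg ▸ pow_orderOf_eq_one g)
    rw [Invol.card_centralizer_of_isConj (Invol.isConj_conj h g), D.centralizer_eq hh fun e =>
      hp.out.one_lt.ne' (by rw [← hg, ← Invol.orderOf_conj h, e, orderOf_one]), ← index_mul_card (𝐂 (S : Subgroup G))]
      at this
    rw [← Nat.eq_of_mul_eq_mul_right Nat.card_pos this]
    refine Invol.card_congr_iff fun y => ?_
    rw [ConjClasses.mk_eq_mk_iff_isConj]
    exact ⟨fun h => h.2.symm, fun h => ⟨(Invol.orderOf_of_isConj h).symm.trans hg, h.symm⟩⟩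
  rw [h2, ← relIndex_mul_index (centralizer_le_normalizer' _), index_normalizer_sylow, ← mul_assoc, mul_comm] at h1
  have := Nat.eq_of_mul_eq_mul_left Nat.card_pos h1
  have := hp.out.pos
  omega

theorem card_sub_eq_card_sylow (P : Sylow p G) (hP : Nat.card (P : Subgroup G) = p) :
    Nat.card {H : Subgroup G // Nat.card H = p} = Nat.card (Sylow p G) :=
  Nat.eq_of_mul_eq_mul_right (show 0 < p - 1 by have := hp.out.two_le; omega)
    ((PGrp.card_orderOf_eq_prime hp.out).symm.trans (card_orderOf_eq_prime P hP))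

/-- `x` has order `p` and commutes only with its powers. -/
structure SC (p : ℕ) (x : G) : Prop where
  ord : orderOf x = p
  cent : centralizer {x} = zpowers x

namespace SC

variable {x : G} (h : SC p x) {S : Subgroup G}
include h

omit [Finite G] hp in
theorem card : Nat.card (zpowers x) = p := (Nat.card_zpowers x).trans h.ord

omit [Finite G] in
theorem ne_one : x ≠ 1 := by rintro rfl; exact hp.out.one_lt.ne (orderOf_one.symm.trans h.ord)

omit [Finite G] hp in
theorem hC : 𝐂 (zpowers x) ≤ zpowers x := by rw [Core.centralizer_zpowers, h.cent]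

theorem exists_sylow : ∃ P : Sylow p G, (P : Subgroup G) = zpowers x :=
  (exists_sylow_eq_zpowers h.ord h.cent).imp fun _ h => h.1

theorem dOne : Nonempty (DOne p (zpowers x)) := by
  obtain ⟨P, hP⟩ := h.exists_sylow
  exact exists_dOne h.card (hP ▸ P.not_dvd_index)

theorem card_sub : Nat.card {H : Subgroup G // Nat.card H = p} = (𝐍 (zpowers x)).index := by
  obtain ⟨P, hP⟩ := h.exists_sylow
  rw [card_sub_eq_card_sylow P (hP ▸ h.card), ← hP, index_normalizer_sylow]

theorem classes {t : ℕ} (ht : Nat.card {C : ConjClasses G // ∃ g ∈ C.carrier, orderOf g = p} = t) :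
    t * (𝐂 (zpowers x)).relIndex (𝐍 (zpowers x)) + 1 = p := by
  obtain ⟨D⟩ := h.dOne
  rw [← D.card_classes, ← ht]
  simp only [ConjClasses.mem_carrier_iff_mk_eq]

omit [Finite G] hp in
theorem subgroup (hx : x ∈ S) : SC p (⟨x, hx⟩ : S) :=
  ⟨(orderOf_coe _).symm.trans h.ord, le_antisymm (fun y hy => by
    obtain ⟨k, hk⟩ := h.cent.le (mem_centralizer_singleton_iff.2
      (congrArg Subtype.val (mem_centralizer_singleton_iff.1 hy)))
    exact ⟨k, Subtype.ext hk⟩) (zpowers_le.2 (mem_centralizer_singleton_iff.2 rfl))⟩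

omit [Finite G] in
theorem mem_of_mem {y : G} (hy : y ∈ zpowers x) (h1 : y ≠ 1) (hS : y ∈ S) : x ∈ S :=
  zpowers_le.2 hS ((eq_zpowers_of_mem_card_prime h.card hy h1).symm ▸ mem_zpowers x)

theorem card_eq_of_comm (hG : ∀ a b : G, a * b = b * a) : Nat.card G = p := by
  rw [← h.card, ← h.cent, (centralizer {x}).eq_top_iff'.2 fun g => mem_centralizer_singleton_iff.2 (hG g x), card_top]

variable [hS : S.Normal]

theorem mem_iff : x ∈ S ↔ p ∣ Nat.card S := by
  refine ⟨fun hx => h.ord ▸ S.orderOf_dvd_natCard hx, fun hd => ?_⟩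
  obtain ⟨D⟩ := h.dOne
  obtain ⟨v, hv⟩ := exists_prime_orderOf_dvd_card' (G := S) p hd
  rw [← orderOf_coe] at hv
  obtain ⟨g, hg⟩ := D.exists_conj_mem (v := v) (hv ▸ pow_orderOf_eq_one _)
  exact h.mem_of_mem hg (fun e => hp.out.one_lt.ne' (by rw [← hv, ← Invol.orderOf_conj g, e, orderOf_one]))
    (hS.conj_mem _ v.2 g)

theorem sup_eq_top (hx : x ∈ S) : 𝐍 (zpowers x) ⊔ S = ⊤ := by
  obtain ⟨P, hP⟩ := h.exists_sylow
  rw [← hP]
  exact P.normalizer_sup_eq_top' (hP ▸ zpowers_le.2 hx)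

omit hS in
theorem commutator_N : ⁅𝐍 (zpowers x), 𝐍 (zpowers x)⁆ ≤ zpowers x := by
  obtain ⟨D⟩ := h.dOne
  refine commutator_le.2 fun a ha b hb => ?_
  have := (D.a_eq_one_iff' h.hC ⁅(⟨a, ha⟩ : 𝐍 (zpowers x)), ⟨b, hb⟩⁆).1
    (by rw [map_commutatorElement, commutatorElement_eq_one_iff_mul_comm, mul_comm])
  exact this

omit h hp [Finite G] in
theorem commutator_le_sup {N : Subgroup G} (hN : N ⊔ S = ⊤) : _root_.commutator G ≤ ⁅N, N⁆ ⊔ S := by
  have h1 : N.map (QuotientGroup.mk' S) = (⊤ : Subgroup G).map (QuotientGroup.mk' S) := by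
    rw [← hN, Subgroup.map_sup, (map_eq_bot_iff S).2 (QuotientGroup.ker_mk' S).ge, sup_bot_eq]
  rw [← QuotientGroup.ker_mk' S, ← comap_map_eq, ← map_le_iff_le_comap, commutator_def, map_commutator, map_commutator, h1]

theorem commutator_le (hx : x ∈ S) : _root_.commutator G ≤ S :=
  (commutator_le_sup (h.sup_eq_top hx)).trans (sup_le (h.commutator_N.trans (zpowers_le.2 hx)) le_rfl)

theorem eq_one (hx : x ∉ S) {s : G} (hs : s ∈ S) (e : s * x = x * s) : s = 1 := by
  by_contra h1
  exact hx (h.mem_of_mem (h.cent.le (mem_centralizer_singleton_iff.2 e)) h1 hs)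

theorem inf_eq_bot (hx : x ∉ S) : 𝐍 (zpowers x) ⊓ S = ⊥ := eq_bot_iff.2 fun s ⟨h1, h2⟩ => by
  refine h.eq_one hx h2 (mul_inv_eq_one.1 ?_)
  by_contra h3
  refine hx (h.mem_of_mem ?_ h3 ?_)
  · simpa [mul_assoc] using mul_mem ((mem_normalizer_iff.1 h1 x).1 (mem_zpowers x)) (inv_mem (mem_zpowers x))
  · simpa [mul_assoc] using mul_mem h2 (hS.conj_mem _ (inv_mem h2) x)

theorem card_dvd (hx : x ∉ S) : Nat.card S ∣ (𝐍 (zpowers x)).index := by
  have := card_subgroup_dvd_card (𝐍 (zpowers x) ⊔ S)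
  rwa [Core.card_sup_of_disjoint (by rw [S.normalizer_eq_top]; exact le_top) (h.inf_eq_bot hx),
    ← card_mul_index (𝐍 (zpowers x)), Nat.mul_dvd_mul_iff_left Nat.card_pos] at this

theorem quot (hx : x ∉ S) : SC p (x : G ⧸ S) := by
  have h1 : orderOf (x : G ⧸ S) = p := orderOf_eq_prime (by rw [← QuotientGroup.mk_pow, ← h.ord, pow_orderOf_eq_one]; rfl)
    fun e => hx ((QuotientGroup.eq_one_iff x).1 e)
  refine ⟨h1, (eq_of_le_of_card_ge (zpowers_le.2 (mem_centralizer_singleton_iff.2 rfl)) ?_).symm⟩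
  rw [Nat.card_zpowers, h1, ← h.card, ← h.cent]
  exact card_centralizer_quotient_le S x

theorem card_mod (hx : x ∉ S) : Nat.card S % p = 1 := by
  letI : MulDistribMulAction (zpowers x) S :=
    MulDistribMulAction.compHom _ ((MulAut.conjNormal (H := S)).comp (zpowers x).subtype)
  have h1 := (IsPGroup.of_card (n := 1) (h.card.trans (pow_one p).symm)).card_modEq_card_fixedPoints S
  have h2 : MulAction.fixedPoints (zpowers x) S = {1} := Set.eq_singleton_iff_unique_mem.2
    ⟨fun g => smul_one g, fun s hs => Subtype.ext (h.eq_one hx s.2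
      (mul_inv_eq_iff_eq_mul.1 (congrArg Subtype.val (hs ⟨x, mem_zpowers x⟩))).symm)⟩
  rw [h2, Nat.card_coe_set_eq, Set.ncard_singleton] at h1
  exact Eq.trans h1 (Nat.mod_eq_of_lt hp.out.one_lt)

theorem le_commutator (hx : x ∉ S) : S ≤ _root_.commutator G := fun s hs => by
  let f : S → S := fun s => ⟨s * (x * (s : G)⁻¹ * x⁻¹), mul_mem s.2 (hS.conj_mem _ (inv_mem s.2) x)⟩
  have hf : Function.Injective f := fun a b e => by
    have e1 : (a : G) * (x * (a : G)⁻¹ * x⁻¹) = b * (x * (b : G)⁻¹ * x⁻¹) := congrArg Subtype.val e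
    refine Subtype.ext (inv_mul_eq_one.1 (h.eq_one hx (mul_mem (inv_mem b.2) a.2) ?_)).symm
    calc _ = (b : G)⁻¹ * (a * (x * (a : G)⁻¹ * x⁻¹)) * x * a := by group
      _ = _ := by rw [e1]; group
  obtain ⟨a, ha⟩ := Finite.surjective_of_injective hf ⟨s, hs⟩
  rw [← show (a : G) * (x * (a : G)⁻¹ * x⁻¹) = s from congrArg Subtype.val ha, commutator_def]
  simpa [commutatorElement_def, mul_assoc] using commutator_mem_commutator (mem_top (a : G)) (mem_top x)

omit hS

theorem index_commutator (hx : x ∉ _root_.commutator G) : (_root_.commutator G).index = p :=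
  (h.quot hx).card_eq_of_comm (mul_comm (G := Abelianization G))

theorem mem_commutator_iff : x ∈ _root_.commutator G ↔ (𝐂 (zpowers x)).relIndex (𝐍 (zpowers x)) ≠ 1 := by
  rw [Ne, relIndex_eq_one]
  refine ⟨fun hx hN => ?_, fun hN => ?_⟩
  · obtain ⟨P, hP⟩ := h.exists_sylow
    obtain ⟨K, hK, h1, h2⟩ := exists_normal_complement_of_normalizer_le P (hP ▸ hN)
    have := isCyclic_of_prime_card (α := G ⧸ K) (h1.trans (hP ▸ h.card))
    exact h2 (h.mem_iff.1 (Normal.quotient_commutative_iff_commutator_le.1 inferInstance hx))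
  · obtain ⟨n, h1, h2⟩ := SetLike.not_le_iff_exists.1 hN
    refine h.mem_of_mem (y := ⁅n, x⁆) (mul_mem ((mem_normalizer_iff.1 h1 x).1 (mem_zpowers x)) (inv_mem (mem_zpowers x)))
      (fun e => h2 ?_) (commutator_mem_commutator (mem_top n) (mem_top x))
    rw [Core.centralizer_zpowers]
    exact mem_centralizer_singleton_iff.2 (commutatorElement_eq_one_iff_mul_comm.1 e)

theorem mem_commutator_iff' {t : ℕ} (ht : Nat.card {C : ConjClasses G // ∃ g ∈ C.carrier, orderOf g = p} = t) :
    x ∈ _root_.commutator G ↔ t ≠ p - 1 := by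
  have h1 := h.classes ht
  have h2 := hp.out.two_le
  rw [h.mem_commutator_iff, not_iff_not]
  refine ⟨fun e => by rw [e] at h1; omega, fun e => Nat.eq_of_mul_eq_mul_left (show 0 < t by omega) (by omega)⟩

theorem index_commutator_dvd (hx : x ∈ _root_.commutator G) :
    (_root_.commutator G).index ∣ (𝐂 (zpowers x)).relIndex (𝐍 (zpowers x)) := by
  rw [← relIndex_top_right, ← h.sup_eq_top hx, relIndex_sup_right]
  exact relIndex_dvd_of_le_left _ (h.hC.trans (zpowers_le.2 hx))

end SC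

end Cfsg.Lib.Small
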