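import Cfsg.Agent.Lib.Known2.LE4
import Cfsg.Agent.Lib.PGrp.Extra
import Cfsg.Prelude.Def_ClassificationK

/-! Large subgroups of symplectic type and exponent four, elementwise. -/

set_option autoImplicit false

namespace Cfsg.Lib.Small

open Subgroup Cfsg.Lib.Core Cfsg.Lib.Amalg Cfsg.Lib.Known2 Cfsg.Lib.Layer

variable {G : Type*} [Group G]

theorem sq_trivial_of_fix {H : Type*} [Group H] {A : Subgroup H} (hc : ∀ x ∈ A, ∀ y ∈ A, x * y = y * x)
    (h2 : ∀ x ∈ A, x * x = 1) (f : MulAut H) (hf : ∀ x ∈ A, f x ∈ A) (h4 : ∀ x, f (f (f (f x))) = x)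
    (h : ∀ x ∈ A, f (f x) = x → f x = x) : ∀ x ∈ A, f (f x) = x := by
  intro a ha
  have hb := hf a ha
  have hc' := hf _ hb
  have hd := hf _ hc'
  have e1 := h _ (mul_mem hc' ha) (by rw [map_mul, map_mul, h4, hc _ ha _ hc'])
  rw [map_mul] at e1
  have e2 := h _ (mul_mem hb ha) (by
    rw [map_mul, map_mul]
    calc f (f (f a)) * f (f a) = f (f (f a)) * f a * (f a * f (f a)) := by
          rw [mul_assoc, ← mul_assoc (f a), h2 _ hb, one_mul]
      _ = f (f a) * (a * f a) * f (f a) := by rw [e1]; group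
      _ = a * f a * (f (f a) * f (f a)) := by rw [hc _ hc' _ (mul_mem ha hb)]; group
      _ = f a * a := by rw [h2 _ hc', mul_one, hc _ ha _ hb])
  rw [map_mul, hc _ hb _ ha] at e2
  exact mul_right_cancel e2

/-- `Q` large of symplectic type with `Φ(Q) ≤ ⟨z⟩`. -/
structure ST (Q : Subgroup G) (z : G) : Prop where
  mem : z ∈ Q
  ne : z ≠ 1
  sq : z * z = 1
  cen : ∀ x ∈ Q, x * z = z * x
  of_cen : ∀ x ∈ Q, x * x = 1 → (∀ y ∈ Q, x * y = y * x) → x = 1 ∨ x = z
  comm : ∀ x ∈ Q, ∀ y ∈ Q, x * y = y * x ∨ x * y = y * x * z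
  sq_mem : ∀ x ∈ Q, x * x = 1 ∨ x * x = z
  selfc : ∀ g, (∀ x ∈ Q, g * x = x * g) → g ∈ Q
  norm : ∀ g, g * z = z * g → ∀ x ∈ Q, g * x * g⁻¹ ∈ Q
  top : (∀ g, g * z = z * g → g ^ 2 ^ 5 = 1) → ∀ g, g * z = z * g → g ∈ Q

namespace ST
variable {Q : Subgroup G} {z : G} (h : ST Q z)
include h

theorem conj (g : G) : ST (cj g Q) (g * z * g⁻¹) where
  mem := conj_mem_cj g h.mem
  ne := by simpa using h.ne
  sq := by rw [conj_mul, h.sq]; group
  cen := by
    intro x hx
    obtain ⟨y, hy, rfl⟩ := mem_cj'.1 hx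
    rw [conj_mul, conj_mul, h.cen y hy]
  of_cen := by
    intro x hx h2 hc
    obtain ⟨y, hy, rfl⟩ := mem_cj'.1 hx
    rcases h.of_cen y hy (by rw [conj_mul] at h2; simpa using h2) (fun w hw => by
      have := hc _ (conj_mem_cj g hw)
      rw [conj_mul, conj_mul] at this
      simpa using this) with e | e
    · left; rw [e]; group
    · right; rw [e]
  comm := by
    intro x hx x' hx'
    obtain ⟨y, hy, rfl⟩ := mem_cj'.1 hx
    obtain ⟨y', hy', rfl⟩ := mem_cj'.1 hx'
    simp only [conj_mul]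
    rcases h.comm y hy y' hy' with e | e
    · left; rw [e]
    · right; rw [e]
  sq_mem := by
    intro x hx
    obtain ⟨y, hy, rfl⟩ := mem_cj'.1 hx
    rw [conj_mul]
    rcases h.sq_mem y hy with e | e
    · left; rw [e]; group
    · right; rw [e]
  selfc := by
    intro k hk
    rw [mem_cj]
    refine h.selfc _ fun x hx => ?_
    have := hk _ (conj_mem_cj g hx)
    calc g⁻¹ * k * g * x = g⁻¹ * (k * (g * x * g⁻¹)) * g := by group
      _ = _ := by rw [this]; group
  norm := by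
    intro k hk x hx
    rw [mem_cj] at hx ⊢
    have := h.norm (g⁻¹ * k * g) (by
      calc g⁻¹ * k * g * z = g⁻¹ * (k * (g * z * g⁻¹)) * g := by group
        _ = _ := by rw [hk]; group) _ hx
    convert this using 1; group
  top := by
    intro H k hk
    rw [mem_cj]
    refine h.top (fun c hc => ?_) _ ?_
    · have := H (g * c * g⁻¹) (by rw [conj_mul, conj_mul, hc])
      rw [conj_pow] at this
      simpa using this
    · calc g⁻¹ * k * g * z = g⁻¹ * (k * (g * z * g⁻¹)) * g := by group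
        _ = _ := by rw [hk]; group

theorem anti {x y : G} (hx : x ∈ Q) (hy : y ∈ Q) (hn : x * y ≠ y * x) : x * y = y * x * z :=
  (h.comm x hx y hy).resolve_left hn

theorem exists_conj {b : G} (hb : b ∈ Q) (hbb : b * b = 1) (h1 : b ≠ 1) (h2 : b ≠ z) :
    ∃ y ∈ Q, y * b ≠ b * y ∧ y * z * y⁻¹ = z ∧ y * b * y⁻¹ = z * b := by
  by_contra hcon
  push Not at hcon
  rcases h.of_cen b hb hbb (fun y hy => by
    by_contra hn
    apply hcon y hy (Ne.symm hn) (conj_eq_of_comm (h.cen y hy))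
    rw [h.anti hy hb (Ne.symm hn), mul_assoc b, h.cen y hy, ← h.cen b hb]; group) with e | e
  exacts [h1 e, h2 e]

theorem mul_comm_of_anti {a x y : G} (ha : a ∈ Q) (hx : x ∈ Q) (hy : y ∈ Q) (h1 : a * x ≠ x * a)
    (h2 : a * y ≠ y * a) : a * (x * y) = x * y * a := by
  rw [← mul_assoc, h.anti ha hx h1, mul_assoc _ z, ← h.cen y hy, ← mul_assoc, mul_assoc x,
    h.anti ha hy h2, mul_assoc, mul_assoc, h.sq]; group

theorem double_perp {b e : G} (hb : b ∈ Q) (hbb : b * b = 1) (he : e ∈ Q) (hee : e * e = 1)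
    (hc : ∀ y ∈ Q, b * y = y * b → e * y = y * e) : (e = 1 ∨ e = z) ∨ (e = b ∨ e = b * z) := by
  by_cases h1 : ∀ y ∈ Q, e * y = y * e
  · exact Or.inl (h.of_cen e he hee h1)
  push Not at h1
  obtain ⟨y, hy, hey⟩ := h1
  have hby : b * y ≠ y * b := fun e' => hey (hc y hy e')
  have heb := hc b hb rfl
  right
  have := h.of_cen (b * e) (mul_mem hb he) (by
    rw [mul_assoc, ← mul_assoc e, heb, mul_assoc, hee, mul_one, hbb]) (fun x hx => by
    by_cases hbx : b * x = x * b
    · rw [mul_assoc, hc x hx hbx, ← mul_assoc, hbx, mul_assoc]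
    · have e1 := hc _ (mul_mem hx hy) (h.mul_comm_of_anti hb hx hy hbx hby)
      have hex : e * x ≠ x * e := by
        intro e2
        apply hey
        rw [← mul_assoc, e2, mul_assoc, mul_assoc] at e1
        exact mul_left_cancel e1
      exact (h.mul_comm_of_anti hx hb he (Ne.symm hbx) (Ne.symm hex)).symm)
  rcases this with e' | e'
  · left; rw [← mul_left_cancel_iff (a := b), e', hbb]
  · right; rw [← e', ← mul_assoc, hbb, one_mul]

theorem cj_eq [Finite G] {g g' : G} (e : g * z * g⁻¹ = g' * z * g'⁻¹) : cj g Q = cj g' Q := by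
  have : g'⁻¹ * g ∈ 𝐍 Q := mem_normalizer_of_conj_mem (h.norm _ (comm_of_conj_eq (by
    calc g'⁻¹ * g * z * (g'⁻¹ * g)⁻¹ = g'⁻¹ * (g * z * g⁻¹) * g' := by group
      _ = z := by rw [e]; group)))
  calc cj g Q = cj g' (cj (g'⁻¹ * g) Q) := by rw [← cj_mul, mul_inv_cancel_left]
    _ = _ := by rw [cj_eq_self_iff.2 this]

theorem sym [Finite G] {g : G} (hb : g * z * g⁻¹ ∈ Q) (hne : g * z * g⁻¹ ≠ z) : z ∈ cj g Q := by
  have h1 := h.conj g
  obtain ⟨y, hy, hyb, hyz, hyb'⟩ := h.exists_conj hb h1.sq h1.ne hne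
  have hzb : z * (g * z * g⁻¹) = g * z * g⁻¹ * z := (h.cen _ hb).symm
  by_cases hf : ∃ x ∈ cj g Q, x * z * x⁻¹ = z * (g * z * g⁻¹)
  · obtain ⟨x, hx, e⟩ := hf
    have hxb := conj_eq_of_comm (h1.cen x hx)
    have e1 : (y * x * y) * z * (y * x * y)⁻¹ = g * z * g⁻¹ := by
      calc _ = y * (x * (y * z * y⁻¹) * x⁻¹) * y⁻¹ := by group
        _ = _ := by rw [hyz, e, ← conj_mul, hyz, hyb', ← mul_assoc, h.sq, one_mul]
    have e2 : (y * x * y) * (g * z * g⁻¹) * (y * x * y)⁻¹ = z := by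
      calc _ = y * (x * (y * (g * z * g⁻¹) * y⁻¹) * x⁻¹) * y⁻¹ := by group
        _ = y * ((x * z * x⁻¹) * (x * (g * z * g⁻¹) * x⁻¹)) * y⁻¹ := by rw [hyb']; group
        _ = _ := by rw [e, hxb, mul_assoc z, h1.sq, mul_one, hyz]
    rw [← h.cj_eq e1]
    have := conj_mem_cj (y * x * y) hb
    rwa [e2] at this
  push Not at hf
  generalize hbg : g * z * g⁻¹ = b at *
  have hzi : z⁻¹ = z := inv_eq_of_mul_eq_one_right h.sq
  by_cases hw : ∃ w ∈ Q, w * b = b * w ∧ w * w = z
  swap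
  · push Not at hw
    have hP : ∀ x ∈ Q, b * x = x * b → x * x = 1 := fun x hx e =>
      (h.sq_mem x hx).resolve_right (hw x hx e.symm)
    have hP2 : ∀ x ∈ Q, b * x = x * b → (x = 1 ∨ x = z) ∨ (x = b ∨ x = b * z) := by
      intro x hx e
      refine h.double_perp hb h1.sq hx (hP x hx e) fun u hu e' => ?_
      have := hP _ (mul_mem hx hu) (by rw [← mul_assoc, e, mul_assoc, e', mul_assoc])
      calc x * u = (x * u)⁻¹ := eq_inv_of_mul_eq_one_left this
        _ = u * x := by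
          rw [mul_inv_rev, inv_eq_of_mul_eq_one_right (hP x hx e),
            inv_eq_of_mul_eq_one_right (hP u hu e')]
    -- an element of order four outside `C(b)`
    obtain ⟨t, ht, htb, htt⟩ : ∃ t ∈ Q, b * t ≠ t * b ∧ t * t = z := by
      rcases h.sq_mem y hy with e | e
      · refine ⟨y * b, mul_mem hy hb, fun e' => hyb ?_, ?_⟩
        · rw [← mul_assoc, mul_assoc y, h1.sq, mul_one] at e'
          rw [← mul_left_inj b, e', mul_assoc, h1.sq, mul_one]
        · rw [mul_assoc, ← mul_assoc b, h.anti hb hy (Ne.symm hyb), mul_assoc, mul_assoc y b,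
            ← mul_assoc y, e, one_mul, hzb, ← mul_assoc, h1.sq, one_mul]
      · exact ⟨y, hy, Ne.symm hyb, e⟩
    have hQ : ∀ x ∈ Q, b * x = x * b ∨ b * (t * x) = t * x * b := fun x hx =>
      or_iff_not_imp_left.2 fun e => h.mul_comm_of_anti hb ht hx htb e
    have hti : t⁻¹ = t * z := by rw [inv_eq_iff_mul_eq_one, ← mul_assoc, htt, h.sq]
    have hbt : b * t * b⁻¹ = t⁻¹ := by
      rw [h.anti hb ht htb, mul_assoc t, ← hzb, hti]; group
    have hsq : ∀ u ∈ zpowers t, u * b * (u * b) = 1 := by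
      rintro _ ⟨k, rfl⟩
      have : b * t ^ k * b⁻¹ = (t ^ k)⁻¹ := by rw [← conj_zpow, hbt, inv_zpow]
      calc t ^ k * b * (t ^ k * b) = t ^ k * (b * t ^ k * b⁻¹) * (b * b) := by group
        _ = 1 := by rw [this, h1.sq]; group
    have hzt : z ∈ zpowers t := htt ▸ mul_mem (mem_zpowers t) (mem_zpowers t)
    have hti' : t⁻¹ ∈ zpowers t := inv_mem (mem_zpowers t)
    have hall : ∀ x ∈ Q, ∃ u ∈ zpowers t, x = u ∨ x = u * b := by
      intro x hx
      rcases hQ x hx with e | e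
      · rcases hP2 x hx e with (e | e) | (e | e)
        · exact ⟨1, one_mem _, Or.inl e⟩
        · exact ⟨z, hzt, Or.inl e⟩
        · exact ⟨1, one_mem _, Or.inr (by rw [e, one_mul])⟩
        · exact ⟨z, hzt, Or.inr (by rw [e, hzb])⟩
      · rcases hP2 _ (mul_mem ht hx) e with (e | e) | (e | e)
        · exact ⟨t⁻¹, hti', Or.inl (by rw [← mul_one t⁻¹, ← e]; group)⟩
        · exact ⟨t⁻¹ * z, mul_mem hti' hzt, Or.inl (by rw [← e]; group)⟩
        · exact ⟨t⁻¹, hti', Or.inr (by rw [← e]; group)⟩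
        · exact ⟨t⁻¹ * z, mul_mem hti' hzt, Or.inr (by rw [mul_assoc, hzb, ← e]; group)⟩
    have ht4 : ∀ u ∈ zpowers t, u ^ 4 = 1 := by
      rintro _ ⟨k, rfl⟩
      have : t ^ 4 = 1 := by
        rw [show t ^ 4 = t * t * (t * t) by simp [pow_succ, mul_assoc], htt, h.sq]
      simp only
      rw [← zpow_natCast, ← zpow_mul, mul_comm, zpow_mul, zpow_natCast, this, one_zpow]
    have htop := h.top (fun c hc => by
      have hcz := conj_eq_of_comm hc
      have ct : c * t * c⁻¹ = t ∨ c * t * c⁻¹ = t⁻¹ := by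
        have hs := h.norm c hc t ht
        have hss : c * t * c⁻¹ * (c * t * c⁻¹) = z := by rw [conj_mul, htt, hcz]
        generalize c * t * c⁻¹ = s at hs hss
        rcases hQ s hs with e | e
        · exact absurd (hss.symm.trans (hP s hs e)) h.ne
        rcases hP2 _ (mul_mem ht hs) e with (e | e) | (e | e)
        · exact Or.inr (eq_inv_of_mul_eq_one_right e)
        · exact Or.inl (mul_left_cancel (e.trans htt.symm))
        · have : s = t⁻¹ * b := by rw [← e]; group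
          rw [this, hsq _ hti'] at hss
          exact absurd hss.symm h.ne
        · have : s = t⁻¹ * z * b := by rw [mul_assoc, hzb, ← e]; group
          rw [this, hsq _ (mul_mem hti' hzt)] at hss
          exact absurd hss.symm h.ne
      have dt : c * c * t * (c * c)⁻¹ = t := by
        rw [show c * c * t * (c * c)⁻¹ = c * (c * t * c⁻¹) * c⁻¹ by group]
        rcases ct with e | e
        · rw [e, e]
        · rw [e, ← conj_inv, e, inv_inv]
      have du : ∀ u ∈ zpowers t, c * c * u * (c * c)⁻¹ = u := by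
        rintro _ ⟨k, rfl⟩
        simp only
        rw [← conj_zpow, dt]
      have hd : c * c * z = z * (c * c) := by rw [mul_assoc, hc, ← mul_assoc, hc, mul_assoc]
      generalize hdd : c * c = d at *
      obtain ⟨u, hu, e | e⟩ := hall _ (h.norm d hd b hb)
      · rw [← du u hu, mul_left_inj, mul_right_inj] at e
        obtain ⟨k, rfl⟩ := hu
        exact absurd (e ▸ (Commute.zpow_self t k).eq) htb
      have hk : ∀ k : ℕ, d ^ k * b * (d ^ k)⁻¹ = u ^ k * b ∧
          ∀ v ∈ zpowers t, d ^ k * v * (d ^ k)⁻¹ = v := by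
        intro k
        induction k with
        | zero => simp
        | succ k ih =>
          refine ⟨?_, fun v hv => ?_⟩
          · calc _ = d * (d ^ k * b * (d ^ k)⁻¹) * d⁻¹ := by rw [pow_succ']; group
              _ = _ := by rw [ih.1, ← conj_mul, du _ (pow_mem hu k), e, pow_succ, mul_assoc]
          · calc _ = d * (d ^ k * v * (d ^ k)⁻¹) * d⁻¹ := by rw [pow_succ']; group
              _ = _ := by rw [ih.2 v hv, du v hv]
      obtain ⟨e1, e2⟩ := hk 4
      rw [ht4 u hu, one_mul] at e1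
      have hm := h.selfc (d ^ 4) fun x hx => by
        apply comm_of_conj_eq
        obtain ⟨v, hv, e | e⟩ := hall x hx
        · rw [e, e2 v hv]
        · rw [e, ← conj_mul, e2 v hv, e1]
      have : c ^ 2 ^ 5 = d ^ 4 * d ^ 4 * (d ^ 4 * d ^ 4) := by
        rw [← hdd, ← pow_two c, ← pow_mul, ← pow_add, ← pow_add]; rfl
      rw [this]
      rcases h.sq_mem _ hm with e | e <;> rw [e]
      · exact one_mul 1
      · exact h.sq)
    rw [mem_cj]
    apply htop
    calc g⁻¹ * z * g * z = g⁻¹ * (z * (g * z * g⁻¹)) * g := by group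
      _ = _ := by rw [hbg, hzb, ← hbg]; group
  obtain ⟨w, hw, hwb, hww⟩ := hw
  generalize cj g Q = Q1 at *
  by_contra hz
  have hE : ∀ e ∈ Q, e ∈ Q1 → e = 1 ∨ e = b := by
    intro e he he1
    have hee : e * e = 1 := (h.sq_mem e he).resolve_right fun e' => hz (e' ▸ mul_mem he1 he1)
    rcases h.double_perp hb h1.sq he hee (fun y hy e' => by
      by_contra hn
      apply hz
      have h2 := h.anti hy he (Ne.symm hn)
      have h3 := mul_mem (inv_mem he1) (h1.norm y e'.symm e he1)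
      rwa [h2, mul_assoc e, h.cen y hy, show e⁻¹ * (e * (z * y) * y⁻¹) = z by group] at h3)
      with (e' | e') | (e' | e')
    · exact Or.inl e'
    · exact absurd (e' ▸ he1) hz
    · exact Or.inr e'
    · exfalso; apply hz
      have := mul_mem (inv_mem h1.mem) he1
      rwa [e', inv_mul_cancel_left] at this
  have hW : ∀ x ∈ Q1, (z * x * z⁻¹ = x ∨ z * x * z⁻¹ = x * b) → z * x * z⁻¹ = x := by
    rintro x hx (e | e)
    · exact e
    · exfalso
      apply hf x⁻¹ (inv_mem hx)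
      calc x⁻¹ * z * x⁻¹⁻¹ = x⁻¹ * (z * x * z⁻¹) * z := by group
        _ = _ := by rw [e, hzb]; group
  set N := centralizer ({b} : Set G) with hN
  have hbN : b ∈ N := mem_cent_single.2 rfl
  have hwN : w ∈ N := mem_cent_single.2 hwb
  haveI : (zpowers (⟨b, hbN⟩ : N)).Normal := PGrp.normal_of_le_center (zpowers_le.2
    (mem_center_iff.2 fun x => Subtype.ext (mem_cent_single.1 x.2)))
  set π := QuotientGroup.mk' (zpowers (⟨b, hbN⟩ : N)) with hπ
  have hπe : ∀ x y : N, π x = π y ↔ (y : G) = x ∨ (y : G) = x * b := by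
    intro x y
    rw [hπ, QuotientGroup.mk'_apply, QuotientGroup.mk'_apply, QuotientGroup.eq,
      mem_zpowers_invol (Subtype.ext h1.sq), inv_mul_eq_one, inv_mul_eq_iff_eq_mul, Subtype.ext_iff,
      Subtype.ext_iff, eq_comm]
    rfl
  have key := sq_trivial_of_fix (A := (Q1.subgroupOf N).map π) ?_ ?_ (MulAut.conj (π ⟨w, hwN⟩)) ?_ ?_ ?_
  · apply hz
    refine h1.selfc z fun x hx => comm_of_conj_eq (hW x hx ?_)
    have hxN : x ∈ N := mem_cent_single.2 (h1.cen x hx)
    have := key _ ⟨⟨x, hxN⟩, hx, rfl⟩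
    simp only [MulAut.conj_apply, ← map_mul, ← map_inv] at this
    have h2 := (hπe _ _).1 this.symm
    simp only [coe_mul, coe_inv] at h2
    rwa [show w * (w * x * w⁻¹) * w⁻¹ = (w * w) * x * (w * w)⁻¹ by group, hww] at h2
  · rintro _ ⟨x, hx, rfl⟩ _ ⟨y, hy, rfl⟩
    rw [← map_mul, ← map_mul, eq_comm, hπe]
    exact h1.comm x hx y hy
  · rintro _ ⟨x, hx, rfl⟩
    rw [← map_mul, ← map_one π, eq_comm, hπe]
    simpa using h1.sq_mem x hx
  · rintro _ ⟨x, hx, rfl⟩
    simp only [MulAut.conj_apply, ← map_mul, ← map_inv]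
    exact ⟨_, h1.norm w hwb x hx, rfl⟩
  · intro x
    obtain ⟨x, rfl⟩ := QuotientGroup.mk'_surjective _ x
    simp only [MulAut.conj_apply, ← hπ, ← map_mul, ← map_inv]
    congr 1
    apply Subtype.ext
    simp only [coe_mul, coe_inv]
    calc _ = (w * w * (w * w)) * (x : G) * (w * w * (w * w))⁻¹ := by group
      _ = _ := by rw [hww, h.sq]; group
  · rintro _ ⟨x, hx, rfl⟩ e
    simp only [MulAut.conj_apply, ← map_mul, ← map_inv] at e ⊢
    have h2 := (hπe _ _).1 e.symm
    simp only [coe_mul, coe_inv] at h2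
    rw [show w * (w * x * w⁻¹) * w⁻¹ = (w * w) * x * (w * w)⁻¹ by group, hww] at h2
    have h3 := comm_of_conj_eq (hW x hx h2)
    have h4 := hE ((x : G)⁻¹ * w * x * w⁻¹)
      (mul_mem (by simpa using h.norm (x : G)⁻¹ ((Commute.inv_left h3.symm).eq) w hw) (inv_mem hw))
      (by
        have := mul_mem (inv_mem (mem_subgroupOf.1 hx)) (h1.norm w hwb x hx)
        simpa [mul_assoc] using this)
    rw [eq_comm, hπe]
    simp only [coe_mul, coe_inv]
    rcases h4 with e' | e'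
    · left
      calc w * x * w⁻¹ = x * ((x : G)⁻¹ * w * x * w⁻¹) := by group
        _ = x := by rw [e', mul_one]
    · right; rw [← e']; group

theorem s3 [Finite G] {g : G} (hb : g * z * g⁻¹ ∈ Q) (hne : g * z * g⁻¹ ≠ z) :
    ∀ u ∈ closure ({z, g * z * g⁻¹} : Set G), ∀ v ∈ closure ({z, g * z * g⁻¹} : Set G),
      u ≠ 1 → v ≠ 1 → u ≠ v →
        ∃ x ∈ Q ⊔ cj g Q, x * z * x⁻¹ = u ∧ x * (g * z * g⁻¹) * x⁻¹ = v := by
  have h1 := h.conj g
  obtain ⟨y, hy, -, y1, y2⟩ := h.exists_conj hb h1.sq h1.ne hne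
  obtain ⟨x, hx, -, x2, x1⟩ := h1.exists_conj (h.sym hb hne) h.sq h.ne hne.symm
  have hzb := h.cen _ hb
  generalize g * z * g⁻¹ = b at *
  rw [hzb] at x1
  have y3 : y * (z * b) * y⁻¹ = b := by rw [← conj_mul, y1, y2, ← mul_assoc, h.sq, one_mul]
  have x3 : x * (z * b) * x⁻¹ = z := by rw [← conj_mul, x1, x2, mul_assoc, h1.sq, mul_one]
  have hV : ∀ u ∈ closure ({z, b} : Set G), u = 1 ∨ u = z ∨ u = b ∨ u = z * b := by
    intro u hu
    have e1 : z * (z * b) = b := by rw [← mul_assoc, h.sq, one_mul]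
    have e2 : z * b * b = z := by rw [mul_assoc, h1.sq, mul_one]
    have e3 : b * (z * b) = z := by rw [← mul_assoc, hzb, e2]
    have e4 : z * b * z = b := by rw [mul_assoc, hzb, e1]
    have e5 : z * b * (z * b) = 1 := by rw [← mul_assoc, e4, h1.sq]
    induction hu using closure_induction with
    | mem u hu => rcases hu with rfl | rfl <;> simp
    | one => simp
    | mul u v _ _ h2 h3 =>
      rcases h2 with rfl | rfl | rfl | rfl <;> rcases h3 with rfl | rfl | rfl | rfl <;>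
        simp [h.sq, h1.sq, e1, e2, e3, e4, e5, hzb]
    | inv u _ h2 =>
      rcases h2 with rfl | rfl | rfl | rfl
      · simp
      · simp [inv_eq_of_mul_eq_one_right h.sq]
      · simp [inv_eq_of_mul_eq_one_right h1.sq]
      · rw [inv_eq_of_mul_eq_one_right e5]; simp
  have hy' : y ∈ Q ⊔ cj g Q := mem_sup_left hy
  have hx' : x ∈ Q ⊔ cj g Q := mem_sup_right hx
  have cm : ∀ a c w : G, a * c * w * (a * c)⁻¹ = a * (c * w * c⁻¹) * a⁻¹ := fun a c w => by group
  intro u hu v hv hu1 hv1 huv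
  rcases (hV u hu).resolve_left hu1 with e | e | e <;>
    rcases (hV v hv).resolve_left hv1 with e' | e' | e' <;> rw [e, e'] at huv ⊢
  · exact absurd rfl huv
  · exact ⟨1, one_mem _, by group, by group⟩
  · exact ⟨y, hy', y1, y2⟩
  · exact ⟨x * (y * x), mul_mem hx' (mul_mem hy' hx'), by rw [cm, cm, x1, y3, x2],
      by rw [cm, cm, x2, y2, x3]⟩
  · exact absurd rfl huv
  · exact ⟨y * x, mul_mem hy' hx', by rw [cm, x1, y3], by rw [cm, x2, y2]⟩
  · exact ⟨x * y, mul_mem hx' hy', by rw [cm, y1, x1], by rw [cm, y2, x3]⟩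
  · exact ⟨x, hx', x1, x2⟩
  · exact absurd rfl huv

end ST

theorem st_of_fstar [Finite G] {z : G} (hz : orderOf z = 2) (C : Subgroup G)
    (hC : ∀ g, g ∈ C ↔ g * z = z * g) (F : Subgroup C) [hFn : F.Normal]
    (hF : centralizer (F : Set C) ≤ F) (hF2 : pCore 2 C ≤ F) (hQ : IsOfSymplecticType F)
    (h4 : ∀ q ∈ F.map C.subtype, q ^ 4 = 1) : ST (F.map C.subtype) z := by
  haveI : Fact (Nat.Prime 2) := ⟨Nat.prime_two⟩
  have hz2 : z * z = 1 := by rw [← pow_two, ← hz, pow_orderOf_eq_one]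
  have hzC : z ∈ C := (hC _).2 rfl
  have hz0 : (⟨z, hzC⟩ : C) ∈ F := hF fun x _ => Subtype.ext ((hC _).1 x.2)
  have hz1 : (⟨⟨z, hzC⟩, hz0⟩ : F) ∈ center F :=
    mem_center_iff.2 fun x => Subtype.ext (Subtype.ext ((hC _).1 x.1.2))
  have hzo : orderOf (⟨⟨z, hzC⟩, hz0⟩ : F) = 2 := by
    rw [← hz, ← orderOf_coe, ← orderOf_coe]
  have h4' : ∀ q : F, q ^ 4 = 1 := fun q => Subtype.ext (Subtype.ext (h4 _ ⟨_, q.2, rfl⟩))
  have hcen : ∀ q : F, q ∈ center F → q * q = 1 → ((q : C) : G) = 1 ∨ ((q : C) : G) = z := by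
    intro q hq hqq
    have h1 := PGrp.mem_zpowers_of_pow_eq_one (hQ.2 (center F) inferInstance inferInstance) hq hz1
      (by rw [hzo, pow_two, hqq])
    rw [mem_zpowers_invol (Subtype.ext (Subtype.ext hz2))] at h1
    rcases h1 with rfl | rfl
    · exact Or.inl rfl
    · exact Or.inr rfl
  have hsq : ∀ q : F, q * q ∈ center F := by
    obtain ⟨E, R, hRE, hER, hE, hR⟩ := PGrp.symplectic_type hQ.1 hQ.2
    have hRc : IsCyclic R := by
      refine hR.resolve_right ?_
      rintro ⟨-, a, b, m, hm, h⟩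
      have h1 : orderOf a ∣ 4 := orderOf_dvd_of_pow_eq_one (Subtype.ext (h4' a))
      rw [h.ord] at h1
      have h2 := Nat.le_of_dvd (by norm_num) h1
      have h3 : 2 ^ 3 ≤ 2 ^ (m + 2) := Nat.pow_le_pow_right two_pos (by omega)
      omega
    have hRz : R ≤ center F := by
      intro r hr
      rw [mem_center_iff]
      intro x
      have : E ⊔ R ≤ centralizer {r} := sup_le
        (fun e he => mem_centralizer_singleton_iff.2 (hRE hr e he))
        (fun s hs => mem_centralizer_singleton_iff.2 (congrArg Subtype.val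
          ((PGrp.isMulCommutative_of_isCyclic hRc).is_comm.comm (⟨s, hs⟩ : R) ⟨r, hr⟩)))
      exact mem_centralizer_singleton_iff.1 (this (hER ▸ mem_top x))
    haveI := PGrp.normal_of_le_center hRz
    intro q
    obtain ⟨e, he, r, hr, rfl⟩ := mem_sup_of_normal_right.1 (hER ▸ mem_top q : q ∈ E ⊔ R)
    have hee : e * e ∈ center F := by
      rcases hE with rfl | hE
      · rw [mem_bot.1 he, mul_one]; exact one_mem _
      have h1 := PGrp.pow_mem_frattini hE.1.1 (⟨e, he⟩ : E)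
      rw [hE.1.2.1, pow_two] at h1
      rw [mem_center_iff]
      intro x
      have : E ⊔ R ≤ centralizer {e * e} := sup_le
        (fun y hy => mem_centralizer_singleton_iff.2
          (congrArg Subtype.val (mem_center_iff.1 h1 ⟨y, hy⟩)))
        (fun s hs => mem_centralizer_singleton_iff.2 (mem_center_iff.1 (hRz hs) _).symm)
      exact mem_centralizer_singleton_iff.1 (this (hER ▸ mem_top x))
    have : e * r * (e * r) = e * e * (r * r) := by
      rw [mul_assoc, ← mul_assoc r, ← mem_center_iff.1 (hRz hr) e]; group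
    rw [this]
    exact mul_mem hee (hRz (mul_mem hr hr))
  have hsq2 : ∀ q : F, q * q * (q * q) = 1 := fun q => by
    rw [← h4' q]; simp [pow_succ, mul_assoc]
  refine ⟨⟨_, hz0, rfl⟩, ne_one_of_orderOf_two hz, hz2, ?_, ?_, ?_, ?_, ?_, ?_, ?_⟩
  · rintro _ ⟨x, -, rfl⟩
    exact (hC _).1 x.2
  · rintro _ ⟨x, hx, rfl⟩ h2 hc
    exact hcen ⟨x, hx⟩ (mem_center_iff.2 fun y => Subtype.ext (Subtype.ext
      (hc _ ⟨_, y.2, rfl⟩).symm)) (Subtype.ext (Subtype.ext h2))
  · rintro _ ⟨x, hx, rfl⟩ _ ⟨y, hy, rfl⟩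
    set a : F := ⟨x, hx⟩
    set b : F := ⟨y, hy⟩
    have e : (b * a)⁻¹ * (a * b) = (a⁻¹ * a⁻¹) * ((a * b⁻¹) * (a * b⁻¹)) * (b * b) := by group
    have c1 := hsq a⁻¹
    have c2 := hsq (a * b⁻¹)
    have c3 := hsq b
    have := hcen _ (e ▸ mul_mem (mul_mem c1 c2) c3) (by
      rw [e]
      have d1 := hsq2 a⁻¹
      have d2 := hsq2 (a * b⁻¹)
      have d3 := hsq2 b
      generalize a⁻¹ * a⁻¹ = u at *
      generalize (a * b⁻¹) * (a * b⁻¹) = v at *
      generalize b * b = w at *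
      calc u * v * w * (u * v * w) = u * (v * w * u) * v * w := by group
        _ = u * u * (v * (w * v)) * w := by rw [mem_center_iff.1 c1]; group
        _ = u * u * (v * v) * (w * w) := by rw [← mem_center_iff.1 c3]; group
        _ = 1 := by rw [d1, d2, d3]; group)
    simp only [coe_mul, coe_inv] at this
    rcases this with e' | e'
    · exact Or.inl (inv_mul_eq_one.1 e').symm
    · exact Or.inr (inv_mul_eq_iff_eq_mul.1 e')
  · rintro _ ⟨x, hx, rfl⟩
    exact hcen _ (hsq ⟨x, hx⟩) (hsq2 _)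
  · intro g hg
    have hgC : g ∈ C := (hC _).2 (hg z ⟨_, hz0, rfl⟩)
    exact ⟨⟨g, hgC⟩, hF fun x hx => Subtype.ext (hg _ ⟨_, hx, rfl⟩).symm, rfl⟩
  · rintro g hg _ ⟨x, hx, rfl⟩
    exact ⟨_, hFn.conj_mem x hx ⟨g, (hC _).2 hg⟩, rfl⟩
  · intro H g hg
    have hp : IsPGroup 2 (⊤ : Subgroup C) := fun x =>
      ⟨5, Subtype.ext (Subtype.ext (H _ ((hC _).1 x.1.2)))⟩
    exact ⟨⟨g, (hC _).2 hg⟩, hF2 (le_pCore hp (mem_top _)), rfl⟩

end Cfsg.Lib.Small
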