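import Cfsg.Agent.Lib.Small.DadeE

/-!
# Relative traces from the trivial subgroup to a cyclic `p`-group
-/

set_option autoImplicit false

namespace Cfsg.Lib.Small

open Module Polynomial Subgroup

variable {κ : Type*} [Field κ] {p : ℕ} [hp : Fact p.Prime] [CharP κ p] {A : Type*} [Ring A]
  [Algebra κ A] {C : Type*} [Group C] [Fintype C]

/-- conjugation by an element of a group acting on an algebra -/
noncomputable def cjL (κ : Type*) [Field κ] [Algebra κ A] {C : Type*} [Group C] (ρ : C →* A) (c : C) :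
    End κ A := LinearMap.mulLeft κ (ρ c) * LinearMap.mulRight κ (ρ c⁻¹)

omit [Fintype C] in
@[simp] theorem cjL_apply (ρ : C →* A) (c : C) (w : A) : cjL κ ρ c w = ρ c * w * ρ c⁻¹ := by
  simp [cjL, mul_assoc]

theorem tr_eq_sum (ρ : C →* A) {x : C} (hx : ∀ u, u ∈ zpowers x) {a : ℕ} (ho : orderOf x = p ^ a)
    (w : A) : ∃ (v : A) (c : ℕ → κ), (∑ c, cjL κ ρ c) w =
      ∑ m ∈ Finset.range (p ^ a), c m • ((ρ x - 1) ^ m * v * (ρ x - 1) ^ (p ^ a - 1 - m)) := by
  have h1 : ∑ c, cjL κ ρ c = (cjL κ ρ x - 1) ^ (p ^ a - 1) := by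
    have := congrArg (aeval (cjL κ ρ x)) (geom_eq_pow (κ := κ) (p := p) a)
    simp only [map_sum, map_pow, aeval_X, map_sub, map_one] at this
    rw [← this, Finset.sum_range, ← (bijective_pow hx ho).sum_comp]
    refine Finset.sum_congr rfl fun j _ => LinearMap.ext fun v => ?_
    generalize (j : ℕ) = j
    induction j generalizing v with
    | zero => simp
    | succ j ih => rw [pow_succ (cjL κ ρ x), End.mul_apply, ← ih]; simp [pow_succ, mul_assoc]
  set L := LinearMap.mulLeft κ (ρ x - 1)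
  set R := LinearMap.mulRight κ (ρ x - 1)
  set S := LinearMap.mulRight κ (ρ x⁻¹)
  have h2 : cjL κ ρ x - 1 = (L + -R) * S := LinearMap.ext fun v => by
    simp [L, R, S, sub_mul, mul_sub, mul_assoc, ← map_mul]
  have h3 : Commute L (-R) := LinearMap.ext fun v => by simp [L, R, mul_assoc]
  have h4 : Commute (L + -R) S := LinearMap.ext fun v => by
    simp [L, R, S, sub_mul, mul_sub, add_mul, mul_assoc, ← map_mul]
  refine ⟨(S ^ (p ^ a - 1)) w, fun m => (-1) ^ (p ^ a - 1 - m) * (p ^ a - 1).choose m, ?_⟩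
  rw [h1, h2, h4.mul_pow, h3.add_pow, Nat.sub_add_cancel (pow_pos hp.out.pos a), End.mul_apply,
    LinearMap.sum_apply]
  refine Finset.sum_congr rfl fun m _ => ?_
  rw [← neg_one_smul κ R, _root_.smul_pow]
  simp [L, R, LinearMap.pow_mulLeft, LinearMap.pow_mulRight, mul_assoc, mul_smul,
    Nat.cast_smul_eq_nsmul, ← nsmul_eq_mul]

theorem tr_eq_mul (ρ : C →* A) {x : C} (hx : ∀ u, u ∈ zpowers x) {a : ℕ} (ho : orderOf x = p ^ a)
    {d : ℕ} (hd : (ρ x - 1) ^ d = 0) {z : A} (hz : z ∈ LinearMap.range (∑ c, cjL κ ρ c)) :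
    (∃ v, z = (ρ x - 1) ^ (p ^ a - d) * v) ∧ ∃ v, z = v * (ρ x - 1) ^ (p ^ a - d) := by
  obtain ⟨w, rfl⟩ := hz
  obtain ⟨v, c, h⟩ := tr_eq_sum (κ := κ) ρ hx ho w
  have h1 : (∑ c, cjL κ ρ c) w ∈ LinearMap.range (LinearMap.mulLeft κ ((ρ x - 1) ^ (p ^ a - d))) := by
    refine h ▸ Submodule.sum_mem _ fun m hm => Submodule.smul_mem _ _ ?_
    rcases le_or_gt (p ^ a - d) m with h1 | h1
    · obtain ⟨k, rfl⟩ := Nat.exists_eq_add_of_le h1
      exact ⟨_, by rw [LinearMap.mulLeft_apply, pow_add, mul_assoc, mul_assoc]⟩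
    · rw [pow_eq_zero_of_le (by omega : d ≤ p ^ a - 1 - m) hd, mul_zero]
      exact zero_mem _
  have h2 : (∑ c, cjL κ ρ c) w ∈ LinearMap.range (LinearMap.mulRight κ ((ρ x - 1) ^ (p ^ a - d))) := by
    refine h ▸ Submodule.sum_mem _ fun m hm => Submodule.smul_mem _ _ ?_
    rcases le_or_gt d m with h1 | h1
    · rw [pow_eq_zero_of_le h1 hd, zero_mul, zero_mul]
      exact zero_mem _
    · obtain ⟨k, hk⟩ := Nat.exists_eq_add_of_le' (by omega : p ^ a - d ≤ p ^ a - 1 - m)
      exact ⟨_, by rw [LinearMap.mulRight_apply, hk, pow_add, ← mul_assoc]⟩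
  exact ⟨h1.imp fun _ h => h.symm, h2.imp fun _ h => h.symm⟩

omit hp [CharP κ p] in
theorem eq_zero_of_eq_mul {y w : A} {k : ℕ} (hy : IsNilpotent y) (h : y ^ k = y ^ (k + 1) * w) :
    y ^ k = 0 := by
  obtain ⟨n, hn⟩ := hy
  have : ∀ j, y ^ k = y ^ j * y ^ k * w ^ j := fun j => by
    induction j with
    | zero => simp
    | succ j ih =>
      rw [pow_succ' w, ← mul_assoc, pow_succ y j, mul_assoc _ y, ← pow_succ', mul_assoc _ _ w, ← h, ← ih]
  rw [this n, hn, zero_mul, zero_mul]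

omit hp [CharP κ p] in
theorem pow_eq_of_eq_mul {y z w : A} (h : z = w * y) (hc : Commute z y) (j : ℕ) :
    z ^ j = w ^ j * y ^ j := by
  induction j with
  | zero => simp
  | succ j ih =>
    rw [pow_succ z, ih, mul_assoc, ← (hc.pow_right j).eq, pow_succ w, pow_succ' y, mul_assoc,
      ← mul_assoc w, ← h]

omit [Fintype C] in
/-- transfer from the normaliser of a trivial intersection Sylow subgroup -/
theorem exists_transfer {G : Type*} [Group G] [Finite G] (P : Sylow p G) [Fintype P]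
    (hTI : ∀ Q : Sylow p G, Q ≠ P → (P : Subgroup G) ⊓ Q = ⊥) (ρ : G →* A) {s : A}
    (hs : ∀ n ∈ normalizer ((P : Subgroup G) : Set G), ρ n * s = s * ρ n) :
    ∃ z ∈ LinearMap.range (∑ c, cjL κ (ρ.comp (P : Subgroup G).subtype) c),
      (∀ g, ρ g * (s + z) = (s + z) * ρ g) ∧
      ∀ S : AddSubmonoid A, (∀ g, ρ g * s * ρ g⁻¹ ∈ S) → s + z ∈ S := by
  classical
  let N := normalizer ((P : Subgroup G) : Set G)
  haveI := Fintype.ofFinite (G ⧸ N)
  let ψ : G ⧸ N → A := Quotient.lift (fun g => ρ g * s * ρ g⁻¹) fun a b hab => by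
    have := hs _ (QuotientGroup.leftRel_apply.1 hab)
    rw [← mul_inv_cancel_left a b, map_mul, mul_assoc _ _ s, this, mul_inv_rev, map_mul]
    simp [mul_assoc, ← map_mul]
  have h1 : ∀ (g : G) q, ψ (g • q) = ρ g * ψ q * ρ g⁻¹ := fun g q => by
    obtain ⟨h, rfl⟩ := QuotientGroup.mk_surjective q
    change ρ (g * h) * s * ρ (g * h)⁻¹ = ρ g * (ρ h * s * ρ h⁻¹) * _
    simp only [mul_inv_rev, map_mul, mul_assoc]
  let o : G ⧸ N := QuotientGroup.mk 1
  have h2 : ∀ u ∈ (P : Subgroup G), u • o = o := fun u hu =>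
    QuotientGroup.eq.2 (by simpa [N] using le_normalizer hu)
  have h3 : s + ∑ q, (if q = o then 0 else ψ q) = ∑ q, ψ q := by
    rw [← Finset.add_sum_erase _ _ (Finset.mem_univ o),
      ← Finset.add_sum_erase _ ψ (Finset.mem_univ o), if_pos rfl, zero_add]
    congr 1
    · change s = ρ 1 * s * ρ 1⁻¹
      simp
    · exact Finset.sum_congr rfl fun q hq => if_neg (Finset.ne_of_mem_erase hq)
  refine ⟨∑ q, if q = o then 0 else ψ q, sum_mem_range_tr (p := p) (C := (P : Subgroup G)) _ _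
    (fun c q => ?_) fun q hq => ?_, fun g => ?_, fun S hS => ?_⟩
  · have : c • q = o ↔ q = o := by
      nth_rw 1 [← h2 c c.2]
      exact smul_left_cancel_iff (c : G)
    by_cases h : q = o
    · rw [if_pos (this.2 h), if_pos h, map_zero]
    · rw [if_neg (mt this.1 h), if_neg h, cjL_apply]
      exact h1 c q
  · suffices MulAction.stabilizer (P : Subgroup G) q = ⊥ by
      rw [this, card_bot, Nat.dvd_one]
      exact hp.out.ne_one
    refine (eq_bot_iff_forall _).2 fun u hu => Subtype.ext ?_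
    obtain ⟨g, rfl⟩ := QuotientGroup.mk_surjective q
    have h4 : g • P ≠ P := fun e => hq (if_pos (QuotientGroup.eq.2 (by
      simpa [N] using Sylow.smul_eq_iff_mem_normalizer.1 e)))
    have h5 : (u : G) • g • P = g • P := by
      have := Sylow.smul_eq_iff_mem_normalizer.2 (QuotientGroup.eq.1 (Eq.symm hu))
      rw [mul_smul, inv_smul_eq_iff] at this
      exact (mul_smul _ _ _).symm.trans this
    have h6 : (u : G) ∈ (P : Subgroup G) ⊓ normalizer ((g • P : Sylow p G) : Set G) :=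
      ⟨u.2, Sylow.smul_eq_iff_mem_normalizer.1 h5⟩
    rwa [P.isPGroup'.inf_normalizer_sylow, hTI _ h4] at h6
  · rw [h3]
    nth_rw 2 [← Equiv.sum_comp (MulAction.toPerm g) ψ]
    simp only [MulAction.toPerm_apply, h1, Finset.sum_mul, Finset.mul_sum, mul_assoc, ← map_mul,
      inv_mul_cancel, map_one, mul_one]
  · rw [h3]
    exact sum_mem fun q _ => by
      obtain ⟨g, rfl⟩ := QuotientGroup.mk_surjective q
      exact hS g

end Cfsg.Lib.Small
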