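import Cfsg.Agent.Lib.Small.BrII
import Cfsg.Agent.Lib.Small.PM1

/-!
# Simple groups with a Sylow subgroup of order `p` and a character of degree `(p + 1) / 2`
-/

set_option autoImplicit false

namespace Cfsg.Lib.Small

open Module Subgroup Cfsg.Lib.Amalg Cfsg.Lib.Linear Cfsg.Lib.Char Cfsg.Lib.Block Cfsg.Lib.Clifford

variable {κ : Type*} [Field κ] {p : ℕ} [hp : Fact p.Prime]

theorem idem_of_nil {R : Type*} [Ring R] [CharP R p] {y : R} {I : R → Prop}
    (add : ∀ a b, I a → I b → I (a + b)) (ml : ∀ a b, I a → Commute b y → I (b * a))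
    (mr : ∀ a b, I a → Commute b y → I (a * b)) (com : ∀ a, I a → Commute a y)
    (nil : ∀ a, I a → a ^ p ^ 2 = 0) {u z : R} (hu : u * u = u) (hc : Commute u y) (hz : I z) :
    (u + z) ^ p ^ 2 * (u + z) ^ p ^ 2 = (u + z) ^ p ^ 2 ∧
      ∃ v : Rˣ, Commute (v : R) y ∧ (u + z) ^ p ^ 2 * v = v * u := by
  have h1 : ∀ j, I ((u + z) ^ (j + 1) - u) := fun j => by
    induction j with
    | zero => simpa using hz
    | succ j ih =>
      convert add _ _ (mr _ _ ih (hc.add_left (com _ hz))) (ml _ _ hz hc) using 1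
      rw [pow_succ, sub_mul, mul_add u, hu]
      abel
  have h2 : (u + z) ^ p ^ 2 * (u + z) ^ p ^ 2 = (u + z) ^ p ^ 2 := by
    have := nil _ (add _ _ (h1 1) (ml _ _ hz (Commute.neg_one_left y)))
    rwa [show (u + z) ^ (1 + 1) - u + -1 * z = (u + z) * (u + z) - (u + z) by noncomm_ring,
      sub_pow_char_pow_of_commute _ _ ((Commute.refl _).mul_left (Commute.refl _)),
      (Commute.refl _).mul_pow, sub_eq_zero] at this
  have h3 := h1 (p ^ 2 - 1)
  rw [Nat.sub_add_cancel (pow_pos hp.out.pos 2)] at h3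
  generalize (u + z) ^ p ^ 2 = ε at h2 h3
  have h4 := mr _ _ h3 ((hc.add_left hc).sub_left (Commute.one_left y))
  obtain ⟨v, hv⟩ := IsNilpotent.isUnit_one_add ⟨_, nil _ h4⟩
  refine ⟨h2, v, hv ▸ (Commute.one_left y).add_left (com _ h4), ?_⟩
  rw [hv]
  simp only [mul_add, add_mul, mul_sub, sub_mul, ← mul_assoc, h2, mul_one, one_mul]
  simp only [mul_assoc, hu]
  abel

section lift

variable [CharP κ p] {A : Type*} [Ring A] [Algebra κ A]

/-- the span of the relative traces from the trivial subgroup -/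
def trSp (κ : Type*) [Field κ] [Algebra κ A] (p : ℕ) (y : A) : Submodule κ A :=
  Submodule.span κ {b | ∃ m < p, ∃ v, b = y ^ m * v * y ^ (p - 1 - m)}

omit hp [CharP κ p] in
theorem trSp.mul_mem {y a b c : A} (h : a ∈ trSp κ p y) (hb : Commute b y) (hc : Commute c y) :
    b * a * c ∈ trSp κ p y := by
  induction h using Submodule.span_induction with
  | mem a h =>
    obtain ⟨m, hm, v, rfl⟩ := h
    exact Submodule.subset_span ⟨m, hm, b * v * c, by
      simp only [← mul_assoc, (hb.pow_right m).eq]; simp only [mul_assoc, (hc.pow_right _).eq]⟩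
  | zero => simp
  | add a a' _ _ h h' => simpa [mul_add, add_mul] using add_mem h h'
  | smul r a _ h => simpa using Submodule.smul_mem _ r h

omit [CharP κ p] in
theorem trSp.pow_eq_zero {y a : A} (hy : y ^ p = 0) (h : a ∈ trSp κ p y) (hc : Commute a y)
    (h0 : y ^ (p - 1) * a = 0) : a ^ p ^ 2 = 0 := by
  have h1 : ∀ b ∈ trSp κ p y, ∃ w, a * b = w * y := fun b hb => by
    induction hb using Submodule.span_induction with
    | mem b h =>
      obtain ⟨m, hm, v, rfl⟩ := h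
      rcases (Nat.le_sub_one_of_lt hm).eq_or_lt with rfl | h
      · exact ⟨0, by rw [← mul_assoc, ← mul_assoc, (hc.pow_right _).eq, h0]; simp⟩
      · exact ⟨a * (y ^ m * v * y ^ (p - 1 - m - 1)), by
          rw [mul_assoc, mul_assoc, mul_assoc, ← pow_succ, Nat.sub_add_cancel (by omega), mul_assoc]⟩
    | zero => exact ⟨0, by simp⟩
    | add _ _ _ _ h h' =>
      obtain ⟨w, h⟩ := h
      obtain ⟨w', h'⟩ := h'
      exact ⟨w + w', by rw [mul_add, h, h', add_mul]⟩
    | smul r _ _ h =>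
      obtain ⟨w, h⟩ := h
      exact ⟨r • w, by rw [mul_smul_comm, h, smul_mul_assoc]⟩
  have h2 := Mu.pow_eq_zero ⟨hc.mul_left hc, h1 a h⟩ hy
  rw [← sq, ← pow_mul] at h2
  exact pow_eq_zero_of_le (by nlinarith [hp.out.two_le]) h2

variable {G : Type*} [Group G] [Finite G] {P : Sylow p G} (D : DOne p (P : Subgroup G))

omit [Finite G] in
theorem DOne.mem_trSp [Fintype P] (τ : G →* A) {z : A}
    (hz : z ∈ LinearMap.range (∑ c, cjL κ (τ.comp (P : Subgroup G).subtype) c)) :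
    z ∈ trSp κ p (τ D.x - 1) := by
  obtain ⟨w, rfl⟩ := hz
  obtain ⟨v, c, e⟩ := tr_eq_sum (κ := κ) (τ.comp (P : Subgroup G).subtype) (SR.gen (D := D)) (a := 1)
    (by rw [pow_one, SR.ord]) w
  rw [e, pow_one]
  exact Submodule.sum_mem _ fun m hm => Submodule.smul_mem _ _
    (Submodule.subset_span ⟨m, Finset.mem_range.1 hm, v, rfl⟩)

omit [Finite G] in
theorem DOne.sub_one_pow [CharP A p] (τ : G →* A) : (τ D.x - 1) ^ p = 0 := by
  rw [sub_pow_char_of_commute _ (Commute.one_right _), ← map_pow, D.pow_eq_one D.x_mem]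
  simp

/-- Green correspondence in the presence of a projective summand -/
theorem DOne.exists_lift [Nontrivial A] (τ : G →* A) {E u : A} (hE : E ∈ trSp κ p (τ D.x - 1))
    (hE1 : ∀ g, Commute (τ g) E) (hE2 : (τ D.x - 1) ^ (p - 1) * E = (τ D.x - 1) ^ (p - 1))
    (hu : u * u = u) (hu1 : ∀ n ∈ 𝐍 (P : Subgroup G), τ n * u = u * τ n)
    (hu2 : (τ D.x - 1) ^ (p - 1) * u = 0) :
    ∃ ε : A, (∀ g, Commute (τ g) ε) ∧ ∃ v : Aˣ, Commute (v : A) (τ D.x - 1) ∧ ε * v = v * u := by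
  haveI := Fintype.ofFinite P
  haveI : CharP A p := charP_of_injective_algebraMap (algebraMap κ _).injective p
  obtain ⟨z, h1, h2, -⟩ := exists_transfer (κ := κ) P (sylow_inf_eq_bot P D.card) τ hu1
  set y := τ D.x - 1
  have hc : ∀ {a}, Commute (τ D.x) a → Commute a y := fun h => h.symm.sub_right (Commute.one_right _)
  have h3 : Commute u y := hc (hu1 _ (le_normalizer D.x_mem))
  have h4 := hc (hE1 D.x)
  have h5 : Commute z y := by simpa using (hc (h2 D.x)).sub_left h3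
  have h6 := (Commute.one_left y).sub_left h4
  obtain ⟨-, h7⟩ := idem_of_nil (p := p) (y := y)
    (I := fun a => Commute a y ∧ a ∈ trSp κ p y ∧ y ^ (p - 1) * a = 0)
    (fun a b h h' => ⟨h.1.add_left h'.1, add_mem h.2.1 h'.2.1, by rw [mul_add, h.2.2, h'.2.2, add_zero]⟩)
    (fun a b h h' => ⟨h'.mul_left h.1, mul_one (b * a) ▸ trSp.mul_mem h.2.1 h' (Commute.one_left _), by
      rw [← mul_assoc, ← (h'.pow_right _).eq, mul_assoc, h.2.2, mul_zero]⟩)
    (fun a b h h' => ⟨h.1.mul_left h', by simpa using trSp.mul_mem h.2.1 (Commute.one_left _) h', by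
      rw [← mul_assoc, h.2.2, zero_mul]⟩) (fun a h => h.1)
    (fun a h => trSp.pow_eq_zero (D.sub_one_pow τ) h.2.1 h.1 h.2.2) hu h3
    (z := (1 - E) * z - E * u) ⟨(h6.mul_left h5).sub_left (h4.mul_left h3), sub_mem
      (by simpa using trSp.mul_mem (D.mem_trSp τ h1) h6 (Commute.one_left _))
      (by simpa using trSp.mul_mem hE (Commute.one_left _) h3), by
        rw [mul_sub, ← mul_assoc, ← mul_assoc, mul_sub, hE2, hu2]; simp⟩
  refine ⟨_, fun g => Commute.pow_right ?_ _, h7⟩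
  rw [show u + ((1 - E) * z - E * u) = (1 - E) * (u + z) by noncomm_ring]
  exact ((Commute.one_right _).sub_right (hE1 g)).mul_right (h2 g)

end lift

section rank

variable {W : Type*} [AddCommGroup W] [Module κ W] [FiniteDimensional κ W]

omit hp in
theorem finrank_range_pow_le {y : End κ W} (hy : IsNilpotent y) (k : ℕ) :
    finrank κ (LinearMap.range (y ^ k)) ≤ finrank κ W - k := by
  induction k with
  | zero => exact Submodule.finrank_le _
  | succ k ih =>
    have h1 : LinearMap.range (y ^ (k + 1)) ≤ LinearMap.range (y ^ k) := by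
      rw [pow_succ]; exact LinearMap.range_comp_le_range _ _
    rcases h1.eq_or_lt with h | h
    · have h2 : ∀ j, LinearMap.range (y ^ (k + j)) = LinearMap.range (y ^ k) := fun j => by
        induction j with
        | zero => rfl
        | succ j ih =>
          rw [← add_assoc, pow_succ', End.mul_eq_comp, LinearMap.range_comp, ih, ← LinearMap.range_comp,
            ← End.mul_eq_comp, ← pow_succ', h]
      obtain ⟨n, hn⟩ := hy
      rw [h, ← h2 n, pow_add, hn, mul_zero, LinearMap.range_zero, finrank_bot]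
      exact Nat.zero_le _
    · have := Submodule.finrank_lt_finrank_of_lt h
      omega

omit hp in
theorem cjH_pow_mem {G : Type*} [Group G] (ρ : G →* End κ W) {x : G} {d : ℕ}
    (hd : finrank κ W = d + 1) (h : IsNilpotent (ρ x - 1)) (a : End κ W) :
    ((cjH κ ρ x - 1) ^ (2 * d)) a ∈ Submodule.span κ {(ρ x - 1) ^ d} := by
  set L := LinearMap.mulLeft κ (ρ x - 1)
  set R := LinearMap.mulRight κ (ρ x - 1)
  set S := LinearMap.mulRight κ (ρ x⁻¹)
  have h1 : (ρ x - 1) ^ (d + 1) = 0 := by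
    have := finrank_range_pow_le h (d + 1)
    rwa [hd, Nat.sub_self, Nat.le_zero, Submodule.finrank_eq_zero, LinearMap.range_eq_bot] at this
  have h2 : cjH κ ρ x - 1 = (L + -R) * S := LinearMap.ext fun v => by
    simp [L, R, S, sub_mul, mul_sub, mul_assoc, ← map_mul]
  have h3 : Commute L (-R) := LinearMap.ext fun v => by simp [L, R, mul_assoc]
  have h4 : Commute (L + -R) S := LinearMap.ext fun v => by
    simp [L, R, S, sub_mul, mul_sub, add_mul, mul_assoc, ← map_mul]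
  rw [h2, h4.mul_pow, h3.add_pow, End.mul_apply, LinearMap.sum_apply]
  refine Submodule.sum_mem _ fun i hi => ?_
  rw [End.mul_apply, End.mul_apply, ← neg_one_smul κ R, _root_.smul_pow, LinearMap.smul_apply, map_smul]
  refine Submodule.smul_mem _ _ ?_
  simp only [L, R, LinearMap.pow_mulLeft, LinearMap.pow_mulRight, LinearMap.mulLeft_apply,
    LinearMap.mulRight_apply]
  generalize ((2 * d).choose i : End κ (End κ W)) ((S ^ (2 * d)) a) = b
  rcases lt_trichotomy i d with h | rfl | h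
  · simp [pow_eq_zero_of_le (by omega : d + 1 ≤ 2 * d - i) h1]
  · obtain ⟨w, hw⟩ := finrank_le_one_iff.1 ((finrank_range_pow_le h i).trans (by omega))
    obtain ⟨c, hc⟩ := hw ⟨_, b w.1, rfl⟩
    refine Submodule.mem_span_singleton.2 ⟨c, LinearMap.ext fun v => ?_⟩
    obtain ⟨c', hc'⟩ := hw ⟨_, v, rfl⟩
    replace hc := congrArg Subtype.val hc
    replace hc' := congrArg Subtype.val hc'
    simp only [SetLike.val_smul] at hc hc'
    rw [show 2 * i - i = i by omega, End.mul_apply, End.mul_apply, LinearMap.smul_apply, ← hc', map_smul,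
      map_smul, ← hc, smul_comm]
  · simp [pow_eq_zero_of_le (by omega : d + 1 ≤ i) h1]

end rank

variable {G : Type*} [Group G] [Finite G]

theorem DOne.exists_t {P : Subgroup G} (D : DOne p P) (hC : 𝐂 P ≤ P) {A : Type*} [Monoid A]
    (τ : G →* A) : ∃ t ∈ 𝐍 P, t ^ P.index = 1 ∧
      ∀ u, Commute (τ D.x) u → Commute (τ t) u → ∀ n ∈ 𝐍 P, τ n * u = u * τ n := by
  obtain ⟨⟨_, t, rfl⟩, ht⟩ := IsCyclic.exists_generator (α := D.a.range)
  refine ⟨t ^ p, pow_mem t.2 _, by rw [← pow_mul, ← D.card_G, pow_card_eq_one'],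
    fun u h1 h2 n hn => ?_⟩
  obtain ⟨j, hj⟩ := mem_powers_iff_mem_zpowers.2 (ht ⟨_, ⟨n, hn⟩, rfl⟩)
  have h3 : D.a (((t ^ p) ^ j)⁻¹ * ⟨n, hn⟩) = 1 := by
    rw [map_mul, map_inv, map_pow, map_pow, inv_mul_eq_one,
      show D.a t ^ p = D.a t from Units.ext (ZMod.pow_card _)]
    exact congrArg Subtype.val hj
  obtain ⟨k, e⟩ := mem_powers_iff_mem_zpowers.2
    ((D.zpowers_eq D.x_mem D.x_ne_one).ge (hC ((D.a_eq_one_iff _).1 h3)))
  replace e : n = ((t : G) ^ p) ^ j * D.x ^ k := inv_mul_eq_iff_eq_mul.1 e.symm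
  rw [e, map_mul, map_pow, map_pow _ (D.x : G)]
  exact (h2.pow_left _).mul_left (h1.pow_left _)

theorem DOne.exists_three [CharP κ p] [IsAlgClosed κ] {W : Type*} [AddCommGroup W] [Module κ W]
    [FiniteDimensional κ W] {P : Subgroup G} (D : DOne p P) (hC : 𝐂 P ≤ P) (ρ : G →* End κ W) {d : ℕ}
    (hd : d + 1 < p) (h1 : (ρ D.x - 1) ^ d = 0) (h2 : ρ D.x ≠ 1) : ∃ u : End κ (End κ W), u * u = u ∧
      (∀ n ∈ 𝐍 P, cjH κ ρ n * u = u * cjH κ ρ n) ∧ (cjH κ ρ D.x - 1) ^ 3 * u = 0 ∧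
      (cjH κ ρ D.x - 1) * u ≠ 0 ∧ finrank κ (LinearMap.range u) ≤ 3 := by
  have h0 : 2 ≤ d := not_lt.1 fun h => h2 (sub_eq_zero.1 (by
    simpa using pow_eq_zero_of_le (Nat.le_of_lt_succ h) h1))
  have h2' : (2 : κ) ≠ 0 := fun e =>
    Nat.not_dvd_of_pos_of_lt two_pos (by omega) ((CharP.cast_eq_zero_iff κ p 2).1 e)
  obtain ⟨t, ht, ht1, ht2⟩ := D.exists_t hC (cjH κ ρ)
  obtain ⟨a, ha⟩ := mem_powers_iff_mem_zpowers.2 ((D.zpowers_eq D.x_mem D.x_ne_one).ge
    ((mem_normalizer_iff''.1 ht _).1 D.x_mem))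
  obtain ⟨b, hb⟩ := mem_powers_iff_mem_zpowers.2 ((D.zpowers_eq D.x_mem D.x_ne_one).ge
    ((mem_normalizer_iff.1 ht _).1 D.x_mem))
  obtain ⟨e, k, f, H⟩ := exists_sl2 (x := ρ D.x) (t := ρ t) hd h1 h2
    (mt (CharP.cast_eq_zero_iff κ p _).1 D.ndvd) (by rw [← map_pow, ht1, map_one]) (a := a) (b := b)
    (fun e => D.x_ne_one (by
      obtain ⟨c, rfl⟩ := (CharP.cast_eq_zero_iff κ p _).1 e
      simpa [pow_mul, D.pow_eq_one D.x_mem, eq_comm, mul_assoc, inv_mul_eq_one] using ha))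
    (by simp only [← map_pow, ← map_mul, ha]; simp [mul_assoc])
    (by simp only [← map_pow, ← map_mul, hb]; simp [mul_assoc])
  let B : LinearMap.BilinForm κ (End κ W) := (LinearMap.mul κ _).compr₂ (LinearMap.trace κ W)
  have hB : ∀ a b, B a b = LinearMap.trace κ W (a * b) := fun _ _ => rfl
  have hBi : ∀ g a b, B (cjH κ ρ g a) (cjH κ ρ g b) = B a b := fun g a b => by
    rw [hB, hB, cjH_apply, cjH_apply, ← mul_assoc, LinearMap.trace_mul_comm]
    simp [mul_assoc, ← mul_assoc (ρ _) (ρ _), ← map_mul]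
  have hm : ∀ i, ![e, k, f] i ∈ Submodule.span κ (Set.range ![e, k, f]) := fun i =>
    Submodule.subset_span ⟨i, rfl⟩
  obtain ⟨u, hu1, hu2, -, hu4⟩ := exists_orth_proj B (LinearMap.trace_mul_comm κ)
    (Submodule.span κ (Set.range ![e, k, f])) fun s hs h0 => by
      obtain ⟨c, rfl⟩ := (Submodule.mem_span_range_iff_exists_fun κ).1 hs
      simp [H.eq_zero h2' c fun i => h0 _ (hm i)]
  have hx : ∀ g, (∀ i, cjH κ ρ g (![e, k, f] i) ∈ Submodule.span κ (Set.range ![e, k, f])) →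
      Commute (cjH κ ρ g) u := fun g hg => hu4 _ (hBi g) fun s hs => by
    obtain ⟨c, rfl⟩ := (Submodule.mem_span_range_iff_exists_fun κ).1 hs
    rw [map_sum]
    exact Submodule.sum_mem _ fun i _ => by rw [map_smul]; exact Submodule.smul_mem _ _ (hg i)
  have xe := (cjH_eq_iff (κ := κ) ρ).2 H.xe
  have xh := (cjH_eq_iff (κ := κ) ρ).2 H.xh
  have xf := (cjH_eq_iff (κ := κ) ρ).2 H.xf
  refine ⟨u, hu2, ht2 u (hx D.x fun i => ?_) (hx t fun i => ?_), LinearMap.ext fun a => ?_,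
    fun h => H.tr ?_, hu1 ▸ (finrank_range_le_card _).trans (by simp)⟩
  · fin_cases i
    · exact xe.symm ▸ hm 0
    · exact xh.symm ▸ add_mem (hm 1) (Submodule.smul_mem _ _ (hm 0))
    · exact xf.symm ▸ add_mem (add_mem (hm 2) (hm 1)) (hm 0)
  · obtain ⟨c, hc⟩ := H.te
    obtain ⟨c', hc'⟩ := H.tf
    rw [← smul_mul_assoc, ← cjH_eq_iff (κ := κ)] at hc hc'
    fin_cases i
    · exact hc.symm ▸ Submodule.smul_mem _ _ (hm 0)
    · exact ((cjH_eq_iff (κ := κ) ρ).2 H.th).symm ▸ hm 1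
    · exact hc'.symm ▸ Submodule.smul_mem _ _ (hm 2)
  · obtain ⟨c, hc⟩ := (Submodule.mem_span_range_iff_exists_fun κ).1 (hu1.le ⟨a, rfl⟩)
    simp [-cjH_apply, ← hc, pow_succ, Fin.sum_univ_three, xe, xh, xf]
    abel
  · obtain ⟨a, ha⟩ := hu1.ge (hm 1)
    have := LinearMap.congr_fun h a
    rw [End.mul_apply, ha] at this
    simp only [Matrix.cons_val, LinearMap.sub_apply, xh, End.one_apply, add_sub_cancel_left,
      LinearMap.zero_apply, smul_eq_zero_iff_right h2'] at this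
    simp [this]

theorem cent_of_simple [IsSimpleGroup G] {x : G} (hx : x ≠ 1) (v : G)
    (hv : ∀ g, v * (g * x * g⁻¹) = g * x * g⁻¹ * v) : v ∈ center G := by
  have h4 : normalClosure {x} ≤ centralizer {v} := (closure_le _).2 fun y hy => by
    obtain ⟨_, rfl, h⟩ := Group.mem_conjugatesOfSet_iff.1 hy
    obtain ⟨k, rfl⟩ := isConj_iff.1 h
    exact mem_centralizer_singleton_iff.2 (hv k).symm
  rcases (normalClosure_normal (s := {x})).eq_bot_or_eq_top with h | h
  · exact absurd (h.le (subset_normalClosure rfl)) hx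
  · exact mem_center_iff.2 fun g => mem_centralizer_singleton_iff.1 (h4 (h.ge (mem_top g)))

theorem psl_of_proj [CharP κ p] [IsAlgClosed κ] {W : Type*} [AddCommGroup W] [Module κ W]
    [FiniteDimensional κ W] [IsSimpleGroup G] (hG : center G = ⊥) {P : Sylow p G}
    (D : DOne p (P : Subgroup G)) (hC : 𝐂 (P : Subgroup G) ≤ P) (ρ : G →* End κ W)
    (hd : 2 * finrank κ W = p + 1) (h7 : 7 ≤ p) (hx : ρ D.x ≠ 1) {E : End κ (End κ W)} (hE : E * E = E)
    (hE0 : E ≠ 0) (hE1 : ∀ g, Commute (cjH κ ρ g) E) (hE2 : E ∈ trSp κ p (cjH κ ρ D.x - 1)) :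
    p - 1 ≤ Nat.card D.a.range ∨ Nonempty (G ≃* PSL2 (ZMod p)) := by
  haveI : Nontrivial (End κ W) := nontrivial_of_ne _ _ hx
  haveI : CharP (End κ W) p := charP_of_injective_algebraMap (algebraMap κ _).injective p
  haveI : CharP (End κ (End κ W)) p := charP_of_injective_algebraMap (algebraMap κ _).injective p
  have h1 : IsNilpotent (ρ D.x - 1) := ⟨p, D.sub_one_pow ρ⟩
  obtain ⟨u, hu, hu1, hu2, hu3, hu4⟩ := D.exists_three hC ρ (d := finrank κ W) (by omega) (by
    simpa [LinearMap.range_eq_bot] using finrank_range_pow_le h1 (finrank κ W)) hx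
  have h2 := cjH_pow_mem ρ (d := finrank κ W - 1) (by omega) h1
  rw [show 2 * (finrank κ W - 1) = p - 1 by omega] at h2
  set y := cjH κ ρ D.x - 1
  have h3 : Commute E y := (hE1 _).symm.sub_right (Commute.one_right _)
  obtain ⟨ε, h4, v, h5, h6⟩ := D.exists_lift (κ := κ) (cjH κ ρ) hE2 hE1 (by
    obtain ⟨a, ha⟩ : ∃ a, (y ^ (p - 1) * E) a ≠ 0 := by
      by_contra! h
      have := trSp.pow_eq_zero (D.sub_one_pow _) hE2 h3 (LinearMap.ext h)
      rw [← Nat.sub_add_cancel (pow_pos hp.out.pos 2), IsIdempotentElem.pow_succ_eq _ hE] at this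
      exact hE0 this
    obtain ⟨c, hc⟩ := Submodule.mem_span_singleton.1 (h2 (E a))
    have h4 : E ((y ^ (p - 1)) (E a)) = (y ^ (p - 1)) (E a) := by
      rw [← End.mul_apply, (h3.pow_right _).eq, End.mul_apply, ← End.mul_apply E, hE]
    rw [← hc, map_smul, (smul_right_injective _ fun e => ha (by
      rw [End.mul_apply, ← hc, e, zero_smul])).eq_iff] at h4
    refine LinearMap.ext fun b => ?_
    obtain ⟨c', hc'⟩ := Submodule.mem_span_singleton.1 (h2 b)
    rw [← (h3.pow_right _).eq, End.mul_apply, ← hc', map_smul, h4]) hu hu1 (by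
      rw [show p - 1 = p - 4 + 3 by omega, pow_add, mul_assoc, hu2, mul_zero])
  let σ := Representation.subrepresentation (cjH κ ρ) (LinearMap.range ε) fun g => by
    rintro _ ⟨a, rfl⟩
    exact ⟨cjH κ ρ g a, LinearMap.congr_fun (h4 g).symm a⟩
  have h8 : finrank κ (LinearMap.range ε) ≤ 3 := by
    rw [(Units.eq_mul_inv_iff_mul_eq v).2 h6]
    refine (Submodule.finrank_mono (LinearMap.range_comp_le_range _ _)).trans ?_
    rw [End.mul_eq_comp, LinearMap.range_comp]
    exact (Submodule.finrank_map_le _ _).trans hu4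
  have h9 : SR D σ := ⟨(MonoidHom.ker_eq_bot_iff _).1 ((MonoidHom.normal_ker σ).eq_bot_or_eq_top.resolve_right
    fun h => hu3 ?_), by omega, fun z hz => ⟨1, by rw [mem_bot.1 (hG.le hz), map_one, one_smul]⟩,
    cent_of_simple D.x_ne_one⟩
  · refine (h9.psl (fun h => D.x_ne_one (hG.le h)) fun h => ?_).imp id fun ⟨_, ⟨e⟩⟩ =>
      ⟨((QuotientGroup.quotientMulEquivOfEq hG).trans QuotientGroup.quotientBot).symm.trans e⟩
    rcases h.eq_bot_or_eq_top with h | h
    · exact D.x_ne_one (h.le D.x_mem)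
    · exact D.x_ne_one (hG.le (mem_center_iff.2 fun g => D.x.2 g (h.ge (mem_top g))))
  · have : y * ε = 0 := LinearMap.ext fun a => sub_eq_zero.2
      (congrArg Subtype.val (LinearMap.congr_fun (h.ge (mem_top (D.x : G))) ⟨ε a, a, rfl⟩))
    rw [← v.mul_right_eq_zero, ← mul_assoc, h5.eq, mul_assoc, ← h6, ← mul_assoc, this, zero_mul]

theorem DOne.idem_props [CharP κ p] [Fintype G] {P : Sylow p G} (D : DOne p (P : Subgroup G))
    (hC : 𝐂 (P : Subgroup G) ≤ P) {A : Type*} [Ring A] [Algebra κ A] (τ : G →* A) {F : G → κ}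
    (h1 : ∀ g k, F (g * k * g⁻¹) = F k) (h2 : ∀ k, ∑ g, F g * F (g⁻¹ * k) = F k)
    (h3 : ∀ g ∈ (P : Subgroup G), F g = 0) :
    (∑ g, F g • τ g⁻¹) * ∑ g, F g • τ g⁻¹ = ∑ g, F g • τ g⁻¹ ∧
      (∀ g, Commute (τ g) (∑ g, F g • τ g⁻¹)) ∧ ∑ g, F g • τ g⁻¹ ∈ trSp κ p (τ D.x - 1) := by
  haveI := Fintype.ofFinite P
  refine ⟨?_, fun g => ?_, D.mem_trSp _ ?_⟩
  · rw [Finset.mul_sum]
    simp only [Finset.sum_mul, smul_mul_smul_comm, ← map_mul]
    rw [Finset.sum_congr rfl fun g _ => (Equiv.sum_comp (Equiv.mulLeft g⁻¹) _).symm, Finset.sum_comm]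
    refine Finset.sum_congr rfl fun k _ => ?_
    simp only [Equiv.coe_mulLeft, mul_inv_rev, inv_inv, mul_inv_cancel_right, ← Finset.sum_smul,
      mul_comm (F (_ * k)), h2]
  · rw [Commute, SemiconjBy, Finset.mul_sum, Finset.sum_mul]
    simp only [mul_smul_comm, smul_mul_assoc, ← map_mul]
    exact Fintype.sum_equiv (MulAut.conj g).toEquiv _ _ fun k => by simp [h1, -map_mul]; simp [mul_assoc]
  · letI := MulAction.compHom G ((MulAut.conj (G := G)).comp (P : Subgroup G).subtype)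
    refine sum_mem_range_tr (p := p) _ _ (fun u g => ?_) fun g hg e => hg ?_
    · change F ((u : G) * g * (u : G)⁻¹) • τ ((u : G) * g * (u : G)⁻¹)⁻¹ = _
      rw [h1]
      simp [mul_assoc]
    · have h5 : MulAction.stabilizer (P : Subgroup G) g = ⊤ := eq_top_of_le_card _ (by
        rw [D.card]; exact Nat.le_of_dvd Nat.card_pos e)
      have h6 : (D.x : G) * g * (D.x : G)⁻¹ = g := h5.ge (mem_top (⟨D.x, D.x_mem⟩ : (P : Subgroup G)))
      rw [h3 g (hC (D.centralizer_eq D.x_mem D.x_ne_one ▸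
        mem_centralizer_singleton_iff.2 (mul_inv_eq_iff_eq_mul.1 h6).symm)), zero_smul]

omit hp in
theorem exists_v_eq_one (v : Valuation ℂ NNReal) {χ : G → ℂ} (hχ : IsIrrCharacter G χ)
    (hc : v (χ 1 / Nat.card G) ≤ 1) : ∃ w, v (χ w) = 1 := by
  haveI := Fintype.ofFinite G
  obtain ⟨k, hk⟩ := Finite.exists_max fun g => v (χ g)
  have h0 := hχ.apply_one_ne_zero
  have h1 : 0 < v (χ k) := lt_of_lt_of_le (v.pos_iff.2 h0) (hk 1)
  have h2 := hχ.sum_mul_apply_inv_mul hχ.isClassFunction k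
  rw [hχ.classInner_self, mul_one] at h2
  have h3 : χ k = χ 1 / Nat.card G * ∑ g, χ g * χ (g⁻¹ * k) := by
    have : (Nat.card G : ℂ) ≠ 0 := Nat.cast_ne_zero.2 Nat.card_pos.ne'
    rw [h2]; field_simp
  refine ⟨k, le_antisymm (val_le_one_of_isIntegral v (hχ.isCharacter.isIntegral k))
    (le_of_mul_le_mul_right (a := v (χ k)) ?_ h1)⟩
  rw [one_mul]
  nth_rw 1 [h3]
  rw [map_mul]
  exact (mul_le_of_le_one_left' hc).trans (v.map_sum_le fun g _ => by
    rw [map_mul]; exact mul_le_mul' (hk _) (hk _))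

theorem psl_of_defectZero [IsSimpleGroup G] (hG : center G = ⊥) {P : Sylow p G}
    (D : DOne p (P : Subgroup G)) (hC : 𝐂 (P : Subgroup G) ≤ P) (θ χ : IrrCharacter G)
    (hd : 2 * charDegree θ.1 = p + 1) (h7 : 7 ≤ p) (hχ : p ∣ charDegree χ.1) {a : ℕ} (ha : ¬ p ∣ a)
    (h : ∀ [Fintype G], classInner (θ.1 * star θ.1) χ.1 = a) :
    p - 1 ≤ Nat.card D.a.range ∨ Nonempty (G ≃* PSL2 (ZMod p)) := by
  classical
  haveI := Fintype.ofFinite G
  haveI := Fintype.ofFinite P
  obtain ⟨M, hM⟩ := Block2.exists_isPModular hp.out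
  obtain ⟨A, -⟩ := exists_padic hM
  haveI := A.charP hp.out
  obtain ⟨N, _, ρ, htr, -, -⟩ := A.exists_local_lattice θ
  have hN : N = charDegree θ.1 := by
    have := htr 1
    rw [← coe_deg] at this
    simpa using this
  set r := IsLocalRing.residue A.O
  let σ := (RM r ρ).toMonoidHom.comp (MonoidAlgebra.of A.κ G)
  have hσ : ∀ g, σ g = Matrix.toLin' ((ρ g).map r) := fun g => (RM_single _ ρ g 1).trans (one_smul _ _)
  have h1 : ∀ g, LinearMap.trace _ _ (cjH A.κ σ g) = r ((ρ g⁻¹).trace * (ρ g).trace) := fun g => by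
    have := Representation.char_linHom σ σ g
    simp only [Representation.character, hσ, Matrix.trace_toLin'_eq, ← AddMonoidHom.map_trace] at this
    rw [map_mul, ← this]
    congr 1
  have h2 : ∀ g, ((ρ g).trace : ℂ) = θ.1 g := fun g => (AddMonoidHom.map_trace A.O.subtype _).trans (htr g)
  have h0 : (Nat.card G : ℂ) ≠ 0 := Nat.cast_ne_zero.2 Nat.card_pos.ne'
  have h3 : A.v (χ.1 1 / Nat.card G) ≤ 1 := by
    obtain ⟨m, hm⟩ := hχ
    rw [← coe_deg, hm, D.card_G, Nat.cast_mul, Nat.cast_mul, mul_div_mul_left _ _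
      (Nat.cast_ne_zero.2 hp.out.ne_zero), map_div₀, A.v_natCast_eq_one hp.out D.ndvd, div_one]
    exact A.v_natCast_le m
  let c : A.O := ⟨_, h3⟩
  let f : G → A.O := fun g => ⟨χ.1 g, val_le_one_of_isIntegral A.v (χ.2.isCharacter.isIntegral g)⟩
  have hf : ∀ g k, f (g * k * g⁻¹) = f k := fun g k => Subtype.ext (χ.2.isClassFunction.conj_eq ..)
  have h4 : ∀ (ψ : G → A.O) (b : ℕ), IsClassFunction G (fun g => (ψ g : ℂ)) →
      classInner (fun g => (ψ g : ℂ)) χ.1 = b → ∀ k, ∑ g, c * ψ g * f (g⁻¹ * k) = b * f k :=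
    fun ψ b h1 h2 k => Subtype.ext (by
      have := χ.2.sum_mul_apply_inv_mul h1 k
      push_cast [c, f]
      simp only [mul_assoc, ← Finset.mul_sum, this, h2]
      field_simp [χ.2.apply_one_ne_zero])
  have hE0 : ∑ g, r (c * f g) • cjH A.κ σ g⁻¹ ≠ 0 := fun e => by
    obtain ⟨w, hw⟩ := exists_v_eq_one A.v χ.2 h3
    have h5 := congrArg (fun z => LinearMap.trace _ _ (cjH A.κ σ w * z)) e
    have h6 : (fun g => (((ρ g⁻¹).trace * (ρ g).trace : A.O) : ℂ)) = θ.1 * star θ.1 := funext fun g => by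
      simp [h2, θ.2.isCharacter.apply_inv, mul_comm]
    have h7 := h4 _ a (h6 ▸ (θ.2.isCharacter.mul θ.2.isCharacter.conj).isClassFunction) (h6 ▸ h) w
    simp only [Finset.mul_sum, mul_smul_comm, ← map_mul, map_sum, map_smul, h1, smul_eq_mul, mul_zero,
      map_zero] at h5
    rw [← map_sum, ← Equiv.sum_comp ((Equiv.inv G).trans (Equiv.mulRight w)),
      Finset.sum_congr rfl (g := fun g => c * ((ρ g⁻¹).trace * (ρ g).trace) * f (g⁻¹ * w)), h7, map_mul,
      map_natCast, mul_eq_zero, CharP.cast_eq_zero_iff _ p, A.residue_eq_zero_iff] at h5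
    · exact h5.elim ha hw.not_lt
    · intro g _
      simp [mul_assoc, mul_comm (f _), ← hf w⁻¹ (w * _)]
  obtain ⟨h5, h6, h8⟩ := D.idem_props (κ := A.κ) hC (A := End A.κ (End A.κ (Fin N → A.κ))) (cjH A.κ σ)
    (F := fun g => r (c * f g)) (fun g k => by rw [hf])
    (fun k => by
      have := h4 f 1 χ.2.isClassFunction (by simpa using χ.2.classInner_self) k
      rw [Nat.cast_one, one_mul] at this
      simp only [← map_mul, ← map_sum]
      rw [← this, Finset.mul_sum]
      exact congrArg r (Finset.sum_congr rfl fun _ _ => by ring)) fun g hg => by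
      rw [map_mul]
      rcases eq_or_ne g 1 with rfl | h9
      · rw [show f 1 = charDegree χ.1 from Subtype.ext (coe_deg χ).symm, map_natCast,
          (CharP.cast_eq_zero_iff _ p _).2 hχ, mul_zero]
      · rw [show f g = 0 from Subtype.ext (apply_eq_zero_of_dvd hp.out (by
          rw [D.card_G, sq, Nat.mul_dvd_mul_iff_left hp.out.pos]; exact D.ndvd) hχ
          (D.orderOf_eq hg h9).symm.dvd), map_zero, mul_zero]
  refine psl_of_proj hG D hC σ (by simpa [hN] using hd) h7 (fun e => hE0 ?_) h5 hE0 h6 h8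
  have h5 := (MonoidHom.normal_ker σ).eq_bot_or_eq_top.resolve_left fun h => D.x_ne_one (h.le e)
  have h6 : ∀ g, cjH A.κ σ g = 1 := fun g => LinearMap.ext fun a => by
    simp [MonoidHom.mem_ker.1 (h5.ge (mem_top _))]
  have h8 : ∑ g, f g = 0 := Subtype.ext (by
    push_cast [f]
    exact χ.2.sum_eq_zero fun e => hp.out.not_dvd_one (by
      rwa [e, charDegree_eq_of_eq (n := 1) (by simp)] at hχ))
  simp only [h6, ← Finset.sum_smul, ← map_sum, ← Finset.mul_sum, h8, mul_zero, map_zero, zero_smul]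

end Cfsg.Lib.Small
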